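import Cfsg.Prelude.Def_Sporadic_a

/-!
Counting blocks of a Steiner system through a set and with a prescribed trace on a block.
-/

set_option autoImplicit false

namespace Cfsg.Agent.SporStruct

open Cfsg Finset

variable {α : Type*} [Fintype α] [DecidableEq α] {t k : ℕ} {B : Set (Finset α)}

/-- The blocks of a family containing a given set. -/
noncomputable def blocksThrough (B : Set (Finset α)) (s : Finset α) : Finset (Finset α) :=
  (Set.toFinite {c : Finset α | c ∈ B ∧ s ⊆ c}).toFinset

/-- The blocks with a prescribed trace on `b`. -/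
noncomputable def blocksTrace (B : Set (Finset α)) (b s : Finset α) : Finset (Finset α) :=
  (Set.toFinite {c : Finset α | c ∈ B ∧ b ∩ c = s}).toFinset

theorem mem_blocksThrough {s c : Finset α} : c ∈ blocksThrough B s ↔ c ∈ B ∧ s ⊆ c :=
  Set.Finite.mem_toFinset _

theorem mem_blocksTrace {b s c : Finset α} : c ∈ blocksTrace B b s ↔ c ∈ B ∧ b ∩ c = s :=
  Set.Finite.mem_toFinset _

theorem card_supersets (I c : Finset α) (hIc : I ⊆ c) (t : ℕ) (ht : I.card ≤ t) :
    ((c.powersetCard t).filter (I ⊆ ·)).card = (c.card - I.card).choose (t - I.card) := by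
  rw [← card_sdiff_of_subset hIc, ← card_powersetCard]
  refine card_bij' (fun T _ => T \ I) (fun R _ => I ∪ R) ?_ ?_ ?_ ?_
  · intro T hT
    simp only [mem_filter, mem_powersetCard] at hT ⊢
    exact ⟨sdiff_subset_sdiff hT.1.1 (Subset.refl _), by rw [card_sdiff_of_subset hT.2, hT.1.2]⟩
  · intro R hR
    simp only [mem_filter, mem_powersetCard] at hR ⊢
    have hd : Disjoint I R := (disjoint_of_subset_left hR.1 sdiff_disjoint).symm
    exact ⟨⟨union_subset hIc (hR.1.trans sdiff_subset),
      by rw [card_union_of_disjoint hd, hR.2]; omega⟩, subset_union_left⟩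
  · intro T hT
    simp only [mem_filter] at hT
    exact union_sdiff_of_subset hT.2
  · intro R hR
    simp only [mem_powersetCard] at hR
    exact union_sdiff_cancel_left (disjoint_of_subset_left hR.1 sdiff_disjoint).symm

/-- Blocks through an `i`-set, `i ≤ t`. -/
theorem card_blocksThrough_mul (hB : IsSteinerSystem t k B) (I : Finset α) (hI : I.card ≤ t) :
    (blocksThrough B I).card * (k - I.card).choose (t - I.card) =
      (Fintype.card α - I.card).choose (t - I.card) := by
  rw [← card_univ, ← card_supersets I univ (subset_univ _) t hI]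
  have hU : ((univ : Finset α).powersetCard t).filter (I ⊆ ·) =
      (blocksThrough B I).biUnion fun c => (c.powersetCard t).filter (I ⊆ ·) := by
    ext T
    simp only [mem_filter, mem_powersetCard, mem_biUnion, mem_blocksThrough]
    constructor
    · rintro ⟨⟨-, hT⟩, hIT⟩
      obtain ⟨c, ⟨hc, hTc⟩, -⟩ := hB.2 T hT
      exact ⟨c, ⟨hc, hIT.trans hTc⟩, ⟨hTc, hT⟩, hIT⟩
    · rintro ⟨c, -, ⟨-, hT⟩, hIT⟩
      exact ⟨⟨subset_univ _, hT⟩, hIT⟩
  rw [hU, card_biUnion]
  · rw [sum_congr rfl fun c hc => ?_, sum_const, smul_eq_mul]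
    rw [mem_blocksThrough] at hc
    rw [card_supersets I c hc.2 t hI, hB.1 c hc.1]
  · intro c hc c' hc' hne
    simp only [mem_coe, mem_blocksThrough] at hc hc'
    rw [Function.onFun, disjoint_left]
    intro T hT hT'
    simp only [mem_filter, mem_powersetCard] at hT hT'
    obtain ⟨d, -, hd⟩ := hB.2 T hT.1.2
    exact hne ((hd c ⟨hc.1, hT.1.1⟩).trans (hd c' ⟨hc'.1, hT'.1.1⟩).symm)

theorem blocksThrough_eq_of_le (hB : IsSteinerSystem t k B) {b s : Finset α} (hb : b ∈ B)
    (hs : s ⊆ b) (hcard : t ≤ s.card) : blocksThrough B s = {b} := by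
  ext c
  simp only [mem_blocksThrough, mem_singleton]
  constructor
  · rintro ⟨hc, hsc⟩
    obtain ⟨T, hTs, hT⟩ := exists_subset_card_eq hcard
    obtain ⟨d, -, hd⟩ := hB.2 T hT
    exact (hd c ⟨hc, hTs.trans hsc⟩).trans (hd b ⟨hb, hTs.trans hs⟩).symm
  · rintro rfl; exact ⟨hb, hs⟩

/-- The blocks through `s ⊆ b` split by their trace on `b`. -/
theorem card_blocksThrough_split (b s : Finset α) (hs : s ⊆ b) :
    (blocksThrough B s).card = ∑ r ∈ (b \ s).powerset, (blocksTrace B b (s ∪ r)).card := by
  rw [card_eq_sum_card_fiberwise (f := fun c => (b ∩ c) \ s) (t := (b \ s).powerset)]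
  · refine sum_congr rfl fun r hr => congrArg card ?_
    rw [mem_powerset] at hr
    ext c
    simp only [mem_filter, mem_blocksThrough, mem_blocksTrace]
    constructor
    · rintro ⟨⟨hc, hsc⟩, rfl⟩
      exact ⟨hc, (union_sdiff_of_subset (subset_inter hs hsc)).symm⟩
    · rintro ⟨hc, htr⟩
      refine ⟨⟨hc, fun x hx => ?_⟩, ?_⟩
      · exact (mem_inter.mp (htr.symm ▸ mem_union_left r hx : x ∈ b ∩ c)).2
      · rw [htr]; exact union_sdiff_cancel_left (disjoint_of_subset_left hr sdiff_disjoint).symm
  · intro c _
    simp only [coe_powerset, Set.mem_preimage, Set.mem_powerset_iff, coe_subset]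
    exact sdiff_subset_sdiff inter_subset_left (Subset.refl _)

/-- If the trace numbers of the strict supersets of `s` in `b` only depend on the cardinality,
they determine that of `s`. -/
theorem card_blocksTrace_step (b s : Finset α) (hs : s ⊆ b) (F : ℕ → ℕ)
    (hF : ∀ u, s ⊂ u → u ⊆ b → (blocksTrace B b u).card = F u.card) :
    (blocksThrough B s).card = (blocksTrace B b s).card +
      ∑ j ∈ range (b.card - s.card), (b.card - s.card).choose (j + 1) * F (s.card + (j + 1)) := by
  rw [card_blocksThrough_split b s hs, ← card_sdiff_of_subset hs]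
  set G : ℕ → ℕ := fun j => if j = 0 then (blocksTrace B b s).card else F (s.card + j) with hG
  have : ∀ r ∈ (b \ s).powerset, (blocksTrace B b (s ∪ r)).card = G r.card := by
    intro r hr
    rw [mem_powerset] at hr
    have hd : Disjoint s r := (disjoint_of_subset_left hr sdiff_disjoint).symm
    by_cases hr0 : r = ∅
    · simp [hG, hr0]
    · have hne : r.card ≠ 0 := fun h => hr0 (card_eq_zero.mp h)
      rw [hG]; simp only [hne, if_false]
      rw [hF _ ?_ (union_subset hs (hr.trans sdiff_subset)), card_union_of_disjoint hd]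
      refine Finset.ssubset_iff_subset_ne.mpr ⟨subset_union_left, fun e => ?_⟩
      have := congrArg card e
      rw [card_union_of_disjoint hd] at this
      omega
  rw [sum_congr rfl this, sum_powerset_apply_card G, sum_range_succ']
  simp [hG, add_comm]

/-- The Leech triangle of a Steiner system `S(5, 6, 12)`. -/
theorem trace_five_six_twelve {B : Set (Finset α)} (hα : Fintype.card α = 12)
    (hB : IsSteinerSystem 5 6 B) {b : Finset α} (hb : b ∈ B) {s : Finset α} (hs : s ⊆ b) :
    (blocksTrace B b s).card = [1, 0, 3, 2, 3, 0, 1].getD s.card 0 := by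
  have hbc : b.card = 6 := hB.1 b hb
  suffices h : ∀ n, ∀ u : Finset α, u ⊆ b → u.card + n = 6 →
      (blocksTrace B b u).card = [1, 0, 3, 2, 3, 0, 1].getD u.card 0 by
    exact h (6 - s.card) s hs (by have := card_le_card hs; omega)
  intro n
  induction n using Nat.strong_induction_on with
  | _ n ih =>
    intro u hu hun
    have step := card_blocksTrace_step (B := B) b u hu (fun j => [1, 0, 3, 2, 3, 0, 1].getD j 0)
      (fun v hv hvb => by
        have h1 := card_lt_card hv
        have h2 := card_le_card hvb
        exact ih (6 - v.card) (by omega) v hvb (by omega))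
    rw [hbc] at step
    obtain ⟨i, hi⟩ : ∃ i, u.card = i := ⟨_, rfl⟩
    rw [hi] at hun step ⊢
    by_cases h5 : 5 ≤ i
    · rw [blocksThrough_eq_of_le hB hb hu (by omega), card_singleton] at step
      have : i = 5 ∨ i = 6 := by omega
      rcases this with rfl | rfl <;> simpa [sum_range_succ] using step.symm
    · have hm := card_blocksThrough_mul hB u (by omega)
      rw [hα, hi] at hm
      have : i = 0 ∨ i = 1 ∨ i = 2 ∨ i = 3 ∨ i = 4 := by omega
      rcases this with rfl | rfl | rfl | rfl | rfl <;>
        norm_num [sum_range_succ, Nat.choose] at step hm ⊢ <;>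
        (try rw [← card_eq_zero]) <;> omega

end Cfsg.Agent.SporStruct
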