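import Cfsg.Agent.SporStruct.CoCheck
import Cfsg.Agent.Lib.Leech.Center
import Cfsg.Agent.Lib.Golay.Order

/-!
Generation of the group of the Leech lattice from tables.
-/

set_option autoImplicit false

namespace Cfsg.Agent.SporStruct.OutCo1

open Cfsg Cfsg.Agent.Leech CoMatrix
open Cfsg.Agent.Golay (pt idx idx_lt pt_idx idx_pt Tab toSet mem_toSet inCode basisN combAux)
open scoped Pointwise

/-- The table of a signed permutation. -/
def sMat (p : List ℕ × ℕ) : List (List ℤ) :=
  (List.range 24).map fun i => (List.range 24).map fun k =>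
    if k = p.1.getD i 0 then (if p.2.testBit k then -8 else 8) else 0

/-- All points, as a mask. -/
def allMask : ℕ := 2 ^ 24 - 1

theorem toSet_allMask : toSet allMask = Finset.univ := by decide +kernel

theorem toSet_zero : toSet 0 = ∅ := by decide +kernel

theorem toSet_xor (a b : ℕ) : toSet (a ^^^ b) = symmDiff (toSet a) (toSet b) := by
  ext p
  simp only [mem_toSet, Nat.testBit_xor, Finset.mem_symmDiff]
  cases a.testBit (idx p) <;> cases b.testBit (idx p) <;> simp

theorem toSet_mem_code {n : ℕ} (h : inCode n = true) : toSet n ∈ code :=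
  Golay.mem_supports_iff.2 ⟨n, h, rfl⟩

theorem inCode_of_mem {n : ℕ} (hn : n < 2 ^ 24) (h : toSet n ∈ code) : inCode n = true := by
  obtain ⟨m, hm, e⟩ := Golay.mem_supports_iff.1 h
  rwa [← Golay.toSet_injOn (Golay.inCode_lt hm) hn e]

theorem rows_mono {σ : M24} {l : List ℕ} (h : Tab σ.1 l) {n : ℕ} (hc : toSet n ∈ code) :
    rows (mono σ hc) = sMat (l, n) := by
  refine range_map_congr fun i hi => ?_
  show (List.range 24).map _ = _
  refine range_map_congr fun k hk => ?_
  rw [coe_mono_frame, Pi.single_apply]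
  have e : σ.1 (pt i) = pt (l.getD i 0) := by rw [← h i hi, pt_idx]
  refine if_ctx_congr ⟨fun e' => ?_, fun e' => ?_⟩ (fun e' => ?_) (fun _ => rfl)
  · rw [← h i hi, ← e', idx_pt hk]
  · rw [e]; exact congrArg pt e'
  · refine if_congr ?_ rfl rfl
    rw [mem_toSet, h i hi, show k = l.getD i 0 from e']

theorem mono_mul (σ τ : M24) {c d : Finset GolayPt} (hc : c ∈ code) (hd : d ∈ code)
    (h : symmDiff c (σ.1 • d) ∈ code) : mono σ hc * mono τ hd = mono (σ * τ) h := by
  refine ext_frame fun i => Subtype.ext ?_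
  rw [mul_smul, coe_mono_smul, coe_mono_smul, signedPerm_comp, coe_mono_smul]
  rfl

theorem smul_mem_code (σ : M24) {d : Finset GolayPt} (hd : d ∈ code) : σ.1 • d ∈ code := by
  have : σ.1 • code = code := MulAction.mem_stabilizer_iff.1 σ.2
  rw [← this]
  exact Set.smul_mem_smul_set hd

theorem mono_inv (σ : M24) {c : Finset GolayPt} (hc : c ∈ code) :
    (mono σ hc)⁻¹ = mono σ⁻¹ (smul_mem_code σ⁻¹ hc) := by
  refine inv_eq_of_mul_eq_one_left ?_
  rw [mono_mul _ _ _ _ (symmDiff_mem_code (smul_mem_code σ⁻¹ hc) (smul_mem_code σ⁻¹ hc)), ← map_one permHom]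
  refine ext_frame fun i => Subtype.ext ?_
  rw [coe_mono_smul, coe_permHom_smul', inv_mul_cancel, symmDiff_self]
  rfl
where
  coe_permHom_smul' {v : leechLattice} :
      ((permHom 1 • v : leechLattice) : GolayPt → ℤ) = signedPerm (1 : M24).1 ∅ (v : GolayPt → ℤ) := rfl

theorem negOne_eq : negOne = mono 1 univ_mem_code := rfl

theorem rows_negOne : rows negOne = sMat (List.range 24, allMask) := by
  have h := rows_mono (σ := 1) (l := List.range 24) (n := allMask) Golay.tab_one
    (toSet_allMask.symm ▸ univ_mem_code)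
  rw [negOne_eq, ← h]
  congr 2

/-- The table belongs to an element of the subgroup. -/
def InK (K : Subgroup Co0) (M : List (List ℤ)) : Prop := ∃ x ∈ K, rows x = M

variable {K : Subgroup Co0}

theorem inK_one : InK K idMat := ⟨1, K.one_mem, rows_one⟩

theorem inK_evalW {L : List (List (List ℤ))} (hL : ∀ M ∈ L, InK K M) :
    ∀ w : List ℕ, InK K (evalW L w)
  | [] => inK_one
  | j :: w => by
    obtain ⟨x, hx, ex⟩ := inK_evalW hL w
    obtain ⟨y, hy, ey⟩ : InK K (L.getD j idMat) := by
      rcases lt_or_ge j L.length with hj | hj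
      · rw [List.getD_eq_getElem _ _ hj]; exact hL _ (List.getElem_mem hj)
      · rw [List.getD_eq_default _ _ hj]; exact inK_one
    refine ⟨y * x, K.mul_mem hy hx, ?_⟩
    rw [rows_mul, ex, ey]
    rfl

theorem inK_pow {M : List (List ℤ)} (h : InK K M) (n : ℕ) : InK K (powM M n) := by
  obtain ⟨x, hx, rfl⟩ := h
  exact ⟨x ^ n, K.pow_mem hx n, rows_pow x n⟩

theorem mono_mem {σ : M24} {l : List ℕ} (h : Tab σ.1 l) {n : ℕ} (hc : toSet n ∈ code)
    (hk : InK K (sMat (l, n))) : mono σ hc ∈ K := by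
  obtain ⟨x, hx, e⟩ := hk
  rwa [rows_injective (e.trans (rows_mono h hc).symm)] at hx

/-- The permutation parts of the monomial elements of `K`. -/
def permPart (K : Subgroup Co0) : Subgroup M24 where
  carrier := {σ | ∃ (c : Finset GolayPt) (hc : c ∈ code), mono σ hc ∈ K}
  one_mem' := ⟨∅, empty_mem_code, by
    have : mono 1 empty_mem_code = 1 := map_one permHom
    rw [this]; exact K.one_mem⟩
  mul_mem' := by
    rintro σ τ ⟨c, hc, h1⟩ ⟨d, hd, h2⟩
    refine ⟨_, symmDiff_mem_code hc (smul_mem_code σ hd), ?_⟩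
    rw [← mono_mul σ τ hc hd]
    exact K.mul_mem h1 h2
  inv_mem' := by
    rintro σ ⟨c, hc, h⟩
    exact ⟨_, smul_mem_code σ⁻¹ hc, mono_inv σ hc ▸ K.inv_mem h⟩

/-- The monomial elements. -/
noncomputable def presGroup [Finite Co0] : Subgroup Co0 :=
  subgroupOfSubmonoidFinite
    { carrier := {g | CrossMax.Pres g}
      one_mem' := fun v hv => by simpa using hv
      mul_mem' := fun {g h} hg hh v hv => by rw [mul_smul]; exact hg _ (hh v hv) }
where
  subgroupOfSubmonoidFinite (S : Submonoid Co0) : Subgroup Co0 :=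
    { S with
      inv_mem' := fun {g} hg => by
        have h1 : g⁻¹ = g ^ (orderOf g - 1) := inv_eq_of_mul_eq_one_right (by
          rw [← pow_succ', Nat.sub_add_cancel (isOfFinOrder_of_finite g).orderOf_pos,
            pow_orderOf_eq_one])
        show g⁻¹ ∈ S
        rw [h1]
        exact S.pow_mem hg _ }

theorem pres_mem {n1 n2 : ℕ}
    (hs : InK K (sMat (Golay.shiftTab, 0))) (hp : InK K (sMat (Golay.projInvTab, n1)))
    (hq : InK K (sMat (Golay.cubeTwistTab, n2))) (h1 : inCode n1 = true) (h2 : inCode n2 = true)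
    (hb : ∀ b ∈ basisN, InK K (sMat (List.range 24, b))) {g : Co0} (hg : CrossMax.Pres g) :
    g ∈ K := by
  have hperm : ∀ σ : M24, σ ∈ permPart K := by
    have hle : M24 ≤ (permPart K).map M24.subtype := by
      conv_lhs => rw [← Golay.M24_eq_closure]
      rw [Subgroup.closure_le]
      rintro u (rfl | rfl | rfl)
      · exact ⟨⟨_, Golay.shift_mem⟩, ⟨_, _, mono_mem Golay.tab_shift
          (toSet_zero.symm ▸ empty_mem_code) hs⟩, rfl⟩
      · exact ⟨⟨_, Golay.projInv_mem⟩, ⟨_, _, mono_mem Golay.tab_projInv (toSet_mem_code h1) hp⟩, rfl⟩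
      · exact ⟨⟨_, Golay.cubeTwist_mem⟩, ⟨_, _, mono_mem Golay.tab_cubeTwist (toSet_mem_code h2) hq⟩, rfl⟩
    intro σ
    obtain ⟨τ, hτ, e⟩ := hle σ.2
    exact (Subtype.ext e : τ = σ) ▸ hτ
  set S : Set (Finset GolayPt) := {c | ∃ hc : c ∈ code, mono 1 hc ∈ K} with hS
  have hmul : ∀ {a b}, a ∈ S → b ∈ S → symmDiff a b ∈ S := by
    rintro a b ⟨ha, ha'⟩ ⟨hb, hb'⟩
    refine ⟨symmDiff_mem_code ha hb, ?_⟩
    have e : symmDiff a ((1 : M24).1 • b) ∈ code := by
      rw [show (1 : M24).1 = 1 from rfl, one_smul]; exact symmDiff_mem_code ha hb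
    have := K.mul_mem ha' hb'
    rw [mono_mul 1 1 ha hb e] at this
    convert this using 2
    · rw [one_mul]
    · rw [show (1 : M24).1 = 1 from rfl, one_smul]
  have hcomb : ∀ L : List ℕ, (∀ b ∈ L, toSet b ∈ S) → ∀ m, toSet (combAux L m) ∈ S := by
    intro L
    induction L with
    | nil =>
      intro _ m
      refine ⟨toSet_zero.symm ▸ empty_mem_code, ?_⟩
      have : mono 1 (toSet_zero.symm ▸ empty_mem_code : toSet 0 ∈ code) = 1 := by
        refine Eq.trans ?_ (map_one permHom)
        show mono 1 _ = mono 1 empty_mem_code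
        congr 1
      exact this ▸ K.one_mem
    | cons b bs ih =>
      intro hL m
      rw [combAux, toSet_xor]
      refine hmul ?_ (ih (fun x hx => hL x (List.mem_cons_of_mem _ hx)) _)
      split_ifs with h
      · exact hL b List.mem_cons_self
      · have := ih (fun x hx => hL x (List.mem_cons_of_mem _ hx)) 0
        have e : symmDiff (toSet (combAux bs 0)) (toSet (combAux bs 0)) = toSet 0 := by
          rw [symmDiff_self, toSet_zero]; rfl
        exact e ▸ hmul this this
  have hall : ∀ c ∈ code, c ∈ S := by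
    intro c hc
    obtain ⟨n, hn, rfl⟩ := Golay.mem_supports_iff.1 hc
    have hb' : inCode n = true := hn
    rw [inCode, beq_iff_eq] at hn
    rw [← hn]
    refine hcomb basisN (fun b hb'' => ?_) _
    exact ⟨toSet_mem_code (basisN_inCode b hb''), mono_mem (σ := 1) Golay.tab_one _ (hb b hb'')⟩
  obtain ⟨σ, c, hc, rfl⟩ := exists_eq_mono hg
  obtain ⟨c', hc', hk⟩ := hperm σ
  obtain ⟨hd, hd'⟩ := hall _ (symmDiff_mem_code hc hc')
  have e : symmDiff (symmDiff c c') ((1 : M24).1 • c') ∈ code := by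
    rw [show (1 : M24).1 = 1 from rfl, one_smul, symmDiff_symmDiff_cancel_right]; exact hc
  have := K.mul_mem hd' hk
  rw [mono_mul 1 σ hd hc' e] at this
  convert this using 2
  · rw [one_mul]
  · rw [show (1 : M24).1 = 1 from rfl, one_smul, symmDiff_symmDiff_cancel_right]
where
  basisN_inCode : ∀ b ∈ basisN, inCode b = true := by decide +kernel

theorem eq_top_of_monomial [Finite Co0] {n1 n2 : ℕ}
    (hs : InK K (sMat (Golay.shiftTab, 0))) (hp : InK K (sMat (Golay.projInvTab, n1)))
    (hq : InK K (sMat (Golay.cubeTwistTab, n2))) (h1 : inCode n1 = true) (h2 : inCode n2 = true)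
    (hb : ∀ b ∈ basisN, InK K (sMat (List.range 24, b))) {g : Co0} (hgK : g ∈ K)
    (hg : ¬ CrossMax.Pres g) : K = ⊤ := by
  have hle : presGroup ≤ K := fun x hx => pres_mem hs hp hq h1 h2 hb hx
  have hlt : presGroup < K := lt_of_le_of_ne hle fun e => hg (e ▸ hgK : g ∈ presGroup)
  exact (CrossMax.isCoatom_of_pres presGroup fun _ => Iff.rfl).2 K hlt

end Cfsg.Agent.SporStruct.OutCo1
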