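import Cfsg.Agent.SporStruct.M24Sets

/-!
The stabiliser of an octad in `Cfsg.M24`: `2^4 : A_8`.
-/

set_option autoImplicit false

namespace Cfsg.Agent.SporStruct.M24

open Cfsg Cfsg.Agent.Golay
open scoped Pointwise

/-- Setwise stabiliser of a set in `M24`. -/
abbrev setStab (o : Finset GolayPt) : Subgroup (Equiv.Perm GolayPt) :=
  Cfsg.M24 ⊓ MulAction.stabilizer (Equiv.Perm GolayPt) o

/-- Pointwise stabiliser of a set in `M24`. -/
abbrev pointFix (o : Finset GolayPt) : Subgroup (Equiv.Perm GolayPt) :=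
  Cfsg.M24 ⊓ fixingSubgroup (Equiv.Perm GolayPt) (o : Set GolayPt)

variable {o : Finset GolayPt}

theorem mem_pointFix {g : Equiv.Perm GolayPt} :
    g ∈ pointFix o ↔ g ∈ Cfsg.M24 ∧ ∀ x ∈ o, g x = x := by
  simp [pointFix, mem_fixingSubgroup_iff, Subgroup.mem_inf]

theorem mem_setStab {g : Equiv.Perm GolayPt} :
    g ∈ setStab o ↔ g ∈ Cfsg.M24 ∧ g • o = o := by
  simp [setStab, Subgroup.mem_inf, MulAction.mem_stabilizer_iff]

theorem pointFix_le_setStab : pointFix o ≤ setStab o := by
  intro g hg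
  rw [mem_pointFix] at hg
  refine mem_setStab.2 ⟨hg.1, Finset.eq_of_subset_of_card_le (fun p hp => ?_) (by simp)⟩
  rw [mem_smul_iff] at hp
  have h1 := hg.2 _ hp
  rw [Equiv.Perm.coe_inv, Equiv.apply_symm_apply] at h1
  rw [h1]
  exact hp

theorem card_M24_mul (ho : o ∈ octads) : Nat.card (setStab o) * 759 = 244823040 := by
  have h := MulAction.index_stabilizer Cfsg.M24 o
  have horb : MulAction.orbit Cfsg.M24 o = octads := by
    ext o'
    constructor
    · rintro ⟨g, rfl⟩; exact smul_mem_octads g.2 ho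
    · intro ho'
      obtain ⟨g, hg, hgo⟩ := octad_transitive ho ho'
      exact ⟨⟨g, hg⟩, hgo⟩
  rw [horb, ncard_octads] at h
  have e : MulAction.stabilizer Cfsg.M24 o ≃ setStab o :=
    { toFun := fun g => ⟨g.1.1, g.1.2, g.2⟩
      invFun := fun g => ⟨⟨g.1, g.2.1⟩, g.2.2⟩
      left_inv := fun _ => rfl
      right_inv := fun _ => rfl }
  rw [← Nat.card_congr e, ← card_M24, ← h, Subgroup.card_mul_index]

theorem card_setStab (ho : o ∈ octads) : Nat.card (setStab o) = 322560 := by
  have := card_M24_mul ho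
  omega

/-- Six points of an octad, as a sequence followed by a point outside. -/
theorem exists_frame (ho : o ∈ octads) (p : GolayPt) : ∃ f : ℕ → GolayPt,
    (∀ j k, j < 6 → k < 6 → f j = f k → j = k) ∧ (∀ j < 6, f j ∈ o) ∧ f 6 = p := by
  have hc : o.card = 8 := card_of_mem_octads ho
  refine ⟨fun j => if h : j < 6 then ((o.equivFinOfCardEq hc).symm ⟨j, by omega⟩).1 else p,
    fun j k hj hk h => ?_, fun j hj => ?_, rfl⟩
  · simp only [dif_pos hj, dif_pos hk] at h
    simpa using (o.equivFinOfCardEq hc).symm.injective (Subtype.ext h)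
  · simp only [dif_pos hj]; exact Finset.coe_mem _

/-- The pointwise stabiliser of an octad is regular on the points outside it. -/
theorem exists_pointFix_map (ho : o ∈ octads) {p q : GolayPt} (hp : p ∉ o) (hq : q ∉ o) :
    ∃ k ∈ pointFix o, k p = q := by
  obtain ⟨f, hf, hfo, h6⟩ := exists_frame ho p
  set f' := Function.update f 6 q with hf'
  have e : ∀ j < 6, f' j = f j := fun j hj => Function.update_of_ne (by omega) _ _
  obtain ⟨g, hg, -, hgj⟩ := exists_map_frames f f' ho ho hf
    (fun j k hj hk => by rw [e j hj, e k hk]; exact hf j k hj hk) hfo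
    (fun j hj => by rw [e j hj]; exact hfo j hj) (h6 ▸ hp) (by rw [hf', Function.update_self]; exact hq)
  refine ⟨g, mem_pointFix.2 ⟨hg, fix_octad hg ho (s := (Finset.range 6).image f) ?_ ?_ ?_⟩, ?_⟩
  · exact fun x hx => by obtain ⟨j, hj, rfl⟩ := Finset.mem_image.1 hx; exact hfo j (Finset.mem_range.1 hj)
  · rw [Finset.card_image_of_injOn, Finset.card_range]
    intro j hj k hk h
    simp only [Finset.coe_range, Set.mem_Iio] at hj hk
    exact hf j k hj hk h
  · intro x hx
    obtain ⟨j, hj, rfl⟩ := Finset.mem_image.1 hx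
    rw [Finset.mem_range] at hj
    rw [hgj j (by omega), e j hj]
  · have := hgj 6 (by norm_num)
    rwa [h6, hf', Function.update_self] at this

theorem eq_one_of_fix (ho : o ∈ octads) {g : Equiv.Perm GolayPt} (hg : g ∈ pointFix o)
    {p : GolayPt} (hp : p ∉ o) (hgp : g p = p) : g = 1 := by
  rw [mem_pointFix] at hg
  obtain ⟨f, hf, hfo, h6⟩ := exists_frame ho p
  obtain ⟨c, hc, -, hcj⟩ := exists_map_frame f hf ho hfo (h6 ▸ hp)
  have heq : g * c = c := by
    refine eq_of_base (Cfsg.M24.mul_mem hg.1 hc) hc fun j hj => ?_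
    rw [Equiv.Perm.mul_apply, hcj j hj]
    rcases Nat.lt_succ_iff_lt_or_eq.1 hj with hj | rfl
    · exact hg.2 _ (hfo j hj)
    · rw [h6]; exact hgp
  exact mul_eq_right.1 heq

theorem card_compl_octad (ho : o ∈ octads) : Nat.card {p : GolayPt // p ∉ o} = 16 := by
  rw [Nat.card_eq_fintype_card, Fintype.card_subtype_compl, card_golayPt, Fintype.card_coe,
    card_of_mem_octads ho]

theorem exists_outside (ho : o ∈ octads) : ∃ p, p ∉ o := by
  by_contra h
  push Not at h
  have := Finset.card_le_card (fun x _ => h x : (Finset.univ : Finset GolayPt) ⊆ o)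
  rw [Finset.card_univ, card_golayPt, card_of_mem_octads ho] at this
  omega

theorem apply_notMem {g : Equiv.Perm GolayPt} (hg : g • o = o) {p : GolayPt} (hp : p ∉ o) :
    g p ∉ o := fun h => hp ((apply_mem_iff_of_smul_eq hg p).1 h)

theorem card_pointFix (ho : o ∈ octads) : Nat.card (pointFix o) = 16 := by
  obtain ⟨p, hp⟩ := exists_outside ho
  rw [← card_compl_octad ho]
  refine Nat.card_eq_of_bijective
    (fun k => (⟨k.1 p, apply_notMem (mem_setStab.1 (pointFix_le_setStab k.2)).2 hp⟩ :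
      {q : GolayPt // q ∉ o})) ⟨fun k k' h => ?_, fun q => ?_⟩
  · have h' : k.1 p = k'.1 p := congrArg Subtype.val h
    have h1 := eq_one_of_fix ho ((pointFix o).mul_mem ((pointFix o).inv_mem k'.2) k.2) hp
      (by rw [Equiv.Perm.mul_apply, h', Equiv.Perm.coe_inv, Equiv.symm_apply_apply])
    exact Subtype.ext (inv_mul_eq_one.1 h1).symm
  · obtain ⟨k, hk, hkp⟩ := exists_pointFix_map ho hp q.2
    exact ⟨⟨k, hk⟩, Subtype.ext hkp⟩

/-- The action of the stabiliser on the octad. -/
noncomputable def octadHom (o : Finset GolayPt) : setStab o →* Equiv.Perm ↥o where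
  toFun g := g.1.subtypePerm fun x => apply_mem_iff_of_smul_eq (mem_setStab.1 g.2).2 x
  map_one' := by ext x; rfl
  map_mul' a b := by ext x; rfl

theorem octadHom_eq_one_iff (g : setStab o) : octadHom o g = 1 ↔ ∀ x ∈ o, g.1 x = x := by
  rw [Equiv.ext_iff]
  simp [octadHom, Subtype.ext_iff]

/-- The kernel is the pointwise stabiliser. -/
noncomputable def kerEquiv : (octadHom o).ker ≃ pointFix o where
  toFun g := ⟨g.1.1, mem_pointFix.2 ⟨(mem_setStab.1 g.1.2).1, (octadHom_eq_one_iff g.1).1 g.2⟩⟩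
  invFun g := ⟨⟨g.1, pointFix_le_setStab g.2⟩, (octadHom_eq_one_iff _).2 (mem_pointFix.1 g.2).2⟩
  left_inv _ := rfl
  right_inv _ := rfl

theorem card_range_octadHom (ho : o ∈ octads) : Nat.card (octadHom o).range = 20160 := by
  have h := Subgroup.index_ker (octadHom o)
  have h' := Subgroup.card_mul_index (octadHom o).ker
  rw [h, Nat.card_congr kerEquiv, card_pointFix ho, card_setStab ho] at h'
  omega

theorem range_octadHom (ho : o ∈ octads) : (octadHom o).range = alternatingGroup ↥o := by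
  refine Equiv.Perm.eq_alternatingGroup_of_index_eq_two ?_
  have h := Subgroup.card_mul_index (octadHom o).range
  have h8 : Nat.card (Equiv.Perm ↥o) = 40320 := by
    rw [Nat.card_eq_fintype_card, Fintype.card_perm, Fintype.card_coe, card_of_mem_octads ho]
    rfl
  rw [card_range_octadHom ho, h8] at h
  omega

/-- The setwise stabiliser of `o` fixing `p`. -/
abbrev setStabPt (o : Finset GolayPt) (p : GolayPt) : Subgroup (Equiv.Perm GolayPt) :=
  setStab o ⊓ MulAction.stabilizer (Equiv.Perm GolayPt) p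

theorem complement (ho : o ∈ octads) {p : GolayPt} (hp : p ∉ o) :
    pointFix o ⊓ setStabPt o p = ⊥ ∧ pointFix o ⊔ setStabPt o p = setStab o := by
  refine ⟨?_, le_antisymm (sup_le pointFix_le_setStab inf_le_left) fun g hg => ?_⟩
  · rw [eq_bot_iff]
    rintro g ⟨h1, h2⟩
    exact Subgroup.mem_bot.2 (eq_one_of_fix ho h1 hp h2.2)
  · obtain ⟨k, hk, hkp⟩ := exists_pointFix_map ho hp (apply_notMem (mem_setStab.1 hg).2 hp)
    rw [← mul_inv_cancel_left k g]
    refine Subgroup.mul_mem_sup hk ⟨(setStab o).mul_mem ((setStab o).inv_mem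
      (pointFix_le_setStab hk)) hg, ?_⟩
    show (_ : Equiv.Perm GolayPt) ∈ MulAction.stabilizer (Equiv.Perm GolayPt) p
    rw [MulAction.mem_stabilizer_iff, Equiv.Perm.smul_def, Equiv.Perm.mul_apply,
      ← hkp, Equiv.Perm.coe_inv, Equiv.symm_apply_apply]

theorem stabPt_equiv (ho : o ∈ octads) {p : GolayPt} (hp : p ∉ o) :
    Nonempty (setStabPt o p ≃* alternatingGroup (Fin 8)) := by
  set f : setStabPt o p →* Equiv.Perm ↥o :=
    (octadHom o).comp (Subgroup.inclusion inf_le_left) with hf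
  have hinj : Function.Injective f := by
    rw [← MonoidHom.ker_eq_bot_iff, eq_bot_iff]
    intro g hg
    have h1 := (octadHom_eq_one_iff _).1 (MonoidHom.mem_ker.1 hg)
    exact Subgroup.mem_bot.2 (Subtype.ext (eq_one_of_fix ho
      (mem_pointFix.2 ⟨(mem_setStab.1 g.2.1).1, h1⟩) hp g.2.2))
  have hrange : f.range = alternatingGroup ↥o := by
    rw [← range_octadHom ho]
    refine le_antisymm (fun x ⟨g, hg⟩ => ⟨_, hg⟩) ?_
    rintro _ ⟨g, rfl⟩
    have hg : g.1 ∈ pointFix o ⊔ setStabPt o p := by rw [(complement ho hp).2]; exact g.2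
    obtain ⟨k, hk, hkp⟩ := exists_pointFix_map ho hp (apply_notMem (mem_setStab.1 g.2).2 hp)
    refine ⟨⟨k⁻¹ * g.1, (setStab o).mul_mem ((setStab o).inv_mem (pointFix_le_setStab hk)) g.2,
      ?_⟩, ?_⟩
    · show (_ : Equiv.Perm GolayPt) ∈ MulAction.stabilizer (Equiv.Perm GolayPt) p
      rw [MulAction.mem_stabilizer_iff, Equiv.Perm.smul_def, Equiv.Perm.mul_apply,
        ← hkp, Equiv.Perm.coe_inv, Equiv.symm_apply_apply]
    · refine Equiv.ext fun x => Subtype.ext ?_
      show k⁻¹ (g.1 x) = g.1 x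
      have hx : g.1 x ∈ o := (apply_mem_iff_of_smul_eq (mem_setStab.1 g.2).2 x).2 x.2
      rw [Equiv.Perm.coe_inv, Equiv.symm_apply_eq]
      exact ((mem_pointFix.1 hk).2 _ hx).symm
  exact ⟨((MonoidHom.ofInjective hinj).trans (MulEquiv.subgroupCongr hrange)).trans
    (o.equivFinOfCardEq (card_of_mem_octads ho)).altCongrHom⟩

end Cfsg.Agent.SporStruct.M24
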