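import Cfsg.Agent.Lib.Steiner.Basic
import Cfsg.Agent.Lib.Golay.Code

/-!
The intersection triangle of the octads.
-/

set_option autoImplicit false

namespace Cfsg.Agent.SporStruct.M24

open Cfsg Cfsg.Agent.Golay

/-- The numbers of octads through `i` points of an octad. -/
def octLam (i : ℕ) : ℤ := [759, 253, 77, 21, 5, 1].getD i 1

theorem octLam_spec {o T : Finset GolayPt} (ho : o ∈ octads) (hT : T ⊆ o) :
    ((Steiner.blocksThru octads T).card : ℤ) = octLam T.card := by
  have hv : Fintype.card GolayPt = 24 := card_golayPt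
  rcases le_or_gt 5 T.card with h | h
  · rw [Steiner.card_blocksThru_of_subset_block octads_steiner ho hT h, octLam]
    rcases eq_or_lt_of_le h with h5 | h5
    · rw [← h5]; rfl
    · rw [List.getD_eq_default _ _ (by simp; omega)]; rfl
  · have key : ∀ c, c * (8 - T.card).choose (5 - T.card) = (24 - T.card).choose (5 - T.card) →
        (Steiner.blocksThru octads T).card = c := fun c hc =>
      Steiner.card_blocksThru_eq octads_steiner rfl hv c h.le
        (Nat.choose_pos (by omega)) hc
    rw [octLam]
    obtain ⟨n, hn⟩ : ∃ n, T.card = n := ⟨_, rfl⟩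
    rw [hn] at h key ⊢
    interval_cases n
    · rw [key 759 (by decide +kernel)]; rfl
    · rw [key 253 (by decide +kernel)]; rfl
    · rw [key 77 (by decide +kernel)]; rfl
    · rw [key 21 (by decide +kernel)]; rfl
    · rw [key 5 (by decide +kernel)]; rfl

/-- The number of octads with a prescribed trace on an octad. -/
theorem ncard_octads_trace {o s : Finset GolayPt} (ho : o ∈ octads) (hs : s ⊆ o) :
    ({o' : Finset GolayPt | o' ∈ octads ∧ o ∩ o' = s}.ncard : ℤ) =
      Steiner.triangle octLam (8 - s.card) s.card := by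
  classical
  rw [← Steiner.card_inter_eq_triangle (B := octads) octLam (8 - s.card) s o hs
    (by rw [Finset.card_sdiff_of_subset hs, card_of_mem_octads ho])
    (fun T _ hTo => octLam_spec ho hTo), ← Set.ncard_coe_finset]
  congr 2
  ext o'
  simp [Finset.inter_comm]

theorem ncard_octads_trace_values {o s : Finset GolayPt} (ho : o ∈ octads) (hs : s ⊆ o) :
    {o' : Finset GolayPt | o' ∈ octads ∧ o ∩ o' = s}.ncard =
      [30, 0, 16, 0, 4, 0, 0, 0, 1].getD s.card 0 := by
  have h := ncard_octads_trace ho hs
  have hle : s.card ≤ 8 := (Finset.card_le_card hs).trans (card_of_mem_octads ho).le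
  obtain ⟨n, hn⟩ : ∃ n, s.card = n := ⟨_, rfl⟩
  rw [hn] at h hle ⊢
  have H : ∀ n : Fin 9, Steiner.triangle octLam (8 - n.val) n.val =
      ([30, 0, 16, 0, 4, 0, 0, 0, 1].getD n.val 0 : ℕ) := by decide +kernel
  rw [H ⟨n, by omega⟩] at h
  exact_mod_cast h

end Cfsg.Agent.SporStruct.M24
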