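import Cfsg.Agent.SporStruct.OctadOrbits
import Cfsg.Agent.SporStruct.DodecadOrbits
import Cfsg.Agent.SporStruct.OctadTriangle

/-!
Intersection classes of octads and dodecads relative to one of them.
-/

set_option autoImplicit false

namespace Cfsg.Agent.SporStruct.M24

open Cfsg Cfsg.Agent.Golay
open scoped Pointwise

theorem inter_smul_card {g : Equiv.Perm GolayPt} {s t : Finset GolayPt} :
    (g • s ∩ g • t).card = (s ∩ t).card := by
  rw [← Finset.smul_finset_inter, Finset.card_smul_finset]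

theorem exists_base_octad {o : Finset GolayPt} (ho : o ∈ octads) :
    ∃ g ∈ Cfsg.M24, g • toSet 8536111 = o :=
  octad_transitive (octad_mem_iff.2 ⟨8536111, by decide +kernel, by decide +kernel, rfl⟩) ho

theorem octad_inter_card {o o' : Finset GolayPt} (ho : o ∈ octads) (ho' : o' ∈ octads) :
    (o ∩ o').card = 0 ∨ (o ∩ o').card = 2 ∨ (o ∩ o').card = 4 ∨ o' = o := by
  have h := ncard_octads_trace_values (s := o ∩ o') ho Finset.inter_subset_left
  have hpos : 0 < {c : Finset GolayPt | c ∈ octads ∧ o ∩ c = o ∩ o'}.ncard :=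
    (Set.ncard_pos (Set.toFinite _)).2 ⟨o', ho', rfl⟩
  rw [h] at hpos
  have hle : (o ∩ o').card ≤ 8 :=
    (Finset.card_le_card Finset.inter_subset_left).trans (card_of_mem_octads ho).le
  by_cases h8 : (o ∩ o').card = 8
  · have e1 := Finset.eq_of_subset_of_card_le (s := o ∩ o') (t := o) Finset.inter_subset_left
      (by rw [h8, card_of_mem_octads ho])
    have e2 := Finset.eq_of_subset_of_card_le (s := o ∩ o') (t := o') Finset.inter_subset_right
      (by rw [h8, card_of_mem_octads ho'])
    exact Or.inr (Or.inr (Or.inr (e2.symm.trans e1)))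
  · generalize (o ∩ o').card = i at hpos hle h8
    interval_cases i <;> simp at hpos h8 ⊢

/-- Two octads meeting a third equally are in one orbit of its stabiliser. -/
theorem octad_suborbit {o o' o'' : Finset GolayPt} (ho : o ∈ octads) (ho' : o' ∈ octads)
    (ho'' : o'' ∈ octads) (h : (o ∩ o').card = (o ∩ o'').card) :
    ∃ g ∈ Cfsg.M24, g • o = o ∧ g • o' = o'' := by
  by_cases hoo : o' = o
  · subst hoo
    have e : o'' = o' := by
      rw [Finset.inter_self, card_of_mem_octads ho'] at h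
      rcases octad_inter_card ho' ho'' with e | e | e | e <;> first | omega | exact e
    exact ⟨1, one_mem _, one_smul _ _, by rw [one_smul, e]⟩
  obtain ⟨c, hc, rfl⟩ := exists_base_octad ho
  have hk : (toSet 8536111 ∩ c⁻¹ • o').card = 0 ∨ (toSet 8536111 ∩ c⁻¹ • o').card = 2 ∨
      (toSet 8536111 ∩ c⁻¹ • o').card = 4 := by
    rw [← inter_smul_card (g := c), smul_inv_smul]
    rcases octad_inter_card ho ho' with e | e | e | e
    · exact Or.inl e
    · exact Or.inr (Or.inl e)
    · exact Or.inr (Or.inr e)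
    · exact absurd e hoo
  obtain ⟨g, hg, hga, hgb⟩ := octad_class_transitive (s := c⁻¹ • o') (s' := c⁻¹ • o'')
    (smul_mem_octads (Cfsg.M24.inv_mem hc) ho') (smul_mem_octads (Cfsg.M24.inv_mem hc) ho'') hk
    (by rw [← inter_smul_card (g := c), smul_inv_smul, h, ← inter_smul_card (g := c⁻¹),
      inv_smul_smul])
  refine ⟨c * g * c⁻¹, Cfsg.M24.mul_mem (Cfsg.M24.mul_mem hc hg) (Cfsg.M24.inv_mem hc), ?_, ?_⟩
  · rw [mul_smul, mul_smul, inv_smul_smul, hga]
  · rw [mul_smul, mul_smul, hgb, smul_inv_smul]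

/-- Number of code words of weight `w` meeting `a` in `k` points, at mask level. -/
def classCount (a w k : ℕ) : ℕ :=
  (((List.range 4096).map comb).filter fun n => popc n == w && popc (n &&& a) == k).length

theorem ncard_class (a w k : ℕ) :
    {s : Finset GolayPt | s ∈ wordsOfWeight (golayCode : Set (GolayPt → ZMod 2)) w ∧
      (toSet a ∩ s).card = k}.ncard = classCount a w k := by
  set L := ((List.range 4096).map comb).filter fun n => popc n == w && popc (n &&& a) == k with hL
  have hlt : ∀ n ∈ L, n < 2 ^ 24 := by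
    intro n hn
    obtain ⟨m, hm, rfl⟩ := List.mem_map.1 (List.mem_filter.1 hn).1
    exact comb_lt (List.mem_range.1 hm)
  have hnd : L.Nodup := by
    refine (List.Nodup.map_on ?_ List.nodup_range).filter _
    intro x hx y hy hxy
    rw [← comb_mod (List.mem_range.1 hx), hxy, comb_mod (List.mem_range.1 hy)]
  have e : {s : Finset GolayPt | s ∈ wordsOfWeight (golayCode : Set (GolayPt → ZMod 2)) w ∧
      (toSet a ∩ s).card = k} = (L.toFinset.image toSet : Finset (Finset GolayPt)) := by
    ext s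
    simp only [Set.mem_ofPred_eq, Finset.coe_image, Set.mem_image, Finset.mem_coe, List.mem_toFinset,
      mem_wordsOfWeight_iff]
    constructor
    · rintro ⟨⟨n, hn, hw, rfl⟩, hk⟩
      rw [toSet_inter, card_toSet, Nat.land_comm] at hk
      refine ⟨n, List.mem_filter.2 ⟨List.mem_map.2 ⟨n % 4096, ?_, beq_iff_eq.1 hn⟩, ?_⟩, rfl⟩
      · exact List.mem_range.2 (Nat.mod_lt _ (by norm_num))
      · simp [hw, hk]
    · rintro ⟨n, hn, rfl⟩
      obtain ⟨hn1, hn2⟩ := List.mem_filter.1 hn
      obtain ⟨m, hm, rfl⟩ := List.mem_map.1 hn1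
      simp only [Bool.and_eq_true, beq_iff_eq] at hn2
      exact ⟨⟨_, inCode_comb (List.mem_range.1 hm), hn2.1, rfl⟩,
        by rw [toSet_inter, card_toSet, Nat.land_comm]; exact hn2.2⟩
  rw [e, Set.ncard_coe_finset, Finset.card_image_of_injOn, List.toFinset_card_of_nodup hnd]
  · rfl
  intro x hx y hy hxy
  exact toSet_injOn (hlt x (by simpa using hx)) (hlt y (by simpa using hy)) hxy

/-- Class sizes are the same relative to every translate. -/
theorem ncard_class_smul {c : Equiv.Perm GolayPt} (hc : c ∈ Cfsg.M24) (a w k : ℕ) :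
    {s : Finset GolayPt | s ∈ wordsOfWeight (golayCode : Set (GolayPt → ZMod 2)) w ∧
      (c • toSet a ∩ s).card = k}.ncard = classCount a w k := by
  rw [← ncard_class a w k, eq_comm]
  refine Set.ncard_congr (fun s _ => c • s) ?_ ?_ ?_
  · rintro s ⟨h1, h2⟩
    exact ⟨smul_mem_wordsOfWeight hc h1, by rw [inter_smul_card]; exact h2⟩
  · intro s t _ _ h
    exact smul_left_cancel c h
  · rintro t ⟨h1, h2⟩
    exact ⟨c⁻¹ • t, ⟨smul_mem_wordsOfWeight (Cfsg.M24.inv_mem hc) h1,
      by rw [← inter_smul_card (g := c), smul_inv_smul]; exact h2⟩, smul_inv_smul c t⟩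

set_option maxRecDepth 40000 in
theorem classCount_values :
    classCount 8536111 8 0 = 30 ∧ classCount 8536111 8 2 = 448 ∧ classCount 8536111 8 4 = 280 ∧
    classCount 8245261 12 4 = 495 ∧ classCount 8245261 12 6 = 1584 ∧
    classCount 8245261 12 8 = 495 := by
  decide +kernel

set_option maxRecDepth 40000 in
theorem dodecad_base_cases : inCode 8245261 = true ∧ popc 8245261 = 12 ∧
    ∀ i : Fin 64, ∀ j : Fin 64, popc (comb (64 * i.val + j.val)) = 12 →
      popc (8245261 &&& comb (64 * i.val + j.val)) = 0 ∨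
      popc (8245261 &&& comb (64 * i.val + j.val)) = 4 ∨
      popc (8245261 &&& comb (64 * i.val + j.val)) = 6 ∨
      popc (8245261 &&& comb (64 * i.val + j.val)) = 8 ∨
      comb (64 * i.val + j.val) = 8245261 := by
  decide +kernel

theorem exists_base_dodecad {d : Finset GolayPt} (hd : d ∈ dodecads) :
    ∃ g ∈ Cfsg.M24, g • toSet 8245261 = d :=
  dodecad_transitive (dodecad_mem_iff.2
    ⟨8245261, dodecad_base_cases.1, dodecad_base_cases.2.1, rfl⟩) hd

theorem dodecad_inter_card {d d' : Finset GolayPt} (hd : d ∈ dodecads) (hd' : d' ∈ dodecads) :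
    (d ∩ d').card = 0 ∨ (d ∩ d').card = 4 ∨ (d ∩ d').card = 6 ∨ (d ∩ d').card = 8 ∨ d' = d := by
  obtain ⟨c, hc, rfl⟩ := exists_base_dodecad hd
  obtain ⟨n, hn, hw, hnd⟩ := dodecad_mem_iff.1 (smul_mem_dodecads (Cfsg.M24.inv_mem hc) hd')
  have hn' : comb (n % 4096) = n := beq_iff_eq.1 hn
  have hj := dodecad_base_cases.2.2 ⟨n % 4096 / 64, by omega⟩ ⟨n % 4096 % 64, by omega⟩
  simp only [Nat.div_add_mod, hn'] at hj
  have e : (c • toSet 8245261 ∩ d').card = popc (8245261 &&& n) := by
    rw [← smul_inv_smul c d', inter_smul_card, ← hnd, toSet_inter, card_toSet]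
  rw [e]
  rcases hj hw with h | h | h | h | h
  · exact Or.inl h
  · exact Or.inr (Or.inl h)
  · exact Or.inr (Or.inr (Or.inl h))
  · exact Or.inr (Or.inr (Or.inr (Or.inl h)))
  · refine Or.inr (Or.inr (Or.inr (Or.inr ?_)))
    rw [← smul_inv_smul c d', ← hnd, h]

theorem compl_mem_supports {s : Finset GolayPt}
    (hs : s ∈ supports (golayCode : Set (GolayPt → ZMod 2))) :
    sᶜ ∈ supports (golayCode : Set (GolayPt → ZMod 2)) := by
  obtain ⟨w, hw, rfl⟩ := hs
  have h1 : (1 : GolayPt → ZMod 2) ∈ golayCode := Submodule.subset_span (Or.inr rfl)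
  refine ⟨w + 1, golayCode.add_mem hw h1, ?_⟩
  ext p
  have two : ∀ a : ZMod 2, (a + 1 ≠ 0 ↔ ¬ a ≠ 0) := by decide
  simp only [support₂, Finset.mem_filter, Finset.mem_univ, true_and, Finset.mem_compl, Pi.add_apply,
    Pi.one_apply]
  exact two _

theorem compl_mem_dodecads {d : Finset GolayPt} (hd : d ∈ dodecads) : dᶜ ∈ dodecads :=
  ⟨compl_mem_supports hd.1, by
    rw [Finset.card_compl, card_golayPt, card_of_mem_dodecads hd]⟩

theorem inter_compl_card {d d' : Finset GolayPt} (hd : d.card = 12) :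
    (d ∩ d'ᶜ).card + (d ∩ d').card = 12 := by
  rw [← Finset.sdiff_eq_inter_compl, Finset.card_sdiff_add_card_inter, hd]

/-- Two dodecads meeting a third equally are in one orbit of its stabiliser. -/
theorem dodecad_suborbit {d d' d'' : Finset GolayPt} (hd : d ∈ dodecads) (hd' : d' ∈ dodecads)
    (hd'' : d'' ∈ dodecads) (h : (d ∩ d').card = (d ∩ d'').card) :
    ∃ g ∈ Cfsg.M24, g • d = d ∧ g • d' = d'' := by
  have hdc := card_of_mem_dodecads hd
  have hd'c := card_of_mem_dodecads hd'
  have hd''c := card_of_mem_dodecads hd''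
  have same : ∀ e : Finset GolayPt, e.card = 12 → (d ∩ e).card = 12 → e = d := fun e he h12 => by
    have e1 := Finset.eq_of_subset_of_card_le (s := d ∩ e) (t := d) Finset.inter_subset_left
      (by rw [h12, hdc])
    have e2 := Finset.eq_of_subset_of_card_le (s := d ∩ e) (t := e) Finset.inter_subset_right
      (by rw [h12, he])
    exact e2.symm.trans e1
  by_cases h12 : (d ∩ d').card = 12
  · exact ⟨1, one_mem _, one_smul _ _, by rw [one_smul, same d' hd'c h12, same d'' hd''c (h ▸ h12)]⟩
  by_cases h0 : (d ∩ d').card = 0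
  · have zero : ∀ e : Finset GolayPt, e.card = 12 → (d ∩ e).card = 0 → e = dᶜ := fun e he hz => by
      refine Finset.eq_of_subset_of_card_le (fun x hx => Finset.mem_compl.2 fun hxd => ?_)
        (by rw [Finset.card_compl, card_golayPt, hdc, he])
      have := Finset.card_eq_zero.1 hz
      exact Finset.notMem_empty x (this ▸ Finset.mem_inter.2 ⟨hxd, hx⟩)
    exact ⟨1, one_mem _, one_smul _ _, by rw [one_smul, zero d' hd'c h0, zero d'' hd''c (h ▸ h0)]⟩
  obtain ⟨c, hc, rfl⟩ := exists_base_dodecad hd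
  have hk : (toSet 8245261 ∩ c⁻¹ • d').card = 4 ∨ (toSet 8245261 ∩ c⁻¹ • d').card = 6 ∨
      (toSet 8245261 ∩ c⁻¹ • d').card = 8 := by
    rw [← inter_smul_card (g := c), smul_inv_smul]
    rcases dodecad_inter_card hd hd' with e | e | e | e | e
    · exact absurd e h0
    · exact Or.inl e
    · exact Or.inr (Or.inl e)
    · exact Or.inr (Or.inr e)
    · rw [e, Finset.inter_self] at h12; exact absurd hdc h12
  obtain ⟨g, hg, hga, hgb⟩ := dodecad_class_transitive (s := c⁻¹ • d') (s' := c⁻¹ • d'')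
    (smul_mem_dodecads (Cfsg.M24.inv_mem hc) hd') (smul_mem_dodecads (Cfsg.M24.inv_mem hc) hd'') hk
    (by rw [← inter_smul_card (g := c), smul_inv_smul, h, ← inter_smul_card (g := c⁻¹),
      inv_smul_smul])
  refine ⟨c * g * c⁻¹, Cfsg.M24.mul_mem (Cfsg.M24.mul_mem hc hg) (Cfsg.M24.inv_mem hc), ?_, ?_⟩
  · rw [mul_smul, mul_smul, inv_smul_smul, hga]
  · rw [mul_smul, mul_smul, hgb, smul_inv_smul]

end Cfsg.Agent.SporStruct.M24
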