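import Cfsg.Agent.SporStruct.LeechPairs

/-!
Standard minimal vectors: twos on an octad and threes with an octad of signs.
-/

set_option autoImplicit false

namespace Cfsg.Agent.SporStruct

open Cfsg Cfsg.Agent.Leech
open scoped Pointwise

/-- `2` on `D`, `0` elsewhere. -/
def twos (D : Finset GolayPt) : GolayPt → ℤ := fun i => 2 * bit D i

/-- `3` at `p`, `-1` at the other points of `D`, `1` elsewhere. -/
def threeVec (D : Finset GolayPt) (p : GolayPt) : GolayPt → ℤ := fun i =>
  1 - 2 * bit D i + if i = p then 4 else 0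

/-- `-3` at `p`, `1` elsewhere. -/
def neg3 (p : GolayPt) : GolayPt → ℤ := fun i => 1 - if i = p then 4 else 0

/-- `-2` at `p` and `q`, `2` on the rest of `D`. -/
def twosNeg (D : Finset GolayPt) (p q : GolayPt) : GolayPt → ℤ := twos D - four p q 4 4

theorem sum_single_if (p : GolayPt) (b : ℤ) : ∑ i, (if i = p then b else 0) = b := by
  simp [-Fintype.sum_option]

theorem dotInt_twos (D : Finset GolayPt) (x : GolayPt → ℤ) :
    dotInt (twos D) x = 2 * ∑ i ∈ D, x i := by
  simp only [dotInt, twos, bit, Finset.mul_sum]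
  rw [← Finset.sum_filter_add_sum_filter_not Finset.univ (· ∈ D)]
  rw [Finset.sum_eq_zero (s := Finset.univ.filter fun i => i ∉ D) fun i hi => by
    simp at hi; simp [hi], add_zero, Finset.filter_univ_mem]
  exact Finset.sum_congr rfl fun i hi => by simp [hi]

theorem sum_twos (D : Finset GolayPt) : ∑ i, twos D i = 2 * D.card := by
  simp only [twos, ← Finset.mul_sum, sum_bit]

theorem dotInt_twos_twos (D E : Finset GolayPt) :
    dotInt (twos D) (twos E) = 4 * (D ∩ E).card := by
  rw [← sum_bit_mul D E, dotInt, Finset.mul_sum]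
  exact Finset.sum_congr rfl fun i _ => by simp only [twos]; ring

theorem sum_threeVec (D : Finset GolayPt) (p : GolayPt) :
    ∑ i, threeVec D p i = 28 - 2 * (D.card : ℤ) := by
  simp only [threeVec, Finset.sum_add_distrib, Finset.sum_sub_distrib, sum_single_if,
    ← Finset.mul_sum, sum_bit, Finset.sum_const, Finset.card_univ, card_pt, nsmul_eq_mul]
  ring

theorem sum_neg3 (p : GolayPt) : ∑ i, neg3 p i = 20 := by
  simp only [neg3, Finset.sum_sub_distrib, sum_single_if, Finset.sum_const, Finset.card_univ,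
    card_pt, nsmul_eq_mul]
  norm_num

theorem dotInt_twos_threeVec (E D : Finset GolayPt) (p : GolayPt) :
    dotInt (twos E) (threeVec D p) =
      2 * ((E.card : ℤ) - 2 * (E ∩ D).card + if p ∈ E then 4 else 0) := by
  rw [dotInt_twos]
  congr 1
  simp only [threeVec, Finset.sum_add_distrib, Finset.sum_sub_distrib, ← Finset.mul_sum,
    Finset.sum_const, nsmul_eq_mul, mul_one, Finset.sum_ite_eq']
  congr 3
  simp [bit, Finset.sum_ite_mem]

theorem sum_four (i j : GolayPt) (a b : ℤ) : ∑ k, four i j a b k = a + b := by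
  simp [four, Finset.sum_add_distrib, Finset.sum_pi_single', -Fintype.sum_option]

theorem twos_mem {D : Finset GolayPt} (hD : D ∈ octads) :
    twos D ∈ leechLattice ∧ sqNorm (twos D) = 32 := by
  constructor
  · refine mem_lattice_iff.2 ⟨0, D, hD.1, fun i => by simp [twos], ?_⟩
    rw [sum_twos, hD.2]; norm_num
  · rw [← dotInt_self, dotInt_twos_twos, Finset.inter_self, hD.2]; norm_num

theorem threeVec_mem {D : Finset GolayPt} (hD : D ∈ octads) {p : GolayPt} (hp : p ∈ D) :
    threeVec D p ∈ leechLattice ∧ sqNorm (threeVec D p) = 32 := by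
  constructor
  · refine mem_lattice_iff.2 ⟨1, D, hD.1, fun i => ?_, ?_⟩
    · simp only [threeVec]
      by_cases h : i ∈ D <;> simp [bit, h] <;> split_ifs <;> norm_num
    · rw [sum_threeVec, hD.2]; norm_num
  · have e : ∀ i, threeVec D p i ^ 2 = 1 + if i = p then 8 else 0 := fun i => by
      by_cases h : i = p
      · subst h; simp [threeVec, bit, hp]
      · by_cases hi : i ∈ D <;> simp [threeVec, bit, h, hi]
    simp only [sqNorm, e, Finset.sum_add_distrib, sum_single_if, Finset.sum_const,
      Finset.card_univ, card_pt, nsmul_eq_mul]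
    norm_num

theorem neg3_mem (p : GolayPt) : neg3 p ∈ leechLattice ∧ sqNorm (neg3 p) = 32 := by
  constructor
  · refine mem_lattice_iff.2 ⟨1, ∅, empty_mem_code, fun i => ?_, ?_⟩
    · simp only [neg3, bit, Finset.notMem_empty, if_false]
      split_ifs <;> norm_num
    · rw [sum_neg3]; norm_num
  · have e : ∀ i, neg3 p i ^ 2 = 1 + if i = p then 8 else 0 := fun i => by
      by_cases h : i = p <;> simp [neg3, h]
    simp only [sqNorm, e, Finset.sum_add_distrib, sum_single_if, Finset.sum_const,
      Finset.card_univ, card_pt, nsmul_eq_mul]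
    norm_num

theorem twosNeg_mem {D : Finset GolayPt} (hD : D ∈ octads) {p q : GolayPt} (hp : p ∈ D)
    (hq : q ∈ D) (hpq : p ≠ q) :
    twosNeg D p q ∈ leechLattice ∧ sqNorm (twosNeg D p q) = 32 := by
  refine ⟨sub_mem (twos_mem hD).1 (four_spec hpq (Or.inl rfl) (Or.inl rfl)).1, ?_⟩
  rw [twosNeg, sqNorm_sub, (twos_mem hD).2, (four_spec hpq (Or.inl rfl) (Or.inl rfl)).2,
    dotInt_comm, dotInt_four]
  simp [twos, bit, hp, hq]

theorem sum_twosNeg (D : Finset GolayPt) (p q : GolayPt) :
    ∑ i, twosNeg D p q i = 2 * (D.card : ℤ) - 8 := by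
  simp only [twosNeg, Pi.sub_apply, Finset.sum_sub_distrib, sum_twos, sum_four]
  norm_num

end Cfsg.Agent.SporStruct
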