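import Cfsg.Agent.SporStruct.M24Sets
import Cfsg.Agent.SporStruct.SteinerCount

/-!
Counts in the Steiner system of the octads.
-/

set_option autoImplicit false

namespace Cfsg.Agent.SporStruct.M24

open Cfsg Cfsg.Agent.Golay
open scoped Pointwise

theorem card_octadsThrough_mul {s : Finset GolayPt} (hs : s.card ≤ 5) :
    (blocksThrough octads s).card * (8 - s.card).choose (5 - s.card) =
      (24 - s.card).choose (5 - s.card) := by
  have := card_blocksThrough_mul octads_steiner s hs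
  rwa [card_golayPt] at this

theorem card_octadsThrough_three {s : Finset GolayPt} (hs : s.card = 3) :
    (blocksThrough octads s).card = 21 := by
  have := card_octadsThrough_mul (s := s) (by omega)
  rw [hs] at this
  norm_num [Nat.choose] at this
  omega

theorem card_triads_disjoint {T : Finset GolayPt} (hT : T.card = 3) :
    {U : Finset GolayPt | U.card = 3 ∧ Disjoint T U}.ncard = 1330 := by
  have h := card_filter_inter T 0 3
  rw [hT, card_golayPt] at h
  have e : {U : Finset GolayPt | U.card = 3 ∧ Disjoint T U} =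
      {U : Finset GolayPt | U.card = 0 + 3 ∧ (T ∩ U).card = 0} := by
    ext U
    simp [Finset.disjoint_iff_inter_eq_empty]
  rw [e, h]
  rfl

theorem card_triads_in_octad {T : Finset GolayPt} (hT : T.card = 3) :
    {U : Finset GolayPt | U.card = 3 ∧ Disjoint T U ∧ (∃ o ∈ octads, T ∪ U ⊆ o)}.ncard = 210 := by
  have h : {U : Finset GolayPt | U.card = 3 ∧ Disjoint T U ∧ (∃ o ∈ octads, T ∪ U ⊆ o)} =
      ↑((blocksThrough octads T).biUnion fun o => (o \ T).powersetCard 3) := by
    ext U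
    simp only [Finset.coe_biUnion, Set.mem_iUnion, Finset.mem_coe, Finset.mem_powersetCard,
      mem_blocksThrough, Set.mem_ofPred_eq, exists_prop, Finset.subset_sdiff, Finset.union_subset_iff]
    constructor
    · rintro ⟨h1, h2, o, ho, hTo, hUo⟩
      exact ⟨o, ⟨ho, hTo⟩, ⟨hUo, h2.symm⟩, h1⟩
    · rintro ⟨o, ⟨ho, hTo⟩, ⟨hUo, h2⟩, h1⟩
      exact ⟨h1, h2.symm, o, ho, hTo, hUo⟩
  rw [h, Set.ncard_coe_finset, Finset.card_biUnion]
  · rw [Finset.sum_congr rfl (g := fun _ => 10) fun o ho => ?_, Finset.sum_const,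
      card_octadsThrough_three hT, smul_eq_mul]
    rw [mem_blocksThrough] at ho
    rw [Finset.card_powersetCard, Finset.card_sdiff_of_subset ho.2, card_of_mem_octads ho.1, hT]
    rfl
  · intro o ho o' ho' hne
    simp only [Finset.mem_coe, mem_blocksThrough] at ho ho'
    rw [Function.onFun, Finset.disjoint_left]
    intro U hU hU'
    simp only [Finset.mem_powersetCard, Finset.subset_sdiff] at hU hU'
    refine hne (octad_unique ho.1 ho'.1 (s := T ∪ U) ?_ (Finset.union_subset ho.2 hU.1.1)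
      (Finset.union_subset ho'.2 hU'.1.1))
    rw [Finset.card_union_of_disjoint hU.1.2.symm, hT, hU.2]
    norm_num

theorem card_triads_out {T : Finset GolayPt} (hT : T.card = 3) :
    {U : Finset GolayPt | U.card = 3 ∧ Disjoint T U ∧ ¬ (∃ o ∈ octads, T ∪ U ⊆ o)}.ncard = 1120 := by
  have h1 : {U : Finset GolayPt | U.card = 3 ∧ Disjoint T U ∧ ¬ (∃ o ∈ octads, T ∪ U ⊆ o)} =
      {U : Finset GolayPt | U.card = 3 ∧ Disjoint T U} \
      {U : Finset GolayPt | U.card = 3 ∧ Disjoint T U ∧ (∃ o ∈ octads, T ∪ U ⊆ o)} := by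
    ext U
    simp only [Set.mem_ofPred_eq, Set.mem_sdiff]
    exact ⟨fun h => ⟨⟨h.1, h.2.1⟩, fun h' => h.2.2 h'.2.2⟩,
      fun h => ⟨h.1.1, h.1.2, fun h' => h.2 ⟨h.1.1, h.1.2, h'⟩⟩⟩
  have hsub : {U : Finset GolayPt | U.card = 3 ∧ Disjoint T U ∧ (∃ o ∈ octads, T ∪ U ⊆ o)} ⊆
      {U : Finset GolayPt | U.card = 3 ∧ Disjoint T U} := fun U hU => ⟨hU.1, hU.2.1⟩
  rw [h1, Set.ncard_sdiff hsub, card_triads_disjoint hT, card_triads_in_octad hT]

end Cfsg.Agent.SporStruct.M24
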