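import Cfsg.Agent.SporStruct.M24Classes
import Cfsg.Agent.SporStruct.M24Counts

/-!
Choosing octads with a prescribed position relative to a given one.
-/

set_option autoImplicit false

namespace Cfsg.Agent.SporStruct.M24

open Cfsg Cfsg.Agent.Golay
open scoped Pointwise

theorem exists_trace {o s : Finset GolayPt} (ho : o ∈ octads) (hs : s ⊆ o)
    (hc : s.card = 0 ∨ s.card = 4) : ∃ D ∈ octads, o ∩ D = s := by
  have h := ncard_octads_trace_values ho hs
  have hpos : 0 < {o' : Finset GolayPt | o' ∈ octads ∧ o ∩ o' = s}.ncard := by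
    rw [h]; rcases hc with e | e <;> rw [e] <;> decide
  obtain ⟨D, hD1, hD2⟩ := (Set.ncard_pos (Set.toFinite _)).1 hpos
  exact ⟨D, hD1, hD2⟩

/-- An octad meeting `o` in four points, away from two given points of `o`. -/
theorem exists_inter_four {o : Finset GolayPt} (ho : o ∈ octads) {p q : GolayPt} (hp : p ∈ o)
    (hq : q ∈ o) : ∃ D ∈ octads, (o ∩ D).card = 4 ∧ p ∉ D ∧ q ∉ D := by
  obtain ⟨s, hs, hsc⟩ := Finset.exists_subset_card_eq (s := o \ {p, q}) (n := 4) (by
    have h1 := Finset.card_le_two (a := p) (b := q)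
    have h2 := Finset.le_card_sdiff ({p, q} : Finset GolayPt) o
    rw [card_of_mem_octads ho] at h2
    omega)
  obtain ⟨D, hD, hDo⟩ := exists_trace ho (hs.trans Finset.sdiff_subset) (Or.inr hsc)
  refine ⟨D, hD, by rw [hDo, hsc], fun h => ?_, fun h => ?_⟩
  · have hps : p ∈ s := hDo ▸ Finset.mem_inter.2 ⟨hp, h⟩
    simpa using hs hps
  · have hqs : q ∈ s := hDo ▸ Finset.mem_inter.2 ⟨hq, h⟩
    simpa using hs hqs

/-- The complement of the union of two disjoint octads. -/
theorem compl_union_mem {o D : Finset GolayPt} (ho : o ∈ octads) (hD : D ∈ octads)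
    (hd : Disjoint o D) : (o ∪ D)ᶜ ∈ octads := by
  obtain ⟨v, hv, hvo⟩ := ho.1
  obtain ⟨w, hw, hwD⟩ := hD.1
  have hsupp : support₂ (v + w) = o ∪ D := by
    ext p
    rw [← hvo, ← hwD] at hd
    have hdp : ¬ (v p ≠ 0 ∧ w p ≠ 0) := fun h => Finset.disjoint_left.1 hd
      (show p ∈ support₂ v by simp [support₂, h.1]) (show p ∈ support₂ w by simp [support₂, h.2])
    have two : ∀ a b : ZMod 2, ¬ (a ≠ 0 ∧ b ≠ 0) → (a + b ≠ 0 ↔ a ≠ 0 ∨ b ≠ 0) := by decide
    rw [← hvo, ← hwD]
    simpa [support₂] using two _ _ hdp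
  refine ⟨compl_mem_supports ⟨v + w, golayCode.add_mem hv hw, hsupp⟩, ?_⟩
  rw [Finset.card_compl, card_golayPt, Finset.card_union_of_disjoint hd, card_of_mem_octads ho,
    card_of_mem_octads hD]

/-- An octad disjoint from `o` and from an outside point. -/
theorem exists_disjoint {o : Finset GolayPt} (ho : o ∈ octads) {p : GolayPt} (_hp : p ∉ o) :
    ∃ D ∈ octads, Disjoint o D ∧ p ∉ D := by
  obtain ⟨D, hD, hDo⟩ := exists_trace ho (Finset.empty_subset o) (Or.inl Finset.card_empty)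
  have hd : Disjoint o D := Finset.disjoint_iff_inter_eq_empty.2 hDo
  by_cases h : p ∈ D
  · exact ⟨(o ∪ D)ᶜ, compl_union_mem ho hD hd,
      Finset.disjoint_left.2 fun x hx hx' => Finset.mem_compl.1 hx' (Finset.mem_union_left _ hx),
      fun h' => Finset.mem_compl.1 h' (Finset.mem_union_right _ h)⟩
  · exact ⟨D, hD, hd, h⟩

theorem inter_card_four {o D : Finset GolayPt} (ho : o ∈ octads) (hD : D ∈ octads) (hne : D ≠ o)
    (h : 3 ≤ (o ∩ D).card) : (o ∩ D).card = 4 := by
  rcases octad_inter_card ho hD with e | e | e | e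
  · omega
  · omega
  · exact e
  · exact absurd e hne

/-- An octad through two outside points meeting `o` in four points other than `n`. -/
theorem exists_through_two {o : Finset GolayPt} (ho : o ∈ octads) {n a b : GolayPt} (hn : n ∈ o)
    (ha : a ∉ o) (hb : b ∉ o) (hab : a ≠ b) :
    ∃ D ∈ octads, (o ∩ D).card = 4 ∧ n ∉ D ∧ a ∈ D ∧ b ∈ D := by
  obtain ⟨s, hs, hsc⟩ := Finset.exists_subset_card_eq (s := o.erase n) (n := 4)
    (by rw [Finset.card_erase_of_mem hn, card_of_mem_octads ho]; norm_num)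
  have hso : ∀ x ∈ s, x ∈ o ∧ x ≠ n := fun x hx =>
    ⟨Finset.mem_of_mem_erase (hs hx), Finset.ne_of_mem_erase (hs hx)⟩
  obtain ⟨r, hr, t, ht, hrt⟩ := Finset.one_lt_card.1 (by omega : 1 < s.card)
  have key : ∀ x ∈ s, ∃ D ∈ octads, a ∈ D ∧ b ∈ D ∧ s.erase x ⊆ D := fun x hx => by
    have hc : (insert a (insert b (s.erase x))).card = 5 := by
      rw [Finset.card_insert_of_notMem, Finset.card_insert_of_notMem, Finset.card_erase_of_mem hx, hsc]
      · intro h; exact hb (hso b (Finset.mem_of_mem_erase h)).1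
      · simp only [Finset.mem_insert, not_or]
        exact ⟨hab, fun h => ha (hso a (Finset.mem_of_mem_erase h)).1⟩
    obtain ⟨D, hD, hDs⟩ := exists_octad hc
    exact ⟨D, hD, hDs (Finset.mem_insert_self _ _),
      hDs (Finset.mem_insert_of_mem (Finset.mem_insert_self _ _)),
      fun y hy => hDs (Finset.mem_insert_of_mem (Finset.mem_insert_of_mem hy))⟩
  have fin : ∀ x ∈ s, ∀ D ∈ octads, a ∈ D → b ∈ D → s.erase x ⊆ D → n ∉ D →
      ∃ D ∈ octads, (o ∩ D).card = 4 ∧ n ∉ D ∧ a ∈ D ∧ b ∈ D := by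
    intro x hx D hD haD hbD hsD hnD
    refine ⟨D, hD, inter_card_four ho hD (fun e => ha (e ▸ haD)) ?_, hnD, haD, hbD⟩
    have : s.erase x ⊆ o ∩ D := fun y hy =>
      Finset.mem_inter.2 ⟨(hso y (Finset.mem_of_mem_erase hy)).1, hsD hy⟩
    have := Finset.card_le_card this
    rw [Finset.card_erase_of_mem hx, hsc] at this
    exact this
  obtain ⟨D₁, hD₁, a₁, b₁, s₁⟩ := key r hr
  obtain ⟨D₂, hD₂, a₂, b₂, s₂⟩ := key t ht
  by_cases h1 : n ∈ D₁
  swap; · exact fin r hr D₁ hD₁ a₁ b₁ s₁ h1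
  by_cases h2 : n ∈ D₂
  swap; · exact fin t ht D₂ hD₂ a₂ b₂ s₂ h2
  exfalso
  have hc2 : 2 ≤ ((s.erase r).erase t).card := by
    rw [Finset.card_erase_of_mem (Finset.mem_erase.2 ⟨hrt.symm, ht⟩), Finset.card_erase_of_mem hr,
      hsc]
  obtain ⟨u, hu, hu2⟩ := Finset.exists_subset_card_eq hc2
  have hu' : ∀ x ∈ u, x ∈ s.erase r ∧ x ∈ s.erase t := fun x hx => by
    obtain ⟨h1, h2⟩ := Finset.mem_erase.1 (hu hx)
    exact ⟨h2, Finset.mem_erase.2 ⟨h1, Finset.mem_of_mem_erase h2⟩⟩
  have hcard : 5 ≤ (insert n (insert a (insert b u))).card := by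
    rw [Finset.card_insert_of_notMem, Finset.card_insert_of_notMem, Finset.card_insert_of_notMem, hu2]
    · intro h; exact hb (hso b (Finset.mem_of_mem_erase (hu' b h).1)).1
    · simp only [Finset.mem_insert, not_or]
      exact ⟨hab, fun h => ha (hso a (Finset.mem_of_mem_erase (hu' a h).1)).1⟩
    · simp only [Finset.mem_insert, not_or]
      exact ⟨fun e => ha (e ▸ hn), fun e => hb (e ▸ hn),
        fun h => (hso n (Finset.mem_of_mem_erase (hu' n h).1)).2 rfl⟩
  have hsubs : ∀ D : Finset GolayPt, n ∈ D → a ∈ D → b ∈ D → (∀ x ∈ u, x ∈ D) →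
      insert n (insert a (insert b u)) ⊆ D := by
    intro D x1 x2 x3 x4 y hy
    simp only [Finset.mem_insert] at hy
    rcases hy with rfl | rfl | rfl | hy
    exacts [x1, x2, x3, x4 y hy]
  have e := octad_unique hD₁ hD₂ hcard (hsubs _ h1 a₁ b₁ fun x hx => s₁ (hu' x hx).1)
    (hsubs _ h2 a₂ b₂ fun x hx => s₂ (hu' x hx).2)
  subst e
  have hsD : insert n s ⊆ o ∩ D₁ := by
    intro y hy
    rw [Finset.mem_insert] at hy
    rcases hy with rfl | hy
    · exact Finset.mem_inter.2 ⟨hn, h1⟩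
    · refine Finset.mem_inter.2 ⟨(hso y hy).1, ?_⟩
      by_cases hyr : y = r
      · subst hyr; exact s₂ (Finset.mem_erase.2 ⟨hrt, hy⟩)
      · exact s₁ (Finset.mem_erase.2 ⟨hyr, hy⟩)
  have h5 := Finset.card_le_card hsD
  rw [Finset.card_insert_of_notMem (fun h => (hso n h).2 rfl), hsc] at h5
  have := inter_card_four ho hD₁ (fun e => ha (e ▸ a₁)) (by omega)
  omega

/-- An octad through an outside point and two points of `o`, meeting `o` in four points, and a
further outside point of it. -/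
theorem exists_through_three {o : Finset GolayPt} (ho : o ∈ octads) {n b a : GolayPt} (hn : n ∈ o)
    (hb : b ∈ o) (hnb : n ≠ b) (ha : a ∉ o) :
    ∃ D ∈ octads, (o ∩ D).card = 4 ∧ n ∈ D ∧ b ∈ D ∧ a ∈ D ∧ ∃ k ∈ D, k ∉ o ∧ k ≠ a := by
  obtain ⟨u, hu, hu2⟩ := Finset.exists_subset_card_eq (s := (o.erase n).erase b) (n := 2) (by
    rw [Finset.card_erase_of_mem (Finset.mem_erase.2 ⟨hnb.symm, hb⟩), Finset.card_erase_of_mem hn,
      card_of_mem_octads ho]
    norm_num)
  have hu' : ∀ x ∈ u, x ∈ o ∧ x ≠ n ∧ x ≠ b := fun x hx => by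
    obtain ⟨h1, h2⟩ := Finset.mem_erase.1 (hu hx)
    exact ⟨Finset.mem_of_mem_erase h2, Finset.ne_of_mem_erase h2, h1⟩
  have hc : (insert a (insert n (insert b u))).card = 5 := by
    rw [Finset.card_insert_of_notMem, Finset.card_insert_of_notMem, Finset.card_insert_of_notMem, hu2]
    · exact fun h => (hu' b h).2.2 rfl
    · simp only [Finset.mem_insert, not_or]; exact ⟨hnb, fun h => (hu' n h).2.1 rfl⟩
    · simp only [Finset.mem_insert, not_or]
      exact ⟨fun e => ha (e.symm ▸ hn), fun e => ha (e.symm ▸ hb), fun h => ha (hu' a h).1⟩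
  obtain ⟨D, hD, hDs⟩ := exists_octad hc
  have haD : a ∈ D := hDs (Finset.mem_insert_self _ _)
  have hnD : n ∈ D := hDs (Finset.mem_insert_of_mem (Finset.mem_insert_self _ _))
  have hbD : b ∈ D :=
    hDs (Finset.mem_insert_of_mem (Finset.mem_insert_of_mem (Finset.mem_insert_self _ _)))
  have h3 : 3 ≤ (o ∩ D).card := by
    have hsub : insert n (insert b u) ⊆ o ∩ D := fun y hy => by
      refine Finset.mem_inter.2 ⟨?_, hDs (Finset.mem_insert_of_mem hy)⟩
      simp only [Finset.mem_insert] at hy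
      rcases hy with rfl | rfl | hy
      exacts [hn, hb, (hu' y hy).1]
    have := Finset.card_le_card hsub
    rw [Finset.card_insert_of_notMem, Finset.card_insert_of_notMem, hu2] at this
    · omega
    · exact fun h => (hu' b h).2.2 rfl
    · simp only [Finset.mem_insert, not_or]; exact ⟨hnb, fun h => (hu' n h).2.1 rfl⟩
  have h4 := inter_card_four ho hD (fun e => ha (e ▸ haD)) h3
  obtain ⟨k, hk, hka⟩ := Finset.exists_mem_ne (s := D \ o) (by
    have := Finset.card_sdiff_add_card_inter D o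
    rw [Finset.inter_comm, card_of_mem_octads hD] at this
    omega) a
  rw [Finset.mem_sdiff] at hk
  exact ⟨D, hD, h4, hnD, hbD, haD, k, hk.1, hk.2, hka⟩

end Cfsg.Agent.SporStruct.M24
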