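import Cfsg.Agent.SporStruct.LeechCensus
import Cfsg.Agent.SporStruct.LeechVec
import Cfsg.Agent.SporStruct.OctadPick
import Cfsg.Agent.SporStruct.OctadTriangle
import Cfsg.Agent.Lib.Leech.Normalisers
import Cfsg.Agent.Lib.Leech.ShapeCounts

/-!
The monomial group is a maximal subgroup of Co0: the three shapes of minimal vectors, the
neighbours of a vector of shape four, and the congruence from the group of order 23.
-/

set_option autoImplicit false

namespace Cfsg.Agent.SporStruct.CrossMax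

open Cfsg Cfsg.Agent.Leech
open scoped Pointwise

/-- The element preserves the standard cross. -/
def Pres (g : Co0) : Prop :=
  ∀ v : leechLattice, (v : GolayPt → ℤ) ∈ stdCross → ((g • v : leechLattice) : GolayPt → ℤ) ∈ stdCross

theorem pres_of_frame {g : Co0} {j : GolayPt}
    (h : ((g • frame j : leechLattice) : GolayPt → ℤ) ∈ stdCross) : Pres g := by
  intro v hv
  rw [← stdCross_eq_class] at hv h ⊢
  have hj : (frame j : GolayPt → ℤ) ∈
      {y | y ∈ leechLattice ∧ sqNorm y = 64 ∧ Cong (frame none : GolayPt → ℤ) y} := by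
    rw [stdCross_eq_class]; exact mem_stdCross_frame j
  exact ⟨SetLike.coe_mem _, (sqNorm_smul g v).trans hv.2.1,
    h.2.2.trans (cong_smul g (hj.2.2.symm.trans hv.2.2))⟩

theorem pres_mono (σ : M24) {c : Finset GolayPt} (hc : c ∈ code) : Pres (mono σ hc) :=
  fun v hv => mono_stdCross σ hc v hv

/-! ### The three shapes -/

/-- Minimal vectors of shape `S`. -/
def shapeSet (S : (GolayPt → ℤ) → Prop) : Set leechLattice :=
  {x | sqNorm (x : GolayPt → ℤ) = 32 ∧ S (x : GolayPt → ℤ)}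

theorem ncard_shapeSet (S : (GolayPt → ℤ) → Prop) (P : ℤ → Bool)
    (h1 : ∀ x, S x → ∀ i, P (x i) = true)
    (h2 : ∀ x ∈ leechLattice, sqNorm x = 32 → (∀ i, P (x i) = true) → S x) :
    (shapeSet S).ncard = countP P 32 := by
  rw [countP, shapeSet, ncard_lattice_set (fun x => sqNorm x = 32 ∧ S x),
    ← ncard_shellP P 32 (by norm_num) code_weights Golay.ncard_octads Golay.ncard_dodecads]
  congr 1
  ext x
  simp only [shellP, Set.mem_setOf_eq]
  exact ⟨fun ⟨hx, hn, hS⟩ => ⟨hx, hn, h1 x hS⟩, fun ⟨hx, hn, hP⟩ => ⟨hx, hn, h2 x hx hn hP⟩⟩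

theorem count_32 :
    countP (fun z => z == 0 || z == 4 || z == -4) 32 = 1104 ∧
    countP (fun z => z == 0 || z == 2 || z == -2) 32 = 97152 ∧
    countP (fun z => z == 1 || z == -1 || z == 3 || z == -3) 32 = 98304 := by
  refine ⟨?_, ?_, ?_⟩ <;> decide +kernel

theorem octad_nonempty {o : Finset GolayPt} (ho : o ∈ octads) : ∃ i, i ∈ o :=
  Finset.card_pos.1 (by rw [ho.2]; norm_num)

theorem ncard_shape4 : (shapeSet Shape4).ncard = 1104 := by
  rw [← count_32.1]
  refine ncard_shapeSet _ _ ?_ ?_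
  · rintro x ⟨a, b, _, ha, hb, h0⟩ i
    by_cases h : i = a
    · subst h; rcases ha with e | e <;> simp [e]
    by_cases h' : i = b
    · subst h'; rcases hb with e | e <;> simp [e]
    simp [h0 i h h']
  · intro x hx hn hP
    rcases shape32 hx hn with h | ⟨o, ho, h2, _⟩ | ⟨a, ha, _⟩
    · exact h
    · obtain ⟨i, hi⟩ := octad_nonempty ho
      have := hP i
      rcases h2 i hi with e | e <;> simp [e] at this
    · have := hP a
      rcases ha with e | e <;> simp [e] at this

theorem ncard_shape2 : (shapeSet Shape2).ncard = 97152 := by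
  rw [← count_32.2.1]
  refine ncard_shapeSet _ _ ?_ ?_
  · rintro x ⟨o, _, h2, h0⟩ i
    by_cases h : i ∈ o
    · rcases h2 i h with e | e <;> simp [e]
    · simp [h0 i h]
  · intro x hx hn hP
    rcases shape32 hx hn with ⟨a, b, _, ha, _, _⟩ | h | ⟨a, ha, _⟩
    · have := hP a
      rcases ha with e | e <;> simp [e] at this
    · exact h
    · have := hP a
      rcases ha with e | e <;> simp [e] at this

theorem ncard_shape3 : (shapeSet Shape3).ncard = 98304 := by
  rw [← count_32.2.2]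
  refine ncard_shapeSet _ _ ?_ ?_
  · rintro x ⟨a, ha, h1⟩ i
    by_cases h : i = a
    · subst h; rcases ha with e | e <;> simp [e]
    · rcases h1 i h with e | e <;> simp [e]
  · intro x hx hn hP
    rcases shape32 hx hn with ⟨a, b, _, ha, _, _⟩ | ⟨o, ho, h2, _⟩ | h
    · have := hP a
      rcases ha with e | e <;> simp [e] at this
    · obtain ⟨i, hi⟩ := octad_nonempty ho
      have := hP i
      rcases h2 i hi with e | e <;> simp [e] at this
    · exact h

/-! ### Moves -/

theorem pairBase_four {a b : GolayPt}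
    (h : (a = none ∧ b = some 0) ∨ (a = some 0 ∧ b = none)) :
    (std32 : GolayPt → ℤ) = four a b 4 4 := by
  rw [coe_std32]
  rcases h with ⟨rfl, rfl⟩ | ⟨rfl, rfl⟩
  · rfl
  · rw [four, four, add_comm]

/-- An element carrying `a`, `b` to the special pair without signs there fixes `std32`. -/
theorem mono_fix_std32 {σ : M24} {c : Finset GolayPt} (hc : c ∈ code) {a b a' b' : GolayPt}
    (hp : (a = none ∧ b = some 0) ∨ (a = some 0 ∧ b = none))
    (hp' : (a' = none ∧ b' = some 0) ∨ (a' = some 0 ∧ b' = none))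
    (ha : σ.1 a = a') (hb : σ.1 b = b') (hca : a' ∉ c) (hcb : b' ∉ c) :
    mono σ hc • std32 = std32 := by
  apply Subtype.ext
  rw [coe_mono_smul, pairBase_four hp, signedPerm_four, ha, hb, if_neg hca, if_neg hcb,
    ← pairBase_four hp, pairBase_four hp']

theorem shape4_form {x : leechLattice} (hx : x ∈ shapeSet Shape4) :
    ∃ a b : GolayPt, ∃ s t : ℤ, a ≠ b ∧ (s = 4 ∨ s = -4) ∧ (t = 4 ∨ t = -4) ∧
      (x : GolayPt → ℤ) = four a b s t := by
  obtain ⟨hn, a, b, hab, ha, hb, h0⟩ := hx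
  obtain ⟨j, hj, hjv, e⟩ := coord_four_any x.2 hn ha
  exact ⟨a, j, _, _, hj.symm, ha, hjv, e⟩

theorem shape4_move {x : leechLattice} (hx : x ∈ shapeSet Shape4) :
    ∃ h : Co0, Pres h ∧ h • x = std32 := by
  classical
  obtain ⟨a, b, s, t, hab, hs, ht, e⟩ := shape4_form hx
  obtain ⟨σ, c, hc, hmap, hneg⟩ := M24.exists_mono_list (A := [a, b]) (A' := [none, some 0])
    (by simp [hab]) (by simp) rfl (by simp)
    (fun p => (p = none ∧ s = -4) ∨ (p = some 0 ∧ t = -4))
  simp only [List.map_cons, List.map_nil, List.cons.injEq, and_true] at hmap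
  have hn : (none : GolayPt) ∈ c ↔ s = -4 := by simpa using hneg none (by simp)
  have h0 : (some 0 : GolayPt) ∈ c ↔ t = -4 := by simpa using hneg (some 0) (by simp)
  refine ⟨mono σ hc, pres_mono σ hc, Subtype.ext ?_⟩
  rw [coe_mono_smul, e, signedPerm_four, hmap.1, hmap.2, coe_std32]
  congr 1
  · by_cases h : s = -4
    · rw [if_pos (hn.2 h)]; omega
    · rw [if_neg (fun q => h (hn.1 q))]; omega
  · by_cases h : t = -4
    · rw [if_pos (h0.2 h)]; omega
    · rw [if_neg (fun q => h (h0.1 q))]; omega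

theorem shape4_smul {h : Co0} (hh : Pres h) {x : leechLattice} (hx : x ∈ shapeSet Shape4) :
    h • x ∈ shapeSet Shape4 := by
  obtain ⟨a, b, s, t, hab, hs, ht, e⟩ := shape4_form hx
  obtain ⟨σ, c, hc, rfl⟩ := exists_eq_mono hh
  refine ⟨(sqNorm_smul _ x).trans hx.1, σ.1 a, σ.1 b, σ.1.injective.ne hab, ?_, ?_, ?_⟩
  all_goals rw [coe_mono_smul, e, signedPerm_four]
  · rw [four_apply_left (σ.1.injective.ne hab)]; split_ifs <;> omega
  · rw [four_apply_right (σ.1.injective.ne hab)]; split_ifs <;> omega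
  · intro i hi hi'
    simp [four, hi, hi']

theorem exists_code_inter {o N : Finset GolayPt} (ho : o ∈ octads) (hN : N ⊆ o)
    (he : Even N.card) : ∃ c ∈ code, o ∩ c = N := by
  have small : ∀ M ⊆ o, M.card = 2 ∨ M.card = 4 → ∃ D ∈ octads, o ∩ D = M := by
    intro M hM hc
    have h := M24.ncard_octads_trace_values ho hM
    have hpos : 0 < {o' : Finset GolayPt | o' ∈ octads ∧ o ∩ o' = M}.ncard := by
      rw [h]; rcases hc with e | e <;> rw [e] <;> decide
    obtain ⟨D, hD1, hD2⟩ := (Set.ncard_pos (Set.toFinite _)).1 hpos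
    exact ⟨D, hD1, hD2⟩
  have h8 := (Finset.card_le_card hN).trans ho.2.le
  obtain ⟨k, hk⟩ := he
  rcases (show N.card = 0 ∨ (N.card = 2 ∨ N.card = 4) ∨ N.card = 6 ∨ N.card = 8 by omega) with
    e | e | e | e
  · exact ⟨∅, empty_mem_code, by rw [Finset.card_eq_zero.1 e, Finset.inter_empty]⟩
  · obtain ⟨D, hD, hDo⟩ := small N hN e
    exact ⟨D, hD.1, hDo⟩
  · obtain ⟨D, hD, hDo⟩ := small (o \ N) Finset.sdiff_subset
      (Or.inl (by rw [Finset.card_sdiff_of_subset hN, ho.2, e]))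
    refine ⟨Dᶜ, compl_mem_code hD.1, ?_⟩
    ext i
    simp only [Finset.mem_inter, Finset.mem_compl]
    have h := Finset.ext_iff.1 hDo i
    simp only [Finset.mem_inter, Finset.mem_sdiff] at h
    have := @hN i
    tauto
  · exact ⟨o, ho.1, by rw [Finset.inter_self]; exact (Finset.eq_of_subset_of_card_le hN (by rw [ho.2, e])).symm⟩

theorem octad_move {o o' : Finset GolayPt} (ho : o ∈ octads) (ho' : o' ∈ octads)
    {P P' : Finset GolayPt} (hP : P ⊆ o) (hP' : P' ⊆ o') (hc : P.card = P'.card) (h5 : P.card ≤ 5) :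
    ∃ σ ∈ M24, σ • P = P' ∧ σ • o = o' := by
  obtain ⟨t, ht, htc⟩ := Finset.exists_subset_card_eq (s := o \ P) (n := 5 - P.card)
    (by rw [Finset.card_sdiff_of_subset hP, ho.2]; omega)
  obtain ⟨t', ht', htc'⟩ := Finset.exists_subset_card_eq (s := o' \ P') (n := 5 - P.card)
    (by rw [Finset.card_sdiff_of_subset hP', ho'.2]; omega)
  obtain ⟨σ, hσ, hσP, hσt⟩ := M24.exists_map_disjoint (s := P) (t := t) (s' := P') (t' := t')
    (Finset.disjoint_of_subset_right ht Finset.disjoint_sdiff)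
    (Finset.disjoint_of_subset_right ht' Finset.disjoint_sdiff) hc (htc.trans htc'.symm) (by omega)
  refine ⟨σ, hσ, hσP, Golay.octad_unique (Golay.smul_mem_octads hσ ho) ho' (s := P' ∪ t') ?_ ?_ ?_⟩
  · rw [Finset.card_union_of_disjoint (Finset.disjoint_of_subset_right ht' Finset.disjoint_sdiff)]
    omega
  · rw [← hσP, ← hσt, ← Finset.smul_finset_union]
    exact Finset.smul_finset_subset_smul_finset
      (Finset.union_subset hP (ht.trans Finset.sdiff_subset))
  · exact Finset.union_subset hP' (ht'.trans Finset.sdiff_subset)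

/-- Two vectors `±2` on octads differ by a monomial map respecting given subsets on which both
take equal values. -/
theorem shape2_move {x y : leechLattice} {o o' : Finset GolayPt} (ho : o ∈ octads)
    (ho' : o' ∈ octads) (hx : ∀ i ∈ o, (x : GolayPt → ℤ) i = 2 ∨ (x : GolayPt → ℤ) i = -2)
    (hx0 : ∀ i, i ∉ o → (x : GolayPt → ℤ) i = 0)
    (hy : ∀ i ∈ o', (y : GolayPt → ℤ) i = 2 ∨ (y : GolayPt → ℤ) i = -2)
    (hy0 : ∀ i, i ∉ o' → (y : GolayPt → ℤ) i = 0)
    {P P' : Finset GolayPt} (hP : P ⊆ o) (hP' : P' ⊆ o') (hc : P.card = P'.card)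
    (h5 : P.card ≤ 5) (hval : ∀ i ∈ P, ∀ j ∈ P', (x : GolayPt → ℤ) i = (y : GolayPt → ℤ) j) :
    ∃ (σ : M24) (c : Finset GolayPt) (hc : c ∈ code),
      σ.1 • P = P' ∧ (∀ j ∈ P', j ∉ c) ∧ mono σ hc • x = y := by
  classical
  obtain ⟨σ, hσ, hσP, hσo⟩ := octad_move ho ho' hP hP' hc h5
  set w : leechLattice := mono ⟨σ, hσ⟩ empty_mem_code • x with hw
  have hwi : ∀ i, (w : GolayPt → ℤ) i = (x : GolayPt → ℤ) (σ.symm i) := fun i => by
    rw [hw, coe_mono_smul]; simp [signedPerm]
  have hmem : ∀ i, i ∈ o' ↔ σ.symm i ∈ o := fun i => by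
    rw [← hσo]
    exact Finset.mem_smul_finset.trans
      ⟨fun ⟨b, hb, e⟩ => by rw [← e]; simpa using hb, fun hi => ⟨_, hi, by simp⟩⟩
  have hw2 : ∀ i ∈ o', (w : GolayPt → ℤ) i = 2 ∨ (w : GolayPt → ℤ) i = -2 := fun i hi => by
    rw [hwi]; exact hx _ ((hmem i).1 hi)
  have hw0 : ∀ i, i ∉ o' → (w : GolayPt → ℤ) i = 0 := fun i hi => by
    rw [hwi]; exact hx0 _ fun h => hi ((hmem i).2 h)
  set N := o'.filter fun i => (w : GolayPt → ℤ) i ≠ (y : GolayPt → ℤ) i with hN
  have heven : Even N.card := by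
    set z : GolayPt → ℤ := (w : GolayPt → ℤ) - (y : GolayPt → ℤ) with hz
    have hzN : ∀ i, i ∉ N → z i = 0 := fun i hi => by
      by_cases h : i ∈ o'
      · have : (w : GolayPt → ℤ) i = (y : GolayPt → ℤ) i := by
          by_contra hh; exact hi (Finset.mem_filter.2 ⟨h, hh⟩)
        simp [hz, this]
      · simp [hz, hw0 i h, hy0 i h]
    have hz4 : ∀ i ∈ N, z i = 4 ∨ z i = -4 := fun i hi => by
      obtain ⟨h, hne⟩ := Finset.mem_filter.1 hi
      have := hw2 i h; have := hy i h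
      simp only [hz, Pi.sub_apply]
      omega
    have hn4 : (4 : ℤ) ∣ z none * 2 := by
      by_cases h : (none : GolayPt) ∈ N
      · rcases hz4 none h with e | e <;> rw [e] <;> norm_num
      · rw [hzN none h]; norm_num
    have h8 : (8 : ℤ) ∣ ∑ i, z i - 4 * z none := by
      have h := eight_dvd_dotInt vecA.2 (sub_mem w.2 y.2)
      have e : dotInt (vecA : GolayPt → ℤ) z = ∑ i, z i - 4 * z none := by
        have : ∀ i, (vecA : GolayPt → ℤ) i * z i = z i - if i = none then 4 * z i else 0 := fun i => by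
          rw [coe_vecA]; split_ifs <;> ring
        simp [dotInt, this, Finset.sum_sub_distrib, -Fintype.sum_option]
      rwa [e] at h
    have h2 : (8 : ℤ) ∣ ∑ i ∈ N, (z i - 4) := Finset.dvd_sum fun i hi => by
      rcases hz4 i hi with e | e <;> rw [e] <;> norm_num
    rw [Finset.sum_sub_distrib, Finset.sum_const, nsmul_eq_mul] at h2
    rw [← Finset.sum_subset (Finset.subset_univ N) fun i _ hi => hzN i hi] at h8
    exact even_iff_two_dvd.2 (by omega)
  obtain ⟨c, hcc, hco⟩ := exists_code_inter ho' (Finset.filter_subset _ _) heven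
  refine ⟨⟨σ, hσ⟩, c, hcc, hσP, fun j hj hjc => ?_, Subtype.ext (funext fun i => ?_)⟩
  · have hjo := hP' hj
    have hjN : j ∈ N := by rw [hN, ← hco]; exact Finset.mem_inter.2 ⟨hjo, hjc⟩
    obtain ⟨-, hne⟩ := Finset.mem_filter.1 hjN
    apply hne
    rw [hwi]
    refine hval _ ?_ j hj
    rw [← hσP] at hj
    obtain ⟨k, hk, rfl⟩ := Finset.mem_smul_finset.1 hj
    simpa using hk
  · rw [coe_mono_smul]
    show (if i ∈ c then -(x : GolayPt → ℤ) (σ.symm i) else (x : GolayPt → ℤ) (σ.symm i)) = _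
    rw [← hwi]
    by_cases h : i ∈ o'
    · have h1 := Finset.ext_iff.1 hco i
      simp only [Finset.mem_inter, h, true_and, hN, Finset.mem_filter] at h1
      have := hw2 i h; have := hy i h
      split_ifs with hic
      · have := h1.1 hic; omega
      · have : ¬ (w : GolayPt → ℤ) i ≠ (y : GolayPt → ℤ) i := fun q => hic (h1.2 q)
        omega
    · rw [hw0 i h, hy0 i h]; simp

theorem flip_apply (c : Finset GolayPt) (x : GolayPt → ℤ) (i : GolayPt) :
    signedPerm 1 c x i = if i ∈ c then -x i else x i := rfl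

theorem neg3_self (a : GolayPt) : neg3 a a = -3 := by simp [neg3]

theorem neg3_ne {a i : GolayPt} (h : i ≠ a) : neg3 a i = 1 := by simp [neg3, h]

theorem shape3_form {x : leechLattice} (hx : x ∈ shapeSet Shape3) :
    ∃ a : GolayPt, ∃ c ∈ code, (x : GolayPt → ℤ) = signedPerm 1 c (neg3 a) := by
  classical
  obtain ⟨hn, a, ha, h1⟩ := hx
  obtain ⟨m, hm, c, hc, h4, -⟩ := exists_normal_form x.2
  refine ⟨a, c, hc, funext fun i => ?_⟩
  have h := h4 i
  have hA := h4 a
  rw [flip_apply]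
  simp only [bit] at h hA
  by_cases hia : i = a
  · subst hia
    rw [neg3_self]
    rcases hm with rfl | rfl <;> split_ifs at h ⊢ <;> omega
  · have := h1 i hia
    rw [neg3_ne hia]
    rcases hm with rfl | rfl <;> split_ifs at h ⊢ <;> omega

theorem coe_flip_smul {c : Finset GolayPt} (hc : c ∈ code) (x : leechLattice) :
    ((mono 1 hc • x : leechLattice) : GolayPt → ℤ) = signedPerm 1 c (x : GolayPt → ℤ) := rfl

theorem flip_flip (c : Finset GolayPt) (x : GolayPt → ℤ) :
    signedPerm 1 c (signedPerm 1 c x) = x := by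
  rw [signedPerm_comp, one_smul, symmDiff_self, one_mul]; exact signedPerm_one_empty _

theorem neg3_perm (σ : Equiv.Perm GolayPt) (a : GolayPt) :
    signedPerm σ ∅ (neg3 a) = neg3 (σ a) := by
  funext i
  simp [signedPerm, neg3, Equiv.symm_apply_eq]

/-- The map between two vectors of shape three. -/
theorem shape3_map {x y : leechLattice} {a a' : GolayPt} {c c' : Finset GolayPt} (hc : c ∈ code)
    (hc' : c' ∈ code) (ex : (x : GolayPt → ℤ) = signedPerm 1 c (neg3 a))
    (ey : (y : GolayPt → ℤ) = signedPerm 1 c' (neg3 a')) (σ : M24) (hσ : σ.1 a = a') :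
    (mono 1 hc' * (mono σ empty_mem_code * mono 1 hc)) • x = y := by
  apply Subtype.ext
  rw [mul_smul, mul_smul, coe_flip_smul, coe_mono_smul, coe_flip_smul, ex, flip_flip, neg3_perm,
    hσ, ey]

theorem pres_mul {g h : Co0} (hg : Pres g) (hh : Pres h) : Pres (g * h) := fun v hv => by
  rw [mul_smul]; exact hg _ (hh v hv)

theorem shape3_move {x y : leechLattice} (hx : x ∈ shapeSet Shape3) (hy : y ∈ shapeSet Shape3) :
    ∃ h : Co0, Pres h ∧ h • x = y := by
  obtain ⟨a, c, hc, ex⟩ := shape3_form hx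
  obtain ⟨a', c', hc', ey⟩ := shape3_form hy
  obtain ⟨σ, hσ, e⟩ := Golay.exists_map_one a
  obtain ⟨τ, hτ, e'⟩ := Golay.exists_map_one a'
  refine ⟨_, pres_mul (pres_mono 1 hc') (pres_mul (pres_mono _ empty_mem_code) (pres_mono 1 hc)),
    shape3_map hc hc' ex ey ⟨τ * σ⁻¹, M24.mul_mem hτ (M24.inv_mem hσ)⟩ ?_⟩
  show τ (σ⁻¹ a) = a'
  rw [← e, Equiv.Perm.inv_def, Equiv.symm_apply_apply, e']

theorem shape2_move' {x y : leechLattice} (hx : x ∈ shapeSet Shape2) (hy : y ∈ shapeSet Shape2) :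
    ∃ h : Co0, Pres h ∧ h • x = y := by
  obtain ⟨-, o, ho, hx2, hx0⟩ := hx
  obtain ⟨-, o', ho', hy2, hy0⟩ := hy
  obtain ⟨σ, c, hc, -, -, e⟩ := shape2_move ho ho' hx2 hx0 hy2 hy0 (P := ∅) (P' := ∅)
    (Finset.empty_subset _) (Finset.empty_subset _) rfl (by simp) (by simp)
  exact ⟨_, pres_mono σ hc, e⟩

/-! ### The neighbours of `std32` -/

/-- Minimal vectors of shape `S` with product `-16` with `std32`. -/
def nbr (S : (GolayPt → ℤ) → Prop) : Set leechLattice :=
  {x | x ∈ shapeSet S ∧ dotInt (std32 : GolayPt → ℤ) (x : GolayPt → ℤ) = -16}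

theorem pair_sum {S : (GolayPt → ℤ) → Prop} {x : leechLattice} (hx : x ∈ nbr S) :
    (x : GolayPt → ℤ) none + (x : GolayPt → ℤ) (some 0) = -4 := by
  have := hx.2
  rw [dot_std32'] at this
  omega

theorem nbr4_form {x : leechLattice} (hx : x ∈ nbr Shape4) :
    ∃ a b m : GolayPt, ∃ e : ℤ, ((a = none ∧ b = some 0) ∨ (a = some 0 ∧ b = none)) ∧
      m ≠ none ∧ m ≠ some 0 ∧ (e = 4 ∨ e = -4) ∧ (x : GolayPt → ℤ) = four a m (-4) e := by
  obtain ⟨hn, p, q, hpq, hp, hq, h0⟩ := hx.1
  have vals : ∀ i, (x : GolayPt → ℤ) i = 0 ∨ (x : GolayPt → ℤ) i = 4 ∨ (x : GolayPt → ℤ) i = -4 :=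
    fun i => by
      by_cases h1 : i = p
      · subst h1; omega
      · by_cases h2 : i = q
        · subst h2; omega
        · exact Or.inl (h0 i h1 h2)
  have hs := pair_sum hx
  have := vals none; have := vals (some 0)
  have key : ∀ a b : GolayPt, (x : GolayPt → ℤ) a = -4 → (x : GolayPt → ℤ) b = 0 →
      ∃ m, m ≠ a ∧ m ≠ b ∧ ∃ e : ℤ, (e = 4 ∨ e = -4) ∧ (x : GolayPt → ℤ) = four a m (-4) e := by
    intro a b ha hb
    obtain ⟨j, hj, hjv, e⟩ := coord_four_any x.2 hn (p := a) (Or.inr ha)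
    exact ⟨j, hj, fun h => by subst h; omega, _, hjv, by rw [← ha]; exact e⟩
  rcases (by omega : ((x : GolayPt → ℤ) none = -4 ∧ (x : GolayPt → ℤ) (some 0) = 0) ∨
      ((x : GolayPt → ℤ) (some 0) = -4 ∧ (x : GolayPt → ℤ) none = 0)) with ⟨h1, h2⟩ | ⟨h1, h2⟩
  · obtain ⟨m, m1, m2, e, he, h⟩ := key _ _ h1 h2
    exact ⟨_, _, m, e, Or.inl ⟨rfl, rfl⟩, m1, m2, he, h⟩
  · obtain ⟨m, m1, m2, e, he, h⟩ := key _ _ h1 h2
    exact ⟨_, _, m, e, Or.inr ⟨rfl, rfl⟩, m2, m1, he, h⟩

/-- A monomial map fixing `std32`. -/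
def PresFix (h : Co0) : Prop := Pres h ∧ h • std32 = std32

theorem nbr4_move {x y : leechLattice} (hx : x ∈ nbr Shape4) (hy : y ∈ nbr Shape4) :
    ∃ h : Co0, PresFix h ∧ h • x = y := by
  classical
  obtain ⟨a, b, m, e, hp, m1, m2, he, ex⟩ := nbr4_form hx
  obtain ⟨a', b', m', e', hp', m1', m2', he', ey⟩ := nbr4_form hy
  have hab : a ≠ b ∧ a ≠ m ∧ b ≠ m := by
    rcases hp with ⟨rfl, rfl⟩ | ⟨rfl, rfl⟩ <;> exact ⟨by simp, by tauto, by tauto⟩
  have hab' : a' ≠ b' ∧ a' ≠ m' ∧ b' ≠ m' := by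
    rcases hp' with ⟨rfl, rfl⟩ | ⟨rfl, rfl⟩ <;> exact ⟨by simp, by tauto, by tauto⟩
  obtain ⟨σ, c, hc, hmap, hneg⟩ := M24.exists_mono_list (A := [a, b, m]) (A' := [a', b', m'])
    (by simp [hab]) (by simp [hab']) rfl (by simp) (fun p => p = m' ∧ e ≠ e')
  simp only [List.map_cons, List.map_nil, List.cons.injEq, and_true] at hmap
  have ha : a' ∉ c := fun h => hab'.2.1 ((hneg a' (by simp)).1 h).1
  have hb : b' ∉ c := fun h => hab'.2.2 ((hneg b' (by simp)).1 h).1
  have hm : m' ∈ c ↔ e ≠ e' := by simpa using hneg m' (by simp)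
  refine ⟨mono σ hc, ⟨pres_mono σ hc, mono_fix_std32 hc hp hp' hmap.1 hmap.2.1 ha hb⟩,
    Subtype.ext ?_⟩
  rw [coe_mono_smul, ex, ey, signedPerm_four, hmap.1, hmap.2.2, if_neg ha]
  by_cases h : e = e'
  · rw [if_neg (fun q => hm.1 q h), h]
  · rw [if_pos (hm.2 h), show -e = e' by omega]

theorem ncard_nbr4 : (nbr Shape4).ncard ≤ 88 := by
  classical
  set T : Finset (GolayPt → ℤ) := ((({none, some 0} : Finset GolayPt) ×ˢ
      ((({none, some 0} : Finset GolayPt))ᶜ ×ˢ ({4, -4} : Finset ℤ)))).image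
    (fun p => four p.1 p.2.1 (-4) p.2.2) with hT
  have hcard : T.card ≤ 88 := by
    refine le_trans Finset.card_image_le ?_
    rw [Finset.card_product, Finset.card_product, Finset.card_compl, Golay.card_golayPt,
      Finset.card_pair (by simp), Finset.card_pair (by norm_num)]
  refine le_trans ?_ hcard
  rw [← Set.ncard_coe_finset]
  refine Set.ncard_le_ncard_of_injOn (fun x => (x : GolayPt → ℤ)) (fun x hx => ?_)
    Subtype.val_injective.injOn T.finite_toSet
  obtain ⟨a, b, m, e, hp, m1, m2, he, ex⟩ := nbr4_form hx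
  rw [hT, Finset.coe_image]
  refine ⟨(a, m, e), ?_, ex.symm⟩
  simp only [Finset.mem_coe, Finset.mem_product, Finset.mem_insert, Finset.mem_singleton,
    Finset.mem_compl, not_or]
  exact ⟨hp.imp And.left And.left, ⟨m1, m2⟩, he⟩

theorem nbr2_data {x : leechLattice} (hx : x ∈ nbr Shape2) :
    ∃ o ∈ octads, (∀ i ∈ o, (x : GolayPt → ℤ) i = 2 ∨ (x : GolayPt → ℤ) i = -2) ∧
      (∀ i, i ∉ o → (x : GolayPt → ℤ) i = 0) ∧ ({none, some 0} : Finset GolayPt) ⊆ o ∧
      ∀ i ∈ ({none, some 0} : Finset GolayPt), (x : GolayPt → ℤ) i = -2 := by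
  obtain ⟨-, o, ho, h2, h0⟩ := hx.1
  have vals : ∀ i, (x : GolayPt → ℤ) i = 0 ∨ (x : GolayPt → ℤ) i = 2 ∨ (x : GolayPt → ℤ) i = -2 :=
    fun i => by
      by_cases h : i ∈ o
      · have := h2 i h; omega
      · exact Or.inl (h0 i h)
  have := vals none; have := vals (some 0); have := pair_sum hx
  have hall : ∀ i ∈ ({none, some 0} : Finset GolayPt), (x : GolayPt → ℤ) i = -2 := by
    intro i hi
    simp only [Finset.mem_insert, Finset.mem_singleton] at hi
    rcases hi with rfl | rfl <;> omega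
  refine ⟨o, ho, h2, h0, fun i hi => ?_, hall⟩
  by_contra h
  have := h0 i h; have := hall i hi
  omega

theorem nbr2_move {x y : leechLattice} (hx : x ∈ nbr Shape2) (hy : y ∈ nbr Shape2) :
    ∃ h : Co0, PresFix h ∧ h • x = y := by
  obtain ⟨o, ho, hx2, hx0, hP, hxP⟩ := nbr2_data hx
  obtain ⟨o', ho', hy2, hy0, hP', hyP⟩ := nbr2_data hy
  obtain ⟨σ, c, hc, hσ, hcP, e⟩ := shape2_move ho ho' hx2 hx0 hy2 hy0 hP hP' rfl
    (Finset.card_le_two.trans (by norm_num)) (fun i hi j hj => (hxP i hi).trans (hyP j hj).symm)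
  have hmem : ∀ i, i = none ∨ i = some 0 → σ.1 i = none ∨ σ.1 i = some 0 := fun i hi => by
    have : σ.1 i ∈ σ.1 • ({none, some 0} : Finset GolayPt) :=
      Finset.smul_mem_smul_finset (by simpa using hi)
    rw [hσ] at this
    simpa using this
  have hne : σ.1 none ≠ σ.1 (some 0) := σ.1.injective.ne (by simp)
  have h1 := hmem none (Or.inl rfl)
  have h2 := hmem (some 0) (Or.inr rfl)
  have hp : (σ.1 none = none ∧ σ.1 (some 0) = some 0) ∨
      (σ.1 none = some 0 ∧ σ.1 (some 0) = none) := by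
    rcases h1 with a | a <;> rcases h2 with b | b
    all_goals first
      | exact absurd (a.trans b.symm) hne
      | exact Or.inl ⟨a, b⟩
      | exact Or.inr ⟨a, b⟩
  refine ⟨mono σ hc, ⟨pres_mono σ hc, mono_fix_std32 hc (Or.inl ⟨rfl, rfl⟩) hp rfl rfl ?_ ?_⟩, e⟩
  · exact hcP _ (by simpa using h1)
  · exact hcP _ (by simpa using h2)

theorem nbr3_form {x : leechLattice} (hx : x ∈ nbr Shape3) :
    ∃ a b : GolayPt, ((a = none ∧ b = some 0) ∨ (a = some 0 ∧ b = none)) ∧
      ∃ c ∈ code, a ∉ c ∧ b ∈ c ∧ (x : GolayPt → ℤ) = signedPerm 1 c (neg3 a) := by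
  obtain ⟨a, c, hc, ex⟩ := shape3_form hx.1
  have hs := pair_sum hx
  have hv : ∀ i, (x : GolayPt → ℤ) i = if i ∈ c then -(if i = a then -3 else 1) else
      (if i = a then -3 else 1) := fun i => by
    rw [ex]; simp only [signedPerm, neg3]
    show (if i ∈ c then -(1 - if i = a then 4 else 0) else 1 - if i = a then 4 else 0) = _
    by_cases h : i = a <;> simp [h]
  rw [hv, hv] at hs
  by_cases h1 : (none : GolayPt) = a
  · subst h1
    refine ⟨none, some 0, Or.inl ⟨rfl, rfl⟩, c, hc, ?_, ?_, ex⟩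
    · intro h; simp [h] at hs; split_ifs at hs <;> omega
    · by_contra h; simp [h] at hs; split_ifs at hs <;> omega
  · by_cases h2 : (some 0 : GolayPt) = a
    · subst h2
      refine ⟨some 0, none, Or.inr ⟨rfl, rfl⟩, c, hc, ?_, ?_, ex⟩
      · intro h; simp [h] at hs; split_ifs at hs <;> omega
      · by_contra h; simp [h] at hs; split_ifs at hs <;> omega
    · simp [h1, h2] at hs
      split_ifs at hs <;> omega

theorem nbr3_move {x y : leechLattice} (hx : x ∈ nbr Shape3) (hy : y ∈ nbr Shape3) :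
    ∃ h : Co0, PresFix h ∧ h • x = y := by
  obtain ⟨a, b, hp, c, hc, ha, hb, ex⟩ := nbr3_form hx
  obtain ⟨a', b', hp', c', hc', ha', hb', ey⟩ := nbr3_form hy
  have hab : a ≠ b := by rcases hp with ⟨rfl, rfl⟩ | ⟨rfl, rfl⟩ <;> simp
  have hab' : a' ≠ b' := by rcases hp' with ⟨rfl, rfl⟩ | ⟨rfl, rfl⟩ <;> simp
  obtain ⟨σ, hσ, hmap⟩ := M24.exists_map_list (A := [a, b]) (A' := [a', b']) (by simp [hab])
    (by simp [hab']) rfl (by simp)
  simp only [List.map_cons, List.map_nil, List.cons.injEq, and_true] at hmap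
  refine ⟨_, ⟨pres_mul (pres_mono 1 hc') (pres_mul (pres_mono ⟨σ, hσ⟩ empty_mem_code) (pres_mono 1 hc)),
    Subtype.ext ?_⟩, shape3_map hc hc' ex ey ⟨σ, hσ⟩ hmap.1⟩
  rw [mul_smul, mul_smul, coe_flip_smul, coe_mono_smul, coe_flip_smul]
  rw [pairBase_four hp, signedPerm_four, signedPerm_four, signedPerm_four]
  simp [Equiv.Perm.one_apply, hmap.1, hmap.2, ha, hb, ha', hb']
  exact (pairBase_four hp').symm.trans (pairBase_four hp)

/-- The code words missing `a` and containing `b`. -/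
def halfCode (a b : GolayPt) : Set (Finset GolayPt) := {c | c ∈ code ∧ a ∉ c ∧ b ∈ c}

theorem ncard_halfCode {a b : GolayPt} (h : a ≠ b) : (halfCode a b).ncard = 1024 := by
  obtain ⟨d, hd, hdb, hda⟩ := exists_code_mem_notMem h
  set F : Set (Finset GolayPt) := {c | c ∈ code ∧ a ∉ c ∧ b ∉ c}
  have h1 : F = (fun c => symmDiff c d) '' halfCode a b := by
    ext c
    simp only [Set.mem_image, F, halfCode, Set.mem_setOf_eq]
    constructor
    · rintro ⟨h1, h2, h3⟩
      exact ⟨symmDiff c d, ⟨symmDiff_mem_code h1 hd,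
        by simp [Finset.mem_symmDiff, h2, hda], by simp [Finset.mem_symmDiff, h3, hdb]⟩,
        symmDiff_symmDiff_cancel_right _ _⟩
    · rintro ⟨e, ⟨h1, h2, h3⟩, rfl⟩
      exact ⟨symmDiff_mem_code h1 hd, by simp [Finset.mem_symmDiff, h2, hda],
        by simp [Finset.mem_symmDiff, h3, hdb]⟩
  have h2 := Set.ncard_union_eq (s := halfCode a b) (t := F)
    (Set.disjoint_left.2 fun c x y => y.2.2 x.2.2) (Set.toFinite _) (Set.toFinite _)
  have h3 : halfCode a b ∪ F = {c | c ∈ code ∧ a ∉ c} := by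
    ext c; simp only [F, halfCode, Set.mem_union, Set.mem_setOf_eq]; tauto
  rw [h3, card_code_notMem, h1, Set.ncard_image_of_injective _ fun x y e => by
    simpa using congrArg (fun z => symmDiff z d) e] at h2
  omega

theorem flip_neg3_inj {a : GolayPt} {c c' : Finset GolayPt}
    (h : signedPerm 1 c (neg3 a) = signedPerm 1 c' (neg3 a)) : c = c' := by
  ext i
  have e := congrFun h i
  simp only [signedPerm, neg3, Equiv.Perm.one_symm, Equiv.Perm.one_apply] at e
  by_cases h1 : i ∈ c <;> by_cases h2 : i ∈ c' <;> simp [h1, h2] at e ⊢ <;> split_ifs at e <;> omega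

theorem ncard_nbr3 : (nbr Shape3).ncard = 2048 := by
  classical
  let img : GolayPt → GolayPt → Set (GolayPt → ℤ) := fun a b =>
    (fun c => signedPerm 1 c (neg3 a)) '' halfCode a b
  have hcard : ∀ a b : GolayPt, a ≠ b → (img a b).ncard = 1024 := fun a b h => by
    rw [Set.ncard_image_of_injOn fun c _ c' _ e => flip_neg3_inj e, ncard_halfCode h]
  have hin : ∀ a b : GolayPt, ((a = none ∧ b = some 0) ∨ (a = some 0 ∧ b = none)) →
      ∀ c ∈ halfCode a b, ∃ x ∈ nbr Shape3, (x : GolayPt → ℤ) = signedPerm 1 c (neg3 a) := by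
    intro a b hp c ⟨hc, ha, hb⟩
    have hne : a ≠ b := by rcases hp with ⟨rfl, rfl⟩ | ⟨rfl, rfl⟩ <;> simp
    refine ⟨mono 1 hc • ⟨neg3 a, (neg3_mem a).1⟩, ⟨⟨(sqNorm_smul _ _).trans (neg3_mem a).2,
      a, ?_, fun i hi => ?_⟩, ?_⟩, rfl⟩
    · rw [coe_flip_smul]; simp [flip_apply, neg3_self, ha]
    · rw [coe_flip_smul]; by_cases h : i ∈ c <;> simp [flip_apply, neg3_ne hi, h]
    · rw [coe_flip_smul, pairBase_four hp, dotInt_four]
      simp [flip_apply, neg3_self, neg3_ne hne.symm, ha, hb]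
  have e : (fun x : leechLattice => (x : GolayPt → ℤ)) '' nbr Shape3 =
      img none (some 0) ∪ img (some 0) none := by
    ext y
    constructor
    · rintro ⟨x, hx, rfl⟩
      obtain ⟨a, b, hp, c, hc, ha, hb, ex⟩ := nbr3_form hx
      rcases hp with ⟨rfl, rfl⟩ | ⟨rfl, rfl⟩
      · exact Or.inl ⟨c, ⟨hc, ha, hb⟩, ex.symm⟩
      · exact Or.inr ⟨c, ⟨hc, ha, hb⟩, ex.symm⟩
    · rintro (⟨c, hc, rfl⟩ | ⟨c, hc, rfl⟩)
      · exact hin _ _ (Or.inl ⟨rfl, rfl⟩) c hc
      · exact hin _ _ (Or.inr ⟨rfl, rfl⟩) c hc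
  have hd : Disjoint (img none (some 0)) (img (some 0) none) := by
    rw [Set.disjoint_left]
    rintro _ ⟨c, ⟨-, hc1, hc2⟩, rfl⟩ ⟨d, ⟨-, hd1, hd2⟩, e⟩
    have := congrFun e none
    simp [flip_apply, neg3_self, neg3_ne (show (none : GolayPt) ≠ some 0 by simp), hc1, hd2] at this
  have hfin : ∀ a b, (img a b).Finite := fun a b => (Set.toFinite _).image _
  rw [← Set.ncard_image_of_injective _
    (Subtype.val_injective : Function.Injective (Subtype.val : leechLattice → _))]
  rw [e, Set.ncard_union_eq hd (hfin _ _) (hfin _ _), hcard _ _ (by simp), hcard _ _ (by simp)]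

theorem shapeSet_finite : {x : leechLattice | sqNorm (x : GolayPt → ℤ) = 32}.Finite :=
  Set.finite_of_ncard_ne_zero (by
    rw [ncard_lattice_set (fun x => sqNorm x = 32), card_shell_32]; norm_num)

theorem ncard_nbr2 : 2464 ≤ (nbr Shape2).ncard := by
  have h := census std32.2 (t := -4) sqNorm_std32 (Or.inl rfl)
  have hD : {x : leechLattice | sqNorm (x : GolayPt → ℤ) = 32 ∧
      dotInt (std32 : GolayPt → ℤ) (x : GolayPt → ℤ) = 4 * (-4)}.ncard = 4600 := by
    rw [ncard_lattice_set (fun x => sqNorm x = 32 ∧ dotInt (std32 : GolayPt → ℤ) x = 4 * (-4)), h,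
      censusTotal_vals.1]
  have hsub : {x : leechLattice | sqNorm (x : GolayPt → ℤ) = 32 ∧
      dotInt (std32 : GolayPt → ℤ) (x : GolayPt → ℤ) = 4 * (-4)} ⊆
      nbr Shape4 ∪ nbr Shape2 ∪ nbr Shape3 := by
    rintro x ⟨hn, hd⟩
    have hd' : dotInt (std32 : GolayPt → ℤ) (x : GolayPt → ℤ) = -16 := by rw [hd]; norm_num
    rcases shape32 x.2 hn with s | s | s
    · exact Or.inl (Or.inl ⟨⟨hn, s⟩, hd'⟩)
    · exact Or.inl (Or.inr ⟨⟨hn, s⟩, hd'⟩)
    · exact Or.inr ⟨⟨hn, s⟩, hd'⟩
  have hfin : ∀ S, (nbr S).Finite := fun S => shapeSet_finite.subset fun x hx => hx.1.1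
  have := Set.ncard_le_ncard hsub (((hfin _).union (hfin _)).union (hfin _))
  have := Set.ncard_union_le (nbr Shape4 ∪ nbr Shape2) (nbr Shape3)
  have := Set.ncard_union_le (nbr Shape4) (nbr Shape2)
  have := ncard_nbr4; have := ncard_nbr3
  omega

/-- The neighbour `(-4, 0, 4, 0, ...)`. -/
def nbr0 : leechLattice :=
  ⟨four none (some 1) (-4) 4, (four_spec (by simp) (Or.inr rfl) (Or.inl rfl)).1⟩

theorem mk_nbr4 {a b m : GolayPt} (hp : (a = none ∧ b = some 0) ∨ (a = some 0 ∧ b = none))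
    (h1 : m ≠ none) (h2 : m ≠ some 0) {e : ℤ} (he : e = 4 ∨ e = -4) {x : leechLattice}
    (hx : (x : GolayPt → ℤ) = four a m (-4) e) : x ∈ nbr Shape4 := by
  have ham : a ≠ m := by rcases hp with ⟨rfl, rfl⟩ | ⟨rfl, rfl⟩ <;> exact Ne.symm (by assumption)
  refine ⟨⟨by rw [hx]; exact (four_spec ham (Or.inr rfl) he).2, a, m, ham, ?_, ?_, ?_⟩, ?_⟩
  · rw [hx, four_apply_left ham]; exact Or.inr rfl
  · rw [hx, four_apply_right ham]; exact he
  · intro i hi hi'; rw [hx]; simp [four, hi, hi']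
  · rw [hx, dot_std32']
    rcases hp with ⟨rfl, rfl⟩ | ⟨rfl, rfl⟩ <;> simp [four, Ne.symm h1, Ne.symm h2]

theorem nbr0_mem : nbr0 ∈ nbr Shape4 :=
  mk_nbr4 (a := none) (b := some 0) (Or.inl ⟨rfl, rfl⟩) (by simp) (by decide) (Or.inl rfl) rfl

/-- An element fixing `std32` and preserving its neighbours of shape four preserves the cross. -/
theorem pres_of_nbr {g : Co0} (hg : g • std32 = std32)
    (h : ∀ x ∈ nbr Shape4, g • x ∈ nbr Shape4) (h' : ∀ x ∈ nbr Shape4, g⁻¹ • x ∈ nbr Shape4) :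
    Pres g := by
  classical
  refine pres_of_frame (j := some 1) ?_
  have hw' : four none (some 1) (-4) (-4) ∈ leechLattice :=
    (four_spec (by simp) (Or.inr rfl) (Or.inr rfl)).1
  set w' : leechLattice := ⟨_, hw'⟩ with hw'd
  have hw'm : w' ∈ nbr Shape4 :=
    mk_nbr4 (a := none) (b := some 0) (Or.inl ⟨rfl, rfl⟩) (by simp) (by decide) (Or.inr rfl) rfl
  have hfr : frame (some 1) = nbr0 - w' := by
    apply Subtype.ext
    show Pi.single (some 1) (8 : ℤ) = four none (some 1) (-4) 4 - four none (some 1) (-4) (-4)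
    rw [four, four, add_sub_add_left_eq_sub, ← Pi.single_sub]
    norm_num
  have hd0 : dotInt ((g • nbr0 : leechLattice) : GolayPt → ℤ)
      ((g • w' : leechLattice) : GolayPt → ℤ) = 0 := by
    rw [dotInt_smul]
    show dotInt (four none (some 1) (-4) 4) (four none (some 1) (-4) (-4)) = 0
    rw [dotInt_four]; simp [four]
  obtain ⟨a, a₁, p, e, hp, p1, p2, he, ew⟩ := nbr4_form (h _ nbr0_mem)
  obtain ⟨b, b₁, q, f, hq, q1, q2, hf, ew'⟩ := nbr4_form (h _ hw'm)
  rw [ew, ew', dotInt_four] at hd0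
  have hnot : ∀ r s : GolayPt, r ≠ none → r ≠ some 0 →
      ((s = none ∧ a₁ = s) ∨ (s = some 0 ∧ a₁ = s) ∨ s = a ∨ s = b) → r ≠ s := by
    intro r s r1 r2 hs
    rcases hp with ⟨rfl, rfl⟩ | ⟨rfl, rfl⟩ <;> rcases hq with ⟨rfl, rfl⟩ | ⟨rfl, rfl⟩ <;>
      rcases hs with ⟨rfl, -⟩ | ⟨rfl, -⟩ | rfl | rfl <;> assumption
  have hpa : p ≠ a := hnot p a p1 p2 (by tauto)
  have hpb : p ≠ b := hnot p b p1 p2 (by tauto)
  have hqa : q ≠ a := hnot q a q1 q2 (by tauto)
  have hqb : q ≠ b := hnot q b q1 q2 (by tauto)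
  have himg : ((g • frame (some 1) : leechLattice) : GolayPt → ℤ) =
      four a p (-4) e - four b q (-4) f := by
    rw [hfr, smul_sub', AddSubgroup.coe_sub, ew, ew']
  by_cases hab : a = b
  · subst hab
    simp only [four, Pi.add_apply, Pi.single_apply, if_neg hpa, if_neg hqa.symm] at hd0
    by_cases hpq : p = q
    · subst hpq
      simp at hd0
      refine ⟨p, e - f, ?_, ?_⟩
      · rcases he with rfl | rfl <;> rcases hf with rfl | rfl <;> omega
      · rw [himg, four, four, add_sub_add_left_eq_sub, Pi.single_sub]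
    · simp [hpq] at hd0
  · exfalso
    simp only [four, Pi.add_apply, Pi.single_apply, if_neg hab, if_neg hpb, if_neg hqa.symm] at hd0
    have hpq : p ≠ q := by
      intro hpq
      subst hpq
      simp at hd0
      rcases hd0 with e' | e' <;> omega
    obtain ⟨m, hm⟩ : ∃ m, m ∉ ({none, some 0, p, q} : Finset GolayPt) := by
      by_contra hh
      push Not at hh
      have := Finset.card_le_card (fun x _ => hh x : (Finset.univ : Finset GolayPt) ⊆ _)
      have := Finset.card_le_four (a := (none : GolayPt)) (b := some 0) (c := p) (d := q)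
      rw [Finset.card_univ, Golay.card_golayPt] at *
      omega
    simp only [Finset.mem_insert, Finset.mem_singleton, not_or] at hm
    have ham : a ≠ m := (hnot m a hm.1 hm.2.1 (by tauto)).symm
    have hbm : b ≠ m := (hnot m b hm.1 hm.2.1 (by tauto)).symm
    set z : leechLattice := ⟨four a m (-4) 4, (four_spec ham (Or.inr rfl) (Or.inl rfl)).1⟩
    have hz := h' z (mk_nbr4 hp hm.1 hm.2.1 (Or.inl rfl) rfl)
    have h16' : -4 * four a m (-4) 4 a + e * four a m (-4) 4 p -
        (-4 * four a m (-4) 4 b + f * four a m (-4) 4 q) = 16 := by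
      simp [four, ham, hbm, hpa, Ne.symm hab, hqa, Ne.symm hm.2.2.1, Ne.symm hm.2.2.2]
    have hd := dotInt_smul g (frame (some 1)) (g⁻¹ • z)
    rw [smul_inv_smul, himg, dotInt_sub_left', dotInt_four, dotInt_four, dotInt_frame,
      show (z : GolayPt → ℤ) = four a m (-4) 4 from rfl, h16'] at hd
    obtain ⟨-, r, s, -, hr, hs, h0⟩ := hz.1
    have : ((g⁻¹ • z : leechLattice) : GolayPt → ℤ) (some 1) = 0 ∨
        ((g⁻¹ • z : leechLattice) : GolayPt → ℤ) (some 1) = 4 ∨
        ((g⁻¹ • z : leechLattice) : GolayPt → ℤ) (some 1) = -4 := by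
      by_cases h1 : (some 1 : GolayPt) = r
      · rw [h1]; omega
      · by_cases h2 : (some 1 : GolayPt) = s
        · rw [h2]; omega
        · exact Or.inl (h0 _ h1 h2)
    omega

/-! ### The congruence from the group of order 23 -/

theorem normalizer_le_pres [Finite Co0] {y : Co0} (h : y * g23 * y⁻¹ ∈ Subgroup.zpowers g23) :
    Pres y := by
  have hg : g23 • frame none = frame none := by
    rw [g23]; exact mono_fix_none shift_none
  have hx' := smul_fixed_of_normalise h hg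
  set w : GolayPt → ℤ := ((y • frame none : leechLattice) : GolayPt → ℤ) with hw
  have hstep : ∀ t : ZMod 23, w (some (t + 1)) = w (some t) := by
    intro t
    have := congrFun (congrArg Subtype.val hx') (some (t + 1))
    rw [g23, coe_permHom_smul] at this
    rw [show (Golay.shift : Equiv.Perm GolayPt).symm (some (t + 1)) = some t from
      (Equiv.symm_apply_eq _).2 (shift_some t).symm] at this
    exact this.symm
  have hall : ∀ t : ZMod 23, w (some t) = w (some 0) := by
    intro t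
    have : ∀ n : ℕ, w (some (n : ZMod 23)) = w (some 0) := fun n => by
      induction n with
      | zero => simp
      | succ n ih => rw [Nat.cast_succ, hstep, ih]
    simpa using this t.val
  have hn : w none * w none + 23 * (w (some 0) * w (some 0)) = 64 := by
    have h1 := sqNorm_smul y (frame none)
    rw [sqNorm_frame, ← dotInt_self, ← hw, dotInt_sum, Fintype.sum_option] at h1
    simpa [hall, ZMod.card] using h1
  set a := w none with ha
  set b := w (some 0) with hb
  have hb0 : b = 0 := by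
    have : -1 ≤ b ∧ b ≤ 1 := ⟨by nlinarith, by nlinarith⟩
    have ha' : -8 ≤ a ∧ a ≤ 8 := ⟨by nlinarith, by nlinarith⟩
    rcases (show b = 0 ∨ b = 1 ∨ b = -1 by omega) with e | e | e
    · exact e
    all_goals
      exfalso
      have : a * a = 41 := by rw [e] at hn; omega
      obtain ⟨h1, h2⟩ := ha'
      interval_cases a <;> omega
  refine pres_of_frame (j := none) ⟨none, a, ?_, funext fun p => ?_⟩
  · rw [hb0] at hn
    exact sq_eq_cases (r := 8) (by linarith [sq a])
  · rw [← hw]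
    rcases p with _ | t
    · simp [ha]
    · rw [hall, hb0]; simp

theorem index_mod_of_normalizer_le {G : Type*} [Group G] [Finite G] {p : ℕ} [Fact p.Prime] {g : G}
    (hg : orderOf g = p) (hp2 : ¬ p ^ 2 ∣ Nat.card G) {K : Subgroup G}
    (hN : Subgroup.normalizer (Subgroup.zpowers g : Set G) ≤ K) : K.index % p = 1 := by
  set P := Subgroup.zpowers g with hP
  have hc : Nat.card P = p := (Nat.card_zpowers g).trans hg
  have hi : ¬ p ∣ P.index := fun h => hp2 (by
    rw [← P.card_mul_index, hc, pow_two]; exact mul_dvd_mul_left p h)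
  have hPK : P ≤ K := Subgroup.le_normalizer.trans hN
  have hPp : IsPGroup p P := IsPGroup.of_card (n := 1) (by rw [hc, pow_one])
  have hPp' : IsPGroup p (P.subgroupOf K) := IsPGroup.of_card (n := 1) (by
    rw [Nat.card_congr (Subgroup.subgroupOfEquivOfLe hPK).toEquiv, hc, pow_one])
  have hi' : ¬ p ∣ (P.subgroupOf K).index := fun h => hi (by
    rw [← Subgroup.relIndex_mul_index hPK]; exact Dvd.dvd.mul_right h _)
  have h1 := card_sylow_modEq_one p G
  have h2 := card_sylow_modEq_one p K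
  rw [(hPp.toSylow hi).card_eq_index_normalizer] at h1
  rw [(hPp'.toSylow hi').card_eq_index_normalizer] at h2
  simp only [IsPGroup.toSylow_coe, ← Sylow.coe_coe] at h1 h2
  rw [← Subgroup.subgroupOf_normalizer_eq hPK] at h2
  rw [← Subgroup.relIndex_mul_index hN] at h1
  have h3 : (Subgroup.normalizer (P : Set G)).relIndex K ≡ 1 [MOD p] := h2
  have := (h3.mul_right K.index).symm.trans h1
  rw [one_mul] at this
  exact Nat.mod_eq_of_modEq this Fact.out |>.trans rfl

end Cfsg.Agent.SporStruct.CrossMax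

namespace Cfsg.Agent.SporStruct.CrossMax

open Cfsg Cfsg.Agent.Leech

theorem card_eq_orbit_mul {G α : Type*} [Group G] [MulAction G α] (K : Subgroup G) (x : α) :
    Nat.card K = (MulAction.orbit K x).ncard * Nat.card (K ⊓ MulAction.stabilizer G x : Subgroup G) := by
  rw [← Subgroup.card_mul_index (MulAction.stabilizer K x), MulAction.index_stabilizer, mul_comm]
  congr 1
  exact Nat.card_congr
    ⟨fun k => ⟨k.1.1, k.1.2, k.2⟩, fun g => ⟨⟨g.1, g.2.1⟩, g.2.2⟩, fun _ => rfl, fun _ => rfl⟩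

theorem orbit_closed {G α : Type*} [Group G] [MulAction G α] {K : Subgroup G} {g : G} (hg : g ∈ K)
    {x y : α} (hy : y ∈ MulAction.orbit K x) : g • y ∈ MulAction.orbit K x := by
  obtain ⟨k, rfl⟩ := hy
  exact ⟨⟨g, hg⟩ * k, mul_smul _ _ _⟩

theorem self_orbit {G α : Type*} [Group G] [MulAction G α] (K : Subgroup G) (x : α) :
    x ∈ MulAction.orbit K x := MulAction.mem_orbit_self x

theorem std32_shape4 : std32 ∈ shapeSet Shape4 := by
  refine ⟨sqNorm_std32, none, some 0, by simp, ?_, ?_, ?_⟩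
  · rw [coe_std32, four_apply_left (by simp)]; exact Or.inl rfl
  · rw [coe_std32, four_apply_right (by simp)]; exact Or.inl rfl
  · intro i hi hi'; rw [coe_std32]; simp [four, hi, hi']

/-- The subgroup preserving the standard cross is a coatom. -/
theorem isCoatom_of_pres [Finite Co0] (H : Subgroup Co0) (hH : ∀ g, g ∈ H ↔ Pres g) :
    IsCoatom H := by
  have hG : Nat.card Co0 = 8315553613086720000 := card_Co0_of_unique codeUnique
  have hHcard : Nat.card H = 1002795171840 := by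
    rw [Nat.card_congr (Equiv.subtypeEquivRight hH)]
    exact card_stdCross_stab.trans (by rw [code_ncard, Golay.card_M24])
  have hHidx : H.index = 8292375 := by
    have := H.card_mul_index
    rw [hHcard, hG] at this
    omega
  refine ⟨fun e => by rw [e, Subgroup.index_top] at hHidx; omega, fun K hlt => ?_⟩
  have hHK : H ≤ K := hlt.le
  have hmem : ∀ {g}, Pres g → g ∈ K := fun hg => hHK ((hH _).2 hg)
  -- the orbit of `std32` under `K`
  set O := MulAction.orbit K std32 with hO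
  have hnorm : ∀ x ∈ O, sqNorm (x : GolayPt → ℤ) = 32 := by
    rintro _ ⟨k, rfl⟩
    exact (sqNorm_smul _ _).trans sqNorm_std32
  have h4 : shapeSet Shape4 ⊆ O := fun x hx => by
    obtain ⟨h, hh, e⟩ := shape4_move hx
    have := orbit_closed (x := std32) (K.inv_mem (hmem hh)) (self_orbit K std32)
    rwa [show h⁻¹ • std32 = x by rw [← e, inv_smul_smul]] at this
  have h2 : ∀ {x}, x ∈ O → x ∈ shapeSet Shape2 → shapeSet Shape2 ⊆ O := fun hxO hx y hy => by
    obtain ⟨h, hh, e⟩ := shape2_move' hx hy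
    exact e ▸ orbit_closed (hmem hh) hxO
  have h3 : ∀ {x}, x ∈ O → x ∈ shapeSet Shape3 → shapeSet Shape3 ⊆ O := fun hxO hx y hy => by
    obtain ⟨h, hh, e⟩ := shape3_move hx hy
    exact e ▸ orbit_closed (hmem hh) hxO
  have hsplit : O ⊆ shapeSet Shape4 ∪ shapeSet Shape2 ∪ shapeSet Shape3 := fun x hx => by
    rcases shape32 x.2 (hnorm x hx) with s | s | s
    · exact Or.inl (Or.inl ⟨hnorm x hx, s⟩)
    · exact Or.inl (Or.inr ⟨hnorm x hx, s⟩)
    · exact Or.inr ⟨hnorm x hx, s⟩
  have hfin : ∀ S, (shapeSet S).Finite := fun S => shapeSet_finite.subset fun x hx => hx.1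
  have hexcl : ∀ {x : leechLattice}, (x ∈ shapeSet Shape4 → x ∉ shapeSet Shape2) ∧
      (x ∈ shapeSet Shape4 → x ∉ shapeSet Shape3) ∧ (x ∈ shapeSet Shape2 → x ∉ shapeSet Shape3) := by
    intro x
    refine ⟨?_, ?_, ?_⟩
    · rintro ⟨-, a, b, -, ha, -, -⟩ ⟨-, o, -, hx2, hx0⟩
      by_cases h : a ∈ o
      · have := hx2 a h; omega
      · have := hx0 a h; omega
    · rintro ⟨-, a, b, -, ha, -, -⟩ ⟨-, c, hc, hc1⟩
      by_cases h : a = c
      · subst h; omega
      · have := hc1 a h; omega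
    · rintro ⟨-, o, -, hx2, hx0⟩ ⟨-, c, hc, -⟩
      by_cases h : c ∈ o
      · have := hx2 c h; omega
      · have := hx0 c h; omega
  have hdvd : O.ncard ∣ Nat.card Co0 :=
    (Dvd.intro _ (card_eq_orbit_mul K std32).symm).trans K.card_subgroup_dvd_card
  have hcases : O = shapeSet Shape4 ∨ O.ncard = 196560 := by
    have d42 : Disjoint (shapeSet Shape4) (shapeSet Shape2) :=
      Set.disjoint_left.2 fun x => (hexcl (x := x)).1
    have d43 : Disjoint (shapeSet Shape4) (shapeSet Shape3) :=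
      Set.disjoint_left.2 fun x => (hexcl (x := x)).2.1
    have d23 : Disjoint (shapeSet Shape2) (shapeSet Shape3) :=
      Set.disjoint_left.2 fun x => (hexcl (x := x)).2.2
    by_cases e2 : ∃ x ∈ O, x ∈ shapeSet Shape2 <;> by_cases e3 : ∃ x ∈ O, x ∈ shapeSet Shape3
    · right
      obtain ⟨x, hx, hx2⟩ := e2
      obtain ⟨y, hy, hy3⟩ := e3
      have e : O = shapeSet Shape4 ∪ shapeSet Shape2 ∪ shapeSet Shape3 :=
        Set.Subset.antisymm hsplit
          (Set.union_subset (Set.union_subset h4 (h2 hx hx2)) (h3 hy hy3))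
      rw [e, Set.ncard_union_eq (d43.union_left d23) ((hfin _).union (hfin _)) (hfin _),
        Set.ncard_union_eq d42 (hfin _) (hfin _), ncard_shape4, ncard_shape2, ncard_shape3]
    · exfalso
      obtain ⟨x, hx, hx2⟩ := e2
      push Not at e3
      have e : O = shapeSet Shape4 ∪ shapeSet Shape2 :=
        Set.Subset.antisymm (fun z hz => (hsplit hz).resolve_right (e3 z hz))
          (Set.union_subset h4 (h2 hx hx2))
      rw [e, Set.ncard_union_eq d42 (hfin _) (hfin _), ncard_shape4, ncard_shape2, hG] at hdvd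
      omega
    · exfalso
      obtain ⟨y, hy, hy3⟩ := e3
      push Not at e2
      have e : O = shapeSet Shape4 ∪ shapeSet Shape3 :=
        Set.Subset.antisymm (fun z hz => (hsplit hz).elim
          (fun u => Or.inl (u.resolve_right (e2 z hz))) Or.inr)
          (Set.union_subset h4 (h3 hy hy3))
      rw [e, Set.ncard_union_eq d43 (hfin _) (hfin _), ncard_shape4, ncard_shape3, hG] at hdvd
      omega
    · left
      push Not at e2 e3
      exact Set.Subset.antisymm
        (fun z hz => ((hsplit hz).resolve_right (e3 z hz)).resolve_right (e2 z hz)) h4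
  -- stabilisers of `std32`
  set Kv := K ⊓ MulAction.stabilizer Co0 std32 with hKv
  set Hv := H ⊓ MulAction.stabilizer Co0 std32 with hHv
  have hHorb : MulAction.orbit H std32 = shapeSet Shape4 := by
    refine Set.Subset.antisymm ?_ fun x hx => ?_
    · rintro _ ⟨k, rfl⟩
      exact shape4_smul ((hH _).1 k.2) std32_shape4
    · obtain ⟨h, hh, e⟩ := shape4_move hx
      have := orbit_closed (x := std32) (H.inv_mem ((hH h).2 hh)) (self_orbit H std32)
      rwa [show h⁻¹ • std32 = x by rw [← e, inv_smul_smul]] at this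
  have hHvcard : Nat.card Hv = 908328960 := by
    have := card_eq_orbit_mul H std32
    rw [hHorb, ncard_shape4, hHcard, ← hHv] at this
    omega
  have hfix : ∀ {g}, PresFix g → g ∈ Hv := fun hg => ⟨(hH _).2 hg.1, hg.2⟩
  have hHvKv : Hv ≤ Kv := inf_le_inf_right _ hHK
  -- if the neighbours of shape four are preserved then `Kv = Hv`
  have hsmall : (∀ g ∈ Kv, ∀ x ∈ nbr Shape4, g • x ∈ nbr Shape4) → Kv = Hv := fun h =>
    le_antisymm (fun g hg => ⟨(hH g).2 (pres_of_nbr hg.2 (h g hg) (h _ (Kv.inv_mem hg))), hg.2⟩)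
      hHvKv
  have hdot : ∀ g ∈ Kv, ∀ x : leechLattice, dotInt (std32 : GolayPt → ℤ) (x : GolayPt → ℤ) = -16 →
      dotInt (std32 : GolayPt → ℤ) ((g • x : leechLattice) : GolayPt → ℤ) = -16 := by
    intro g hg x hx
    have := dotInt_smul g std32 x
    rwa [show g • std32 = std32 from hg.2, hx] at this
  have hK := card_eq_orbit_mul K std32
  rw [← hKv, ← hO] at hK
  rcases hcases with e | e
  · exfalso
    have hKH : Kv = Hv := hsmall fun g hg x hx =>
      ⟨e ▸ orbit_closed hg.1 (h4 hx.1), hdot g hg x hx.2⟩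
    rw [e, ncard_shape4, hKH, hHvcard] at hK
    exact hlt.ne (Subgroup.eq_of_le_of_card_ge hHK (by rw [hK, hHcard]))
  -- the transitive case
  obtain ⟨r, hr⟩ := Subgroup.card_dvd_of_le hHvKv
  have hmr : K.index * r = 46575 := by
    have := K.card_mul_index
    rw [hK, e, hr, hHvcard, hG] at this
    nlinarith
  have hm1 : K.index ∣ 8292375 := hHidx ▸ Subgroup.index_dvd_of_le hHK
  have hm2 : K.index ∣ 2025 := by
    have := Nat.dvd_gcd hm1 (Dvd.intro r hmr)
    simpa using this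
  have : Fact (Nat.Prime 23) := ⟨by norm_num⟩
  have hmod : K.index % 23 = 1 :=
    index_mod_of_normalizer_le (p := 23) orderOf_g23 (by rw [hG]; norm_num) (K := K) fun y hy =>
      hmem (normalizer_le_pres ((Subgroup.mem_normalizer_iff.1 hy g23).1 (Subgroup.mem_zpowers g23)))
  have key : K.index = 1 ∨ K.index = 2025 := by
    have hle : K.index ≤ 2025 := Nat.le_of_dvd (by norm_num) hm2
    have : ∀ n ∈ Nat.divisors 2025, n % 23 = 1 → n = 1 ∨ n = 2025 := by decide +kernel
    exact this _ (Nat.mem_divisors.2 ⟨hm2, by norm_num⟩) hmod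
  rcases key with k1 | k2
  · exact Subgroup.index_eq_one.1 k1
  exfalso
  have hr23 : r = 23 := by rw [k2] at hmr; omega
  subst hr23
  set O' := MulAction.orbit Kv nbr0 with hO'
  have hHv4 : MulAction.orbit Hv nbr0 = nbr Shape4 := by
    refine Set.Subset.antisymm ?_ fun x hx => ?_
    · rintro _ ⟨k, rfl⟩
      exact ⟨shape4_smul ((hH _).1 k.2.1) nbr0_mem.1,
        hdot _ (hHvKv k.2) _ nbr0_mem.2⟩
    · obtain ⟨h, hh, e⟩ := nbr4_move nbr0_mem hx
      exact e ▸ orbit_closed (hfix hh) (self_orbit Hv nbr0)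
  have hbound : O'.ncard ≤ 2024 := by
    have a1 := card_eq_orbit_mul Kv nbr0
    have a2 := card_eq_orbit_mul Hv nbr0
    rw [hHv4] at a2
    rw [hr] at a1
    have h88 := ncard_nbr4
    have hle := Nat.card_mono (Set.toFinite _)
      (show ((Hv ⊓ MulAction.stabilizer Co0 nbr0 : Subgroup Co0) : Set Co0) ⊆
        (Kv ⊓ MulAction.stabilizer Co0 nbr0 : Subgroup Co0) from fun g hg => ⟨hHvKv hg.1, hg.2⟩)
    simp only [SetLike.coe_sort_coe] at hle
    have hpos : 0 < Nat.card (Kv ⊓ MulAction.stabilizer Co0 nbr0 : Subgroup Co0) := Nat.card_pos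
    rw [hO']
    nlinarith
  have hOfin : O'.Finite := shapeSet_finite.subset (by
    rintro _ ⟨k, rfl⟩
    exact (sqNorm_smul _ _).trans nbr0_mem.1.1)
  have hlarge : ∀ {S} {x : leechLattice}, x ∈ O' → x ∈ nbr S →
      (∀ y ∈ nbr S, ∃ h, PresFix h ∧ h • x = y) → 2024 < (nbr S).ncard → False := by
    intro S x hxO hx hmove hbig
    have : nbr S ⊆ O' := fun y hy => by
      obtain ⟨h, hh, e⟩ := hmove y hy
      exact e ▸ orbit_closed (hHvKv (hfix hh)) hxO
    have := Set.ncard_le_ncard this hOfin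
    omega
  have hO4 : O' ⊆ nbr Shape4 := by
    intro x hx
    obtain ⟨k, hk⟩ := hx
    have hx : x ∈ O' := ⟨k, hk⟩
    have hn : sqNorm (x : GolayPt → ℤ) = 32 := by
      rw [← hk]; exact (sqNorm_smul _ _).trans nbr0_mem.1.1
    have hd : dotInt (std32 : GolayPt → ℤ) (x : GolayPt → ℤ) = -16 := by
      rw [← hk]; exact hdot _ k.2 _ nbr0_mem.2
    rcases shape32 x.2 hn with s | s | s
    · exact ⟨⟨hn, s⟩, hd⟩
    · exact (hlarge hx ⟨⟨hn, s⟩, hd⟩ (fun y hy => nbr2_move ⟨⟨hn, s⟩, hd⟩ hy)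
        (by have := ncard_nbr2; omega)).elim
    · exact (hlarge hx ⟨⟨hn, s⟩, hd⟩ (fun y hy => nbr3_move ⟨⟨hn, s⟩, hd⟩ hy)
        (by rw [ncard_nbr3]; norm_num)).elim
  have hKH : Kv = Hv := hsmall fun g hg x hx => by
    obtain ⟨h, hh, e⟩ := nbr4_move nbr0_mem hx
    exact hO4 (orbit_closed hg (e ▸ orbit_closed (hHvKv (hfix hh)) (self_orbit Kv nbr0)))
  rw [hKH, hHvcard] at hr
  omega

end Cfsg.Agent.SporStruct.CrossMax
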