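import Mathlib
import Cfsg.Prelude.Def_KGroupFacts
import Cfsg.Agent.SporStruct.CrossMax

/-!
Automorphisms rigidified by an element of prime order with metacyclic normaliser.
-/

set_option autoImplicit false

namespace Cfsg.Agent.SporStruct.OuterRigid

open Cfsg

variable {G : Type*} [Group G]

theorem card_out_eq_one (h : ∀ α : MulAut G, α ∈ Inn G) : Nat.card (Out G) = 1 := by
  have : Inn G = ⊤ := eq_top_iff.2 fun α _ => h α
  show (Inn G).index = 1
  rw [this, Subgroup.index_top]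

theorem card_out_eq_two (o : MulAut G) (ho : o ∉ Inn G)
    (h : ∀ α : MulAut G, α ∈ Inn G ∨ α * o ∈ Inn G) : Nat.card (Out G) = 2 := by
  show (Inn G).index = 2
  refine Subgroup.index_eq_two_iff.2 ⟨o, fun b => ?_⟩
  rcases h b with hb | hb
  · exact Or.inr ⟨hb, fun hbo => ho (by simpa using (Inn G).mul_mem ((Inn G).inv_mem hb) hbo)⟩
  · exact Or.inl ⟨hb, fun hbb => ho (by simpa using (Inn G).mul_mem ((Inn G).inv_mem hbb) hb)⟩

/-- Exponents which occur in the normaliser reach every residue up to sign. -/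
def Covers (p r : ℕ) : Prop :=
  ∀ k : Fin p, k.val ≠ 0 → ∃ j : Fin p, k.val * r ^ j.val % p = 1 ∨ k.val * r ^ j.val % p = p - 1

theorem zpow_eq_zpow_of_mod {a : G} {p : ℕ} (ha : orderOf a = p) {x y : ℤ}
    (h : x % (p : ℤ) = y % (p : ℤ)) : a ^ x = a ^ y := by
  rw [← zpow_mod_orderOf a x, ← zpow_mod_orderOf a y, ha, h]

theorem mul_zpow_conj {a b : G} {r : ℕ} (hb : b * a * b⁻¹ = a ^ r) (m : ℤ) :
    b * a ^ m = a ^ ((r : ℤ) * m) * b := by
  have : b * a ^ m * b⁻¹ = a ^ ((r : ℤ) * m) := by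
    rw [← conj_zpow, hb, ← zpow_natCast, ← zpow_mul]
  rw [← this, inv_mul_cancel_right]

theorem conj_pow_rel' {a b : G} {r : ℕ} (hb : b * a * b⁻¹ = a ^ r) :
    ∀ n : ℕ, ∀ m : ℕ, b ^ n * a ^ m * (b ^ n)⁻¹ = a ^ (m * r ^ n) := by
  intro n
  induction n with
  | zero => simp
  | succ n ih =>
    intro m
    calc b ^ (n + 1) * a ^ m * (b ^ (n + 1))⁻¹ = b * (b ^ n * a ^ m * (b ^ n)⁻¹) * b⁻¹ := by
          rw [pow_succ']; group
      _ = (b * a * b⁻¹) ^ (m * r ^ n) := by rw [ih, conj_pow]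
      _ = _ := by rw [hb, ← pow_mul, pow_succ r]; ring_nf

/-- An automorphism is, up to inner ones, the identity on `b` and `±1` on `a`. -/
theorem normalise [Finite G] {p r u : ℕ} [Fact p.Prime] (hp2 : ¬ p ^ 2 ∣ Nat.card G) {a b : G}
    (ha : orderOf a = p) (hb : b * a * b⁻¹ = a ^ r)
    (hcent : ∀ y, y * a = a * y → y ∈ Subgroup.zpowers a) (hcov : Covers p r) (hr : 1 ≤ r)
    (hu : (r - 1) * u % p = 1) (α : MulAut G) :
    ∃ h : G, (MulAut.conj h * α) b = b ∧
      ((MulAut.conj h * α) a = a ∨ (MulAut.conj h * α) a = a⁻¹) := by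
  have hp := (Fact.out : p.Prime)
  obtain ⟨c, k, hk⟩ := Leech.Criterion.exists_conj_zpowers hp2 ha
    (show orderOf (α a) = p from (orderOf_injective α.toMonoidHom α.injective a).trans ha)
  set k0 := (k % (p : ℤ)).toNat with hk0
  have hk0e : (k0 : ℤ) = k % (p : ℤ) := Int.toNat_of_nonneg (Int.emod_nonneg _ (by
    have := hp.pos; omega))
  have hk' : c * α a * c⁻¹ = a ^ k0 := by
    rw [hk, ← zpow_natCast]
    exact zpow_eq_zpow_of_mod ha (by rw [hk0e, Int.emod_emod])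
  have hlt : k0 < p := by
    have := Int.emod_lt_of_pos k (show (0 : ℤ) < p by have := hp.pos; omega)
    omega
  have hk00 : k0 ≠ 0 := by
    intro e
    rw [e, pow_zero, mul_inv_eq_one] at hk'
    have h1 : α a = 1 := mul_left_cancel (hk'.trans (mul_one c).symm)
    rw [map_eq_one_iff α α.injective] at h1
    rw [h1, orderOf_one] at ha
    exact hp.one_lt.ne ha
  obtain ⟨j, hj⟩ := hcov ⟨k0, hlt⟩ hk00
  set h1 := b ^ j.val * c with hh1
  set β := MulAut.conj h1 * α with hβ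
  have hβa : β a = a ∨ β a = a⁻¹ := by
    have e : β a = a ^ (k0 * r ^ j.val) := by
      show h1 * α a * h1⁻¹ = _
      rw [← conj_pow_rel' hb j.val k0, ← hk', hh1]; group
    rcases hj with hj | hj <;> simp only [] at hj
    · left; rw [e, ← pow_mod_orderOf, ha, hj, pow_one]
    · right
      rw [e, ← pow_mod_orderOf, ha, hj, eq_inv_iff_mul_eq_one, ← pow_succ,
        Nat.sub_add_cancel hp.pos]
      exact ha ▸ pow_orderOf_eq_one a
  have hbb : β b * a * (β b)⁻¹ = a ^ r := by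
    have h2 : β b * β a * (β b)⁻¹ = (β a) ^ r := by rw [← map_inv, ← map_mul, ← map_mul, hb, map_pow]
    rcases hβa with e | e <;> rw [e] at h2
    · exact h2
    · rw [← conj_inv, inv_pow, inv_inj] at h2; exact h2
  obtain ⟨i, hi⟩ := Subgroup.mem_zpowers_iff.1 (hcent (b⁻¹ * β b) (by
    calc b⁻¹ * β b * a = b⁻¹ * (β b * a * (β b)⁻¹) * β b := by group
      _ = b⁻¹ * (b * a * b⁻¹) * β b := by rw [hbb, hb]
      _ = a * (b⁻¹ * β b) := by group))
  have hβb : β b = b * a ^ i := by rw [hi, mul_inv_cancel_left]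
  refine ⟨a ^ ((r : ℤ) * (i * u)) * h1, ?_, ?_⟩
  · rw [map_mul, mul_assoc, MulAut.mul_apply, ← hβ, hβb, MulAut.conj_apply, ← mul_assoc,
      ← mul_zpow_conj hb, mul_assoc, mul_assoc, ← zpow_neg, ← zpow_add, ← zpow_add]
    rw [zpow_eq_zpow_of_mod ha (y := 0), zpow_zero, mul_one]
    have hu' : (((r - 1) * u : ℕ) : ℤ) % p = 1 := by exact_mod_cast hu
    rw [Nat.cast_mul, Nat.cast_sub hr] at hu'
    have e : i * u + (i + -((r : ℤ) * (i * u))) = i * (1 - ((r : ℤ) - 1) * u) := by ring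
    rw [e]
    have : ((1 : ℤ) - ((r : ℤ) - 1) * u) % p = 0 := by
      rw [Nat.cast_one] at hu'
      have h1p : (1 : ℤ) % p = 1 :=
        Int.emod_eq_of_lt (by norm_num) (by have := hp.one_lt; omega)
      rw [Int.sub_emod, hu', h1p]
      simp
    rw [Int.mul_emod, this, mul_zero, Int.zero_emod]
  · rw [map_mul, mul_assoc, MulAut.mul_apply, ← hβ]
    rcases hβa with e | e
    · left; rw [e, MulAut.conj_apply]; group
    · right; rw [e, MulAut.conj_apply]; group

/-- An automorphism inverting `a` is not inner if the normaliser of `a` has odd exponent. -/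
theorem not_inverted {a h : G} {p N : ℕ} (ha : orderOf a = p) (hp : 2 < p) (hN : Odd N)
    (hh : h ^ N = 1) : h * a * h⁻¹ ≠ a⁻¹ := by
  intro e
  have key : ∀ n : ℕ, h ^ n * a * (h ^ n)⁻¹ = a ^ ((-1 : ℤ) ^ n) := by
    intro n
    induction n with
    | zero => simp
    | succ n ih =>
      calc h ^ (n + 1) * a * (h ^ (n + 1))⁻¹ = h * (h ^ n * a * (h ^ n)⁻¹) * h⁻¹ := by
            rw [pow_succ']; group
        _ = (h * a * h⁻¹) ^ ((-1 : ℤ) ^ n) := by rw [ih, conj_zpow]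
        _ = _ := by rw [e, pow_succ, ← zpow_neg_one, ← zpow_mul, mul_comm (-1 : ℤ)]
  have := key N
  rw [hh, hN.neg_one_pow, zpow_neg_one] at this
  simp only [one_mul, inv_one, mul_one] at this
  have h2 : a ^ 2 = 1 := by rw [pow_two]; nth_rewrite 1 [this]; exact inv_mul_cancel a
  have := Nat.le_of_dvd (by norm_num) (orderOf_dvd_of_pow_eq_one h2)
  omega

/-- The residues of the exponents in the normaliser. -/
def PowCovers (p r N : ℕ) : Prop :=
  ∀ k : Fin p, k.val ^ N % p = 1 → ∃ j : Fin p, r ^ j.val % p = k.val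

theorem mem_of_normalise [Finite G] {p r N : ℕ} [Fact p.Prime] {a b y : G} {K : Subgroup G}
    (ha : orderOf a = p) (hb : b * a * b⁻¹ = a ^ r) (haK : a ∈ K) (hbK : b ∈ K)
    (hy : y * a * y⁻¹ ∈ Subgroup.zpowers a) (hyN : y ^ N = 1) (hpc : PowCovers p r N)
    (hcent : ∀ y, y * a = a * y → y ∈ Subgroup.zpowers a) : y ∈ K := by
  classical
  have hp := (Fact.out : p.Prime)
  obtain ⟨k, hk, hk'⟩ : ∃ k < p, y * a * y⁻¹ = a ^ k := by
    obtain ⟨k, hk, e⟩ := (IsOfFinOrder.mem_zpowers_iff_mem_range_orderOf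
      (isOfFinOrder_of_finite a)).1 hy |> Finset.mem_image.1
    exact ⟨k, ha ▸ Finset.mem_range.1 hk, e.symm⟩
  have hkN : a ^ (1 * k ^ N) = a ^ 1 := by
    rw [← conj_pow_rel' hk' N 1, hyN, pow_one]; simp
  rw [one_mul, ← pow_mod_orderOf a (k ^ N), ha] at hkN
  have hkN' : k ^ N % p = 1 := pow_injOn_Iio_orderOf
    (Set.mem_Iio.2 (ha.symm ▸ Nat.mod_lt _ hp.pos)) (Set.mem_Iio.2 (ha.symm ▸ hp.one_lt)) hkN
  obtain ⟨j, hj⟩ := hpc ⟨k, hk⟩ hkN'
  have e := conj_pow_rel' hb j.val 1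
  rw [one_mul, pow_one, ← pow_mod_orderOf a (r ^ j.val), ha, hj] at e
  simp only [] at e
  have hmem : (b ^ j.val)⁻¹ * y ∈ Subgroup.zpowers a := hcent _ (by
    calc (b ^ j.val)⁻¹ * y * a = (b ^ j.val)⁻¹ * (y * a * y⁻¹) * y := by group
      _ = (b ^ j.val)⁻¹ * (b ^ j.val * a * (b ^ j.val)⁻¹) * y := by rw [hk', e]
      _ = a * ((b ^ j.val)⁻¹ * y) := by group)
  have := K.mul_mem (K.pow_mem hbK j.val) (Subgroup.zpowers_le.2 haK hmem)
  rwa [mul_inv_cancel_left] at this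

/-- Index of a subgroup containing a point stabiliser and a normaliser. -/
theorem index_data [Finite G] {α : Type*} [MulAction G α] (x : α) {p : ℕ} [Fact p.Prime] {a : G}
    (ha : orderOf a = p) (hp2 : ¬ p ^ 2 ∣ Nat.card G) {K : Subgroup G}
    (hst : MulAction.stabilizer G x ≤ K)
    (hN : ∀ y, y * a * y⁻¹ ∈ Subgroup.zpowers a → y ∈ K) :
    K.index ∣ (MulAction.stabilizer G x).index ∧ K.index % p = 1 ∧
      (MulAction.orbit K x).ncard * K.index = (MulAction.stabilizer G x).index := by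
  have hd := Subgroup.index_dvd_of_le hst
  refine ⟨hd, CrossMax.index_mod_of_normalizer_le ha hp2 fun y hy =>
    hN y ((Subgroup.mem_normalizer_iff.1 hy a).1 (Subgroup.mem_zpowers a)), ?_⟩
  have h1 := CrossMax.card_eq_orbit_mul K x
  rw [inf_eq_right.2 hst] at h1
  have h2 := (MulAction.stabilizer G x).card_mul_index
  rw [← K.card_mul_index, h1] at h2
  exact mul_left_cancel₀ (Nat.card_pos (α := MulAction.stabilizer G x)).ne'
    (by rw [h2]; ring)

/-- If a subgroup has a noncyclic subgroup of order `q²` and exponent `q`, and `q³` does not divide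
its order, it has no element of order `q²`. -/
theorem no_cyclic_square [Finite G] {q : ℕ} [Fact q.Prime] {K P : Subgroup G}
    (hK : ¬ q ^ 3 ∣ Nat.card K) (hPK : P ≤ K) (hP : Nat.card P = q ^ 2)
    (hexp : ∀ x ∈ P, x ^ q = 1) {w : G} (hw : w ∈ K) (how : orderOf w = q ^ 2) : False := by
  have hq := (Fact.out : q.Prime)
  have syl : ∀ H : Subgroup K, Nat.card H = q ^ 2 → ∃ Q : Sylow q K, (Q : Subgroup K) = H := by
    intro H hH
    obtain ⟨Q, hQ⟩ := (IsPGroup.of_card hH).exists_le_sylow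
    refine ⟨Q, (Subgroup.eq_of_le_of_card_ge hQ ?_).symm⟩
    obtain ⟨n, hn⟩ := IsPGroup.iff_card.1 Q.isPGroup'
    have : n ≤ 2 := by
      by_contra h
      exact hK ((pow_dvd_pow q (by omega)).trans (hn ▸ Subgroup.card_subgroup_dvd_card _))
    rw [hn, hH]
    exact Nat.pow_le_pow_right hq.pos this
  obtain ⟨Q, hQ⟩ := syl (P.subgroupOf K) (by
    rw [Nat.card_congr (Subgroup.subgroupOfEquivOfLe hPK).toEquiv, hP])
  obtain ⟨R, hR⟩ := syl (Subgroup.zpowers ⟨w, hw⟩) (by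
    rw [Nat.card_zpowers, Subgroup.orderOf_mk, how])
  obtain ⟨g, hg⟩ := MulAction.exists_smul_eq K R Q
  have hm : g * ⟨w, hw⟩ * g⁻¹ ∈ (Q : Subgroup K) := by
    rw [← hg, Sylow.coe_subgroup_smul, hR]
    exact ⟨_, Subgroup.mem_zpowers _, rfl⟩
  rw [hQ, Subgroup.mem_subgroupOf] at hm
  have := hexp _ hm
  simp only [Subgroup.coe_mul, Subgroup.coe_inv, conj_pow] at this
  rw [mul_inv_eq_one, mul_eq_left] at this
  have := Nat.le_of_dvd hq.pos (orderOf_dvd_of_pow_eq_one this)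
  rw [how] at this
  nlinarith [hq.one_lt]

end Cfsg.Agent.SporStruct.OuterRigid
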