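import Cfsg.Agent.SporStruct.OutCo1Check
import Cfsg.Agent.SporStruct.OuterRigid
import Cfsg.Agent.Lib.Leech.CodeUnique
import Cfsg.Agent.Lib.Leech.Simplicity

/-!
Every automorphism of the largest Conway group is inner.
-/

set_option autoImplicit false

namespace Cfsg.Agent.SporStruct.OutCo1

open Cfsg Cfsg.Agent.Leech CoMatrix
open Cfsg.Agent.Golay (pt idx idx_lt pt_idx idx_pt Tab toSet mem_toSet inCode)
open scoped Pointwise

/-- The quotient map. -/
noncomputable def mk : Co0 →* Spor.Co1 := QuotientGroup.mk' (Subgroup.center Co0)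

theorem mk_surjective : Function.Surjective mk := QuotientGroup.mk'_surjective _

theorem mk_eq {x y : Co0} (h : mk x = mk y) : y = x ∨ y = x * negOne := by
  obtain ⟨z, hz, e⟩ := (QuotientGroup.mk'_eq_mk' _).1 h
  rcases center_eq_or z hz with rfl | rfl
  · exact Or.inl (by rw [← e, mul_one])
  · exact Or.inr e.symm

theorem mk_negOne : mk negOne = 1 := (QuotientGroup.eq_one_iff _).2 negOne_mem_center

theorem eq_of_mk {n : ℕ} (hn : Odd n) {x y : Co0} (hx : x ^ n = 1) (hy : y ^ n = 1)
    (h : mk x = mk y) : x = y := by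
  rcases mk_eq h with e | e
  · exact e.symm
  exfalso
  have hc : Commute x negOne := Subgroup.mem_center_iff.1 negOne_mem_center x
  obtain ⟨m, rfl⟩ := hn
  rw [e, hc.mul_pow, hx, one_mul, pow_succ, pow_mul, pow_two, negOne_sq, one_pow, one_mul] at hy
  exact negOne_ne_one hy

theorem tab_double : Tab Golay.double Golay.doubleTab := Golay.tab_permOf _

theorem rows_g11 : rows g11 = sMat (Golay.doubleTab, 0) :=
  (rows_permHom (σ := ⟨Golay.double, g11_mem⟩) tab_double).trans check_comm.2.2.2.2.1

theorem rows_g23 : rows g23 = sMat (Golay.shiftTab, 0) :=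
  (rows_permHom (σ := ⟨Golay.shift, Golay.shift_mem⟩) Golay.tab_shift).trans check_comm.2.2.2.1

theorem cTab_not_single : ∀ i : Fin 24, cTab.getD 23 [] ≠ unitL i.val ∧
    cTab.getD 23 [] ≠ (unitL i.val).map fun x => -x := by
  decide +kernel

theorem vecL_neg (v : leechLattice) :
    vecL ((-v : leechLattice) : GolayPt → ℤ) = (vecL (v : GolayPt → ℤ)).map fun x => -x := by
  rw [vecL, vecL, List.map_map]
  rfl

/-- The diagonal element. -/
noncomputable def dd : Co0 := mono 1 (toSet_mem_code (check_comm.2.2.1))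

theorem rows_dd : rows dd = sMat (List.range 24, dMask) := rows_mono Golay.tab_one _

/-- A vector of the frame up to sign is on the standard cross. -/
theorem mem_cross {v : leechLattice} {p : ℕ}
    (h : v = frame (pt p) ∨ v = -frame (pt p)) : (v : GolayPt → ℤ) ∈ stdCross := by
  rcases h with rfl | rfl
  · exact mem_stdCross_frame _
  · refine ⟨pt p, -8, Or.inr rfl, ?_⟩
    show -(Pi.single (pt p) (8 : ℤ) : GolayPt → ℤ) = _
    rw [← Pi.single_neg]

theorem symmDiff_empty' (c : Finset GolayPt) : symmDiff c ∅ = c ∧ symmDiff ∅ c = c := by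
  constructor <;> ext <;> simp [Finset.mem_symmDiff]

/-- A monomial element commuting with `g11`. -/
theorem mono_centralise {σ : M24} {cs : Finset GolayPt} {hcs : cs ∈ code}
    (h : mono σ hcs * g11 = g11 * mono σ hcs) :
    ∃ z : Co0, (z = 1 ∨ z = negOne) ∧ ∃ k < 2, ∃ i < 11, mono σ hcs = z * dd ^ k * g11 ^ i := by
  set δ : M24 := ⟨Golay.double, g11_mem⟩ with hδ
  have hg : g11 = mono δ empty_mem_code := rfl
  rw [hg, mono_mul _ _ _ _ (symmDiff_mem_code hcs (smul_mem_code σ empty_mem_code)),
    mono_mul _ _ _ _ (symmDiff_mem_code empty_mem_code (smul_mem_code δ hcs))] at h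
  obtain ⟨hσδ, hcc⟩ := mono_injective h
  have hcomm : ∀ p, σ.1 (Golay.double p) = Golay.double (σ.1 p) := fun p =>
    congrArg (fun s : M24 => s.1 p) hσδ
  have hcinv : Golay.double • cs = cs := by
    have := hcc
    rw [Finset.smul_finset_empty, (symmDiff_empty' cs).1, (symmDiff_empty' _).2] at this
    exact this.symm
  have hfixed : ∀ p, Golay.double p = p → p = none ∨ p = some 0 := by
    have : ∀ i : Fin 24, Golay.doubleTab.getD i.val 0 = i.val → i.val = 23 ∨ i.val = 0 := by
      decide +kernel
    intro p hp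
    have e := tab_double _ (idx_lt p)
    rw [pt_idx, hp] at e
    rcases this ⟨idx p, idx_lt p⟩ e.symm with e' | e' <;> [left; right] <;>
      rw [← pt_idx p, show idx p = _ from e'] <;> rfl
  have h0 := hfixed (σ.1 none) (by rw [← hcomm, g11_none])
  have h1 := hfixed (σ.1 (some 0)) (by rw [← hcomm, g11_some, mul_zero])
  have hrel : permHom σ * g11 * (permHom σ)⁻¹ = g11 ^ 1 := by
    have : σ * δ = δ * σ := Subtype.ext (Equiv.ext hcomm)
    rw [pow_one, mul_inv_eq_iff_eq_mul, g11, ← map_mul, ← map_mul, this]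
  have hne : (none : GolayPt) ≠ some 0 := by simp
  rcases h0 with h0 | h0
  swap
  · exfalso
    have h1' : σ.1 (some 0) = none :=
      h1.resolve_right fun e => hne (σ.1.injective (h0.trans e.symm))
    have hex : ∀ t : ZMod 23, t ≠ 0 → ∃ u, σ.1 (some t) = some u := fun t ht =>
      Option.ne_none_iff_exists'.1 fun e => ht (Option.some_injective _ (σ.1.injective (e.trans h1'.symm)))
    obtain ⟨u, hu⟩ := hex 1 (by decide)
    obtain ⟨w, hw⟩ := hex 5 (by decide)
    have htab : Tab σ.1 (swTab u.val w.val) := by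
      intro i hi
      rw [swTab, Golay.getD_map_range _ hi]
      rcases eq_or_ne i 23 with e | e
      · subst e
        show idx (σ.1 none) = _
        rw [h0]; rfl
      rw [if_neg e]
      rcases eq_or_ne i 0 with e' | e'
      · subst e'
        show idx (σ.1 (some 0)) = _
        rw [h1']; rfl
      rw [if_neg e', semTab, Golay.getD_map_range _ hi, if_neg e, if_neg e',
        show pt i = some (i : ZMod 23) from if_pos (by omega)]
      rcases log_facts ⟨i, hi⟩ with h' | h' | ⟨hc, hv⟩ | ⟨hc, hv⟩
      · exact absurd h' e'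
      · exact absurd h' e
      · simp only [] at hc hv
        rw [if_pos hc, hv, ← mul_one ((2 : ZMod 23) ^ _), perm_hall_11 hrel hu]
        simp only [Golay.idx]
        rw [← ZMod.val_natCast]
        congr 1
        push_cast
        simp
      · simp only [] at hc hv
        rw [if_neg (by rw [hc]; norm_num), hv, mul_comm, perm_hall_11 hrel hw]
        simp only [Golay.idx]
        rw [← ZMod.val_natCast]
        congr 1
        push_cast
        simp
    rcases check_swap ⟨u.val, ZMod.val_lt u⟩ ⟨w.val, ZMod.val_lt w⟩ with e | e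
    · exact absurd (isPermTab_of_tab htab) (by rw [e]; simp)
    · exact not_mem_of_autFail htab e σ.2
  have h1' : σ.1 (some 0) = some 0 :=
    h1.resolve_left fun e => hne (σ.1.injective (h0.trans e.symm))
  obtain ⟨i, hi, hgi⟩ : ∃ i < 11, permHom σ = g11 ^ i := by
    have hmem := perm_centralise_11 h0 h1' (mul_inv_eq_iff_eq_mul.1 (hrel.trans (pow_one _)))
    obtain ⟨m, hm⟩ := Subgroup.mem_zpowers_iff.1 hmem
    refine ⟨(m % 11).toNat, by omega, ?_⟩
    rw [← hm, ← zpow_natCast, Int.toNat_of_nonneg (by omega)]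
    have := zpow_mod_orderOf g11 m
    rw [orderOf_g11] at this
    exact this.symm
  obtain ⟨n, hn, hns⟩ := Golay.mem_supports_iff.1 hcs
  have hnlt := Golay.inCode_lt hn
  set mm : ℕ := maskOf (fun k => n.testBit (repL.getD k 0)) [0, 1, 2, 3] with hmm
  have hmlt : mm < 16 := Nat.lt_pow_two_of_testBit (n := 4) _ fun j hj => by
    rw [Bool.eq_false_iff]
    intro h'
    have := ((testBit_maskOf _ _ _).1 h').1
    simp only [List.mem_cons, List.not_mem_nil, or_false] at this
    omega
  have hstepn : ∀ j < 24, n.testBit (Golay.doubleTab.getD j 0) = n.testBit j := by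
    intro j hj
    have e : Golay.double (pt j) = pt (Golay.doubleTab.getD j 0) := by rw [← tab_double j hj, pt_idx]
    have h' : Golay.double (pt j) ∈ toSet n ↔ pt j ∈ toSet n := by
      rw [hns]
      nth_rewrite 1 [← hcinv]
      exact Finset.smul_mem_smul_finset_iff _
    rw [e, mem_toSet, mem_toSet, idx_pt hj, idx_pt (tab_double.lt hj)] at h'
    exact Bool.eq_iff_iff.2 h'
  have hmask : n = clsMask mm := by
    refine Nat.eq_of_testBit_eq fun j => ?_
    rcases lt_or_ge j 24 with hj | hj
    · obtain ⟨k, hk⟩ := check_cls.1 ⟨j, hj⟩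
      have hk4 := check_cls.2.2 ⟨j, hj⟩
      simp only [] at hk hk4
      have hit : ∀ q < 11, n.testBit (iterD q (repL.getD (clsL.getD j 0) 0)) =
          n.testBit (repL.getD (clsL.getD j 0) 0) := by
        intro q hq
        induction q with
        | zero => rfl
        | succ q ih =>
          rw [iterD, hstepn _ (check_cls.2.1 ⟨_, hk4⟩ ⟨q, by omega⟩), ih (by omega)]
      have e1 := hit k k.2
      rw [hk] at e1
      rw [e1, Bool.eq_iff_iff, clsMask, testBit_maskOf, hmm, testBit_maskOf]
      simp only [List.mem_range, List.mem_cons, List.not_mem_nil, or_false]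
      constructor
      · intro e; exact ⟨hj, by omega, e⟩
      · rintro ⟨-, -, e⟩; exact e
    · rw [Nat.testBit_lt_two_pow (lt_of_lt_of_le hnlt (Nat.pow_le_pow_right (by norm_num) hj)),
        eq_comm, Bool.eq_false_iff]
      intro h'
      have := List.mem_range.1 ((testBit_maskOf _ _ _).1 h').1
      omega
  have hmono : ∀ (c' : Finset GolayPt) (hc' : c' ∈ code), cs = c' →
      mono σ hcs = mono 1 hc' * permHom σ := by
    rintro c' hc' rfl
    rw [show permHom σ = mono σ empty_mem_code from rfl,
      mono_mul 1 σ hc' empty_mem_code (by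
        rw [Finset.smul_finset_empty, (symmDiff_empty' cs).1]; exact hc')]
    refine ext_frame fun q => Subtype.ext ?_
    simp only [coe_mono_smul, Finset.smul_finset_empty, (symmDiff_empty' cs).1, one_mul]
  rcases check_masks ⟨mm, hmlt⟩ with e | e
  · simp only [] at e
    rw [← hmask, hn] at e
    simp at e
  simp only [← hmask, List.mem_cons, List.not_mem_nil, or_false] at e
  have one_eq : mono 1 empty_mem_code = (1 : Co0) := map_one permHom
  rcases e with e | e | e | e <;> rw [e] at hns
  · refine ⟨1, Or.inl rfl, 0, by norm_num, i, hi, ?_⟩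
    rw [hmono ∅ empty_mem_code (hns.symm.trans toSet_zero), hgi, one_eq]
    simp only [pow_zero, one_mul]
  · refine ⟨1, Or.inl rfl, 1, by norm_num, i, hi, ?_⟩
    rw [hmono _ (toSet_mem_code check_comm.2.2.1) hns.symm, hgi, one_mul, pow_one]
    rfl
  · refine ⟨negOne, Or.inr rfl, 1, by norm_num, i, hi, ?_⟩
    have hx : symmDiff Finset.univ ((1 : M24).1 • toSet dMask) ∈ code := by
      simpa using symmDiff_mem_code univ_mem_code (toSet_mem_code check_comm.2.2.1)
    rw [hmono _ hx (by rw [← hns, toSet_xor, toSet_allMask, symmDiff_comm]; simp), hgi, pow_one, dd,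
      negOne_eq, mono_mul 1 1 _ _ hx, mul_one]
  · refine ⟨negOne, Or.inr rfl, 0, by norm_num, i, hi, ?_⟩
    rw [hmono _ univ_mem_code (hns.symm.trans toSet_allMask), hgi, pow_zero, mul_one, negOne_eq]

/-- The centraliser of `g11`. -/
theorem centraliser11 {c : Co0} (hc : rows c = cTab) {y : Co0} (hy : y * g11 = g11 * y) :
    ∃ z : Co0, (z = 1 ∨ z = negOne) ∧ ∃ j < 3, ∃ k < 2, ∃ i < 11,
      y = z * (c ^ j * dd ^ k * g11 ^ i) := by
  have hgf : g11 • frame none = frame none := by
    refine Subtype.ext (funext fun p => ?_)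
    rw [g11, coe_permHom_smul]
    show (Pi.single none (8 : ℤ) : GolayPt → ℤ) _ = (Pi.single none (8 : ℤ) : GolayPt → ℤ) p
    simp only [Pi.single_apply]
    exact if_congr (by rw [Equiv.symm_apply_eq, g11_none]) rfl rfl
  set x : leechLattice := y • frame none with hx
  have hgx : g11 • x = x := by rw [hx, ← mul_smul, ← hy, mul_smul, hgf]
  have hstep : ∀ i < 24, (x : GolayPt → ℤ) (pt (Golay.doubleTab.getD i 0)) =
      (x : GolayPt → ℤ) (pt i) := by
    intro i hi
    have e : Golay.double (pt i) = pt (Golay.doubleTab.getD i 0) := by rw [← tab_double i hi, pt_idx]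
    have := congrFun (congrArg Subtype.val hgx) (pt (Golay.doubleTab.getD i 0))
    rw [g11, coe_permHom_smul] at this
    rw [← e] at this ⊢
    rw [Equiv.symm_apply_apply] at this
    exact this.symm
  set v : ℕ → ℤ := fun k => (x : GolayPt → ℤ) (pt (repL.getD k 0)) with hv
  have hvec : vecL (x : GolayPt → ℤ) = ofCls (v 0) (v 1) (v 2) (v 3) := by
    refine range_map_congr fun i hi => ?_
    obtain ⟨k, hk⟩ := check_cls.1 ⟨i, hi⟩
    have hk4 := check_cls.2.2 ⟨i, hi⟩
    simp only [] at hk hk4
    have hit : ∀ q < 11, (x : GolayPt → ℤ) (pt (iterD q (repL.getD (clsL.getD i 0) 0))) =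
        v (clsL.getD i 0) := by
      intro q hq
      induction q with
      | zero => rfl
      | succ q ih => rw [iterD, hstep _ (check_cls.2.1 ⟨_, hk4⟩ ⟨q, by omega⟩), ih (by omega)]
    rw [← hk, hit k k.2]
    have : ∀ m < 4, [v 0, v 1, v 2, v 3].getD m 0 = v m := by
      intro m hm; interval_cases m <;> rfl
    rw [hk]
    exact (this _ hk4).symm
  have hnorm : v 0 * v 0 + v 1 * v 1 + 11 * (v 2 * v 2 + v 3 * v 3) = 64 := by
    have h1 := sqNorm_smul y (frame none)
    rw [← hx, Leech.sqNorm_frame, ← dotInt_self, dotInt_sum] at h1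
    have h2 := sum_range_eq fun i => (x : GolayPt → ℤ) (pt i) * (x : GolayPt → ℤ) (pt i)
    simp only [pt_idx] at h2
    rw [h1] at h2
    have h3 : ((List.range 24).map fun i => (x : GolayPt → ℤ) (pt i) * (x : GolayPt → ℤ) (pt i)) =
        (ofCls (v 0) (v 1) (v 2) (v 3)).map fun a => a * a := by
      rw [← hvec, vecL, List.map_map]; rfl
    rw [h3] at h2
    simp [ofCls, clsL, List.range_succ] at h2
    linarith
  have hrng : ∀ {b : ℕ} {a : ℤ}, -(b : ℤ) ≤ a → a ≤ b → a ∈ rngZ b := fun {b a} h1 h2 => by
    simp only [rngZ, List.mem_map, List.mem_range]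
    exact ⟨(a + b).toNat, by omega, by omega⟩
  have s0 := mul_self_nonneg (v 0); have s1 := mul_self_nonneg (v 1)
  have s2 := mul_self_nonneg (v 2); have s3 := mul_self_nonneg (v 3)
  have henum := check_enum
  simp only [List.all_eq_true, Bool.or_eq_true, Bool.not_eq_true', decide_eq_false_iff_not,
    decide_eq_true_eq] at henum
  rcases henum (v 2) (hrng (by push_cast; nlinarith) (by push_cast; nlinarith))
    (v 3) (hrng (by push_cast; nlinarith) (by push_cast; nlinarith))
    (v 0) (hrng (by push_cast; nlinarith) (by push_cast; nlinarith))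
    (v 1) (hrng (by push_cast; nlinarith) (by push_cast; nlinarith)) with (e | e) | e
  · exact absurd hnorm e
  · rw [← hvec, (inLB_vecL _).2 x.2] at e
    exact Bool.noConfusion e
  rw [← hvec] at e
  have hTc : ((([c] : List Co0).map (MonoidHom.id Co0)).map rows) = [cTab] := by simp [hc]
  obtain ⟨j, hj, p, hp, hxp⟩ : ∃ j < 3, ∃ p < 24,
      (c ^ j)⁻¹ • x = frame (pt p) ∨ (c ^ j)⁻¹ • x = -frame (pt p) := by
    simp only [List.mem_map, imgs, List.mem_flatMap, List.mem_range] at e
    obtain ⟨t, ⟨j, hj, p, hp, ht⟩, et⟩ := e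
    have hp24 : p < 24 := by
      simp only [List.mem_cons, List.not_mem_nil, or_false] at hp
      omega
    have hcj : vecL ((c ^ j • frame (pt p) : leechLattice) : GolayPt → ℤ) =
        evalV [cTab] (List.replicate j 0) (unitL p) := by
      have := vecL_wordV (G := Co0) hTc (frame (pt p)) (List.replicate j 0)
      rw [vecL_frame, idx_pt hp24, word, List.map_replicate, List.prod_replicate] at this
      simpa using this
    simp only [List.mem_cons, List.not_mem_nil, or_false] at ht
    refine ⟨j, hj, p, hp24, ?_⟩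
    rcases ht with rfl | rfl
    · left
      rw [inv_smul_eq_iff]
      exact Subtype.ext (vecL_inj (et.symm.trans hcj.symm))
    · right
      rw [inv_smul_eq_iff, smul_neg']
      refine Subtype.ext (vecL_inj (et.symm.trans ?_))
      rw [vecL_neg, hcj]
  set u := (c ^ j)⁻¹ * y with hu
  have hcg : Commute c g11 := rows_injective (by
    rw [rows_mul, rows_mul, hc, rows_g11, ← check_comm.2.2.2.2.1]; exact check_comm.1)
  have hug : u * g11 = g11 * u := ((hcg.pow_left j).inv_left.mul_left hy).eq
  have hpres : CrossMax.Pres u := CrossMax.pres_of_frame (j := none) (by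
    rw [hu, mul_smul, ← hx]; exact mem_cross hxp)
  obtain ⟨σ, cs, hcs, hm⟩ := exists_eq_mono hpres
  rw [hm] at hug
  obtain ⟨z, hz, k, hk, i, hi, hzm⟩ := mono_centralise hug
  refine ⟨z, hz, j, hj, k, hk, i, hi, ?_⟩
  have hzc : z ∈ Subgroup.center Co0 := by
    rcases hz with rfl | rfl
    exacts [one_mem _, negOne_mem_center]
  rw [show y = c ^ j * u by rw [hu, mul_inv_cancel_left], hm, hzm, ← mul_assoc, ← mul_assoc,
    Subgroup.mem_center_iff.1 hzc (c ^ j)]
  group

theorem card_out : Nat.card (Out Spor.Co1) = 1 := by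
  haveI := finite_Co0 codeUnique
  haveI : Finite Spor.Co1 := Finite.of_surjective mk mk_surjective
  haveI : Fact (Nat.Prime 23) := ⟨by norm_num⟩
  obtain ⟨c₀, hc₀⟩ := exists_elem check_c.1 check_c.2
  set L7 : List Co0 := [g23, g11, c₀, g23 ^ 22, g11 ^ 10, c₀ ^ 2, dd] with hL7
  obtain ⟨hi1, hi2, hi3⟩ := check_inverses
  have hrows : L7.map rows = gens7 := by
    simp only [hL7, List.map_cons, List.map_nil, rows_pow, rows_g23, rows_g11, hc₀, rows_dd, hi1, hi2,
      hi3, gens7]
  have hT : (L7.map (MonoidHom.id Co0)).map rows = gens7 := by simpa using hrows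
  have hg23p : g23 ^ 23 = 1 := by rw [← orderOf_g23, pow_orderOf_eq_one]
  have hg11p : g11 ^ 11 = 1 := by rw [← orderOf_g11, pow_orderOf_eq_one]
  set a := mk g23 with ha
  set b := mk g11 with hb
  set c := mk c₀ with hc
  have hao : orderOf a = 23 := by
    refine orderOf_eq_prime (by rw [ha, ← map_pow, hg23p, map_one]) fun h => ?_
    have e := eq_of_mk (n := 23) (by decide) hg23p (one_pow _) (h.trans (map_one mk).symm)
    have h' := orderOf_g23
    rw [e, orderOf_one] at h'
    norm_num at h'
  have hba : b * a * b⁻¹ = a ^ 2 := by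
    have e : g11 * g23 = g23 ^ 2 * g11 := rows_injective (by
      rw [rows_mul, rows_mul, rows_pow, rows_g11, rows_g23]; exact check_comm.2.2.2.2.2)
    rw [ha, hb, ← map_inv, ← map_mul, ← map_mul, e, mul_inv_cancel_right, map_pow]
  have hcent : ∀ y, y * a = a * y → y ∈ Subgroup.zpowers a := by
    intro y hy
    obtain ⟨y, rfl⟩ := mk_surjective y
    have e : y * g23 * y⁻¹ = g23 := eq_of_mk (n := 23) (by decide) (by rw [conj_pow, hg23p]; group)
      hg23p (by rw [map_mul, map_mul, map_inv, ← ha, hy, mul_inv_cancel_right])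
    obtain ⟨z, hz, -, hzc⟩ := normalise_23 (y := y) (by rw [e]; exact Subgroup.mem_zpowers g23)
    obtain ⟨i, hi⟩ := Subgroup.mem_zpowers_iff.1 (hzc (mul_inv_eq_iff_eq_mul.1 e))
    refine ⟨i, ?_⟩
    show a ^ i = mk y
    rw [ha, ← map_zpow, hi, map_mul]
    rcases hz with rfl | rfl
    · rw [map_one, one_mul]
    · rw [mk_negOne, one_mul]
  have hcard : ¬ 23 ^ 2 ∣ Nat.card Spor.Co1 := by
    rw [show Nat.card Spor.Co1 = _ from isCo1_quot.2]; norm_num
  -- generation
  have hgen : Subgroup.closure {x | x ∈ [a, b, c]} = ⊤ := by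
    set K := Subgroup.closure {x | x ∈ [a, b, c]} with hK
    set K0 := K.comap mk with hK0
    have m0 : g23 ∈ K0 := Subgroup.subset_closure (by simp [ha])
    have m1 : g11 ∈ K0 := Subgroup.subset_closure (by simp [hb])
    have m2 : c₀ ∈ K0 := Subgroup.subset_closure (by simp [hc])
    have hneg : negOne ∈ K0 := by
      show mk negOne ∈ K
      rw [mk_negOne]; exact K.one_mem
    have h6 : ∀ M ∈ gens7.take 6, InK K0 M := by
      intro M hM
      rw [← hrows, ← List.map_take, List.mem_map] at hM
      obtain ⟨x, hx, rfl⟩ := hM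
      refine ⟨x, ?_, rfl⟩
      simp only [hL7, List.take_succ_cons, List.take_zero, List.mem_cons, List.not_mem_nil, or_false] at hx
      rcases hx with rfl | rfl | rfl | rfl | rfl | rfl
      exacts [m0, m1, m2, K0.pow_mem m0 _, K0.pow_mem m1 _, K0.pow_mem m2 _]
    have hmon : ∀ M ∈ monPs.map sMat, InK K0 M := by
      intro M hM
      rw [← check_mon, List.mem_map] at hM
      obtain ⟨w, -, rfl⟩ := hM
      exact inK_evalW h6 w
    obtain ⟨s1, s2, s3, s4, s5⟩ := check_slp
    have hshift : InK K0 (sMat (Golay.shiftTab, 0)) := ⟨g23, m0, rows_g23⟩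
    have hd4 : ∀ M ∈ diagGens, InK K0 M := by
      intro M hM
      simp only [diagGens, List.mem_cons, List.not_mem_nil, or_false] at hM
      rcases hM with rfl | rfl | rfl | rfl
      · exact hshift
      · exact hi1 ▸ inK_pow hshift 22
      · exact s3 ▸ inK_evalW hmon _
      · exact ⟨negOne, hneg, rows_negOne⟩
    have htop : K0 = ⊤ := eq_top_of_monomial hshift (s1 ▸ inK_evalW hmon _) (s2 ▸ inK_evalW hmon _)
      s4 s5 (fun b hb => by
        have hm : sMat (List.range 24, b) ∈ Golay.basisN.map fun b => sMat (List.range 24, b) :=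
          List.mem_map.2 ⟨b, hb, rfl⟩
        rw [← check_basis, List.mem_map] at hm
        obtain ⟨w, -, e⟩ := hm
        exact e ▸ inK_evalW hd4 w) m2 (fun hp => by
        obtain ⟨i, s, hs, e⟩ := hp (frame none) (mem_stdCross_frame none)
        have hrow : cTab.getD 23 [] = vecL ((c₀ • frame none : leechLattice) : GolayPt → ℤ) := by
          rw [← hc₀, rows, getD_range_map _ _ (by norm_num : 23 < 24)]
          rfl
        rw [e] at hrow
        rcases hs with rfl | rfl
        · exact (cTab_not_single ⟨idx i, idx_lt i⟩).1 (hrow.trans (vecL_frame i))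
        · refine (cTab_not_single ⟨idx i, idx_lt i⟩).2 (hrow.trans ?_)
          show _ = (unitL (idx i)).map _
          rw [← vecL_frame, ← vecL_neg, show (Pi.single i (-8) : GolayPt → ℤ) = -Pi.single i (8 : ℤ)
            from Pi.single_neg i 8]
          rfl)
    rw [← Subgroup.map_comap_eq_self_of_surjective mk_surjective K, ← hK0, htop,
      Subgroup.map_top_of_surjective mk mk_surjective]
  -- the relations
  have hrelv : ∀ r ∈ relsQ, mk (word L7 r.1) ^ r.2 = 1 := by
    intro r hr
    rw [← map_pow]
    rcases check_rels r hr with e | e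
    · rw [show word L7 r.1 ^ r.2 = 1 from rows_injective (by
        rw [rows_pow, rows_word L7 gens7 hrows, e, rows_one]), map_one]
    · rw [show word L7 r.1 ^ r.2 = negOne from rows_injective (by
        rw [rows_pow, rows_word L7 gens7 hrows, e, rows_negOne]; rfl), mk_negOne]
  refine OuterRigid.card_out_eq_one fun α => ?_
  obtain ⟨h, hβb, hβa⟩ := OuterRigid.normalise (p := 23) (r := 2) (u := 1) hcard hao hba hcent
    (by unfold OuterRigid.Covers; decide +kernel) (by norm_num) (by norm_num) α
  set β := MulAut.conj h * α with hβ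
  -- the image of `c`
  obtain ⟨y, hy⟩ := mk_surjective (β c)
  have hcb : c * b = b * c := by
    rw [hc, hb, ← map_mul, ← map_mul]
    congr 1
    exact rows_injective (by rw [rows_mul, rows_mul, hc₀, rows_g11, ← check_comm.2.2.2.2.1]; exact check_comm.1)
  have hyb : y * g11 * y⁻¹ = g11 := eq_of_mk (n := 11) (by decide) (by rw [conj_pow, hg11p]; group)
    hg11p (by
      rw [map_mul, map_mul, map_inv, hy, ← hb, mul_inv_eq_iff_eq_mul]
      calc β c * b = β (c * b) := by rw [map_mul, hβb]
        _ = b * β c := by rw [hcb, map_mul, hβb])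
  obtain ⟨z, hz, j, hj, k, hk, i, hi, hyz⟩ := centraliser11 hc₀ (mul_inv_eq_iff_eq_mul.1 hyb)
  have hmz : mk z = 1 := by
    rcases hz with rfl | rfl
    exacts [map_one mk, mk_negOne]
  have hβc : β c = mk (word L7 (List.replicate j 2 ++ List.replicate k 6 ++ List.replicate i 1)) := by
    rw [← hy, hyz, map_mul, hmz, one_mul, word_append, word_append]
    simp only [word, List.map_replicate, List.prod_replicate]
    rfl
  obtain ⟨e, he, hβae⟩ : ∃ e ∈ [0, 3], β a = mk (word L7 [e]) := by
    rcases hβa with e' | e'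
    · exact ⟨0, by simp, by rw [e', word_singleton]; rfl⟩
    · refine ⟨3, by simp, ?_⟩
      rw [e', word_singleton]
      show a⁻¹ = mk (g23 ^ 22)
      rw [map_pow, ← ha, inv_eq_iff_mul_eq_one, ← pow_succ']
      exact orderOf_dvd_iff_pow_eq_one.1 (by rw [hao])
  have hsub : ∀ W : List ℕ, (∀ t ∈ W, t < 3) →
      β (mk (word L7 W)) = mk (word L7 (W.flatMap fun t => (substQ e j k i).getD t [])) := by
    intro W
    induction W with
    | nil =>
      intro _
      simp [word]
    | cons t W ih =>
      intro hW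
      rw [List.flatMap_cons, word_append, map_mul mk, ← ih fun s hs => hW s (List.mem_cons_of_mem _ hs),
        show word L7 (t :: W) = L7.getD t 1 * word L7 W from List.prod_cons, map_mul mk, map_mul β]
      congr 1
      have ht := hW t List.mem_cons_self
      interval_cases t
      · exact hβae
      · show β b = mk (word L7 [1])
        rw [word_singleton]; exact hβb
      · exact hβc
  have hallowed : (e, j, k, i) = (0, 1, 0, 0) := by
    have hcov := check_cover
    simp only [List.all_eq_true, List.mem_range, Bool.or_eq_true, decide_eq_true_eq,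
      List.any_eq_true] at hcov
    rcases hcov e he j hj k hk i hi with h' | ⟨r, hr, hkill⟩
    · exact h'
    exfalso
    simp only [killQ, Bool.and_eq_true, List.all_eq_true, decide_eq_true_eq, bne_iff_ne, ne_eq] at hkill
    obtain ⟨⟨hW, hk1⟩, hk2⟩ := hkill
    set w := word L7 (List.replicate r.2 (r.1.flatMap fun t => (substQ e j k i).getD t [])).flatten with hw
    have h1 : mk w = 1 := by
      rw [hw, word_replicate, map_pow, ← hsub r.1 hW, ← map_pow, hrelv r hr, map_one]
    obtain ⟨v, hv⟩ : ∃ v : leechLattice, vecL (v : GolayPt → ℤ) = testV :=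
      ⟨⟨vecP testV, (inLB_vecL _).1 (by rw [vecL_vecP (by decide)]; decide +kernel)⟩,
        vecL_vecP (by decide)⟩
    have hwv : vecL ((w • v : leechLattice) : GolayPt → ℤ) =
        evalV gens7 (List.replicate r.2 (r.1.flatMap fun t => (substQ e j k i).getD t [])).flatten testV := by
      rw [← hv]
      exact vecL_wordV hT v _
    rcases mk_eq (h1.trans (map_one mk).symm).symm with e' | e'
    · rw [e', one_smul, hv] at hwv
      exact hk1 hwv.symm
    · rw [e', one_mul, negOne_smul, vecL_neg, hv] at hwv
      exact hk2 hwv.symm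
  simp only [Prod.mk.injEq] at hallowed
  obtain ⟨rfl, rfl, rfl, rfl⟩ := hallowed
  refine innOfConjMul (h := h) (β := α) ?_
  apply MulEquiv.ext
  intro x
  have hdense := MonoidHom.eq_of_eqOn_dense hgen (f := β.toMonoidHom) (g := MonoidHom.id _) (by
    intro g hg
    simp only [Set.mem_setOf_eq, List.mem_cons, List.not_mem_nil, or_false] at hg
    rcases hg with rfl | rfl | rfl
    · show β a = a
      rw [hβae, word_singleton]; rfl
    · exact hβb
    · show β c = c
      rw [hβc]
      simp [word, hL7, hc])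
  exact DFunLike.congr_fun hdense x
where
  innOfConjMul {G : Type} [Group G] {β : MulAut G} {h : G}
      (e : MulAut.conj h * β = 1) : β ∈ Inn G := by
    rw [← inv_eq_iff_mul_eq_one.2 e]
    exact (Inn G).inv_mem ⟨h, rfl⟩

end Cfsg.Agent.SporStruct.OutCo1
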