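import Cfsg.Agent.SporStruct.CoPacked
import Cfsg.Agent.SporStruct.CrossMax
import Cfsg.Agent.Lib.Golay.Simple

/-!
Checks on words in tabulated elements of Co0.
-/

set_option autoImplicit false

namespace Cfsg.Agent.SporStruct.CoMatrix

open Cfsg Cfsg.Agent.Leech
open Cfsg.Agent.Golay (pt idx idx_lt pt_idx idx_pt Tab)

/-- The unit vectors. -/
def unitL (k : ℕ) : List ℤ := (List.range 24).map fun i => if i = k then 8 else 0

theorem vecL_frame (p : GolayPt) : vecL (frame p : GolayPt → ℤ) = unitL (idx p) :=
  range_map_congr fun i hi => by
    show (Pi.single p (8 : ℤ) : GolayPt → ℤ) (pt i) = _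
    rw [Pi.single_apply]
    refine if_congr ⟨fun e => ?_, fun e => ?_⟩ rfl rfl
    · rw [← e, idx_pt hi]
    · rw [e, pt_idx]

variable {G : Type*} [Group G] {ι : G →* Co0} {L : List G} {T : List (List (List ℤ))}

theorem rows_map_word (hT : (L.map ι).map rows = T) (w : List ℕ) :
    rows (ι (word L w)) = evalW T w := by
  rw [map_word, rows_word _ T hT]

theorem rows_getD (hT : (L.map ι).map rows = T) (j : ℕ) :
    rows (ι (L.getD j 1)) = T.getD j idMat := by
  rw [← hT, ← rows_one, List.getD_map, ← map_one ι, List.getD_map]

/-- The image of a vector under a word. -/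
def evalV (T : List (List (List ℤ))) (w : List ℕ) (v : List ℤ) : List ℤ :=
  w.foldr (fun j x => mapV (T.getD j idMat) x) v

theorem vecL_wordV (hT : (L.map ι).map rows = T) (v : leechLattice) : ∀ w : List ℕ,
    vecL ((ι (word L w) • v : leechLattice) : GolayPt → ℤ) = evalV T w (vecL (v : GolayPt → ℤ))
  | [] => by
    rw [show word L [] = 1 from rfl, map_one, one_smul]
    rfl
  | j :: w => by
    rw [show word L (j :: w) = L.getD j 1 * word L w from List.prod_cons, map_mul, mul_smul,
      ← mapV_rows, vecL_wordV hT v w, rows_getD hT]
    rfl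

theorem rows_word_packed (hT : (L.map ι).map rows = T) (w : List ℕ) :
    rows (ι (word L w)) = evalP T w := by
  rw [map_word, ← hT, evalP_word]

theorem vecL_word (hT : (L.map ι).map rows = T) (p : GolayPt) (w : List ℕ) :
    vecL ((ι (word L w) • frame p : leechLattice) : GolayPt → ℤ) = evalPV T w (unitL (idx p)) := by
  rw [map_word, ← hT, ← vecL_frame, evalPV_word _ _ (sqNorm_frame p).le]

theorem word_pow_eq_one (hι : Function.Injective ι) (hT : (L.map ι).map rows = T) {w : List ℕ}
    {n : ℕ} (h : powP (packT (evalP T w)) n = idMat) : word L w ^ n = 1 := by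
  refine hι (rows_injective ?_)
  rw [map_pow, ← powP_rows, rows_word_packed hT, h, map_one, rows_one]

theorem word_append {H : Type*} [Monoid H] (M : List H) (u v : List ℕ) :
    word M (u ++ v) = word M u * word M v := by
  rw [word, List.map_append, List.prod_append]; rfl

theorem word_replicate {H : Type*} [Monoid H] (M : List H) (w : List ℕ) :
    ∀ n, word M (List.replicate n w).flatten = word M w ^ n
  | 0 => by simp [word]
  | n + 1 => by
    rw [List.replicate_succ, List.flatten_cons, word_append, word_replicate M w n, pow_succ']

theorem word_singleton {H : Type*} [Monoid H] (M : List H) (j : ℕ) : word M [j] = M.getD j 1 := by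
  simp [word]

theorem hom_word {H : Type*} [Monoid H] (α : H →* H) (M : List H) (s : List (List ℕ))
    (hα : ∀ j < M.length, α (M.getD j 1) = word M (s.getD j [])) :
    ∀ w : List ℕ, (∀ j ∈ w, j < M.length) → α (word M w) = word M (w.flatMap fun j => s.getD j [])
  | [], _ => map_one α
  | j :: w, hw => by
    rw [show word M (j :: w) = M.getD j 1 * word M w from List.prod_cons, map_mul,
      hα j (hw j List.mem_cons_self), hom_word α M s hα w (fun i hi => hw i (List.mem_cons_of_mem _ hi)),
      List.flatMap_cons, word_append]

/-- A relation failing for substituted generators. -/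
noncomputable def killB (T : List (List (List ℤ))) (W : List ℕ) (n : ℕ) (s : List (List ℕ)) (k : ℕ) : Bool :=
  (W.all fun j => decide (j < T.length)) &&
    evalPV T (List.replicate n (W.flatMap fun j => s.getD j [])).flatten (unitL k) != unitL k

theorem kill (hι : Function.Injective ι) (hT : (L.map ι).map rows = T) (α : G →* G)
    {s : List (List ℕ)} (hα : ∀ j < L.length, α (L.getD j 1) = word L (s.getD j []))
    {W : List ℕ} {n k : ℕ} (hW : powP (packT (evalP T W)) n = idMat) (hk : k < 24)
    (h : killB T W n s k = true) : False := by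
  simp only [killB, Bool.and_eq_true, List.all_eq_true, decide_eq_true_eq, bne_iff_ne, ne_eq] at h
  refine h.2 ?_
  have hlen : T.length = L.length := by rw [← hT]; simp
  have e : word L (List.replicate n (W.flatMap fun j => s.getD j [])).flatten = 1 := by
    rw [word_replicate, ← hom_word α L s hα W (fun j hj => hlen ▸ h.1 j hj), ← map_pow,
      word_pow_eq_one hι hT hW, map_one]
  have := vecL_word hT (pt k) (List.replicate n (W.flatMap fun j => s.getD j [])).flatten
  rw [e, map_one, one_smul, vecL_frame, idx_pt hk] at this
  exact this.symm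

theorem orbit_ge (hT : (L.map ι).map rows = T) [MulAction G leechLattice]
    (hact : ∀ (g : G) (v : leechLattice), g • v = ι g • v) [Finite G] {K : Subgroup G}
    (hK : ∀ x ∈ L, x ∈ K) (p : GolayPt) (ws : List (List ℕ))
    (h : (ws.map fun w => evalPV T w (unitL (idx p))).Nodup) :
    ws.length ≤ (MulAction.orbit K (frame p)).ncard := by
  classical
  have hnd : (ws.map fun w => word L w • frame p).Nodup := by
    refine List.Nodup.of_map (fun x : leechLattice => vecL (x : GolayPt → ℤ)) ?_
    rw [List.map_map]
    convert h using 1
    exact List.map_congr_left fun w _ => by rw [Function.comp_apply, hact, vecL_word hT]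
  have hle : ((ws.map fun w => word L w • frame p).toFinset : Set leechLattice) ⊆
      MulAction.orbit K (frame p) := by
    intro x hx
    rw [Finset.mem_coe, List.mem_toFinset, List.mem_map] at hx
    obtain ⟨w, -, rfl⟩ := hx
    exact ⟨⟨word L w, word_mem hK w⟩, rfl⟩
  have := Set.ncard_le_ncard hle (Set.finite_range _)
  rwa [Set.ncard_coe_finset, List.toFinset_card_of_nodup hnd, List.length_map] at this

theorem rows_perm_word {L₀ : List M24} {Ts : List (List ℕ)}
    (h : List.Forall₂ (fun σ l => Tab σ.1 l) L₀ Ts) :
    (L₀.map permHom).map rows = Ts.map permMat := by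
  induction h with
  | nil => rfl
  | cons h₁ _ ih => simp [rows_permHom h₁, ih]

/-- A word equal to a permutation of the frame. -/
theorem mem_of_word (hι : Function.Injective ι) (hT : (L.map ι).map rows = T) {K : Subgroup G}
    (hK : ∀ x ∈ L, x ∈ K) {σ : M24} {l : List ℕ} (hl : Tab σ.1 l) (ws : List (List ℕ))
    (ps : List (List ℕ)) (slp : List ℕ) (h1 : ws.map (evalP T) = ps.map permMat)
    (h2 : evalP (ps.map permMat) slp = permMat l) {x : G} (hx : ι x = permHom σ) : x ∈ K := by
  have e : x = word (ws.map (word L)) slp := by
    refine hι (rows_injective ?_)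
    have e : ((ws.map (word L)).map ι).map rows = ps.map permMat := by
      rw [← h1, List.map_map, List.map_map]
      exact List.map_congr_left fun w _ => rows_word_packed hT w
    rw [hx, rows_permHom hl, ← h2, rows_word_packed e]
  rw [e]
  exact word_mem (fun y hy => by
    obtain ⟨w, -, rfl⟩ := List.mem_map.1 hy
    exact word_mem hK w) slp

end Cfsg.Agent.SporStruct.CoMatrix
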