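import Cfsg.Agent.Lib.Golay.Simple

/-!
Tables for generators of the largest Conway group.
-/

set_option autoImplicit false

namespace Cfsg.Agent.SporStruct.OutCo1

/-- An element of order 3 commuting with the element of order 11. -/
def cTab : List (List ℤ) := [
    [-4, 0, 0, 0, 0, 2, 0, 2, 0, 0, 2, 2, 0, 0, 2, 2, 0, 2, 0, 2, 2, 2, 2, -2],
    [0, -4, 0, 0, 0, 2, 0, -2, 0, 0, -2, -2, 0, 0, 2, 2, 0, -2, 0, 2, 2, 2, -2, 2],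
    [0, 0, -4, 0, 0, 2, 0, 2, 0, 0, 2, -2, 0, 0, -2, 2, 0, 2, 0, 2, -2, -2, -2, 2],
    [0, 0, 0, -4, 0, -2, 0, -2, 0, 0, -2, 2, 0, 0, 2, 2, 0, 2, 0, 2, -2, -2, 2, 2],
    [0, 0, 0, 0, -4, -2, 0, 2, 0, 0, 2, 2, 0, 0, 2, 2, 0, -2, 0, -2, 2, -2, -2, 2],
    [-2, -2, -2, 2, 2, -4, -2, 0, -2, -2, 0, 0, 2, 2, 0, 0, -2, 0, 2, 0, 0, 0, 0, 0],
    [0, 0, 0, 0, 0, 2, -4, 2, 0, 0, -2, 2, 0, 0, -2, 2, 0, -2, 0, -2, -2, 2, 2, 2],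
    [-2, 2, -2, 2, -2, 0, -2, -4, -2, 2, 0, 0, -2, -2, 0, 0, 2, 0, 2, 0, 0, 0, 0, 0],
    [0, 0, 0, 0, 0, 2, 0, 2, -4, 0, -2, -2, 0, 0, 2, -2, 0, 2, 0, -2, 2, -2, 2, 2],
    [0, 0, 0, 0, 0, 2, 0, -2, 0, -4, 2, 2, 0, 0, -2, -2, 0, -2, 0, 2, 2, -2, 2, 2],
    [-2, 2, -2, 2, -2, 0, 2, 0, 2, -2, -4, 0, -2, 2, 0, 0, -2, 0, -2, 0, 0, 0, 0, 0],
    [-2, 2, 2, -2, -2, 0, -2, 0, 2, -2, 0, -4, 2, -2, 0, 0, -2, 0, 2, 0, 0, 0, 0, 0],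
    [0, 0, 0, 0, 0, -2, 0, 2, 0, 0, 2, -2, -4, 0, 2, -2, 0, -2, 0, 2, -2, 2, 2, 2],
    [0, 0, 0, 0, 0, -2, 0, 2, 0, 0, -2, 2, 0, -4, -2, -2, 0, 2, 0, 2, 2, 2, -2, 2],
    [-2, -2, 2, -2, -2, 0, 2, 0, -2, 2, 0, 0, -2, 2, -4, 0, -2, 0, 2, 0, 0, 0, 0, 0],
    [-2, -2, -2, -2, -2, 0, -2, 0, 2, 2, 0, 0, 2, 2, 0, -4, 2, 0, -2, 0, 0, 0, 0, 0],
    [0, 0, 0, 0, 0, 2, 0, -2, 0, 0, 2, 2, 0, 0, 2, -2, -4, 2, 0, -2, -2, 2, -2, 2],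
    [-2, 2, -2, -2, 2, 0, 2, 0, -2, 2, 0, 0, 2, -2, 0, 0, -2, -4, -2, 0, 0, 0, 0, 0],
    [0, 0, 0, 0, 0, -2, 0, -2, 0, 0, 2, -2, 0, 0, -2, 2, 0, 2, -4, -2, 2, 2, 2, 2],
    [-2, -2, -2, -2, 2, 0, 2, 0, 2, -2, 0, 0, -2, -2, 0, 0, 2, 0, 2, -4, 0, 0, 0, 0],
    [-2, -2, 2, 2, -2, 0, 2, 0, -2, -2, 0, 0, 2, -2, 0, 0, 2, 0, -2, 0, -4, 0, 0, 0],
    [-2, -2, 2, 2, 2, 0, -2, 0, 2, 2, 0, 0, -2, -2, 0, 0, -2, 0, -2, 0, 0, -4, 0, 0],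
    [-2, 2, 2, -2, 2, 0, -2, 0, -2, -2, 0, 0, -2, 2, 0, 0, 2, 0, -2, 0, 0, 0, -4, 0],
    [2, -2, -2, -2, -2, 0, -2, 0, -2, -2, 0, 0, -2, -2, 0, 0, -2, 0, -2, 0, 0, 0, 0, -4]]

/-- Its inverse. -/
def cInvTab : List (List ℤ) := [
    [-4, 0, 0, 0, 0, -2, 0, -2, 0, 0, -2, -2, 0, 0, -2, -2, 0, -2, 0, -2, -2, -2, -2, 2],
    [0, -4, 0, 0, 0, -2, 0, 2, 0, 0, 2, 2, 0, 0, -2, -2, 0, 2, 0, -2, -2, -2, 2, -2],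
    [0, 0, -4, 0, 0, -2, 0, -2, 0, 0, -2, 2, 0, 0, 2, -2, 0, -2, 0, -2, 2, 2, 2, -2],
    [0, 0, 0, -4, 0, 2, 0, 2, 0, 0, 2, -2, 0, 0, -2, -2, 0, -2, 0, -2, 2, 2, -2, -2],
    [0, 0, 0, 0, -4, 2, 0, -2, 0, 0, -2, -2, 0, 0, -2, -2, 0, 2, 0, 2, -2, 2, 2, -2],
    [2, 2, 2, -2, -2, -4, 2, 0, 2, 2, 0, 0, -2, -2, 0, 0, 2, 0, -2, 0, 0, 0, 0, 0],
    [0, 0, 0, 0, 0, -2, -4, -2, 0, 0, 2, -2, 0, 0, 2, -2, 0, 2, 0, 2, 2, -2, -2, -2],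
    [2, -2, 2, -2, 2, 0, 2, -4, 2, -2, 0, 0, 2, 2, 0, 0, -2, 0, -2, 0, 0, 0, 0, 0],
    [0, 0, 0, 0, 0, -2, 0, -2, -4, 0, 2, 2, 0, 0, -2, 2, 0, -2, 0, 2, -2, 2, -2, -2],
    [0, 0, 0, 0, 0, -2, 0, 2, 0, -4, -2, -2, 0, 0, 2, 2, 0, 2, 0, -2, -2, 2, -2, -2],
    [2, -2, 2, -2, 2, 0, -2, 0, -2, 2, -4, 0, 2, -2, 0, 0, 2, 0, 2, 0, 0, 0, 0, 0],
    [2, -2, -2, 2, 2, 0, 2, 0, -2, 2, 0, -4, -2, 2, 0, 0, 2, 0, -2, 0, 0, 0, 0, 0],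
    [0, 0, 0, 0, 0, 2, 0, -2, 0, 0, -2, 2, -4, 0, -2, 2, 0, 2, 0, -2, 2, -2, -2, -2],
    [0, 0, 0, 0, 0, 2, 0, -2, 0, 0, 2, -2, 0, -4, 2, 2, 0, -2, 0, -2, -2, -2, 2, -2],
    [2, 2, -2, 2, 2, 0, -2, 0, 2, -2, 0, 0, 2, -2, -4, 0, 2, 0, -2, 0, 0, 0, 0, 0],
    [2, 2, 2, 2, 2, 0, 2, 0, -2, -2, 0, 0, -2, -2, 0, -4, -2, 0, 2, 0, 0, 0, 0, 0],
    [0, 0, 0, 0, 0, -2, 0, 2, 0, 0, -2, -2, 0, 0, -2, 2, -4, -2, 0, 2, 2, -2, 2, -2],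
    [2, -2, 2, 2, -2, 0, -2, 0, 2, -2, 0, 0, -2, 2, 0, 0, 2, -4, 2, 0, 0, 0, 0, 0],
    [0, 0, 0, 0, 0, 2, 0, 2, 0, 0, -2, 2, 0, 0, 2, -2, 0, -2, -4, 2, -2, -2, -2, -2],
    [2, 2, 2, 2, -2, 0, -2, 0, -2, 2, 0, 0, 2, 2, 0, 0, -2, 0, -2, -4, 0, 0, 0, 0],
    [2, 2, -2, -2, 2, 0, -2, 0, 2, 2, 0, 0, -2, 2, 0, 0, -2, 0, 2, 0, -4, 0, 0, 0],
    [2, 2, -2, -2, -2, 0, 2, 0, -2, -2, 0, 0, 2, 2, 0, 0, 2, 0, 2, 0, 0, -4, 0, 0],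
    [2, -2, -2, 2, -2, 0, 2, 0, 2, 2, 0, 0, 2, -2, 0, 0, -2, 0, 2, 0, 0, 0, -4, 0],
    [-2, 2, 2, 2, 2, 0, 2, 0, 2, 2, 0, 0, 2, 2, 0, 0, 2, 0, 2, 0, 0, 0, 0, -4]]

/-- The dodecad fixed by the element of order 11. -/
def dMask : ℕ := 340831

/-- The table of the inverse of `x ↦ x + 1`. -/
def shiftInvTab : List ℕ := [22, 0, 1, 2, 3, 4, 5, 6, 7, 8, 9, 10, 11, 12, 13, 14, 15, 16, 17, 18, 19, 20, 21, 23]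

/-- The table of the inverse of `x ↦ 2 x`. -/
def doubleInvTab : List ℕ := [0, 12, 1, 13, 2, 14, 3, 15, 4, 16, 5, 17, 6, 18, 7, 19, 8, 20, 9, 21, 10, 22, 11, 23]

/-- Words which are monomial. -/
def monWs : List (List ℕ) := [[0], [3], [1], [4], [2, 3, 3, 2, 0, 4, 5, 0, 4, 2, 0, 5, 3, 4, 3, 5], [2, 0, 1, 0, 2, 3, 5, 1, 3, 2, 1, 3, 5, 0, 0, 5]]

/-- Their permutations and signs. -/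
def monPs : List (List ℕ × ℕ) := [

  ([1, 2, 3, 4, 5, 6, 7, 8, 9, 10, 11, 12, 13, 14, 15, 16, 17, 18, 19, 20, 21, 22, 0, 23], 0),
  ([22, 0, 1, 2, 3, 4, 5, 6, 7, 8, 9, 10, 11, 12, 13, 14, 15, 16, 17, 18, 19, 20, 21, 23], 0),
  ([0, 2, 4, 6, 8, 10, 12, 14, 16, 18, 20, 22, 1, 3, 5, 7, 9, 11, 13, 15, 17, 19, 21, 23], 0),
  ([0, 12, 1, 13, 2, 14, 3, 15, 4, 16, 5, 17, 6, 18, 7, 19, 8, 20, 9, 21, 10, 22, 11, 23], 0),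
  ([23, 8, 6, 11, 2, 15, 16, 14, 1, 17, 19, 10, 3, 7, 5, 21, 4, 18, 0, 22, 9, 20, 12, 13], 11073091),
  ([18, 8, 4, 12, 16, 14, 2, 13, 1, 20, 11, 3, 22, 23, 7, 5, 6, 9, 17, 10, 21, 15, 19, 0], 13929893)]

/-- Monomial words over `monPs` for the permutation `x ↦ -1/x`, with the signs. -/
def projSlp : List ℕ × ℕ := ([1, 2, 4, 2, 4, 3, 3, 4, 1, 2, 5, 3, 3], 13448895)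

/-- The same for the third generator of M24. -/
def twistSlp : List ℕ × ℕ := ([4, 4, 0, 2, 2, 1, 4, 2, 4, 0, 3, 0], 14112693)

/-- A diagonal element. -/
def diagSlp : List ℕ × ℕ := ([4, 4, 4, 4, 4, 4, 4, 4, 4, 4, 4, 4], 12051189)

/-- The basis of the code from shifts of the diagonal element. -/
def basisSlp : List (List ℕ) := [

  [0, 2, 0, 2, 0, 2, 0, 0, 0, 2, 0, 0, 2, 0, 2, 0, 0, 2, 1, 1, 1, 1, 1, 1, 1, 1, 1, 1, 1],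
  [2, 0, 2, 0, 2, 0, 0, 2, 0, 2, 0, 2, 0, 2, 0, 0, 2, 1, 1, 1, 1, 1, 1, 1, 1, 1],
  [0, 0, 0, 0, 0, 2, 0, 0, 2, 0, 0, 2, 0, 2, 0, 2, 1, 1, 1, 1, 1, 1, 1, 1, 1, 1, 1],
  [2, 0, 2, 0, 0, 2, 0, 0, 2, 0, 0, 0, 2, 0, 0, 0, 2, 1, 1, 1, 1, 1, 1, 1, 1, 1, 1, 1],
  [2, 0, 0, 2, 0, 2, 0, 2, 0, 2, 0, 0, 0, 0, 2, 0, 2, 1, 1, 1, 1, 1, 1, 1, 1, 1, 1],
  [0, 2, 0, 0, 2, 0, 2, 0, 2, 0, 2, 0, 0, 0, 0, 2, 0, 2, 1, 1, 1, 1, 1, 1, 1, 1, 1, 1, 1],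
  [2, 0, 0, 0, 0, 2, 0, 0, 2, 0, 2, 0, 2, 0, 2, 0, 2, 1, 1, 1, 1, 1, 1, 1, 1, 1, 1],
  [0, 0, 2, 0, 2, 0, 0, 2, 0, 2, 0, 2, 0, 0, 0, 2, 1, 1, 1, 1, 1, 1, 1, 1, 1, 1],
  [0, 0, 0, 2, 0, 2, 0, 0, 2, 0, 2, 0, 2, 0, 0, 0, 2, 1, 1, 1, 1, 1, 1, 1, 1, 1, 1, 1],
  [2, 0, 0, 2, 0, 0, 2, 0, 0, 0, 2, 0, 0, 0, 2, 0, 2, 1, 1, 1, 1, 1, 1, 1, 1, 1, 1, 1],
  [2, 0, 0, 0, 0, 0, 0, 2, 0, 0, 2, 0, 0, 2, 0, 2, 1, 1, 1, 1, 1, 1, 1, 1, 1, 1, 1],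
  [2, 0, 2, 0, 2, 0, 0, 0, 2, 0, 0, 2, 0, 2, 0, 0, 2, 1, 1, 1, 1, 1, 1, 1, 1, 1, 1]]

end Cfsg.Agent.SporStruct.OutCo1
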