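import Cfsg.Agent.SporStruct.OuterBigCheck

/-!
Co3 has no outer automorphism.
-/

set_option autoImplicit false

namespace Cfsg.Agent.SporStruct.OuterCo3

open Cfsg Cfsg.Agent.Leech CoMatrix OuterBig OuterData

/-- The embedding in Co0. -/
def emb : Spor.Co3 →* Co0 := Subgroup.inclusion inf_le_left

theorem emb_injective : Function.Injective emb := Subgroup.inclusion_injective _

theorem range_iff (y : Co0) : (∃ g, emb g = y) ↔ y • std48 = std48 := by
  constructor
  · rintro ⟨g, rfl⟩
    show emb g • -Spor.leechV = -Spor.leechV
    rw [smul_neg', show emb g • Spor.leechV = Spor.leechV from g.2.2]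
  · intro h48
    refine ⟨⟨y.1, y.2, ?_⟩, rfl⟩
    have h : y • -Spor.leechV = -Spor.leechV := h48
    rw [smul_neg', neg_inj] at h
    exact h

theorem card_Co3 : Nat.card Spor.Co3 = 10200960 * 48600 := by
  rw [show (10200960 * 48600 : ℕ) = 495766656000 by norm_num,
    ← card_stab48 codeUnique sqNorm_std48]
  refine Nat.card_congr ((MonoidHom.ofInjective emb_injective).toEquiv.trans ?_)
  refine Equiv.subtypeEquivRight fun y => ?_
  rw [MonoidHom.mem_range, range_iff]
  rfl

theorem card_out : Nat.card (Out Spor.Co3) = 1 := by
  obtain ⟨g, a, c, hT, hgo, hao, hcc, hcne, -, hgen, -, hnorm, hα⟩ := big_main emb_injective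
    (Or.inl ⟨rfl, rfl⟩) range_iff card_Co3 (by norm_num) co3_gen co3_words.1 co3_words.2
    co3_orbit.1 co3_orbit.2 (by norm_num) co3_enum
  have hgen' := hgen.resolve_right (List.not_mem_nil)
  have hcac : c * a * c = a := by
    have := OuterCommon.rel_facts emb_injective hT co3_rel.2
    simpa [word, mul_assoc] using this
  refine OuterRigid.card_out_eq_one fun α => ?_
  obtain ⟨h, e, he, hβa, hβg⟩ := hα α
  set β := MulAut.conj h * α with hβ
  have hβc : β c = c := by
    have hcon : β c * a * (β c)⁻¹ = a ^ 1 := by
      have hci : c⁻¹ = c := inv_eq_of_mul_eq_one_right hcc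
      have e1 : β (c * a * c⁻¹) = β a := by rw [hci, hcac]
      rw [map_mul, map_mul, map_inv, hβa] at e1
      rw [e1, pow_one]
    obtain ⟨i, hi, e' | e'⟩ := hnorm (β c) 1 (Or.inl rfl) hcon
    all_goals
      have h2 : β c * β c = 1 := by rw [← map_mul, hcc, map_one]
      rw [e'] at h2
    · rw [← pow_add] at h2
      have := orderOf_dvd_of_pow_eq_one h2
      rw [hao] at this
      have : i = 0 := by omega
      rw [this, pow_zero] at e'
      exact absurd (β.injective (e'.trans (map_one β).symm)) hcne
    · have hca : Commute c a := by
        show c * a = a * c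
        calc c * a = c * a * c * c := by rw [mul_assoc (c * a), hcc, mul_one]
          _ = a * c := by rw [hcac]
      rw [mul_assoc, ← mul_assoc (a ^ i) c, ← (hca.pow_right i).eq, mul_assoc, ← mul_assoc c c,
        hcc, one_mul, ← pow_add] at h2
      have := orderOf_dvd_of_pow_eq_one h2
      rw [hao] at this
      have : i = 0 := by omega
      rw [e', this, pow_zero, mul_one]
  have he1 : e = 1 := by
    rcases he with e1 | e1
    · exact e1
    exfalso
    have hcov := co3_cover
    simp only [coverOK, List.all_eq_true, List.mem_range, Bool.or_eq_true, decide_eq_true_eq,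
      List.any_eq_true] at hcov
    rcases hcov e (by rw [e1]; simp) 0 (by norm_num) with h' | ⟨r, hr, hk⟩
    · omega
    have hsub : ∀ k < [g, a, c].length,
        β.toMonoidHom ([g, a, c].getD k 1) = word [g, a, c] ((subst e 0).getD k []) := by
      intro k hk3
      simp only [List.length_cons, List.length_nil] at hk3
      interval_cases k
      · show β g = word [g, a, c] (List.replicate e 0)
        rw [word, List.map_replicate, List.prod_replicate]
        exact hβg
      · show β a = word [g, a, c] [1]
        rw [word_singleton]; exact hβa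
      · show β c = word [g, a, c] [2]
        rw [word_singleton]; exact hβc
    rcases hk with hk | hk
    · exact kill emb_injective hT β.toMonoidHom hsub (co3_rel.1 r hr) (by norm_num) hk
    · exact kill emb_injective hT β.toMonoidHom hsub (co3_rel.1 r hr) (by norm_num) hk
  refine OuterCommon.inn_of_conj_mul (h := h) (OuterCommon.eq_of_gens hgen' fun x hx => ?_)
  simp only [List.mem_cons, List.not_mem_nil, or_false] at hx
  rcases hx with rfl | rfl | rfl
  · rw [hβg, he1, pow_one]; rfl
  · exact hβa
  · exact hβc

end Cfsg.Agent.SporStruct.OuterCo3
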