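import Cfsg.Agent.SporStruct.OuterCommon

/-!
Automorphisms of the stabiliser of a single vector fixed by the elements of order 23 and 11.
-/

set_option autoImplicit false

namespace Cfsg.Agent.SporStruct.OuterBig

open Cfsg Cfsg.Agent.Leech CoMatrix
open Cfsg.Agent.Golay (pt idx idx_lt pt_idx idx_pt Tab)

/-- The tables of the generators. -/
def tabs (C : List (List ℤ)) : List (List (List ℤ)) :=
  [permMat Golay.shiftTab, permMat Golay.doubleTab, C]

/-- A vector constant off the point at infinity, as a list. -/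
def infL (t : ℤ) : List ℤ := (List.range 24).map fun i => if i = 23 then t else 1

/-- The vector with given values on the classes. -/
def expand (v : List ℤ) : List ℤ :=
  (List.range 24).map fun i => v.getD (Leech.cls (pt i)).val 0

/-- The integers of absolute value at most `b`. -/
def rng (b : ℕ) : List ℤ := (List.range (2 * b + 1)).map fun (i : ℕ) => (i : ℤ) - b

theorem mem_rng {b : ℕ} {x : ℤ} : x ∈ rng b ↔ -(b : ℤ) ≤ x ∧ x ≤ b := by
  simp only [rng, List.mem_map, List.mem_range]
  constructor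
  · rintro ⟨i, hi, rfl⟩; omega
  · intro h; exact ⟨(x + b).toNat, by omega, by omega⟩

/-- The candidates for the image of the frame vector under the centraliser of the element of
order 11. -/
def enumOK (t : ℤ) (xs : List (List ℤ)) : Bool :=
  (rng 2).all fun c => (rng 2).all fun d => (rng 8).all fun a =>
    let b := 8 * t - t * a - 11 * c - 11 * d
    !decide (a * a + b * b + 11 * (c * c) + 11 * (d * d) = 64) || !inLB (expand [a, b, c, d]) ||
      decide (expand [a, b, c, d] ∈ xs)

/-- The substitution. -/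
def subst (e i : ℕ) : List (List ℕ) := [List.replicate e 0, [1], 2 :: List.replicate i 1]

/-- All substitutions other than the allowed ones break a relation. -/
noncomputable def coverOK (C : List (List ℤ)) (rel : List (List ℕ × ℕ)) (is : ℕ) : Bool :=
  [1, 22].all fun e => (List.range is).all fun i => decide (e = 1 ∧ i = 0) ||
    rel.any fun r => killB (tabs C) r.1 r.2 (subst e i) 23 || killB (tabs C) r.1 r.2 (subst e i) 1

/-- The checks on the third generator. -/
noncomputable def genOK (t : ℤ) (C : List (List ℤ)) : Bool :=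
  checkMap C && checkMap (transpL C) && (mapV C (infL t) == infL t) &&
    (evalP (tabs C) [1, 0] == evalP (tabs C) [0, 0, 1]) &&
    (evalP (tabs C) [2, 2] == idMat) && (C != idMat) &&
    ((evalP (tabs C) [2, 1, 2] == evalP (tabs C) [1]) ||
      (evalP (tabs C) [2, 1, 2] == evalP (tabs C) (List.replicate 10 1)))

theorem covers23 : OuterRigid.Covers 23 2 ∧ OuterRigid.PowCovers 23 2 253 := by
  refine ⟨?_, ?_⟩
  · unfold OuterRigid.Covers; decide +kernel
  · unfold OuterRigid.PowCovers; decide +kernel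

theorem vecL_infL : vecL (std48 : GolayPt → ℤ) = infL 5 ∧ vecL (vecA : GolayPt → ℤ) = infL (-3) :=
  ⟨range_map_congr fun i hi => by rw [coe_std48]; revert i; decide +kernel,
    range_map_congr fun i hi => by rw [coe_vecA]; revert i; decide +kernel⟩

variable {G : Type*} [Group G] {ι : G →* Co0} {V : leechLattice} {t : ℤ}

theorem coe_V (hV : (t = 5 ∧ V = std48) ∨ (t = -3 ∧ V = vecA)) (p : GolayPt) :
    (V : GolayPt → ℤ) p = if p = none then t else 1 := by
  rcases hV with ⟨rfl, rfl⟩ | ⟨rfl, rfl⟩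
  exacts [coe_std48 p, coe_vecA p]

theorem vecL_V (hV : (t = 5 ∧ V = std48) ∨ (t = -3 ∧ V = vecA)) :
    vecL (V : GolayPt → ℤ) = infL t := by
  rcases hV with ⟨rfl, rfl⟩ | ⟨rfl, rfl⟩
  exacts [vecL_infL.1, vecL_infL.2]

theorem perm_fix_V (hV : (t = 5 ∧ V = std48) ∨ (t = -3 ∧ V = vecA)) {σ : M24}
    (h0 : σ.1 none = none) : permHom σ • V = V := by
  refine Subtype.ext (funext fun p => ?_)
  rw [coe_permHom_smul, coe_V hV, coe_V hV]
  refine if_congr ⟨fun e => ?_, fun e => ?_⟩ rfl rfl
  · rw [← σ.1.apply_symm_apply p, e, h0]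
  · rw [e, Equiv.symm_apply_eq, h0]

theorem out_frame (hV : (t = 5 ∧ V = std48) ∨ (t = -3 ∧ V = vecA))
    (hr : ∀ y : Co0, (∃ g, ι g = y) ↔ y • V = V) (g : G)
    (hg : ι g • frame none = frame none) : ∃ σ : M24, σ.1 ∈ Spor.M23 ∧ ι g = permHom σ := by
  have hgV := (hr _).1 ⟨g, rfl⟩
  have h48 : ι g • std48 = std48 := by
    rcases hV with ⟨-, rfl⟩ | ⟨-, rfl⟩
    · exact hgV
    · rw [vecA, smul_sub', hg, sub_left_inj] at hgV
      exact hgV
  obtain ⟨σ, h0, e⟩ := exists_permHom hg h48
  exact ⟨σ, OuterCommon.mem_M23.2 ⟨σ.2, h0⟩, e⟩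

theorem fix_zero {σ : M24} {k : ℕ} (hk : k = 1 ∨ k = 10) (h0 : σ.1 none = none)
    (hrel : permHom σ * g11 * (permHom σ)⁻¹ = g11 ^ k) : σ.1 (some 0) = some 0 := by
  obtain ⟨u, hu⟩ := perm_exists_u h0 0
  have h := perm_rel hrel (some 0)
  rw [g11_some, mul_zero, hu, g11_pow_some] at h
  have key : ∀ k : Fin 11, (k.val = 1 ∨ k.val = 10) → ∀ u : ZMod 23, u = 2 ^ k.val * u → u = 0 := by
    decide +kernel
  rw [hu, key ⟨k, by omega⟩ hk u (Option.some.inj h)]

theorem cubeTwist_none : cubeTwist none = none := by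
  have h := Golay.tab_cubeTwist.apply none
  rwa [show pt (Golay.cubeTwistTab.getD (idx none) 0) = none by decide +kernel] at h

theorem cubeTwist_rel :
    permHom ⟨cubeTwist, Golay.cubeTwist_mem⟩ * g11 * (permHom ⟨cubeTwist, Golay.cubeTwist_mem⟩)⁻¹ =
      g11 ^ 3 := by
  rw [mul_inv_eq_iff_eq_mul]
  refine rows_injective ?_
  have hta : rows g11 = permMat Golay.doubleTab :=
    rows_permHom (show Tab Golay.double Golay.doubleTab from Golay.tab_permOf _)
  rw [rows_mul, rows_mul, rows_pow, hta, rows_permHom Golay.tab_cubeTwist]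
  decide +kernel

theorem covers11 : OuterRigid.Covers 11 3 := by
  unfold OuterRigid.Covers; decide +kernel

theorem cls_facts : ∀ s : ZMod 23, (s = 0 ∧ Leech.cls (some s) = 1) ∨
    ∃ n : Fin 11, (Leech.cls (some s) = 2 ∧ s = 2 ^ n.val * 1) ∨
      (Leech.cls (some s) = 3 ∧ s = 2 ^ n.val * 5) := by
  decide +kernel

theorem big_main (hι : Function.Injective ι)
    (hV : (t = 5 ∧ V = std48) ∨ (t = -3 ∧ V = vecA))
    (hr : ∀ y : Co0, (∃ g, ι g = y) ↔ y • V = V)
    {N : ℕ} (hN : Nat.card G = 10200960 * N) (hp : ¬ 23 ^ 2 ∣ 10200960 * N)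
    {C : List (List ℤ)} (hC : genOK t C = true)
    {ws ps : List (List ℕ)} {slp : List ℕ} (hws : ws.map (evalP (tabs C)) = ps.map permMat)
    (hslp : evalP (ps.map permMat) slp = permMat Golay.conjTab)
    {orb : List (List ℕ)} (horb : (orb.map fun w => evalPV (tabs C) w (unitL 23)).Nodup)
    {bad : List ℕ}
    (hdiv : ∀ m ∈ N.divisors, m % 23 = 1 → m % 11 = 1 → m = 1 ∨ N / m < orb.length ∨ m ∈ bad)
    (hp11 : ¬ 11 ^ 2 ∣ 10200960 * N)
    (henum : enumOK t [unitL 23, evalPV (tabs C) [2] (unitL 23)] = true) :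
    ∃ g a c : G, ([g, a, c].map ι).map rows = tabs C ∧ orderOf g = 23 ∧ orderOf a = 11 ∧
      c * c = 1 ∧ c ≠ 1 ∧
      (∀ σ : M24, σ.1 none = none → ∃ x ∈ Subgroup.closure {x | x ∈ [g, a, c]}, ι x = permHom σ) ∧
      (Subgroup.closure {x | x ∈ [g, a, c]} = ⊤ ∨
        (Subgroup.closure {x | x ∈ [g, a, c]}).index ∈ bad) ∧
      (c * a * c = a ∨ c * a * c = a ^ 10) ∧
      (∀ y k, (k = 1 ∨ k = 10) → y * a * y⁻¹ = a ^ k → ∃ i < 11, y = a ^ i ∨ y = c * a ^ i) ∧
      ∀ α : MulAut G, ∃ h : G, ∃ e, (e = 1 ∨ e = 22) ∧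
        (MulAut.conj h * α) a = a ∧ (MulAut.conj h * α) g = g ^ e := by
  haveI := OuterCommon.finiteOfInj hι
  haveI := finite_Co0 codeUnique
  haveI : Fact (Nat.Prime 23) := ⟨by norm_num⟩
  haveI : Fact (Nat.Prime 11) := ⟨by norm_num⟩
  simp only [genOK, Bool.and_eq_true, Bool.or_eq_true, beq_iff_eq, bne_iff_ne, ne_eq] at hC
  obtain ⟨⟨⟨⟨⟨⟨hC1, hC2⟩, hCV⟩, hag⟩, hcc⟩, hc1⟩, hca⟩ := hC
  set σg : M24 := ⟨Golay.shift, Golay.shift_mem⟩ with hσg
  set σa : M24 := ⟨Golay.double, g11_mem⟩ with hσa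
  have htg : rows g23 = permMat Golay.shiftTab := rows_permHom Golay.tab_shift
  have hta : rows g11 = permMat Golay.doubleTab :=
    rows_permHom (show Tab Golay.double Golay.doubleTab from Golay.tab_permOf _)
  obtain ⟨g, hg⟩ := (hr g23).2 (perm_fix_V hV rfl)
  obtain ⟨a, ha⟩ := (hr g11).2 (perm_fix_V hV g11_none)
  obtain ⟨c₀, hc₀⟩ := exists_elem hC1 hC2
  obtain ⟨c, hc⟩ := (hr c₀).2 (Subtype.ext (vecL_inj (by rw [← mapV_rows, hc₀, vecL_V hV, hCV])))
  set L := [g, a, c] with hLdef
  have hT : (L.map ι).map rows = tabs C := by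
    simp only [hLdef, List.map_cons, List.map_nil, ha, hg, hc, hta, htg, hc₀, tabs]
  have hgo : orderOf g = 23 := by rw [← orderOf_injective ι hι, hg, orderOf_g23]
  have hao : orderOf a = 11 := by rw [← orderOf_injective ι hι, ha, orderOf_g11]
  have hrel : a * g * a⁻¹ = g ^ 2 := by
    have := OuterCommon.rel_facts hι hT hag
    simp [word, hLdef] at this
    rw [mul_inv_eq_iff_eq_mul, this, pow_two, mul_assoc]
  have hcc' : c * c = 1 := by
    refine hι (rows_injective ?_)
    have := rows_word_packed hT [2, 2]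
    simp [word, hLdef] at this
    rw [map_mul, this, hcc, map_one, rows_one]
  have hcne : c ≠ 1 := fun e => hc1 (by rw [← hc₀, ← hc, e, map_one, rows_one])
  have hcac : c * a * c = a ∨ c * a * c = a ^ 10 := hca.imp
    (fun e => by
      have := OuterCommon.rel_facts hι hT e
      simpa [word, hLdef, mul_assoc] using this)
    (fun e => by
      have := OuterCommon.rel_facts hι hT e
      simpa [word, hLdef, mul_assoc, pow_succ, List.replicate_succ] using this)
  have hneV : ∀ z : Co0, z = negOne → z • V ≠ V := by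
    rintro z rfl e
    rw [negOne_smul] at e
    have := congrFun (congrArg Subtype.val e) (some 0)
    simp only [AddSubgroup.coe_neg, Pi.neg_apply, coe_V hV] at this
    rw [if_neg (Option.some_ne_none (0 : ZMod 23))] at this
    omega
  have hn23 : ∀ y, y * g * y⁻¹ ∈ Subgroup.zpowers g →
      y ^ 253 = 1 ∧ (y * g = g * y → y ∈ Subgroup.zpowers g) := by
    intro y hy
    have hy' : ι y * g23 * (ι y)⁻¹ ∈ Subgroup.zpowers g23 := by
      rw [← hg, ← map_inv, ← map_mul, ← map_mul, ← MonoidHom.map_zpowers]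
      exact ⟨_, hy, rfl⟩
    obtain ⟨z, hz, e1, e2⟩ := normalise_23 hy'
    have hyV := (hr _).1 ⟨y, rfl⟩
    have hz1 : z = 1 := by
      rcases hz with e | e
      · exact e
      exfalso
      have hzc : Commute z (ι y) :=
        ((Subgroup.mem_center_iff.1 (e ▸ negOne_mem_center)) (ι y)).symm
      have hz2 : z * z = 1 := by
        rw [e]; exact ext_frame fun i => by rw [mul_smul, negOne_smul, negOne_smul, neg_neg, one_smul]
      rw [hzc.mul_pow, show 253 = 2 * 126 + 1 from rfl, pow_succ z, pow_mul, pow_two, hz2, one_pow,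
        one_mul] at e1
      have h253 := (hr _).1 ⟨y ^ (2 * 126 + 1), rfl⟩
      rw [map_pow, eq_inv_of_mul_eq_one_right e1,
        inv_eq_of_mul_eq_one_right hz2] at h253
      exact hneV z e h253
    rw [hz1, one_mul] at e1 e2
    refine ⟨hι (by rw [map_pow, e1, map_one]), fun hc' => ?_⟩
    have := e2 (by rw [← hg, ← map_mul, ← map_mul, hc'])
    rw [← hg, ← MonoidHom.map_zpowers, Subgroup.mem_map] at this
    obtain ⟨z, hz, e⟩ := this
    rwa [← hι e]
  have hcent : ∀ y, y * g = g * y → y ∈ Subgroup.zpowers g := fun y hy =>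
    (hn23 y (by rw [hy, mul_inv_cancel_right]; exact Subgroup.mem_zpowers g)).2 hy
  let act : MulAction G leechLattice := MulAction.compHom leechLattice ι
  have hact : ∀ (g : G) (v : leechLattice), g • v = ι g • v := fun _ _ => rfl
  have hout := out_frame hV hr
  have hLK : ∀ x ∈ L, x ∈ Subgroup.closure {x | x ∈ L} := fun x hx => Subgroup.subset_closure hx
  set K := Subgroup.closure {x | x ∈ L} with hK
  have hM23 : Spor.M23 ≤ M24 := fun σ hσ => (OuterCommon.mem_M23.1 hσ).1
  have hin : ∀ σ, ∀ h : σ ∈ Spor.M23, ∃ g : G, ι g = permHom ⟨σ, hM23 h⟩ := fun σ hσ =>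
    (hr _).2 (perm_fix_V hV (OuterCommon.mem_M23.1 hσ).2)
  have hst : MulAction.stabilizer G (frame none) ≤ K := by
    refine OuterCommon.stab_le hι Golay.M23_eq_closure hout
      ⟨Golay.shift_mem, g, hLK _ (by simp [hLdef]), hg⟩ ?_
    have hmem : Golay.conjShift ∈ Spor.M23 := Golay.gens23_mem (by simp)
    obtain ⟨x, hx⟩ := hin _ hmem
    exact ⟨hM23 hmem, x, mem_of_word hι hT hLK (σ := ⟨_, hM23 hmem⟩)
      (show Tab Golay.conjShift Golay.conjTab from Golay.tab_permOf _) ws ps slp hws hslp hx, hx⟩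
  have hperm : ∀ σ : M24, σ.1 none = none → ∃ x ∈ K, ι x = permHom σ := by
    intro σ h0
    obtain ⟨x, hx⟩ := hin σ.1 (OuterCommon.mem_M23.2 ⟨σ.2, h0⟩)
    refine ⟨x, hst ?_, hx⟩
    show ι x • frame none = frame none
    rw [hx]
    refine Subtype.ext (funext fun p => ?_)
    rw [coe_permHom_smul]
    show (Pi.single none (8 : ℤ) : GolayPt → ℤ) _ = (Pi.single none (8 : ℤ) : GolayPt → ℤ) p
    simp only [Pi.single_apply]
    exact if_congr (by rw [Equiv.symm_apply_eq, h0]) rfl rfl
  have hcards := OuterCommon.card_stab_frame hι hact hM23 hin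
    (fun σ hσ => (OuterCommon.mem_M23.1 hσ).2) hout
  rw [Golay.card_M23] at hcards
  have hidx : (MulAction.stabilizer G (frame none)).index = N :=
    OuterCommon.index_stab (by rw [hcards]; norm_num) (by rw [hcards, hN])
  have hnorma : ∀ y k, (k = 1 ∨ k = 10) → y * a * y⁻¹ = a ^ k →
      ∃ i < 11, y = a ^ i ∨ y = c * a ^ i := by
    intro y k hk hy
    set x : leechLattice := ι y • frame none with hx
    have hyV := (hr _).1 ⟨y, rfl⟩
    have haf : g11 • frame none = frame none := by
      refine Subtype.ext (funext fun p => ?_)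
      rw [g11, coe_permHom_smul]
      show (Pi.single none (8 : ℤ) : GolayPt → ℤ) _ = (Pi.single none (8 : ℤ) : GolayPt → ℤ) p
      simp only [Pi.single_apply]
      exact if_congr (by rw [Equiv.symm_apply_eq, g11_none]) rfl rfl
    have hnx : ι y * g11 * (ι y)⁻¹ ∈ Subgroup.zpowers g11 := by
      rw [← ha, ← map_inv, ← map_mul, ← map_mul, hy, map_pow]
      exact Subgroup.pow_mem _ (Subgroup.mem_zpowers _) _
    have hxa : g11 • x = x := by
      exact smul_fixed_of_normalise hnx haf
    set X : GolayPt → ℤ := (x : GolayPt → ℤ) with hX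
    have hstep : ∀ s : ZMod 23, X (some (2 * s)) = X (some s) := by
      intro s
      have := congrFun (congrArg Subtype.val hxa) (some (2 * s))
      rw [g11, coe_permHom_smul] at this
      rw [show (Golay.double : Equiv.Perm GolayPt).symm (some (2 * s)) = some s from
        (Equiv.symm_apply_eq _).2 (g11_some s).symm] at this
      exact this.symm
    have hpow : ∀ (n : ℕ) (s : ZMod 23), X (some (2 ^ n * s)) = X (some s) := fun n s => by
      induction n with
      | zero => simp
      | succ n ih => rw [pow_succ', mul_assoc, hstep, ih]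
    let f : Fin 4 → ℤ := ![X none, X (some 0), X (some 1), X (some 5)]
    have hxf : ∀ p, X p = f (Leech.cls p) := by
      rintro (_ | s)
      · rfl
      · have hcls := cls_facts
        rcases hcls s with ⟨rfl, e⟩ | ⟨n, ⟨e, hs⟩ | ⟨e, hs⟩⟩
        · rw [e]; rfl
        · rw [e, hs, hpow]; rfl
        · rw [e, hs, hpow]; rfl
    have hf4 : ∀ p, (frame none : GolayPt → ℤ) p = ![(8 : ℤ), 0, 0, 0] (Leech.cls p) := by
      show ∀ p, (Pi.single none 8 : GolayPt → ℤ) p = _
      simp only [Pi.single_apply]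
      decide +kernel
    have hV4 : ∀ p, (V : GolayPt → ℤ) p = ![t, 1, 1, 1] (Leech.cls p) := by
      intro p
      rw [coe_V hV]
      have : ∀ p, (p = none ∧ Leech.cls p = 0) ∨ (p ≠ none ∧ Leech.cls p ≠ 0) := by decide +kernel
      rcases this p with ⟨e, e'⟩ | ⟨e, e'⟩
      · rw [if_pos e, e']; rfl
      · rw [if_neg e]
        generalize Leech.cls p = k at e'
        fin_cases k <;> first | exact absurd rfl e' | rfl
    have k1 : f 0 * t + f 1 + 11 * f 2 + 11 * f 3 = 8 * t := by
      have h2 := dotInt_smul (ι y) (frame none) V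
      rw [hyV, ← hx] at h2
      simp only [dotInt_sum, ← hX, hxf, hV4, hf4] at h2
      rw [Leech.sum_cls fun j => f j * ![t, 1, 1, 1] j,
        Leech.sum_cls fun j => ![(8 : ℤ), 0, 0, 0] j * ![t, 1, 1, 1] j] at h2
      simpa using h2
    have hn : f 0 * f 0 + f 1 * f 1 + 11 * (f 2 * f 2) + 11 * (f 3 * f 3) = 64 := by
      have h2 := sqNorm_smul (ι y) (frame none)
      rw [← hx, ← dotInt_self, ← dotInt_self] at h2
      simp only [dotInt_sum, ← hX, hxf, hf4] at h2
      rw [Leech.sum_cls fun j => f j * f j,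
        Leech.sum_cls fun j => ![(8 : ℤ), 0, 0, 0] j * ![(8 : ℤ), 0, 0, 0] j] at h2
      simpa using h2
    have hexp : vecL X = expand [f 0, f 1, f 2, f 3] := range_map_congr fun i _ => by
      rw [hxf]
      have : ∀ k : Fin 4, [f 0, f 1, f 2, f 3].getD k.val 0 = f k := by
        intro k; fin_cases k <;> rfl
      exact (this _).symm
    simp only [enumOK, List.all_eq_true, Bool.or_eq_true, Bool.not_eq_true',
      decide_eq_false_iff_not, decide_eq_true_eq] at henum
    have m2 : ∀ k ∈ [f 2, f 3], k ∈ rng 2 := by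
      intro k hk
      rw [mem_rng]
      simp only [List.mem_cons, List.not_mem_nil, or_false] at hk
      have s0 := mul_self_nonneg (f 0); have s1 := mul_self_nonneg (f 1)
      have s2 := mul_self_nonneg (f 2); have s3 := mul_self_nonneg (f 3)
      rcases hk with rfl | rfl <;> constructor <;> push_cast <;> nlinarith
    have m8 : f 0 ∈ rng 8 := by
      rw [mem_rng]
      have s1 := mul_self_nonneg (f 1)
      have s2 := mul_self_nonneg (f 2); have s3 := mul_self_nonneg (f 3)
      constructor <;> push_cast <;> nlinarith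
    have hb : f 1 = 8 * t - t * f 0 - 11 * f 2 - 11 * f 3 := by linarith
    have hmem : vecL X ∈ [unitL 23, evalPV (tabs C) [2] (unitL 23)] := by
      rcases henum _ (m2 (f 2) (by simp)) _ (m2 (f 3) (by simp)) _ m8 with (e | e) | e
      · exact absurd (by rw [← hb]; exact hn) e
      · rw [← hb, ← hexp, hX, (inLB_vecL _).2 x.2] at e
        exact Bool.noConfusion e
      · rwa [← hb, ← hexp] at e
    have hperm11 : ∀ (w : G) (σ : M24) (l : ℕ), σ.1 none = none → ι w = permHom σ →
        (l = 1 ∨ l = 10) → w * a * w⁻¹ = a ^ l → ∃ i < 11, w = a ^ i := by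
      intro w σ l h0 hw hl hwa
      have hrel11 : permHom σ * g11 * (permHom σ)⁻¹ = g11 ^ l := by
        rw [← hw, ← ha, ← map_inv, ← map_mul, ← map_mul, hwa, map_pow]
      have h1' := fix_zero hl h0 hrel11
      obtain ⟨h55, hc'⟩ := perm_normalise_11 h0 h1'
        (by rw [hrel11]; exact Subgroup.pow_mem _ (Subgroup.mem_zpowers _) _)
      rcases hl with rfl | rfl
      · obtain ⟨m, hm⟩ := Subgroup.mem_zpowers_iff.1
          (hc' (mul_inv_eq_iff_eq_mul.1 (hrel11.trans (pow_one _))))
        refine ⟨(m % 11).toNat, by omega, hι ?_⟩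
        rw [hw, ← hm, map_pow, ha, ← zpow_natCast, Int.toNat_of_nonneg (by omega),
          ← zpow_mod_orderOf g11 m, orderOf_g11]
        rfl
      · exfalso
        refine OuterRigid.not_inverted orderOf_g11 (by norm_num) (by decide) h55 ?_
        rw [hrel11, eq_inv_iff_mul_eq_one, ← pow_succ]
        exact orderOf_dvd_iff_pow_eq_one.1 (by rw [orderOf_g11])
    simp only [List.mem_cons, List.not_mem_nil, or_false] at hmem
    rcases hmem with e | e
    · have hyf : ι y • frame none = frame none :=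
        Subtype.ext (vecL_inj (by rw [← hx, ← hX, e, vecL_frame]; rfl))
      obtain ⟨σ, hσ, hyσ⟩ := hout y hyf
      obtain ⟨i, hi, e'⟩ := hperm11 y σ k (OuterCommon.mem_M23.1 hσ).2 hyσ hk hy
      exact ⟨i, hi, Or.inl e'⟩
    · have hcf : ι c • frame none = x := by
        refine Subtype.ext (vecL_inj ?_)
        have := vecL_word hT none [2]
        rw [word_singleton] at this
        rw [← hX, e]
        exact this
      have hzf : ι (c⁻¹ * y) • frame none = frame none := by
        rw [map_mul, map_inv, mul_smul, ← hx, ← hcf, inv_smul_smul]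
      obtain ⟨σ, hσ, hzσ⟩ := hout _ hzf
      have hci : c⁻¹ = c := inv_eq_of_mul_eq_one_right hcc'
      have hz : c⁻¹ * y * a * (c⁻¹ * y)⁻¹ = (c * a * c) ^ k := by
        calc c⁻¹ * y * a * (c⁻¹ * y)⁻¹ = c⁻¹ * (y * a * y⁻¹) * c⁻¹⁻¹ := by group
          _ = c⁻¹ * a ^ k * c⁻¹⁻¹ := by rw [hy]
          _ = (c⁻¹ * a * c⁻¹⁻¹) ^ k := by rw [conj_pow]
          _ = _ := by rw [inv_inv, hci]
      obtain ⟨l, hl, hl'⟩ : ∃ l, (l = 1 ∨ l = 10) ∧ (c * a * c) ^ k = a ^ l := by
        rcases hcac with e1 | e1 <;> rcases hk with rfl | rfl <;> rw [e1]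
        · exact ⟨1, Or.inl rfl, rfl⟩
        · exact ⟨10, Or.inr rfl, rfl⟩
        · exact ⟨10, Or.inr rfl, pow_one _⟩
        · refine ⟨1, Or.inl rfl, ?_⟩
          rw [← pow_mul, ← pow_mod_orderOf, hao]
      obtain ⟨i, hi, e'⟩ := hperm11 _ σ l (OuterCommon.mem_M23.1 hσ).2 hzσ hl (hz.trans hl')
      exact ⟨i, hi, Or.inr (by rw [← e', mul_inv_cancel_left])⟩
  refine ⟨g, a, c, hT, hgo, hao, hcc', hcne, hperm, ?_, hcac, hnorma, fun α => ?_⟩
  · obtain ⟨hd, hmod, horbit⟩ := OuterRigid.index_data (frame none) hgo (by rw [hN]; exact hp) hst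
      (fun y hy => OuterRigid.mem_of_normalise hgo hrel (hLK _ (by simp [hLdef]))
        (hLK _ (by simp [hLdef])) hy (hn23 y hy).1 covers23.2 hcent)
    have hmod11 : K.index % 11 = 1 := by
      refine CrossMax.index_mod_of_normalizer_le hao (by rw [hN]; exact hp11) fun y hy => ?_
      obtain ⟨b, hbK, hb⟩ := hperm ⟨cubeTwist, Golay.cubeTwist_mem⟩ cubeTwist_none
      have hb3 : b * a * b⁻¹ = a ^ 3 := hι (by
        rw [map_mul, map_mul, map_inv, map_pow, hb, ha]
        exact cubeTwist_rel)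
      obtain ⟨k, hk, hk'⟩ : ∃ k < 11, y * a * y⁻¹ = a ^ k := by
        classical
        obtain ⟨k, hk, e⟩ := (IsOfFinOrder.mem_zpowers_iff_mem_range_orderOf
          (isOfFinOrder_of_finite a)).1 ((Subgroup.mem_normalizer_iff.1 hy a).1
            (Subgroup.mem_zpowers a)) |> Finset.mem_image.1
        exact ⟨k, hao ▸ Finset.mem_range.1 hk, e.symm⟩
      have hk0 : k ≠ 0 := by
        rintro rfl
        rw [pow_zero, mul_inv_eq_one] at hk'
        have : a = 1 := mul_left_cancel (hk'.trans (mul_one y).symm)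
        rw [this, orderOf_one] at hao
        norm_num at hao
      obtain ⟨j, hj⟩ := covers11 ⟨k, hk⟩ hk0
      have e : b ^ j.val * y * a * (b ^ j.val * y)⁻¹ = a ^ (k * 3 ^ j.val % 11) := by
        rw [show k * 3 ^ j.val % 11 = k * 3 ^ j.val % orderOf a by rw [hao], pow_mod_orderOf,
          ← OuterRigid.conj_pow_rel' hb3, ← hk']
        group
      obtain ⟨i, -, hi⟩ := hnorma _ _ hj e
      have hmem : b ^ j.val * y ∈ K := by
        rcases hi with e' | e' <;> rw [e']
        · exact K.pow_mem (hLK _ (by simp [hLdef])) _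
        · exact K.mul_mem (hLK _ (by simp [hLdef])) (K.pow_mem (hLK _ (by simp [hLdef])) _)
      have := K.mul_mem (K.inv_mem (K.pow_mem hbK j.val)) hmem
      rwa [inv_mul_cancel_left] at this
    rw [hidx] at hd horbit
    have hN0 : N ≠ 0 := by rintro rfl; rw [mul_zero] at hN; exact Nat.card_pos.ne' hN
    rcases hdiv _ (Nat.mem_divisors.2 ⟨hd, hN0⟩) hmod hmod11 with e | e | e
    · exact Or.inl (Subgroup.index_eq_one.1 e)
    · exfalso
      have hge := orbit_ge hT hact hLK none orb (by
        rwa [show idx none = 23 from rfl])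
      have : N / K.index = (MulAction.orbit K (frame none)).ncard := by
        rw [← horbit, Nat.mul_div_cancel _ (Nat.pos_of_ne_zero (by omega))]
      omega
    · exact Or.inr e
  · obtain ⟨h, hβa, hβg⟩ := OuterRigid.normalise (p := 23) (r := 2) (u := 1)
      (by rw [hN]; exact hp) hgo hrel hcent covers23.1 (by norm_num) (by norm_num) α
    rcases hβg with e | e
    · exact ⟨h, 1, Or.inl rfl, hβa, by rw [e, pow_one]⟩
    · refine ⟨h, 22, Or.inr rfl, hβa, ?_⟩
      rw [e, inv_eq_iff_mul_eq_one, ← pow_succ']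
      exact orderOf_dvd_iff_pow_eq_one.1 (by rw [hgo])

end Cfsg.Agent.SporStruct.OuterBig
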