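import Cfsg.Agent.SporStruct.HSGraphData

/-!
The automorphism group of the 100-vertex graph of an S(3,6,22).
-/

set_option autoImplicit false

namespace Cfsg.Agent.SporStruct.HSGraph

open Cfsg Cfsg.Agent.Steiner
open scoped Pointwise

variable {α β : Type*}

theorem adj_none_point (B : Set (Finset α)) (a : α) :
    (pointBlockGraph B).Adj none (some (Sum.inl a)) := by
  simp [pointBlockGraph, pointBlockRel]

theorem adj_none_iff (B : Set (Finset α)) {x : Option (α ⊕ B)} :
    (pointBlockGraph B).Adj none x ↔ ∃ a, x = some (Sum.inl a) := by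
  rcases x with _ | (a | b) <;> simp [pointBlockGraph, pointBlockRel]

theorem adj_point_block (B : Set (Finset α)) (a : α) (b : B) :
    (pointBlockGraph B).Adj (some (Sum.inl a)) (some (Sum.inr b)) ↔ a ∈ (b : Finset α) := by
  simp [pointBlockGraph, pointBlockRel]

theorem adj_point_point (B : Set (Finset α)) (a a' : α) :
    ¬ (pointBlockGraph B).Adj (some (Sum.inl a)) (some (Sum.inl a')) := by
  simp [pointBlockGraph, pointBlockRel]

theorem adj_block_block (B : Set (Finset α)) (b c : B) :
    (pointBlockGraph B).Adj (some (Sum.inr b)) (some (Sum.inr c)) ↔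
      b ≠ c ∧ Disjoint (b : Finset α) (c : Finset α) := by
  simp only [pointBlockGraph, SimpleGraph.fromRel_adj, pointBlockRel, ne_eq, Option.some.injEq,
    Sum.inr.injEq, disjoint_comm (a := (c : Finset α)), or_self]

variable [Fintype α] [DecidableEq α] [Fintype β] [DecidableEq β]

/-- The map of vertices induced by a bijection of points. -/
noncomputable def vertexEquiv {B : Set (Finset α)} {C : Set (Finset β)} (e : α ≃ β)
    (he : (fun b => b.image e) '' B = C) : Option (α ⊕ B) ≃ Option (β ⊕ C) :=
  Equiv.optionCongr (Equiv.sumCongr e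
    (Equiv.ofBijective (fun b => (⟨(b : Finset α).image e, he ▸ Set.mem_image_of_mem _ b.2⟩ : C))
      ⟨fun b c h => Subtype.ext (Finset.image_injective e.injective (congrArg Subtype.val h)),
        fun c => by
          obtain ⟨b, hb, hbc⟩ : (c : Finset β) ∈ (fun b => b.image e) '' B := he.symm ▸ c.2
          exact ⟨⟨b, hb⟩, Subtype.ext hbc⟩⟩))

/-- The isomorphism of graphs induced by a bijection of points. -/
noncomputable def graphIso {B : Set (Finset α)} {C : Set (Finset β)} (e : α ≃ β)
    (he : (fun b => b.image e) '' B = C) : pointBlockGraph B ≃g pointBlockGraph C where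
  toEquiv := vertexEquiv e he
  map_rel_iff' {x y} := by
    rcases x with _ | (a | b) <;> rcases y with _ | (a' | c)
    · simp [pointBlockGraph, vertexEquiv]
    · exact ⟨fun _ => adj_none_point B a', fun _ => adj_none_point C (e a')⟩
    · simp [pointBlockGraph, pointBlockRel, vertexEquiv]
    · exact ⟨fun _ => (adj_none_point B a).symm, fun _ => (adj_none_point C (e a)).symm⟩
    · exact iff_of_false (adj_point_point C _ _) (adj_point_point B _ _)
    · exact (adj_point_block C (e a) _).trans
        (e.injective.mem_finset_image.trans (adj_point_block B a c).symm)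
    · simp [pointBlockGraph, pointBlockRel, vertexEquiv]
    · rw [SimpleGraph.adj_comm, SimpleGraph.adj_comm (pointBlockGraph B)]
      exact (adj_point_block C (e a') _).trans
        (e.injective.mem_finset_image.trans (adj_point_block B a' b).symm)
    · refine (adj_block_block C _ _).trans ((Iff.trans ?_ (adj_block_block B b c).symm))
      refine and_congr ?_ ?_
      · exact not_congr ⟨fun h => Subtype.ext (Finset.image_injective e.injective
          (congrArg Subtype.val h)), fun h => by rw [h]⟩
      · exact Finset.disjoint_image e.injective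

theorem card_aut_congr {B : Set (Finset α)} {C : Set (Finset β)} (e : α ≃ β)
    (he : (fun b => b.image e) '' B = C) :
    Nat.card (pointBlockGraph B ≃g pointBlockGraph B) =
      Nat.card (pointBlockGraph C ≃g pointBlockGraph C) :=
  Nat.card_congr
    { toFun := fun f => ((graphIso e he).symm.trans f).trans (graphIso e he)
      invFun := fun f => ((graphIso e he).trans f).trans (graphIso e he).symm
      left_inv := fun f => by ext x; simp
      right_inv := fun f => by ext x; simp }

/-- Point permutations preserving the family give graph automorphisms fixing the extra vertex, and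
conversely. -/
theorem exists_point_perm {B : Set (Finset α)} {f : pointBlockGraph B ≃g pointBlockGraph B}
    (h0 : f none = none) :
    ∃ σ ∈ setSystemAut B, (∀ a, f (some (Sum.inl a)) = some (Sum.inl (σ a))) ∧
      ∀ b : B, ∃ c : B, f (some (Sum.inr b)) = some (Sum.inr c) ∧
        (c : Finset α) = (b : Finset α).image σ := by
  have hp : ∀ a, ∃ a', f (some (Sum.inl a)) = some (Sum.inl a') := fun a => by
    have := f.map_adj_iff.2 (adj_none_point B a)
    rw [h0] at this
    exact (adj_none_iff B).1 this
  choose s hs using hp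
  have hinj : Function.Injective s := fun a a' h => by
    have : f (some (Sum.inl a)) = f (some (Sum.inl a')) := by rw [hs, hs, h]
    simpa using f.injective this
  let σ : Equiv.Perm α := Equiv.ofBijective s (Finite.injective_iff_bijective.1 hinj)
  have hσ : ∀ a, f (some (Sum.inl a)) = some (Sum.inl (σ a)) := hs
  have hb : ∀ b : B, ∃ c : B, f (some (Sum.inr b)) = some (Sum.inr c) ∧
      (c : Finset α) = (b : Finset α).image σ := by
    intro b
    rcases hfb : f (some (Sum.inr b)) with _ | (a | c)
    · rw [← h0] at hfb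
      exact absurd (f.injective hfb) (by simp)
    · obtain ⟨a', rfl⟩ := σ.surjective a
      rw [← hσ] at hfb
      exact absurd (f.injective hfb) (by simp)
    · refine ⟨c, rfl, Finset.ext fun x => ?_⟩
      obtain ⟨y, rfl⟩ := σ.surjective x
      have h := f.map_adj_iff (v := some (Sum.inl y)) (w := some (Sum.inr b))
      rw [hσ, hfb, adj_point_block, adj_point_block] at h
      rw [h, Finset.mem_image]
      exact ⟨fun hy => ⟨y, hy, rfl⟩, fun ⟨z, hz, e⟩ => σ.injective e ▸ hz⟩
  refine ⟨σ, ?_, hσ, hb⟩
  rw [Steiner.mem_setSystemAut]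
  refine Set.eq_of_subset_of_ncard_le ?_ ?_ (Set.toFinite _)
  · rintro _ ⟨b, hb', rfl⟩
    obtain ⟨c, -, hc⟩ := hb ⟨b, hb'⟩
    show b.image σ ∈ B
    exact hc ▸ c.2
  · rw [Set.ncard_image_of_injective _ (Finset.image_injective σ.injective)]

/-- The graph automorphism of a point permutation. -/
noncomputable def autOfPerm {B : Set (Finset α)} (σ : setSystemAut B)
    (hσ : (fun b => b.image (σ : Equiv.Perm α)) '' B = B) :
    pointBlockGraph B ≃g pointBlockGraph B :=
  graphIso (σ : Equiv.Perm α) hσ

theorem image_eq_of_mem_aut {B : Set (Finset α)} (σ : setSystemAut B) :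
    (fun b => b.image (σ : Equiv.Perm α)) '' B = B :=
  Steiner.mem_setSystemAut.1 σ.2

theorem card_fix_none (B : Set (Finset α)) :
    Nat.card {f : pointBlockGraph B ≃g pointBlockGraph B // f none = none} =
      Nat.card (setSystemAut B) := by
  refine (Nat.card_congr (Equiv.ofBijective
    (fun σ : setSystemAut B => (⟨autOfPerm σ (image_eq_of_mem_aut σ), rfl⟩ :
      {f : pointBlockGraph B ≃g pointBlockGraph B // f none = none})) ⟨?_, ?_⟩)).symm
  · intro σ τ h
    apply Subtype.ext
    refine Equiv.ext fun a => ?_
    have := congrArg (fun x : {f : pointBlockGraph B ≃g pointBlockGraph B // f none = none} =>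
      x.1 (some (Sum.inl a))) h
    simpa [autOfPerm, graphIso, vertexEquiv] using this
  · rintro ⟨f, h0⟩
    obtain ⟨σ, hσ, hp, hb⟩ := exists_point_perm h0
    refine ⟨⟨σ, hσ⟩, Subtype.ext (RelIso.ext fun x => ?_)⟩
    rcases x with _ | (a | b)
    · exact h0.symm
    · exact (hp a).symm
    · obtain ⟨c, hc, hc'⟩ := hb b
      rw [hc]
      exact congrArg (fun z => some (Sum.inr z)) (Subtype.ext hc'.symm)

/-- The vertices of the model graph. -/
abbrev V22 : Type := Option (Fin 22 ⊕ decSet 22 autModel22)

theorem model_nodup : autModel22.Nodup ∧ autModel22.length = 77 ∧ autModel22.all (fun m => m != 0) = true := by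
  decide +kernel

theorem dec_injOn {a b : ℕ} (ha : a < 2 ^ 22) (hb : b < 2 ^ 22) (h : dec 22 a = dec 22 b) :
    a = b := by
  refine Nat.eq_of_testBit_eq fun i => ?_
  by_cases hi : i < 22
  · exact Bool.eq_iff_iff.2 (by simpa using Finset.ext_iff.1 h ⟨i, hi⟩)
  · rw [Nat.testBit_eq_false_of_lt (lt_of_lt_of_le ha (Nat.pow_le_pow_right (by norm_num) (by omega))),
      Nat.testBit_eq_false_of_lt (lt_of_lt_of_le hb (Nat.pow_le_pow_right (by norm_num) (by omega)))]

theorem getD_mem_model (k : Fin 77) : autModel22.getD k 0 ∈ autModel22 := by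
  have hk : k.val < autModel22.length := by rw [model_nodup.2.1]; exact k.2
  rw [List.getD_eq_getElem _ _ hk]
  exact List.getElem_mem hk

/-- Numbering of the blocks. -/
noncomputable def blockNum : Fin 77 ≃ decSet 22 autModel22 :=
  Equiv.ofBijective (fun k => (⟨dec 22 (autModel22.getD k.val 0), ⟨autModel22.getD k.val 0, getD_mem_model k, rfl⟩⟩ : decSet 22 autModel22))
    ⟨fun k l h => by
      have hk : k.val < autModel22.length := by rw [model_nodup.2.1]; exact k.2
      have hl : l.val < autModel22.length := by rw [model_nodup.2.1]; exact l.2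
      have := dec_injOn (autModel22_lt _ (getD_mem_model k)) (autModel22_lt _ (getD_mem_model l))
        (congrArg Subtype.val h)
      rw [List.getD_eq_getElem _ _ hk, List.getD_eq_getElem _ _ hl] at this
      exact Fin.ext (model_nodup.1.getElem_inj_iff.1 this),
    fun x => by
      obtain ⟨m, hm, e⟩ := x.2
      obtain ⟨k, hk, rfl⟩ := List.getElem_of_mem hm
      exact ⟨⟨k, model_nodup.2.1 ▸ hk⟩, Subtype.ext ((congrArg (dec 22) (List.getD_eq_getElem _ _ hk)).trans e)⟩⟩

/-- Numbering of the vertices. -/
noncomputable def vtx (i : Fin 100) : V22 :=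
  if h : i.val = 0 then none
  else if h' : i.val ≤ 22 then some (Sum.inl ⟨i.val - 1, by omega⟩)
  else some (Sum.inr (blockNum ⟨i.val - 23, by omega⟩))

theorem vtx_bijective : Function.Bijective vtx := by
  constructor
  · intro i j h
    unfold vtx at h
    apply Fin.ext
    split_ifs at h <;>
      simp only [Option.some.injEq, Sum.inl.injEq, Sum.inr.injEq, EmbeddingLike.apply_eq_iff_eq,
        Fin.ext_iff, reduceCtorEq] at h <;> omega
  · rintro (_ | (a | b))
    · exact ⟨0, rfl⟩
    · exact ⟨⟨a.val + 1, by omega⟩, by simp [vtx, show a.val + 1 ≤ 22 by omega]⟩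
    · obtain ⟨k, rfl⟩ := blockNum.surjective b
      exact ⟨⟨k.val + 23, by omega⟩, by simp [vtx]⟩

theorem adj_vtx_le {i j : Fin 100} (hij : i.val ≤ j.val) :
    (pointBlockGraph (decSet 22 autModel22)).Adj (vtx i) (vtx j) ↔ adjLe i j = true := by
  by_cases he : i = j
  · subst he
    simp [adjLe]
  have hne : i.val ≠ j.val := fun h => he (Fin.ext h)
  unfold vtx adjLe
  rw [if_neg (by simpa using hne)]
  by_cases hi0 : i.val = 0
  · rw [dif_pos hi0, if_pos (by simpa using hi0), dif_neg (by omega)]
    by_cases hj : j.val ≤ 22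
    · rw [dif_pos hj]; exact iff_of_true (adj_none_point _ _) (by simpa using hj)
    · rw [dif_neg hj, adj_none_iff]; exact iff_of_false (by simp) (by simp [Nat.ble_eq, hj])
  rw [dif_neg hi0, if_neg (by simpa using hi0)]
  have hj0 : ¬ j.val = 0 := by omega
  rw [dif_neg hj0]
  by_cases hi : i.val ≤ 22
  · rw [dif_pos hi, if_pos (by simpa using hi)]
    by_cases hj : j.val ≤ 22
    · rw [dif_pos hj]
      exact iff_of_false (adj_point_point _ _ _) (by simp [show ¬ 23 ≤ j.val by omega])
    · rw [dif_neg hj, adj_point_block, Bool.and_eq_true, Nat.ble_eq]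
      show _ ∈ dec 22 _ ↔ _
      rw [mem_dec]
      exact ⟨fun h => ⟨by omega, h⟩, fun h => h.2⟩
  · rw [dif_neg hi, if_neg (by simpa using hi), dif_neg (by omega), adj_block_block]
    have hb : blockNum ⟨i.val - 23, by omega⟩ ≠ blockNum ⟨j.val - 23, by omega⟩ := fun h => by
      have := congrArg Fin.val (blockNum.injective h)
      simp at this
      omega
    rw [beq_iff_eq]
    simp only [hb, ne_eq, not_false_eq_true, true_and]
    show Disjoint (dec 22 _) (dec 22 _) ↔ _
    rw [Finset.disjoint_left]
    constructor
    · intro h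
      refine Nat.eq_of_testBit_eq fun p => ?_
      rw [Nat.testBit_and, Nat.zero_testBit]
      by_cases hp : p < 22
      · have := @h ⟨p, hp⟩
        simp only [mem_dec] at this
        cases h1 : (autModel22.getD (i.val - 23) 0).testBit p <;> simp_all
      · rw [Nat.testBit_eq_false_of_lt (lt_of_lt_of_le
          (autModel22_lt _ (getD_mem_model ⟨i.val - 23, by omega⟩))
          (Nat.pow_le_pow_right (by norm_num) (by omega))), Bool.false_and]
    · intro h p hp hp'
      have := congrArg (fun n => n.testBit p.val) h
      simp only [Nat.testBit_and, Nat.zero_testBit, mem_dec.1 hp, mem_dec.1 hp'] at this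
      simp at this

theorem adj_vtx (i j : Fin 100) :
    (pointBlockGraph (decSet 22 autModel22)).Adj (vtx i) (vtx j) ↔ adjB i j = true := by
  unfold adjB
  by_cases h : i.val ≤ j.val
  · rw [if_pos (by simpa using h), adj_vtx_le h]
  · rw [if_neg (by simpa using h), SimpleGraph.adj_comm, adj_vtx_le (by omega)]

theorem exists_aut_of_tab {t : List ℕ} (h : tabAutCheck t = true) :
    ∃ f : pointBlockGraph (decSet 22 autModel22) ≃g pointBlockGraph (decSet 22 autModel22),
      ∀ i : Fin 100, ∃ j : Fin 100, j.val = t.getD i 0 ∧ f (vtx i) = vtx j := by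
  simp only [tabAutCheck, Bool.and_eq_true, List.all_eq_true, List.mem_range, beq_iff_eq] at h
  obtain ⟨e, he, -⟩ := exists_perm_of_isPerm h.1
  let E := Equiv.ofBijective vtx vtx_bijective
  refine ⟨⟨(E.symm.trans e).trans E, ?_⟩, fun i => ⟨e i, he i, ?_⟩⟩
  · intro x y
    obtain ⟨i, rfl⟩ := E.surjective x
    obtain ⟨j, rfl⟩ := E.surjective y
    simp only [Equiv.trans_apply, Equiv.symm_apply_apply]
    show (pointBlockGraph _).Adj (vtx (e i)) (vtx (e j)) ↔ (pointBlockGraph _).Adj (vtx i) (vtx j)
    rw [adj_vtx, adj_vtx, he, he, h.2 i i.2 j j.2]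
  · show E (e (E.symm (E i))) = _
    rw [Equiv.symm_apply_apply]
    rfl

/-- Numbers of vertices in the orbit of the extra vertex. -/
def InOrb (i : ℕ) : Prop :=
  ∃ (h : i < 100) (f : pointBlockGraph (decSet 22 autModel22) ≃g
    pointBlockGraph (decSet 22 autModel22)), f none = vtx ⟨i, h⟩

theorem treeOK_sound : ∀ (L : List ℕ) (seen : ℕ), treeOK seen L = true →
    (∀ i, seen.testBit i = true → InOrb i) → ∀ i < 100, InOrb i
  | [], seen, h, hs => fun i hi => hs i (by
      rw [treeOK, beq_iff_eq] at h
      rw [h, Nat.testBit_two_pow_sub_one, decide_eq_true hi])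
  | k :: r, seen, h, hs => by
    simp only [treeOK, Bool.and_eq_true, Nat.ble_eq, beq_iff_eq] at h
    obtain ⟨⟨⟨h1, h2⟩, h3⟩, h4⟩ := h
    have hlen : graphTabs.length = 3 := rfl
    have hj : k % 10 < graphTabs.length := by omega
    obtain ⟨f, hf⟩ := exists_aut_of_tab (List.all_eq_true.1 graphTabs_ok _ (List.getElem_mem hj))
    obtain ⟨hp, g, hg⟩ := hs _ h1
    obtain ⟨j, hjv, hfj⟩ := hf ⟨k / 10 % 100, hp⟩
    have hnew : InOrb (k / 1000) := by
      have : k / 1000 = j.val := by
        rw [hjv, ← List.getD_eq_getElem _ [] hj]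
        exact h3.symm
      rw [this]
      exact ⟨j.2, g.trans f, by rw [RelIso.trans_apply, hg, hfj]⟩
    refine treeOK_sound r _ h4 fun i hi => ?_
    rw [Nat.testBit_or, Bool.or_eq_true, Nat.testBit_two_pow, decide_eq_true_eq] at hi
    rcases hi with hi | rfl
    · exact hs i hi
    · exact hnew

theorem transitive_none (x : V22) :
    ∃ f : pointBlockGraph (decSet 22 autModel22) ≃g pointBlockGraph (decSet 22 autModel22),
      f none = x := by
  obtain ⟨i, rfl⟩ := vtx_bijective.2 x
  obtain ⟨_, f, hf⟩ := treeOK_sound graphTree 1 graphTree_ok (fun j hj => by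
    have : j = 0 := by
      by_contra h
      rw [Nat.testBit_eq_false_of_lt (Nat.one_lt_two_pow h)] at hj
      exact Bool.false_ne_true hj
    subst this
    exact ⟨by norm_num, RelIso.refl _, rfl⟩) i i.2
  exact ⟨f, hf⟩

theorem card_aut_model :
    Nat.card (pointBlockGraph (decSet 22 autModel22) ≃g pointBlockGraph (decSet 22 autModel22)) =
      88704000 := by
  classical
  choose g hg using transitive_none
  let e : (pointBlockGraph (decSet 22 autModel22) ≃g pointBlockGraph (decSet 22 autModel22)) ≃
      V22 × {f : pointBlockGraph (decSet 22 autModel22) ≃g pointBlockGraph (decSet 22 autModel22) //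
        f none = none} :=
    { toFun := fun f => (f none, ⟨f.trans (g (f none)).symm, by
        rw [RelIso.trans_apply, RelIso.symm_apply_eq, hg]⟩)
      invFun := fun p => p.2.1.trans (g p.1)
      left_inv := fun f => by ext x; simp
      right_inv := fun p => by
        rcases p with ⟨x, f, hf⟩
        have hx : (f.trans (g x)) none = x := by rw [RelIso.trans_apply, hf, hg]
        refine Prod.ext hx (Subtype.ext (RelIso.ext fun y => ?_))
        simp only [RelIso.trans_apply] at hx ⊢
        rw [hx, RelIso.symm_apply_apply] }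
  rw [Nat.card_congr e, Nat.card_prod, card_fix_none, card_aut22,
    ← Nat.card_congr (Equiv.ofBijective vtx vtx_bijective), Nat.card_fin]

theorem card_aut {B : Set (Finset α)} (hα : Fintype.card α = 22) (hB : IsSteinerSystem 3 6 B) :
    Nat.card (pointBlockGraph B ≃g pointBlockGraph B) = 88704000 := by
  let a := Fintype.equivFinOfCardEq hα
  obtain ⟨e, he⟩ := normalForm22' _ (steiner_image hB a)
  rw [Set.image_image] at he
  have he' : (fun b => b.image (a.trans e)) '' B = decSet 22 autModel22 := by
    rw [← he]
    refine Set.image_congr fun b _ => ?_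
    simp [Finset.image_image, Function.comp_def]
  rw [card_aut_congr _ he', card_aut_model]

end Cfsg.Agent.SporStruct.HSGraph
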