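import Cfsg.Agent.SporStruct.LeechHS

/-!
The Higman-Sims configuration for an arbitrary pair.
-/

set_option autoImplicit false

namespace Cfsg.Agent.SporStruct

open Cfsg Cfsg.Agent.Leech
open scoped Pointwise

/-- For a vector of norm 48 and a minimal `a` of product 16 there is an orthogonal minimal vector of
product 24. -/
theorem exists_companion (hu : CodeUnique) {v a : leechLattice}
    (hv : sqNorm (v : GolayPt → ℤ) = 48) (ha : sqNorm (a : GolayPt → ℤ) = 32)
    (hva : dotInt (v : GolayPt → ℤ) (a : GolayPt → ℤ) = 16) :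
    ∃ x : leechLattice, sqNorm (x : GolayPt → ℤ) = 32 ∧
      dotInt (a : GolayPt → ℤ) (x : GolayPt → ℤ) = 0 ∧
      dotInt (v : GolayPt → ℤ) (x : GolayPt → ℤ) = 24 := by
  obtain ⟨g, hg⟩ := exists_smul_eq_std48 hu hv
  set y := ((g • a : leechLattice) : GolayPt → ℤ) with hy
  have hy16 : 4 * y none + ∑ i, y i = 16 := by
    rw [← dot_std48', ← hg, hy, dotInt_smul, dotInt_comm, hva]
  have mk : ∀ j, j ≠ none → (y none + y j = 0 ∨ y none + y j = 4) →
      ∃ x : leechLattice, sqNorm (x : GolayPt → ℤ) = 32 ∧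
      dotInt (a : GolayPt → ℤ) (x : GolayPt → ℤ) = 0 ∧
      dotInt (v : GolayPt → ℤ) (x : GolayPt → ℤ) = 24 := by
    intro j hj h
    obtain ⟨hm, hn⟩ := four_spec hj.symm (Or.inl rfl : (4 : ℤ) = 4 ∨ (4 : ℤ) = -4)
      (Or.inl rfl : (4 : ℤ) = 4 ∨ (4 : ℤ) = -4)
    set r : leechLattice := ⟨_, hm⟩ with hr
    have hr48 : dotInt (r : GolayPt → ℤ) (std48 : GolayPt → ℤ) = 24 := by
      rw [hr, dotInt_four, coe_std48, coe_std48, if_pos rfl, if_neg hj]; norm_num
    have hra : dotInt (r : GolayPt → ℤ) y = 4 * (y none + y j) := by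
      rw [hr, dotInt_four]; ring
    rcases h with h | h
    · refine ⟨g⁻¹ • r, (sqNorm_smul _ _).trans hn, ?_, ?_⟩
      · rw [← dotInt_smul g, smul_inv_smul, ← hy, dotInt_comm, hra, h]; norm_num
      · rw [← dotInt_smul g, smul_inv_smul, hg, dotInt_comm, hr48]
    · refine ⟨g⁻¹ • (std48 - r), ?_, ?_, ?_⟩
      · rw [sqNorm_smul, AddSubgroup.coe_sub, sqNorm_sub, sqNorm_std48, dotInt_comm, hr48, hn]
        norm_num
      · rw [← dotInt_smul g, smul_inv_smul, ← hy, dotInt_comm, AddSubgroup.coe_sub,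
          dotInt_sub_left', hra, h, dotInt_std48]
        omega
      · rw [← dotInt_smul g, smul_inv_smul, hg, dotInt_comm, AddSubgroup.coe_sub,
          dotInt_sub_left', hr48, dotInt_self, sqNorm_std48]
        norm_num
  rcases shape32 (x := y) (g • a).2 ((sqNorm_smul g a).trans ha) with
    ⟨p, q, hpq, hp, hq, h0⟩ | ⟨o, ho, h2, h0⟩ | ⟨p, hp, h1⟩
  · have hsum : ∑ i, y i = y p + y q := Finset.sum_eq_add_of_mem p q (Finset.mem_univ p)
      (Finset.mem_univ q) hpq fun i _ hi => h0 i hi.1 hi.2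
    obtain ⟨j, hj, hj1, hj2⟩ := Leech.exists_ne_ne none p q
    have hyj := h0 j (by tauto) (by tauto)
    refine mk j hj (by
      rw [hyj]
      by_cases h1 : none = p
      · subst h1; omega
      · by_cases h2 : none = q
        · subst h2; omega
        · left; rw [h0 none h1 h2]; rfl)
  · obtain ⟨hle, -⟩ := sum_neg_bound h2 h0
    rw [ho.2] at hle
    obtain ⟨j, hj1, -, hj⟩ := Leech.card_le_eight_compl ho.2 none none
    by_cases hno : (none : GolayPt) ∈ o
    · obtain ⟨k, hk, hkn⟩ := Finset.exists_mem_ne (by rw [ho.2]; norm_num : 1 < o.card) none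
      exact mk k hkn (by have := h2 none hno; have := h2 k hk; omega)
    · exact mk j hj1 (Or.inl (by rw [h0 none hno, h0 j hj]; rfl))
  · obtain ⟨N, hN, hval, hiff⟩ := shape3_data (g • a).2 hp h1
    have hsum := sum_shape3 hval
    rw [← hy] at hsum
    by_contra hcon
    have hall : ∀ j, j ≠ none → ¬ (y none + y j = 0 ∨ y none + y j = 4) := fun j hj h =>
      hcon (mk j hj h)
    have hbit : bit N p = 0 ∨ bit N p = 1 := by simp only [bit]; split_ifs <;> simp
    by_cases hnp : none = p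
    · subst hnp
      obtain ⟨k, hk, -, -⟩ := Leech.exists_ne_ne none none none
      have hk1 := h1 k hk
      rcases hp with e | e
      · have hone : ∀ i, i ≠ none → y i = -1 := fun i hi => by
          have := hall i hi; have := h1 i hi; rw [e] at *; omega
        have hs : ∑ i, y i = y none + 23 * (-1) := by
          rw [Finset.sum_eq_add_sum_sdiff_singleton_of_mem (Finset.mem_univ (none : GolayPt)),
            Finset.sum_congr rfl fun i hi => hone i (by simpa using hi), Finset.sum_const,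
            Finset.card_sdiff_of_subset (by simp), Finset.card_univ, card_pt,
            Finset.card_singleton, nsmul_eq_mul]
          norm_num
        omega
      · have hge : bit N none ≤ (N.card : ℤ) := by
          rw [← sum_bit]
          exact Finset.single_le_sum (f := fun i => bit N i)
            (fun i _ => by simp only [bit]; split_ifs <;> norm_num) (Finset.mem_univ none)
        omega
    · have hn1 := h1 none hnp
      have hone : ∀ i, i ≠ none → i ≠ p → y i = y none := fun i hi hip => by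
        have := hall i hi; have := h1 i hip; omega
      have hs : ∑ i, y i = y p + 23 * y none := by
        rw [Finset.sum_eq_add_sum_sdiff_singleton_of_mem (Finset.mem_univ p),
          Finset.sum_congr rfl (g := fun _ => y none) fun i hi => ?_, Finset.sum_const,
          Finset.card_sdiff_of_subset (by simp), Finset.card_univ, card_pt,
          Finset.card_singleton, nsmul_eq_mul]
        · norm_num
        · by_cases hi0 : i = none
          · rw [hi0]
          · exact hone i hi0 (by simpa using hi)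
      omega

/-- The normal form of a Higman-Sims pair. -/
theorem exists_smul_hs (hu : CodeUnique) {v w : leechLattice}
    (hv : sqNorm (v : GolayPt → ℤ) = 48) (hw : sqNorm (w : GolayPt → ℤ) = 48)
    (hvw : dotInt (v : GolayPt → ℤ) (w : GolayPt → ℤ) = -32) :
    ∃ g : Co0, g • v = std48 ∧ g • w = std32' - std48 := by
  have ha : sqNorm ((v + w : leechLattice) : GolayPt → ℤ) = 32 := by
    rw [AddSubgroup.coe_add, sqNorm_add, hv, hw, hvw]; norm_num
  have hva : dotInt (v : GolayPt → ℤ) ((v + w : leechLattice) : GolayPt → ℤ) = 16 := by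
    rw [dotInt_comm, AddSubgroup.coe_add, dotInt_add_left', dotInt_self, hv, dotInt_comm, hvw]
    norm_num
  obtain ⟨x, hx, hax, hvx⟩ := exists_companion hu hv ha hva
  obtain ⟨g, hg1, hg2, -⟩ := exists_smul_triple hu hv ha hx hax hva hvx
  refine ⟨g, hg1, ?_⟩
  rw [← hg2, ← hg1, ← smul_sub']
  congr 1
  abel

/-- The vertices of the configuration of a pair. -/
def hsConfig (v w : leechLattice) : Set leechLattice :=
  {x | sqNorm (x : GolayPt → ℤ) = 32 ∧ dotInt (v : GolayPt → ℤ) (x : GolayPt → ℤ) = 24 ∧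
    dotInt (w : GolayPt → ℤ) (x : GolayPt → ℤ) = -24}

theorem mem_hsConfig_iff {v w x : leechLattice} : x ∈ hsConfig v w ↔
    sqNorm (x : GolayPt → ℤ) = 32 ∧ dotInt (v : GolayPt → ℤ) (x : GolayPt → ℤ) = 24 ∧
      dotInt ((v + w : leechLattice) : GolayPt → ℤ) (x : GolayPt → ℤ) = 0 := by
  simp only [hsConfig, Set.mem_ofPred_eq, AddSubgroup.coe_add, dotInt_add_left']
  constructor <;> rintro ⟨h1, h2, h3⟩ <;> exact ⟨h1, h2, by omega⟩

theorem smul_mem_hsConfig (g : Co0) {v w x : leechLattice} :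
    g • x ∈ hsConfig (g • v) (g • w) ↔ x ∈ hsConfig v w := by
  simp only [hsConfig, Set.mem_ofPred_eq, sqNorm_smul, dotInt_smul]

theorem mem_std_config {x : leechLattice} :
    x ∈ hsConfig std48 (std32' - std48) ↔
      (x : GolayPt → ℤ) ∈ (↑(insert (std32 : GolayPt → ℤ) (hsHexads ∪ hsPoints)) :
        Set (GolayPt → ℤ)) := by
  rw [mem_hsConfig_iff, add_sub_cancel, ← hs_set, Set.mem_ofPred_eq, dotInt_comm (std48 : GolayPt → ℤ),
    dotInt_comm (std32' : GolayPt → ℤ)]
  exact ⟨fun h => ⟨x.2, h⟩, fun h => h.2⟩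

theorem ncard_hsConfig (hu : CodeUnique) {v w : leechLattice}
    (hv : sqNorm (v : GolayPt → ℤ) = 48) (hw : sqNorm (w : GolayPt → ℤ) = 48)
    (hvw : dotInt (v : GolayPt → ℤ) (w : GolayPt → ℤ) = -32) :
    (hsConfig v w).ncard = 100 := by
  obtain ⟨g, hg1, hg2⟩ := exists_smul_hs hu hv hw hvw
  rw [← card_hs_set, ← Set.ncard_coe_finset]
  refine Set.ncard_congr (fun x _ => ((g • x : leechLattice) : GolayPt → ℤ)) (fun x hx => ?_)
    (fun x y _ _ h => ?_) (fun y hy => ?_)
  · have := (smul_mem_hsConfig g).2 hx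
    rw [hg1, hg2] at this
    exact mem_std_config.1 this
  · exact smul_left_cancel g (Subtype.ext h)
  · have hy' := hy
    rw [← hs_set] at hy'
    refine ⟨g⁻¹ • ⟨y, hy'.1⟩, ?_, by rw [smul_inv_smul]⟩
    rw [← smul_mem_hsConfig g, hg1, hg2, smul_inv_smul]
    exact mem_std_config.2 hy

/-- Normal form of a pair with a vertex. -/
theorem exists_smul_hs_vertex (hu : CodeUnique) {v w x : leechLattice}
    (hv : sqNorm (v : GolayPt → ℤ) = 48) (hw : sqNorm (w : GolayPt → ℤ) = 48)
    (hvw : dotInt (v : GolayPt → ℤ) (w : GolayPt → ℤ) = -32) (hx : x ∈ hsConfig v w) :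
    ∃ g : Co0, g • v = std48 ∧ g • w = std32' - std48 ∧ g • x = std32 := by
  obtain ⟨h1, h2, h3⟩ := mem_hsConfig_iff.1 hx
  have ha : sqNorm ((v + w : leechLattice) : GolayPt → ℤ) = 32 := by
    rw [AddSubgroup.coe_add, sqNorm_add, hv, hw, hvw]; norm_num
  have hva : dotInt (v : GolayPt → ℤ) ((v + w : leechLattice) : GolayPt → ℤ) = 16 := by
    rw [dotInt_comm, AddSubgroup.coe_add, dotInt_add_left', dotInt_self, hv, dotInt_comm, hvw]
    norm_num
  obtain ⟨g, hg1, hg2, hg3⟩ := exists_smul_triple hu hv ha h1 h3 hva h2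
  refine ⟨g, hg1, ?_, hg3⟩
  rw [← hg2, ← hg1, ← smul_sub']
  congr 1
  abel

theorem hsConfig_transitive (hu : CodeUnique) {v w x x' : leechLattice}
    (hv : sqNorm (v : GolayPt → ℤ) = 48) (hw : sqNorm (w : GolayPt → ℤ) = 48)
    (hvw : dotInt (v : GolayPt → ℤ) (w : GolayPt → ℤ) = -32) (hx : x ∈ hsConfig v w)
    (hx' : x' ∈ hsConfig v w) : ∃ g : Co0, g • v = v ∧ g • w = w ∧ g • x = x' := by
  obtain ⟨g, a1, a2, a3⟩ := exists_smul_hs_vertex hu hv hw hvw hx
  obtain ⟨h, b1, b2, b3⟩ := exists_smul_hs_vertex hu hv hw hvw hx'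
  refine ⟨h⁻¹ * g, ?_, ?_, ?_⟩
  · rw [mul_smul, a1, ← b1, inv_smul_smul]
  · rw [mul_smul, a2, ← b2, inv_smul_smul]
  · rw [mul_smul, a3, ← b3, inv_smul_smul]

theorem std_vertex_cases {y : leechLattice} (hy : y ∈ hsConfig std48 (std32' - std48))
    (hne : y ≠ std32) :
    ((y : GolayPt → ℤ) ∈ hsPoints ∧
      dotInt (std32 : GolayPt → ℤ) (y : GolayPt → ℤ) = 8) ∨
    ((y : GolayPt → ℤ) ∈ hsHexads ∧
      dotInt (std32 : GolayPt → ℤ) (y : GolayPt → ℤ) = 16) := by
  have h := mem_std_config.1 hy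
  simp only [Finset.coe_insert, Finset.coe_union, Set.mem_insert_iff, Set.mem_union,
    Finset.mem_coe] at h
  rcases h with h | h | h
  · exact absurd (Subtype.ext h) hne
  · refine Or.inr ⟨h, ?_⟩
    obtain ⟨o, ho, hn, h0, e⟩ := mem_hsHexads.1 h
    rw [e]; exact dot_std32_hexad hn h0
  · refine Or.inl ⟨h, ?_⟩
    obtain ⟨j, hjn, hj0, e⟩ := mem_hsPoints.1 h
    rw [e]; exact dot_std32_point hjn hj0

/-- The neighbours of a vertex. -/
theorem hsConfig_rank_three (hu : CodeUnique) {v w x : leechLattice}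
    (hv : sqNorm (v : GolayPt → ℤ) = 48) (hw : sqNorm (w : GolayPt → ℤ) = 48)
    (hvw : dotInt (v : GolayPt → ℤ) (w : GolayPt → ℤ) = -32) (hx : x ∈ hsConfig v w) :
    {y : leechLattice | y ∈ hsConfig v w ∧
      dotInt (x : GolayPt → ℤ) (y : GolayPt → ℤ) = 8}.ncard = 22 ∧
    {y : leechLattice | y ∈ hsConfig v w ∧ y ≠ x ∧
      dotInt (x : GolayPt → ℤ) (y : GolayPt → ℤ) ≠ 8}.ncard = 77 ∧
    ∀ y ∈ hsConfig v w, ∀ y' ∈ hsConfig v w, y ≠ x → y' ≠ x →
      (dotInt (x : GolayPt → ℤ) (y : GolayPt → ℤ) = 8 ↔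
        dotInt (x : GolayPt → ℤ) (y' : GolayPt → ℤ) = 8) →
      ∃ g : Co0, g • v = v ∧ g • w = w ∧ g • x = x ∧ g • y = y' := by
  obtain ⟨g, a1, a2, a3⟩ := exists_smul_hs_vertex hu hv hw hvw hx
  have tr : ∀ y, y ∈ hsConfig v w ↔ g • y ∈ hsConfig std48 (std32' - std48) := fun y => by
    rw [← a2, ← a1, smul_mem_hsConfig]
  have dt : ∀ y : leechLattice, dotInt (x : GolayPt → ℤ) (y : GolayPt → ℤ) =
      dotInt (std32 : GolayPt → ℤ) ((g • y : leechLattice) : GolayPt → ℤ) := fun y => by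
    rw [← a3, dotInt_smul]
  have ne : ∀ y, y ≠ x ↔ g • y ≠ std32 := fun y => by
    rw [← a3, ne_eq, ne_eq, smul_left_cancel_iff]
  refine ⟨?_, ?_, fun y hy y' hy' hne hne' hiff => ?_⟩
  · refine Eq.trans ?_ card_hsPoints
    rw [← Set.ncard_coe_finset]
    refine Set.ncard_congr (fun y _ => ((g • y : leechLattice) : GolayPt → ℤ)) (fun y hy => ?_)
      (fun y y' _ _ h => smul_left_cancel g (Subtype.ext h)) (fun z hz => ?_)
    · obtain ⟨h1, h2⟩ := hy
      have hne : y ≠ x := fun e => by rw [e, dotInt_self, hx.1] at h2; norm_num at h2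
      rcases std_vertex_cases ((tr y).1 h1) ((ne y).1 hne) with ⟨h, -⟩ | ⟨-, h⟩
      · exact h
      · rw [← dt, h2] at h; norm_num at h
    · obtain ⟨j, hjn, hj0, e⟩ := mem_hsPoints.1 hz
      have hzL : z ∈ leechLattice := e ▸ (neg3_mem j).1
      refine ⟨g⁻¹ • ⟨z, hzL⟩, ⟨?_, ?_⟩, by rw [smul_inv_smul]⟩
      · rw [tr, smul_inv_smul]
        refine mem_std_config.2 ?_
        simp only [Finset.coe_insert, Finset.coe_union, Set.mem_insert_iff, Set.mem_union,
          Finset.mem_coe]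
        exact Or.inr (Or.inr hz)
      · rw [dt, smul_inv_smul, show ((⟨z, hzL⟩ : leechLattice) : GolayPt → ℤ) = z from rfl, e,
          dot_std32_point hjn hj0]
  · refine Eq.trans ?_ card_hsHexads
    rw [← Set.ncard_coe_finset]
    refine Set.ncard_congr (fun y _ => ((g • y : leechLattice) : GolayPt → ℤ)) (fun y hy => ?_)
      (fun y y' _ _ h => smul_left_cancel g (Subtype.ext h)) (fun z hz => ?_)
    · obtain ⟨h1, h2, h3⟩ := hy
      rcases std_vertex_cases ((tr y).1 h1) ((ne y).1 h2) with ⟨-, h⟩ | ⟨h, -⟩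
      · exact absurd ((dt y).trans h) h3
      · exact h
    · obtain ⟨o, ho, hn, h0, e⟩ := mem_hsHexads.1 hz
      have hzL : z ∈ leechLattice := e ▸ (twos_mem ho).1
      have hd : dotInt (x : GolayPt → ℤ) ((g⁻¹ • (⟨z, hzL⟩ : leechLattice) : leechLattice) :
          GolayPt → ℤ) = 16 := by
        rw [dt, smul_inv_smul, show ((⟨z, hzL⟩ : leechLattice) : GolayPt → ℤ) = z from rfl, e,
          dot_std32_hexad hn h0]
      refine ⟨g⁻¹ • ⟨z, hzL⟩, ⟨?_, fun he => ?_, by rw [hd]; norm_num⟩, by rw [smul_inv_smul]⟩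
      · rw [tr, smul_inv_smul]
        refine mem_std_config.2 ?_
        simp only [Finset.coe_insert, Finset.coe_union, Set.mem_insert_iff, Set.mem_union,
          Finset.mem_coe]
        exact Or.inr (Or.inl hz)
      · rw [he, dotInt_self, hx.1] at hd; norm_num at hd
  · have hc : ((g • y : leechLattice) : GolayPt → ℤ) ∈ hsPoints ∧
        ((g • y' : leechLattice) : GolayPt → ℤ) ∈ hsPoints ∨
        ((g • y : leechLattice) : GolayPt → ℤ) ∈ hsHexads ∧
        ((g • y' : leechLattice) : GolayPt → ℤ) ∈ hsHexads := by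
      rw [dt y, dt y'] at hiff
      rcases std_vertex_cases ((tr y).1 hy) ((ne y).1 hne) with ⟨h, d⟩ | ⟨h, d⟩ <;>
        rcases std_vertex_cases ((tr y').1 hy') ((ne y').1 hne') with ⟨h', d'⟩ | ⟨h', d'⟩
      · exact Or.inl ⟨h, h'⟩
      · have := hiff.1 d; omega
      · have := hiff.2 d'; omega
      · exact Or.inr ⟨h, h'⟩
    obtain ⟨p, p1, p2, p3, p4⟩ := hs_class_transitive hc
    refine ⟨g⁻¹ * p * g, ?_, ?_, ?_, ?_⟩
    · rw [mul_smul, mul_smul, a1, p1, ← a1, inv_smul_smul]
    · rw [mul_smul, mul_smul, a2, smul_sub', p1, p2, ← a2, inv_smul_smul]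
    · rw [mul_smul, mul_smul, a3, p3, ← a3, inv_smul_smul]
    · rw [mul_smul, mul_smul, p4, inv_smul_smul]

/-- A pair is exchanged by some automorphism. -/
theorem hs_exchange (hu : CodeUnique) {v w : leechLattice}
    (hv : sqNorm (v : GolayPt → ℤ) = 48) (hw : sqNorm (w : GolayPt → ℤ) = 48)
    (hvw : dotInt (v : GolayPt → ℤ) (w : GolayPt → ℤ) = -32) :
    ∃ g : Co0, g • v = w ∧ g • w = v := by
  obtain ⟨g, hg1, hg2⟩ := exists_smul_hs hu hv hw hvw
  obtain ⟨σ, hσ, hmap⟩ := M24.exists_map_list (A := [none, some 0]) (A' := [some 0, none])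
    (by simp) (by simp) rfl (by simp)
  simp only [List.map_cons, List.map_nil, List.cons.injEq, and_true] at hmap
  set e := mono ⟨σ, hσ⟩ univ_mem_code with he
  have h1 : σ.symm (some 0) = none := by rw [Equiv.symm_apply_eq, hmap.1]
  have h2 : σ.symm none = some 0 := by rw [Equiv.symm_apply_eq, hmap.2]
  have he1 : e • std48 = std32' - std48 := by
    apply Subtype.ext
    funext i
    rw [he, coe_mono_smul, AddSubgroup.coe_sub, Pi.sub_apply, coe_std32', coe_std48]
    simp only [signedPerm, Finset.mem_univ, if_true, coe_std48, four, Pi.add_apply, Pi.single_apply]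
    by_cases hn : i = none
    · subst hn; rw [h2]; simp
    · by_cases h0 : i = some 0
      · subst h0; rw [h1]; simp
      · have a : σ.symm i ≠ none := fun e => h0 (by
          rw [Equiv.symm_apply_eq, hmap.1] at e; exact e)
        simp [hn, h0, a]
  have he2 : e • (std32' - std48) = std48 := by
    rw [smul_sub', he1]
    have hA : e • std32' = std32' := by
      apply Subtype.ext
      rw [he, coe_mono_smul, coe_std32', signedPerm_four, show (σ none) = some 0 from hmap.1,
        show σ (some 0) = none from hmap.2]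
      simp [four, add_comm]
    rw [hA]
    abel
  exact ⟨g⁻¹ * e * g, by rw [mul_smul, mul_smul, hg1, he1, ← hg2, inv_smul_smul],
    by rw [mul_smul, mul_smul, hg2, he2, ← hg1, inv_smul_smul]⟩

end Cfsg.Agent.SporStruct
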