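import Cfsg.Agent.SporStruct.M24Frame

/-!
`Cfsg.M24` on small subsets of the 24 points.
-/

set_option autoImplicit false

namespace Cfsg.Agent.SporStruct.M24

open Cfsg Cfsg.Agent.Golay
open scoped Pointwise

theorem getD_inj {α : Type*} {L : List α} (hL : L.Nodup) (d : α) {j k : ℕ} (hj : j < L.length)
    (hk : k < L.length) (h : L.getD j d = L.getD k d) : j = k := by
  rw [List.getD_eq_getElem _ _ hj, List.getD_eq_getElem _ _ hk] at h
  exact (hL.getElem_inj_iff).1 h

/-- At most five distinct points go to any as many distinct points. -/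
theorem exists_map_list {A A' : List GolayPt} (hA : A.Nodup) (hA' : A'.Nodup)
    (hlen : A.length = A'.length) (h5 : A.length ≤ 5) :
    ∃ g ∈ Cfsg.M24, A.map g = A' := by
  obtain ⟨g, hg, hgj⟩ := exists_map_base (fun j => A.getD j none) A.length h5
    fun j k hj hk => getD_inj hA none hj hk
  obtain ⟨h, hh, hhj⟩ := exists_map_base (fun j => A'.getD j none) A'.length (hlen ▸ h5)
    fun j k hj hk => getD_inj hA' none hj hk
  refine ⟨h * g⁻¹, Cfsg.M24.mul_mem hh (Cfsg.M24.inv_mem hg), List.ext_getElem (by simp [hlen]) ?_⟩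
  intro i h1 h2
  rw [List.getElem_map, Equiv.Perm.mul_apply]
  have hi : i < A.length := by simpa using h1
  have e1 : A[i] = g (bp i) := by rw [hgj i hi, List.getD_eq_getElem _ _ hi]
  rw [e1, Equiv.Perm.coe_inv, Equiv.symm_apply_apply, hhj i h2, List.getD_eq_getElem _ _ h2]

/-- Six distinct points of an octad go to any six distinct points of an octad. -/
theorem exists_map_list_six {A A' : List GolayPt} (hA : A.Nodup) (hA' : A'.Nodup)
    (hl : A.length = 6) (hl' : A'.length = 6) {o o' : Finset GolayPt} (ho : o ∈ octads)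
    (ho' : o' ∈ octads) (hAo : ∀ a ∈ A, a ∈ o) (hAo' : ∀ a ∈ A', a ∈ o') :
    ∃ g ∈ Cfsg.M24, g • o = o' ∧ A.map g = A' := by
  obtain ⟨g, hg, hgo, hgj⟩ := exists_map_six (fun j => A.getD j none)
    (fun j k hj hk => getD_inj hA none (hl ▸ hj) (hl ▸ hk)) ho (fun j hj => by
      rw [List.getD_eq_getElem _ _ (hl ▸ hj)]; exact hAo _ (List.getElem_mem _))
  obtain ⟨h, hh, hho, hhj⟩ := exists_map_six (fun j => A'.getD j none)
    (fun j k hj hk => getD_inj hA' none (hl' ▸ hj) (hl' ▸ hk)) ho' (fun j hj => by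
      rw [List.getD_eq_getElem _ _ (hl' ▸ hj)]; exact hAo' _ (List.getElem_mem _))
  refine ⟨h * g⁻¹, Cfsg.M24.mul_mem hh (Cfsg.M24.inv_mem hg), ?_,
    List.ext_getElem (by simp [hl, hl']) ?_⟩
  · rw [mul_smul, ← hgo, inv_smul_smul, hho]
  intro i h1 h2
  rw [List.getElem_map, Equiv.Perm.mul_apply]
  have hi : i < A.length := by simpa using h1
  have e1 : A[i] = g (bp i) := by rw [hgj i (hl ▸ hi), List.getD_eq_getElem _ _ hi]
  rw [e1, Equiv.Perm.coe_inv, Equiv.symm_apply_apply, hhj i (hl' ▸ h2),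
    List.getD_eq_getElem _ _ h2]

/-- Six distinct points in no octad go to any six distinct points in no octad. -/
theorem exists_map_list_six_out {A A' : List GolayPt} (hA : A.Nodup) (hA' : A'.Nodup)
    (hl : A.length = 6) (hl' : A'.length = 6) (hAo : ¬ ∃ o ∈ octads, ∀ a ∈ A, a ∈ o)
    (hAo' : ¬ ∃ o ∈ octads, ∀ a ∈ A', a ∈ o) :
    ∃ g ∈ Cfsg.M24, A.map g = A' := by
  have key : ∀ {L : List GolayPt}, L.Nodup → L.length = 6 →
      (¬ ∃ o ∈ octads, ∀ a ∈ L, a ∈ o) →
      ∃ g ∈ Cfsg.M24, (∀ j < 5, g (bp j) = L.getD j none) ∧ g (bp 6) = L.getD 5 none := by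
    intro L hL hlL hout
    have hc : ((Finset.range 5).image fun j => L.getD j none).card = 5 := by
      rw [Finset.card_image_of_injOn, Finset.card_range]
      intro j hj k hk h
      simp only [Finset.coe_range, Set.mem_Iio] at hj hk
      exact getD_inj hL none (by omega) (by omega) h
    obtain ⟨o, ho, hso⟩ := exists_octad hc
    have hin : ∀ j < 5, L.getD j none ∈ o := fun j hj =>
      hso (Finset.mem_image.2 ⟨j, Finset.mem_range.2 hj, rfl⟩)
    obtain ⟨g, hg, -, hgj, hg6⟩ := exists_map_five_out (fun j => L.getD j none)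
      (fun j k hj hk => getD_inj hL none (by omega) (by omega)) ho hin
      (p := L.getD 5 none) (fun h5 => hout ⟨o, ho, fun a ha => by
        obtain ⟨i, hi, rfl⟩ := List.getElem_of_mem ha
        rw [← List.getD_eq_getElem _ none hi]
        rcases lt_or_eq_of_le (by omega : i ≤ 5) with h | rfl
        · exact hin i h
        · exact h5⟩)
    exact ⟨g, hg, hgj, hg6⟩
  obtain ⟨g, hg, hgj, hg6⟩ := key hA hl hAo
  obtain ⟨h, hh, hhj, hh6⟩ := key hA' hl' hAo'
  refine ⟨h * g⁻¹, Cfsg.M24.mul_mem hh (Cfsg.M24.inv_mem hg),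
    List.ext_getElem (by simp [hl, hl']) ?_⟩
  intro i h1 h2
  rw [List.getElem_map, Equiv.Perm.mul_apply]
  have hi : i < A.length := by simpa using h1
  rcases lt_or_eq_of_le (by omega : i ≤ 5) with h5 | rfl
  · have e1 : A[i] = g (bp i) := by rw [hgj i h5, List.getD_eq_getElem _ _ hi]
    rw [e1, Equiv.Perm.coe_inv, Equiv.symm_apply_apply, hhj i h5, List.getD_eq_getElem _ _ h2]
  · have e1 : A[5] = g (bp 6) := by rw [hg6, List.getD_eq_getElem _ _ hi]
    rw [e1, Equiv.Perm.coe_inv, Equiv.symm_apply_apply, hh6, List.getD_eq_getElem _ _ h2]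

theorem smul_toList {g : Equiv.Perm GolayPt} {s s' : Finset GolayPt}
    (h : s.toList.map g = s'.toList) : g • s = s' := by
  ext p
  rw [mem_smul_iff, ← Finset.mem_toList, ← Finset.mem_toList (s := s'), ← h, List.mem_map]
  constructor
  · intro hp; exact ⟨_, hp, by simp⟩
  · rintro ⟨q, hq, rfl⟩; simpa using hq

/-- Two pairs of disjoint small sets. -/
theorem exists_map_disjoint {s t s' t' : Finset GolayPt} (hd : Disjoint s t) (hd' : Disjoint s' t')
    (hs : s.card = s'.card) (ht : t.card = t'.card) (h5 : s.card + t.card ≤ 5) :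
    ∃ g ∈ Cfsg.M24, g • s = s' ∧ g • t = t' := by
  have nd : ∀ {a b : Finset GolayPt}, Disjoint a b → (a.toList ++ b.toList).Nodup := fun hab =>
    List.nodup_append.2 ⟨Finset.nodup_toList _, Finset.nodup_toList _, fun x hx y hy => by
      rw [Finset.mem_toList] at hx hy
      exact fun e => Finset.disjoint_left.1 hab hx (e ▸ hy)⟩
  obtain ⟨g, hg, h⟩ := exists_map_list (nd hd) (nd hd') (by simp [hs, ht])
    (by simpa using h5)
  rw [List.map_append] at h
  obtain ⟨h1, h2⟩ := List.append_inj h (by simp [hs])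
  exact ⟨g, hg, smul_toList h1, smul_toList h2⟩

/-- Two sets with the same intersection pattern, on at most five points. -/
theorem exists_map_venn {s t s' t' : Finset GolayPt} (hs : s.card = s'.card) (ht : t.card = t'.card)
    (hst : (s ∩ t).card = (s' ∩ t').card) (h5 : (s ∪ t).card ≤ 5) :
    ∃ g ∈ Cfsg.M24, g • s = s' ∧ g • t = t' := by
  have nd : ∀ a b : Finset GolayPt, ((a ∩ b).toList ++ (a \ b).toList ++ (b \ a).toList).Nodup := by
    intro a b
    simp only [List.nodup_append, Finset.nodup_toList, true_and, List.mem_append,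
      Finset.mem_toList, Finset.mem_inter, Finset.mem_sdiff]
    refine ⟨fun x hx y hy e => hy.2 (e ▸ hx.2), ?_⟩
    rintro x (hx | hx) y hy e
    · exact hy.2 (e ▸ hx.1)
    · exact hx.2 (e ▸ hy.1)
  have hlen : ∀ a b : Finset GolayPt,
      ((a ∩ b).toList ++ (a \ b).toList ++ (b \ a).toList).length = (a ∪ b).card := by
    intro a b
    simp only [List.length_append, Finset.length_toList]
    have h1 := Finset.card_union_add_card_inter a b
    have h2 := Finset.card_sdiff_add_card_inter a b
    have h3 := Finset.card_sdiff_add_card_inter b a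
    rw [Finset.inter_comm b a] at h3
    omega
  have hu : (s ∪ t).card = (s' ∪ t').card := by
    have h1 := Finset.card_union_add_card_inter s t
    have h2 := Finset.card_union_add_card_inter s' t'
    omega
  obtain ⟨g, hg, h⟩ := exists_map_list (nd s t) (nd s' t') (by rw [hlen, hlen, hu])
    (by rw [hlen]; exact h5)
  have hd : ∀ a b : Finset GolayPt, (a \ b).card = a.card - (a ∩ b).card := fun a b => by
    have := Finset.card_sdiff_add_card_inter a b; omega
  rw [List.map_append, List.map_append] at h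
  obtain ⟨h12, h3⟩ := List.append_inj h (by simp [hd, hst, hs])
  obtain ⟨h1, h2⟩ := List.append_inj h12 (by simp [hst])
  refine ⟨g, hg, ?_, ?_⟩
  · rw [← Finset.sdiff_union_inter s t, Finset.smul_finset_union, smul_toList h1, smul_toList h2,
      Finset.sdiff_union_inter]
  · rw [← Finset.sdiff_union_inter t s, Finset.smul_finset_union, smul_toList h3,
      Finset.inter_comm t s, smul_toList h1, Finset.inter_comm s' t', Finset.sdiff_union_inter]

theorem toList_nodup_append {s t : Finset GolayPt} (hd : Disjoint s t) :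
    (s.toList ++ t.toList).Nodup :=
  List.nodup_append.2 ⟨Finset.nodup_toList _, Finset.nodup_toList _, fun x hx y hy => by
    rw [Finset.mem_toList] at hx hy
    exact fun e => Finset.disjoint_left.1 hd hx (e ▸ hy)⟩

theorem forall_mem_append_iff {s t o : Finset GolayPt} :
    (∀ a ∈ s.toList ++ t.toList, a ∈ o) ↔ s ∪ t ⊆ o := by
  simp [Finset.union_subset_iff, or_imp, forall_and, Finset.subset_iff]

/-- The stabiliser of a triad on the triads disjoint from it has two orbits. -/
theorem triad_orbits {T U T' U' : Finset GolayPt} (hT : T.card = 3) (hT' : T'.card = 3)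
    (hU : U.card = 3) (hU' : U'.card = 3) (hd : Disjoint T U) (hd' : Disjoint T' U')
    (h : (∃ o ∈ octads, T ∪ U ⊆ o) ↔ (∃ o ∈ octads, T' ∪ U' ⊆ o)) :
    ∃ g ∈ Cfsg.M24, g • T = T' ∧ g • U = U' := by
  have hl : (T.toList ++ U.toList).length = 6 := by simp [hT, hU]
  have hl' : (T'.toList ++ U'.toList).length = 6 := by simp [hT', hU']
  by_cases hin : ∃ o ∈ octads, T ∪ U ⊆ o
  · obtain ⟨o', ho', hTo'⟩ := h.1 hin
    obtain ⟨o, ho, hTo⟩ := hin
    obtain ⟨g, hg, -, hgl⟩ := exists_map_list_six (toList_nodup_append hd) (toList_nodup_append hd')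
      hl hl' ho ho' (forall_mem_append_iff.2 hTo) (forall_mem_append_iff.2 hTo')
    rw [List.map_append] at hgl
    obtain ⟨h1, h2⟩ := List.append_inj hgl (by simp [hT, hT'])
    exact ⟨g, hg, smul_toList h1, smul_toList h2⟩
  · have hin' := mt h.2 hin
    obtain ⟨g, hg, hgl⟩ := exists_map_list_six_out (toList_nodup_append hd)
      (toList_nodup_append hd') hl hl'
      (fun ⟨o, ho, hh⟩ => hin ⟨o, ho, forall_mem_append_iff.1 hh⟩)
      (fun ⟨o, ho, hh⟩ => hin' ⟨o, ho, forall_mem_append_iff.1 hh⟩)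
    rw [List.map_append] at hgl
    obtain ⟨h1, h2⟩ := List.append_inj hgl (by simp [hT, hT'])
    exact ⟨g, hg, smul_toList h1, smul_toList h2⟩

theorem card_filter_inter {α : Type*} [Fintype α] [DecidableEq α] (s : Finset α) (j k : ℕ) :
    {t : Finset α | t.card = j + k ∧ (s ∩ t).card = j}.ncard =
      s.card.choose j * (Fintype.card α - s.card).choose k := by
  have h : {t : Finset α | t.card = j + k ∧ (s ∩ t).card = j} =
      ↑((s.powersetCard j ×ˢ sᶜ.powersetCard k).image fun p => p.1 ∪ p.2) := by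
    ext t
    simp only [Finset.coe_image, Set.mem_image, Finset.mem_coe, Finset.mem_product,
      Finset.mem_powersetCard, Prod.exists, Set.mem_ofPred_eq]
    constructor
    · rintro ⟨h1, h2⟩
      refine ⟨s ∩ t, t \ s, ⟨⟨Finset.inter_subset_left, h2⟩, fun x hx => ?_, ?_⟩, ?_⟩
      · rw [Finset.mem_sdiff] at hx; exact Finset.mem_compl.2 hx.2
      · have := Finset.card_sdiff_add_card_inter t s
        rw [Finset.inter_comm] at this
        omega
      · rw [Finset.inter_comm, Finset.union_comm, Finset.sdiff_union_inter]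
    · rintro ⟨a, b, ⟨⟨ha, hac⟩, hb, hbc⟩, rfl⟩
      have hd : Disjoint a b := Finset.disjoint_left.2 fun x hx hx' =>
        Finset.mem_compl.1 (hb hx') (ha hx)
      refine ⟨by rw [Finset.card_union_of_disjoint hd, hac, hbc], ?_⟩
      rw [Finset.inter_union_distrib_left, Finset.inter_eq_right.2 ha,
        Finset.disjoint_iff_inter_eq_empty.1 (Finset.disjoint_left.2 fun x hx hx' =>
          Finset.mem_compl.1 (hb hx') hx), Finset.union_empty, hac]
  rw [h, Set.ncard_coe_finset, Finset.card_image_of_injOn, Finset.card_product,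
    Finset.card_powersetCard, Finset.card_powersetCard, Finset.card_compl]
  rintro ⟨a, b⟩ hp ⟨a', b'⟩ hp' (e : a ∪ b = a' ∪ b')
  simp only [Finset.coe_product, Set.mem_prod, Finset.mem_coe, Finset.mem_powersetCard] at hp hp'
  have key : ∀ {u v : Finset α}, u ⊆ s → v ⊆ sᶜ → (u ∪ v) ∩ s = u ∧ (u ∪ v) \ s = v := by
    intro u v hu hv
    constructor <;> ext x <;>
      simp only [Finset.mem_inter, Finset.mem_union, Finset.mem_sdiff]
    · exact ⟨fun ⟨hh, hxs⟩ => hh.elim id fun hxv => absurd hxs (Finset.mem_compl.1 (hv hxv)),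
        fun hx => ⟨Or.inl hx, hu hx⟩⟩
    · exact ⟨fun ⟨hh, hxs⟩ => hh.elim (fun hxu => absurd (hu hxu) hxs) id,
        fun hx => ⟨Or.inr hx, Finset.mem_compl.1 (hv hx)⟩⟩
  obtain ⟨h1, h2⟩ := key hp.1.1 hp.2.1
  obtain ⟨h3, h4⟩ := key hp'.1.1 hp'.2.1
  exact Prod.ext (by rw [← h1, e, h3]) (by rw [← h2, e, h4])

end Cfsg.Agent.SporStruct.M24
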