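import Cfsg.Agent.SporStruct.CoElement

/-!
Fast evaluation of tables with rows packed into single integers.
-/

set_option autoImplicit false

namespace Cfsg.Agent.SporStruct.CoMatrix

open Cfsg Cfsg.Agent.Leech
open Cfsg.Agent.Golay (pt idx idx_lt pt_idx idx_pt)

/-- A row as one integer in base 256. -/
def packR : List ℤ → ℤ
  | [] => 0
  | t :: r => t + 256 * packR r

/-- A linear combination of packed rows. -/
noncomputable def lcP (a : List ℤ) : List ℤ → ℤ :=
  List.rec (motive := fun _ => List ℤ → ℤ) (fun _ => Int.ofNat 0)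
    (fun x _ ih P => List.rec (motive := fun _ => ℤ) (Int.ofNat 0)
      (fun r rs _ => Int.add (Int.mul x r) (ih rs)) P) a

theorem lcP_nil (P : List ℤ) : lcP [] P = 0 := rfl

theorem lcP_cons (a : ℤ) (as : List ℤ) (r : ℤ) (rs : List ℤ) :
    lcP (a :: as) (r :: rs) = a * r + lcP as rs := rfl

/-- Feed a natural number in literal form. -/
noncomputable def strictN {α : Type} (k : ℕ → α) (z : ℕ) : α :=
  Nat.rec (motive := fun _ => α) (k 0) (fun n _ => k (Nat.succ n)) z

theorem strictN_eq {α : Type} (k : ℕ → α) : ∀ z, strictN k z = k z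
  | 0 => rfl
  | _ + 1 => rfl

/-- The offset making all digits nonnegative. -/
def offP : ℕ → ℤ
  | 0 => 0
  | n + 1 => 128 + 256 * offP n

/-- Unpacking, with division by 8. -/
noncomputable def decP (n : ℕ) : ℕ → List ℤ :=
  Nat.rec (motive := fun _ => ℕ → List ℤ) (fun _ => [])
    (fun _ ih => strictN fun z => Int.ediv (Int.subNatNat (Nat.mod z 256) 128) 8 :: ih (Nat.div z 256)) n

theorem decP_succ (n z : ℕ) :
    decP (n + 1) z = (((z % 256 : ℕ) : ℤ) - 128) / 8 :: decP n (z / 256) := by
  rw [show decP (n + 1) z =
      Int.ediv (Int.subNatNat (Nat.mod z 256) 128) 8 :: decP n (Nat.div z 256) from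
    strictN_eq (fun z => Int.ediv (Int.subNatNat (Nat.mod z 256) 128) 8 :: decP n (Nat.div z 256)) z]
  refine List.cons_eq_cons.2 ⟨?_, rfl⟩
  show Int.subNatNat (z % 256) 128 / 8 = _
  rw [Int.subNatNat_eq_coe]
  rfl

/-- The packed rows of a table. -/
def packT (T : List (List ℤ)) : List ℤ := T.map packR

/-- The image of a vector under a packed table. -/
noncomputable def mapP (P : List ℤ) (v : List ℤ) : List ℤ :=
  decP 24 (Int.toNat (Int.add (lcP v P) (offP 24)))

/-- Composition with a packed table on the left. -/
noncomputable def mulP (P : List ℤ) (B : List (List ℤ)) : List (List ℤ) := B.map (mapP P)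

/-- The product of a word, packed. -/
noncomputable def evalP (T : List (List (List ℤ))) (w : List ℕ) : List (List ℤ) :=
  List.rec (motive := fun _ => List (List ℤ)) idMat
    (fun j _ ih => mulP ((T.map packT).getD j (packT idMat)) ih) w

/-- The image of a vector under a word, packed. -/
noncomputable def evalPV (T : List (List (List ℤ))) (w : List ℕ) (v : List ℤ) : List ℤ :=
  List.rec (motive := fun _ => List ℤ) v
    (fun j _ ih => mapP ((T.map packT).getD j (packT idMat)) ih) w

/-- Powers of a table, packed. -/
noncomputable def powP (P : List ℤ) (n : ℕ) : List (List ℤ) :=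
  Nat.rec (motive := fun _ => List (List ℤ)) idMat (fun _ ih => mulP P ih) n

theorem packR_map_add {α : Type*} (f g : α → ℤ) (a : ℤ) : ∀ L : List α,
    packR (L.map fun k => a * f k + g k) = a * packR (L.map f) + packR (L.map g)
  | [] => by simp [packR]
  | k :: L => by
    simp only [List.map_cons, packR, packR_map_add f g a L]
    ring

theorem packR_zero {α : Type*} : ∀ L : List α, packR (L.map fun _ => 0) = 0
  | [] => rfl
  | _ :: L => by simp only [List.map_cons, packR, packR_zero L]; norm_num

theorem lcP_map (f : ℕ → ℤ) (F : ℕ → ℕ → ℤ) : ∀ L : List ℕ,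
    lcP (L.map f) (L.map fun i => packR ((List.range 24).map (F i))) =
      packR ((List.range 24).map fun k => (L.map fun i => f i * F i k).sum)
  | [] => by simp only [List.map_nil, lcP_nil, List.sum_nil, packR_zero]
  | i :: L => by
    simp only [List.map_cons, lcP_cons, lcP_map f F L, List.sum_cons, packR_map_add]

theorem packR_off_nonneg : ∀ L : List ℤ, (∀ x ∈ L, -128 ≤ x ∧ x < 128) →
    0 ≤ packR L + offP L.length
  | [], _ => by simp [packR, offP]
  | x :: L, h => by
    have h1 := h x List.mem_cons_self
    have h2 := packR_off_nonneg L fun y hy => h y (List.mem_cons_of_mem _ hy)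
    simp only [packR, offP, List.length_cons]
    omega

theorem decP_pack : ∀ L : List ℤ, (∀ x ∈ L, -128 ≤ x ∧ x < 128) →
    decP L.length (packR L + offP L.length).toNat = L.map (· / 8)
  | [], _ => rfl
  | x :: L, h => by
    have h1 := h x List.mem_cons_self
    have h2 := packR_off_nonneg L fun y hy => h y (List.mem_cons_of_mem _ hy)
    simp only [List.length_cons, decP_succ, List.map_cons, packR, offP]
    obtain ⟨n, hn⟩ := Int.eq_ofNat_of_zero_le h2
    obtain ⟨m, hm⟩ := Int.eq_ofNat_of_zero_le (show (0 : ℤ) ≤ x + 128 by omega)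
    have e : (x + 256 * packR L + (128 + 256 * offP L.length)).toNat = m + 256 * n := by omega
    rw [e, show (m + 256 * n) % 256 = m by omega, show (m + 256 * n) / 256 = n by omega]
    refine List.cons_eq_cons.2 ⟨by omega, ?_⟩
    rw [← decP_pack L fun y hy => h y (List.mem_cons_of_mem _ hy), hn, Int.toNat_natCast]

theorem abs_coord {x : GolayPt → ℤ} (h : sqNorm x ≤ 64) (p : GolayPt) : -8 ≤ x p ∧ x p ≤ 8 := by
  have h1 : x p * x p ≤ ∑ q, x q * x q :=
    Finset.single_le_sum (f := fun q => x q * x q) (fun q _ => mul_self_nonneg _) (Finset.mem_univ p)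
  rw [← dotInt_sum, dotInt_self] at h1
  constructor <;> nlinarith

/-- Applying a packed table. -/
theorem mapP_rows (g : Co0) (v : leechLattice) (hv : sqNorm (v : GolayPt → ℤ) ≤ 64) :
    mapP (packT (rows g)) (vecL (v : GolayPt → ℤ)) =
      vecL ((g • v : leechLattice) : GolayPt → ℤ) := by
  set u := ((g • v : leechLattice) : GolayPt → ℤ) with hu
  have hun : sqNorm u ≤ 64 := (sqNorm_smul g v).le.trans hv
  have hlc : lcP (vecL (v : GolayPt → ℤ)) (packT (rows g)) =
      packR ((List.range 24).map fun k => 8 * u (pt k)) := by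
    rw [packT, rows, List.map_map, vecL]
    show lcP _ ((List.range 24).map fun i => packR ((List.range 24).map
      fun k => ((g • frame (pt i) : leechLattice) : GolayPt → ℤ) (pt k))) = _
    rw [lcP_map]
    refine congrArg packR (List.map_congr_left fun k _ => ?_)
    rw [sum_range_eq]
    have h := congrFun (coe_smul_eight g v) (pt k)
    simp only [Pi.smul_apply, smul_eq_mul, Finset.sum_apply] at h
    simp only [pt_idx]
    exact h.symm
  rw [mapP, show ∀ x y : ℤ, Int.add x y = x + y from fun _ _ => rfl, hlc]
  have := decP_pack ((List.range 24).map fun k => 8 * u (pt k)) (fun x hx => by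
    obtain ⟨k, -, rfl⟩ := List.mem_map.1 hx
    obtain ⟨a, b⟩ := abs_coord hun (pt k)
    omega)
  rw [List.length_map, List.length_range] at this
  rw [this, List.map_map, vecL]
  exact List.map_congr_left fun k _ => by simp

theorem sqNorm_frame (p : GolayPt) : sqNorm (frame p : GolayPt → ℤ) = 64 := by
  rw [← dotInt_self, dotInt_sum]
  show ∑ q, (Pi.single p 8 : GolayPt → ℤ) q * (Pi.single p 8 : GolayPt → ℤ) q = 64
  simp [Pi.single_apply]

theorem mulP_rows (g h : Co0) : mulP (packT (rows g)) (rows h) = rows (g * h) := by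
  rw [mulP]
  conv_lhs => rw [rows.eq_def h, List.map_map]
  rw [rows.eq_def (g * h)]
  refine List.map_congr_left fun i _ => ?_
  rw [Function.comp_apply, mapP_rows g _ ((sqNorm_smul h _).trans (sqNorm_frame _)).le, mul_smul]

theorem powP_rows (g : Co0) : ∀ n, powP (packT (rows g)) n = rows (g ^ n)
  | 0 => by rw [pow_zero, rows_one]; rfl
  | n + 1 => by
    rw [show powP (packT (rows g)) (n + 1) = mulP (packT (rows g)) (powP (packT (rows g)) n) from rfl,
      powP_rows g n, mulP_rows, pow_succ']

theorem getD_pack (L : List Co0) (j : ℕ) :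
    ((L.map rows).map packT).getD j (packT idMat) = packT (rows (L.getD j 1)) := by
  rw [List.getD_map, ← rows_one, List.getD_map]

theorem evalP_word (L : List Co0) : ∀ w : List ℕ, evalP (L.map rows) w = rows (word L w)
  | [] => by
    rw [show word L [] = 1 from rfl, rows_one]
    rfl
  | j :: w => by
    rw [show word L (j :: w) = L.getD j 1 * word L w from List.prod_cons, ← mulP_rows,
      ← evalP_word L w, ← getD_pack]
    rfl

theorem evalPV_word (L : List Co0) (v : leechLattice) (hv : sqNorm (v : GolayPt → ℤ) ≤ 64) :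
    ∀ w : List ℕ, evalPV (L.map rows) w (vecL (v : GolayPt → ℤ)) =
      vecL ((word L w • v : leechLattice) : GolayPt → ℤ)
  | [] => by
    rw [show word L [] = 1 from rfl, one_smul]
    rfl
  | j :: w => by
    rw [show word L (j :: w) = L.getD j 1 * word L w from List.prod_cons, mul_smul,
      ← mapP_rows _ _ ((sqNorm_smul _ v).le.trans hv), ← evalPV_word L v hv w, ← getD_pack]
    rfl

end Cfsg.Agent.SporStruct.CoMatrix
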