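import Cfsg.Agent.Lib.Leech.Pairs48
import Cfsg.Agent.Lib.Leech.CodeUnique
import Cfsg.Agent.Lib.Golay.Code

/-!
Minimal vectors with a given product with a fixed minimal vector.
-/

set_option autoImplicit false

namespace Cfsg.Agent.SporStruct

open Cfsg Cfsg.Agent.Leech Cfsg.Agent.Golay
open scoped Pointwise

/-- Weights recording the coordinate sum and the sum over two special points. -/
def censusW (i : GolayPt) : ℤ := if i = none ∨ i = some 0 then 17 else 16

/-- The residue sought. -/
def censusTarget (t m : ℤ) : ℕ := ((64 * m + t) % 128).toNat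

/-- Count in one coset by weight and membership of the two special points. -/
def censusCount (t m : ℤ) (k : ℕ) (a b : Bool) : ℕ :=
  tblCountW 128 (((17 : ℤ), coordVals m a) :: ((17 : ℤ), coordVals m b) ::
    (List.replicate (k - (if a then 1 else 0) - (if b then 1 else 0)) ((16 : ℤ), coordVals m true) ++
     List.replicate ((24 - k) - (if a then 0 else 1) - (if b then 0 else 1))
       ((16 : ℤ), coordVals m false))) (censusTarget t m) 32

/-- The minimal vectors in one coset with a given product with `std32`. -/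
def censusVecs (t m : ℤ) (c : Finset GolayPt) : Finset (GolayPt → ℤ) :=
  (vecs (cosetVals m c) Finset.univ).filter fun x =>
    ((∑ i, censusW i * x i) % ((128 : ℕ) : ℤ)).toNat = censusTarget t m ∧ (sqNorm x).natAbs = 32

theorem census_sqNorm_std32 : sqNorm (std32 : GolayPt → ℤ) = 32 := by
  rw [coe_std32]; exact (four_spec (by simp) (Or.inl rfl) (Or.inl rfl)).2

theorem sum_pairW (x : GolayPt → ℤ) (a b : ℤ) :
    ∑ i, (if i = none ∨ i = some 0 then a else b) * x i =
      b * ∑ i, x i + (a - b) * (x none + x (some 0)) := by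
  rw [Finset.mul_sum]
  have : ∀ i, (if i = none ∨ i = some 0 then a else b) * x i =
      b * x i + if i ∈ ({(none : GolayPt), some 0} : Finset GolayPt) then (a - b) * x i else 0 :=
    fun i => by simp only [Finset.mem_insert, Finset.mem_singleton]; split_ifs <;> ring
  simp only [this, Finset.sum_add_distrib]
  rw [← Finset.sum_filter, Finset.filter_mem_eq_inter, Finset.univ_inter,
    Finset.sum_pair (by simp)]
  ring

theorem dot_std32' (x : GolayPt → ℤ) :
    dotInt (std32 : GolayPt → ℤ) x = 4 * (x none + x (some 0)) := by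
  have h : ∀ i, (std32 : GolayPt → ℤ) i = if i = none ∨ i = some 0 then 4 else 0 := fun i => by
    rw [coe_std32]
    rcases eq_or_ne i none with rfl | h1
    · simp [four]
    rcases eq_or_ne i (some 0) with rfl | h2 <;> simp [four, *]
  rw [dotInt, Finset.sum_congr rfl (fun i _ => by rw [h i]), sum_pairW]
  ring

theorem mem_censusVecs {t : ℤ} (ht : t = -4 ∨ t = -2 ∨ t = 0) {m : ℤ} (hm : m = 0 ∨ m = 1)
    {c : Finset GolayPt} {x : GolayPt → ℤ} :
    x ∈ censusVecs t m c ↔
      IsLVec m c x ∧ sqNorm x = 32 ∧ dotInt (std32 : GolayPt → ℤ) x = 4 * t := by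
  simp only [censusVecs, Finset.mem_filter, mem_vecs_univ, cosetVals, coordVals, censusW,
    sum_pairW, dot_std32', censusTarget]
  have hnn := sqNorm_nonneg x
  constructor
  · rintro ⟨hv, hs, hn⟩
    have hn' : sqNorm x = 32 := by omega
    have hb := dotInt_sq_le (std32 : GolayPt → ℤ) x
    rw [census_sqNorm_std32, hn', dot_std32'] at hb
    have hlo : -9 < x none + x (some 0) := by
      by_contra hh; nlinarith
    have hhi : x none + x (some 0) < 9 := by
      by_contra hh; nlinarith
    refine ⟨⟨fun i => ?_, by omega⟩, hn', by omega⟩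
    have h := hv i
    rcases hm with rfl | rfl <;> by_cases hi : i ∈ c <;> simp [hi, bit] at h ⊢ <;> omega
  · rintro ⟨⟨h4, h8⟩, hn, hdd⟩
    refine ⟨fun i => ?_, by omega, by omega⟩
    have hb := abs_le_eight (x := x) (by omega) i
    have h := h4 i
    rcases hm with rfl | rfl <;> by_cases hi : i ∈ c <;> simp [hi, bit] at h ⊢ <;> omega

/-- An enumeration starting with the two special points, then a given set. -/
noncomputable def enumC (c : Finset GolayPt) : List GolayPt :=
  none :: some 0 :: (((c.erase none).erase (some 0)).toList ++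
    ((cᶜ.erase none).erase (some 0)).toList)

theorem enumC_nodup (c : Finset GolayPt) : (enumC c).Nodup := by
  refine List.nodup_cons.2 ⟨by simp, List.nodup_cons.2 ⟨by simp, List.nodup_append'.2
    ⟨Finset.nodup_toList _, Finset.nodup_toList _, fun a h1 h2 => ?_⟩⟩⟩
  simp at h1 h2
  exact h2.2.2 h1.2.2

theorem enumC_toFinset (c : Finset GolayPt) : (enumC c).toFinset = Finset.univ := by
  ext a
  by_cases h : a = none <;> by_cases h' : a = some 0 <;> by_cases hc : a ∈ c <;>
    simp [enumC, h, h', hc]

theorem card_erase_two {α : Type*} [DecidableEq α] (s : Finset α) {p q : α} (h : p ≠ q) :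
    ((s.erase p).erase q).card =
      s.card - (if p ∈ s then 1 else 0) - (if q ∈ s then 1 else 0) := by
  by_cases hp : p ∈ s <;> by_cases hq : q ∈ s <;>
    simp [Finset.card_erase_eq_ite, hp, hq, h.symm]

theorem map_enumC (m : ℤ) (c : Finset GolayPt) :
    (enumC c).map (fun i => (censusW i, cosetVals m c i)) =
      ((17 : ℤ), coordVals m (decide ((none : GolayPt) ∈ c))) ::
        ((17 : ℤ), coordVals m (decide ((some 0 : GolayPt) ∈ c))) ::
        (List.replicate (c.card - (if decide ((none : GolayPt) ∈ c) then 1 else 0)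
            - (if decide ((some 0 : GolayPt) ∈ c) then 1 else 0)) ((16 : ℤ), coordVals m true) ++
         List.replicate ((24 - c.card) - (if decide ((none : GolayPt) ∈ c) then 0 else 1)
            - (if decide ((some 0 : GolayPt) ∈ c) then 0 else 1)) ((16 : ℤ), coordVals m false)) := by
  rw [enumC, List.map_cons, List.map_cons, List.map_append, List.cons.injEq, List.cons.injEq]
  refine ⟨by simp [censusW, cosetVals], by simp [censusW, cosetVals], ?_⟩
  congr 1 <;> refine List.eq_replicate_iff.2 ⟨?_, ?_⟩
  · rw [List.length_map, Finset.length_toList, card_erase_two _ (by simp)]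
    simp
  · intro b hb
    obtain ⟨i, hi, rfl⟩ := List.mem_map.1 hb
    simp at hi
    simp [censusW, cosetVals, hi.1, hi.2.1, hi.2.2]
  · rw [List.length_map, Finset.length_toList, card_erase_two _ (by simp), Finset.card_compl,
      card_pt]
    by_cases h1 : (none : GolayPt) ∈ c <;> by_cases h2 : (some 0 : GolayPt) ∈ c <;> simp [h1, h2]
  · intro b hb
    obtain ⟨i, hi, rfl⟩ := List.mem_map.1 hb
    simp at hi
    simp [censusW, cosetVals, hi.1, hi.2.1, hi.2.2]

theorem card_censusVecs (t m : ℤ) (c : Finset GolayPt) :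
    (censusVecs t m c).card = censusCount t m c.card (decide ((none : GolayPt) ∈ c))
      (decide ((some 0 : GolayPt) ∈ c)) := by
  rw [censusVecs, card_vecs_eq_tblCountW (M := 128) (by norm_num) censusW (cosetVals m c)
    (fun i => (coordVals_nodup _ _).1) (fun i => (coordVals_nodup _ _).2) (enumC_nodup c)
    (enumC_toFinset c) _ _ (by simp only [censusTarget]; omega), map_enumC, censusCount]

/-- The index of a class of code words: weight and the two memberships. -/
def censusIdx (i : ℕ) : ℕ × Bool × Bool :=
  (popc (comb i), (comb i).testBit 23, (comb i).testBit 0)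

/-- The possible classes of code words. -/
def censusClasses : List (ℕ × Bool × Bool) :=
  [(0, false, false), (8, false, false), (8, true, false), (8, false, true), (8, true, true),
    (12, false, false), (12, true, false), (12, false, true), (12, true, true),
    (16, false, false), (16, true, false), (16, false, true), (16, true, true), (24, true, true)]

/-- The number of code words in a class. -/
def censusMult (p : ℕ × Bool × Bool) : ℕ :=
  if p.1 = 0 ∨ p.1 = 24 then 1 else if p.1 = 12 then (if p.2.1 = p.2.2 then 616 else 672)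
  else if (p.1 = 8 ∧ p.2.1 ∧ p.2.2) ∨ (p.1 = 16 ∧ !p.2.1 ∧ !p.2.2) then 77
  else if p.2.1 ≠ p.2.2 then 176 else 330

set_option maxRecDepth 20000 in
theorem census_mult_ok :
    (List.range 4096).all (fun i => censusClasses.contains (censusIdx i)) = true ∧
      censusClasses.all (fun p =>
        (List.range 4096).countP (fun i => censusIdx i == p) == censusMult p) = true := by
  decide +kernel

theorem idx_special : idx (none : GolayPt) = 23 ∧ idx (some 0 : GolayPt) = 0 := by decide

/-- The census total. -/
def censusTotal (t : ℤ) : ℕ :=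
  ∑ p ∈ censusClasses.toFinset,
    censusMult p * (censusCount t 0 p.1 p.2.1 p.2.2 + censusCount t 1 p.1 p.2.1 p.2.2)

theorem card_filter_range {β : Type*} [BEq β] [LawfulBEq β] [DecidableEq β] (f : ℕ → β) (b : β) : ∀ n,
    ((Finset.range n).filter fun i => f i = b).card = (List.range n).countP (fun i => f i == b)
  | 0 => rfl
  | n + 1 => by
    rw [Finset.range_add_one, Finset.filter_insert, List.range_succ, List.countP_append,
      List.countP_singleton, ← card_filter_range f b n]
    by_cases h : f n = b <;> simp [h]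

theorem ncard_census {t : ℤ} (ht : t = -4 ∨ t = -2 ∨ t = 0) :
    {x | x ∈ leechLattice ∧ sqNorm x = 32 ∧ dotInt (std32 : GolayPt → ℤ) x = 4 * t}.ncard =
      censusTotal t := by
  classical
  have hfin : code.Finite := Set.toFinite _
  set C := hfin.toFinset with hC
  have hmem : ∀ c, c ∈ C ↔ c ∈ code := fun c => hfin.mem_toFinset
  have hCimg : C = (Finset.range 4096).image (fun i => toSet (comb i)) := by
    ext c
    rw [hmem, Finset.mem_image]
    constructor
    · intro hc
      obtain ⟨n, hn, -, rfl⟩ := mem_wordsOfWeight_iff.1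
        (show c ∈ wordsOfWeight (golayCode : Set (GolayPt → ZMod 2)) c.card from ⟨hc, rfl⟩)
      exact ⟨n % 4096, Finset.mem_range.2 (Nat.mod_lt _ (by norm_num)),
        by rw [(beq_iff_eq.1 hn : comb (n % 4096) = n)]⟩
    · rintro ⟨i, hi, rfl⟩
      have hn : inCode (comb i) = true := by
        rw [inCode, comb_mod (Finset.mem_range.1 hi), beq_self_eq_true]
      exact (mem_wordsOfWeight_iff.2 ⟨comb i, hn, rfl, rfl⟩).1
  have e : {x | x ∈ leechLattice ∧ sqNorm x = 32 ∧ dotInt (std32 : GolayPt → ℤ) x = 4 * t} =
      (((({0, 1} : Finset ℤ) ×ˢ C).biUnion fun p => censusVecs t p.1 p.2 : Finset _) : Set _) := by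
    ext x
    simp only [Set.mem_setOf_eq, Finset.mem_coe, Finset.mem_biUnion, Finset.mem_product,
      Finset.mem_insert, Finset.mem_singleton]
    constructor
    · rintro ⟨hx, hN⟩
      obtain ⟨m, hm, c, hc, h⟩ := exists_normal_form hx
      exact ⟨(m, c), ⟨hm, (hmem c).2 hc⟩, (mem_censusVecs ht hm).2 ⟨h, hN⟩⟩
    · rintro ⟨p, ⟨hp, hpC⟩, hx⟩
      obtain ⟨h, hN⟩ := (mem_censusVecs ht hp).1 hx
      exact ⟨mem_lattice_iff.2 ⟨_, _, (hmem _).1 hpC, h⟩, hN⟩
  have hdisj : ((({0, 1} : Finset ℤ) ×ˢ C : Finset _) : Set (ℤ × Finset GolayPt)).PairwiseDisjoint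
      (fun p => censusVecs t p.1 p.2) := by
    intro p hp q hq hne
    simp only [Finset.mem_coe, Finset.mem_product, Finset.mem_insert, Finset.mem_singleton]
      at hp hq
    refine Finset.disjoint_left.2 fun x hx1 hx2 => hne ?_
    have := isLVec_unique hp.1 hq.1 ((mem_censusVecs ht hp.1).1 hx1).1
      ((mem_censusVecs ht hq.1).1 hx2).1
    exact Prod.ext this.1 this.2
  rw [e, Set.ncard_coe_finset, Finset.card_biUnion hdisj, Finset.sum_product]
  simp only [card_censusVecs, Finset.sum_insert (by decide : (0 : ℤ) ∉ ({1} : Finset ℤ)),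
    Finset.sum_singleton, ← Finset.sum_add_distrib]
  have hinj : Set.InjOn (fun i => toSet (comb i)) (Finset.range 4096 : Set ℕ) := by
    intro i hi j hj h
    simp only [Finset.coe_range, Set.mem_Iio] at hi hj
    rw [← comb_mod hi, ← comb_mod hj, toSet_injOn (comb_lt hi) (comb_lt hj) h]
  rw [hCimg, Finset.sum_image hinj]
  obtain ⟨h1, h2⟩ := census_mult_ok
  simp only [List.all_eq_true, List.mem_range, List.contains_iff_mem, beq_iff_eq] at h1 h2
  simp only [card_toSet, mem_toSet, idx_special.1, idx_special.2, Bool.decide_eq_true]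
  rw [← Finset.sum_fiberwise_of_maps_to (g := censusIdx) (t := censusClasses.toFinset)
    (fun i hi => List.mem_toFinset.2 (h1 i (Finset.mem_range.1 hi)))]
  refine Finset.sum_congr rfl fun p hp => ?_
  rw [← h2 p (List.mem_toFinset.1 hp)]
  rw [← card_filter_range censusIdx p 4096, Finset.sum_congr rfl (g := fun _ =>
    censusCount t 0 p.1 p.2.1 p.2.2 + censusCount t 1 p.1 p.2.1 p.2.2), Finset.sum_const,
    smul_eq_mul]
  intro i hi
  rw [← (Finset.mem_filter.1 hi).2]
  rfl

set_option maxRecDepth 20000 in
theorem censusTotal_vals :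
    censusTotal (-4) = 4600 ∧ censusTotal (-2) = 47104 ∧ censusTotal 0 = 93150 := by
  decide +kernel

theorem census {v : GolayPt → ℤ} (hv : v ∈ leechLattice) (hn : sqNorm v = 32) {t : ℤ}
    (ht : t = -4 ∨ t = -2 ∨ t = 0) :
    {w | w ∈ leechLattice ∧ sqNorm w = 32 ∧ dotInt v w = 4 * t}.ncard = censusTotal t := by
  obtain ⟨g, hg⟩ := transitive_32 codeUnique (v := (⟨v, hv⟩ : leechLattice)) (w := std32) hn
    census_sqNorm_std32
  rw [← ncard_census ht, ← ncard_lattice_set (fun x => sqNorm x = 32 ∧ dotInt v x = 4 * t),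
    ← ncard_lattice_set (fun x => sqNorm x = 32 ∧ dotInt (std32 : GolayPt → ℤ) x = 4 * t),
    ← Set.ncard_image_of_injective _ (MulAction.injective g)]
  congr 1
  ext w
  simp only [Set.mem_image, Set.mem_ofPred_eq]
  have key : ∀ y : leechLattice, dotInt (std32 : GolayPt → ℤ) ((g • y : leechLattice) : GolayPt → ℤ) =
      dotInt v (y : GolayPt → ℤ) := fun y => by
    rw [← hg]; exact dotInt_smul g _ y
  constructor
  · rintro ⟨y, ⟨h1, h2⟩, rfl⟩
    exact ⟨(sqNorm_smul g y).trans h1, (key y).trans h2⟩
  · rintro ⟨h1, h2⟩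
    refine ⟨g⁻¹ • w, ⟨(sqNorm_smul _ w).trans h1, ?_⟩, smul_inv_smul g w⟩
    rw [← key, smul_inv_smul, h2]

end Cfsg.Agent.SporStruct
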