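import Mathlib

/-!
Congruence classes modulo 2 in an even rootless positive lattice `ℤ^ι` with Gram matrix `B`.
-/

set_option autoImplicit false

namespace Cfsg.Agent.SporStruct

open Matrix

variable {ι : Type*} [Fintype ι] [DecidableEq ι]

/-- The bilinear form of a Gram matrix. -/
def qf (B : Matrix ι ι ℤ) (x y : ι → ℤ) : ℤ := x ⬝ᵥ (B *ᵥ y)

theorem qf_comm {B : Matrix ι ι ℤ} (hsymm : B.IsSymm) (x y : ι → ℤ) : qf B x y = qf B y x := by
  unfold qf
  rw [dotProduct_mulVec, ← mulVec_transpose, hsymm, dotProduct_comm]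

theorem qf_add_left (B : Matrix ι ι ℤ) (x y z : ι → ℤ) : qf B (x + y) z = qf B x z + qf B y z := by
  simp [qf, add_dotProduct]

theorem qf_add_right (B : Matrix ι ι ℤ) (x y z : ι → ℤ) : qf B x (y + z) = qf B x y + qf B x z := by
  simp [qf, mulVec_add, dotProduct_add]

theorem qf_smul_left (B : Matrix ι ι ℤ) (c : ℤ) (x z : ι → ℤ) : qf B (c • x) z = c * qf B x z := by
  unfold qf; rw [smul_dotProduct, smul_eq_mul]

theorem qf_smul_right (B : Matrix ι ι ℤ) (c : ℤ) (x z : ι → ℤ) : qf B x (c • z) = c * qf B x z := by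
  unfold qf; rw [mulVec_smul, dotProduct_smul, smul_eq_mul]

theorem qf_neg_left (B : Matrix ι ι ℤ) (x z : ι → ℤ) : qf B (-x) z = - qf B x z := by
  simp [qf]

theorem qf_neg_right (B : Matrix ι ι ℤ) (x z : ι → ℤ) : qf B x (-z) = - qf B x z := by
  simp [qf, mulVec_neg]

theorem qf_neg_neg (B : Matrix ι ι ℤ) (x : ι → ℤ) : qf B (-x) (-x) = qf B x x := by
  rw [qf_neg_left, qf_neg_right, neg_neg]

theorem qf_sum_right (B : Matrix ι ι ℤ) {κ : Type*} (s : Finset κ) (x : ι → ℤ) (f : κ → ι → ℤ) :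
    qf B x (∑ i ∈ s, f i) = ∑ i ∈ s, qf B x (f i) := by
  simp [qf, mulVec_sum, dotProduct_sum]

theorem qf_zero (B : Matrix ι ι ℤ) : qf B 0 0 = 0 := by simp [qf]

/-- An even, positive, rootless lattice. -/
structure IsEvenRootless (B : Matrix ι ι ℤ) : Prop where
  symm : B.IsSymm
  pos : ∀ x : ι → ℤ, x ≠ 0 → 0 < qf B x x
  even : ∀ x : ι → ℤ, (2 : ℤ) ∣ qf B x x
  no2 : ∀ x : ι → ℤ, qf B x x ≠ 2

variable {B : Matrix ι ι ℤ}

theorem IsEvenRootless.four_le (h : IsEvenRootless B) {x : ι → ℤ} (hx : x ≠ 0) :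
    4 ≤ qf B x x := by
  have h1 := h.pos x hx
  obtain ⟨k, hk⟩ := h.even x
  have h2 := h.no2 x
  omega

/-- If `x ≡ y (mod 2)` and the norms sum to less than 16 then `y = ± x`. -/
theorem congr_small (h : IsEvenRootless B) {x y : ι → ℤ} (hxy : qf B x x + qf B y y < 16)
    (hc : ∀ i, (2 : ℤ) ∣ (x - y) i) : y = x ∨ y = -x := by
  choose z hz using hc
  have hzx : x = y + (2 : ℤ) • z := by
    funext i; have := hz i; simp at this ⊢; omega
  by_cases hz0 : z = 0
  · left; simp [hzx, hz0]
  by_cases hw0 : y + z = 0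
  · right
    have : z = -y := eq_neg_of_add_eq_zero_right hw0
    rw [hzx, this]; module
  have h1 := h.four_le hz0
  have h2 := h.four_le hw0
  rw [hzx] at hxy
  simp only [qf_add_left, qf_add_right, qf_smul_left, qf_smul_right] at hxy h2
  linarith [qf_comm h.symm y z]

/-- Norm 8 vectors congruent mod 2 are equal, opposite, or orthogonal. -/
theorem congr_eight (h : IsEvenRootless B) {x y : ι → ℤ} (hx : qf B x x = 8) (hy : qf B y y = 8)
    (hc : ∀ i, (2 : ℤ) ∣ (x - y) i) : y = x ∨ y = -x ∨ qf B x y = 0 := by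
  choose z hz using hc
  have hzx : x = y + (2 : ℤ) • z := by
    funext i; have := hz i; simp at this ⊢; omega
  by_cases hz0 : z = 0
  · left; simp [hzx, hz0]
  by_cases hw0 : y + z = 0
  · right; left
    have : z = -y := eq_neg_of_add_eq_zero_right hw0
    rw [hzx, this]; module
  right; right
  have h1 := h.four_le hz0
  have h2 := h.four_le hw0
  have hcomm := qf_comm h.symm y z
  have hcomm' := qf_comm h.symm y (z)
  rw [hzx] at hx ⊢
  simp only [qf_add_left, qf_add_right, qf_smul_left, qf_smul_right] at hx h2 ⊢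
  linarith

omit [DecidableEq ι] in
/-- Pairwise orthogonal vectors of positive norm are linearly independent, hence at most `|ι|`
many. -/
theorem card_le_of_orthogonal (B : Matrix ι ι ℤ) (s : Finset (ι → ℤ))
    (hpos : ∀ x ∈ s, qf B x x ≠ 0) (horth : ∀ x ∈ s, ∀ y ∈ s, x ≠ y → qf B x y = 0) :
    s.card ≤ Fintype.card ι := by
  classical
  have hli : LinearIndependent ℤ (fun x : s => (x : ι → ℤ)) := by
    rw [Fintype.linearIndependent_iff]
    intro g hg i
    have := congrArg (qf B (i : ι → ℤ)) hg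
    rw [qf_sum_right] at this
    simp only [qf_smul_right] at this
    rw [Finset.sum_eq_single i] at this
    · have h0 : qf B (i : ι → ℤ) 0 = 0 := by simp [qf]
      rw [h0] at this
      exact (mul_eq_zero.mp this).resolve_right (hpos _ i.2)
    · intro j _ hj
      rw [horth _ i.2 _ j.2 (fun e => hj (Subtype.ext e.symm)), mul_zero]
    · intro hi; simp at hi
  have := hli.fintype_card_le_finrank
  simpa [Module.finrank_pi] using this

/-- Reduction of an integer vector modulo 2. -/
def modTwo (x : ι → ℤ) : ι → ZMod 2 := fun i => (x i : ZMod 2)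

theorem modTwo_eq_iff (x y : ι → ℤ) : modTwo x = modTwo y ↔ ∀ i, (2 : ℤ) ∣ (x - y) i := by
  simp only [modTwo, funext_iff, Pi.sub_apply]
  refine forall_congr' fun i => ?_
  rw [eq_comm, ZMod.intCast_eq_intCast_iff_dvd_sub]
  norm_num

/-- Under the vector counts of the Leech lattice, every congruence class modulo 2 contains a
vector of norm at most 8, and every class of a norm 8 vector contains exactly 48 of them. -/
theorem classes_census (h : IsEvenRootless B) (hι : Fintype.card ι = 24)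
    (h4 : {x : ι → ℤ | qf B x x = 4}.ncard = 196560)
    (h6 : {x : ι → ℤ | qf B x x = 6}.ncard = 16773120)
    (h8 : {x : ι → ℤ | qf B x x = 8}.ncard = 398034000) :
    (∀ x : ι → ℤ, ∃ y : ι → ℤ, qf B y y ≤ 8 ∧ ∀ i, (2 : ℤ) ∣ (x - y) i) ∧
    ∀ x : ι → ℤ, qf B x x = 8 →
      {y : ι → ℤ | qf B y y = 8 ∧ ∀ i, (2 : ℤ) ∣ (x - y) i}.ncard = 48 := by
  classical
  have f4 := Set.finite_of_ncard_pos (s := {x : ι → ℤ | qf B x x = 4}) (by rw [h4]; norm_num)
  have f6 := Set.finite_of_ncard_pos (s := {x : ι → ℤ | qf B x x = 6}) (by rw [h6]; norm_num)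
  have f8 := Set.finite_of_ncard_pos (s := {x : ι → ℤ | qf B x x = 8}) (by rw [h8]; norm_num)
  obtain ⟨S4, hS4⟩ : ∃ S : Finset (ι → ℤ), ∀ x, x ∈ S ↔ qf B x x = 4 :=
    ⟨f4.toFinset, fun x => f4.mem_toFinset⟩
  obtain ⟨S6, hS6⟩ : ∃ S : Finset (ι → ℤ), ∀ x, x ∈ S ↔ qf B x x = 6 :=
    ⟨f6.toFinset, fun x => f6.mem_toFinset⟩
  obtain ⟨S8, hS8⟩ : ∃ S : Finset (ι → ℤ), ∀ x, x ∈ S ↔ qf B x x = 8 :=
    ⟨f8.toFinset, fun x => f8.mem_toFinset⟩
  have c4 : S4.card = 196560 := by
    rw [← h4, ← Set.ncard_coe_finset]; congr 1; ext x; simp [hS4]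
  have c6 : S6.card = 16773120 := by
    rw [← h6, ← Set.ncard_coe_finset]; congr 1; ext x; simp [hS6]
  have c8 : S8.card = 398034000 := by
    rw [← h8, ← Set.ncard_coe_finset]; congr 1; ext x; simp [hS8]
  -- fibres of the small norms
  have hpair : ∀ (n : ℤ) (S : Finset (ι → ℤ)), n < 8 → (∀ x ∈ S, qf B x x = n) →
      ∀ c, (S.filter fun x => modTwo x = c).card ≤ 2 := by
    intro n S hn hS c
    rcases (S.filter fun x => modTwo x = c).eq_empty_or_nonempty with he | ⟨a, ha⟩
    · simp [he]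
    · refine le_trans (Finset.card_le_card (t := {a, -a}) ?_) Finset.card_le_two
      intro b hb
      simp only [Finset.mem_filter] at ha hb
      have := congr_small h (x := a) (y := b) (by linarith [hS a ha.1, hS b hb.1])
        ((modTwo_eq_iff a b).mp (ha.2.trans hb.2.symm))
      simpa using this
  -- fibres of norm 8
  have height : ∀ c, (S8.filter fun x => modTwo x = c).card ≤ 48 := by
    intro c
    let r : (ι → ℤ) → (ι → ℤ) → Prop := WellOrderingRel
    set F := S8.filter fun x => modTwo x = c with hF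
    set T := F.image fun x => if r x (-x) then x else -x with hT
    have hmodneg : ∀ x : ι → ℤ, modTwo (-x) = modTwo x := by
      intro x; rw [modTwo_eq_iff]; intro i
      exact ⟨- x i, by simp only [Pi.sub_apply, Pi.neg_apply]; ring⟩
    have hTmem : ∀ t ∈ T, qf B t t = 8 ∧ modTwo t = c ∧ ¬ r (-t) t := by
      intro t ht
      obtain ⟨x, hx, rfl⟩ := Finset.mem_image.mp ht
      obtain ⟨hx8, hxc⟩ := Finset.mem_filter.mp hx
      rw [hS8] at hx8
      split_ifs with hr
      · exact ⟨hx8, hxc, fun hr' => asymm (r := WellOrderingRel) hr hr'⟩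
      · rw [qf_neg_neg, neg_neg]; exact ⟨hx8, (hmodneg x).trans hxc, hr⟩
    have hTcard : T.card ≤ 24 := by
      rw [← hι]
      refine card_le_of_orthogonal B T (fun x hx => by rw [(hTmem x hx).1]; norm_num) ?_
      intro x hx y hy hne
      rcases congr_eight h (hTmem x hx).1 (hTmem y hy).1
        ((modTwo_eq_iff x y).mp ((hTmem x hx).2.1.trans (hTmem y hy).2.1.symm)) with e | e | e
      · exact absurd e.symm hne
      · have h1 := (hTmem x hx).2.2
        have h2 := (hTmem y hy).2.2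
        rw [e, neg_neg] at h2
        rcases trichotomous_of (r := WellOrderingRel) x (-x) with t | t | t
        · exact absurd t h2
        · exact absurd (t.trans e.symm) hne
        · exact absurd t h1
      · exact e
    have hsub : F ⊆ T ∪ T.image (fun x => -x) := by
      intro x hx
      by_cases hr : r x (-x)
      · exact Finset.mem_union_left _ (Finset.mem_image.mpr ⟨x, hx, if_pos hr⟩)
      · refine Finset.mem_union_right _ (Finset.mem_image.mpr ⟨-x, ?_, neg_neg x⟩)
        exact Finset.mem_image.mpr ⟨x, hx, if_neg hr⟩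
    calc F.card ≤ (T ∪ T.image (fun x => -x)).card := Finset.card_le_card hsub
      _ ≤ T.card + (T.image (fun x => -x)).card := Finset.card_union_le _ _
      _ ≤ T.card + T.card := Nat.add_le_add_left Finset.card_image_le _
      _ ≤ 48 := by omega
  have hsum : ∀ S : Finset (ι → ℤ), S.card =
      ∑ c ∈ S.image modTwo, (S.filter fun x => modTwo x = c).card := fun S =>
    Finset.card_eq_sum_card_fiberwise fun x hx => Finset.mem_image_of_mem _ hx
  have hbound : ∀ (S : Finset (ι → ℤ)) (k : ℕ),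
      (∀ c, (S.filter fun x => modTwo x = c).card ≤ k) → S.card ≤ k * (S.image modTwo).card := by
    intro S k hk
    rw [hsum S, mul_comm]
    exact Finset.sum_le_card_nsmul _ _ _ fun c _ => hk c
  have b4 := hbound S4 2 (hpair 4 S4 (by norm_num) fun x hx => (hS4 x).mp hx)
  have b6 := hbound S6 2 (hpair 6 S6 (by norm_num) fun x hx => (hS6 x).mp hx)
  have b8 := hbound S8 48 height
  -- the four images are disjoint
  have hdis : ∀ (S S' : Finset (ι → ℤ)) (m n : ℤ), m ≠ n → m + n < 16 →
      (∀ x ∈ S, qf B x x = m) → (∀ x ∈ S', qf B x x = n) →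
      Disjoint (S.image modTwo) (S'.image modTwo) := by
    intro S S' m n hne hlt hS hS'
    rw [Finset.disjoint_left]
    intro c hc hc'
    obtain ⟨a, ha, rfl⟩ := Finset.mem_image.mp hc
    obtain ⟨b, hb, hab⟩ := Finset.mem_image.mp hc'
    apply hne
    rcases congr_small h (x := a) (y := b) (by linarith [hS a ha, hS' b hb])
      ((modTwo_eq_iff a b).mp hab.symm) with e | e
    · rw [← hS a ha, ← hS' b hb, e]
    · rw [← hS a ha, ← hS' b hb, e, qf_neg_neg]
  have n0 : ∀ x ∈ ({0} : Finset (ι → ℤ)), qf B x x = 0 := fun x hx => by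
    rw [Finset.mem_singleton] at hx; rw [hx, qf_zero]
  have n4 : ∀ x ∈ S4, qf B x x = 4 := fun x hx => (hS4 x).mp hx
  have n6 : ∀ x ∈ S6, qf B x x = 6 := fun x hx => (hS6 x).mp hx
  have n8 : ∀ x ∈ S8, qf B x x = 8 := fun x hx => (hS8 x).mp hx
  set U := ({0} : Finset (ι → ℤ)).image modTwo ∪ S4.image modTwo ∪ S6.image modTwo
    ∪ S8.image modTwo with hU
  have hUcard : U.card = ({0} : Finset (ι → ℤ)).card + (S4.image modTwo).card
      + (S6.image modTwo).card + (S8.image modTwo).card := by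
    rw [hU, Finset.card_union_of_disjoint, Finset.card_union_of_disjoint,
      Finset.card_union_of_disjoint, Finset.image_singleton, Finset.card_singleton,
      Finset.card_singleton]
    · exact hdis _ _ 0 4 (by norm_num) (by norm_num) n0 n4
    · rw [Finset.disjoint_union_left]
      exact ⟨hdis _ _ 0 6 (by norm_num) (by norm_num) n0 n6,
        hdis _ _ 4 6 (by norm_num) (by norm_num) n4 n6⟩
    · rw [Finset.disjoint_union_left, Finset.disjoint_union_left]
      exact ⟨⟨hdis _ _ 0 8 (by norm_num) (by norm_num) n0 n8,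
        hdis _ _ 4 8 (by norm_num) (by norm_num) n4 n8⟩,
        hdis _ _ 6 8 (by norm_num) (by norm_num) n6 n8⟩
  have hFun : Fintype.card (ι → ZMod 2) = 16777216 := by
    rw [Fintype.card_fun, ZMod.card, hι]; norm_num
  have hUle : U.card ≤ 16777216 := by
    rw [← hFun]; exact Finset.card_le_univ U
  rw [Finset.card_singleton] at hUcard
  refine ⟨fun x => ?_, fun x hx => ?_⟩
  · have hUuniv : U = Finset.univ := Finset.eq_univ_of_card U (by omega)
    have hxU : modTwo x ∈ U := by rw [hUuniv]; exact Finset.mem_univ _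
    simp only [hU, Finset.mem_union, Finset.mem_image] at hxU
    obtain ((⟨y, hy, hyx⟩ | ⟨y, hy, hyx⟩) | ⟨y, hy, hyx⟩) | ⟨y, hy, hyx⟩ := hxU
    · exact ⟨y, by rw [n0 y hy]; norm_num, (modTwo_eq_iff x y).mp hyx.symm⟩
    · exact ⟨y, by rw [n4 y hy]; norm_num, (modTwo_eq_iff x y).mp hyx.symm⟩
    · exact ⟨y, by rw [n6 y hy]; norm_num, (modTwo_eq_iff x y).mp hyx.symm⟩
    · exact ⟨y, by rw [n8 y hy], (modTwo_eq_iff x y).mp hyx.symm⟩
  · have heq : {y : ι → ℤ | qf B y y = 8 ∧ ∀ i, (2 : ℤ) ∣ (x - y) i} =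
        ↑(S8.filter fun y => modTwo y = modTwo x) := by
      ext y
      simp only [Set.mem_ofPred_eq, Finset.coe_filter, hS8, modTwo_eq_iff, Pi.sub_apply]
      exact and_congr Iff.rfl (forall_congr' fun i => dvd_sub_comm)
    rw [heq, Set.ncard_coe_finset]
    refine le_antisymm (height _) (Nat.le_of_not_lt fun hlt => ?_)
    have hlt' : S8.card < ∑ _c ∈ S8.image modTwo, 48 := by
      rw [hsum S8]
      exact Finset.sum_lt_sum (fun c _ => height c)
        ⟨modTwo x, Finset.mem_image_of_mem _ ((hS8 x).mpr hx), hlt⟩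
    rw [Finset.sum_const, smul_eq_mul] at hlt'
    omega

end Cfsg.Agent.SporStruct
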