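import Cfsg.Agent.Lib.Golay.Fixed
import Cfsg.Agent.Lib.Golay.Transitive

/-!
In the stabiliser of two points in M24 an element of order 5 generates its own centraliser.
-/

set_option autoImplicit false

namespace Cfsg.Agent.SporStruct.CentFive

open Cfsg Cfsg.Agent.Golay
open scoped Pointwise

/-- The iterates of the permutation of order 5. -/
def iterB : ℕ → ℕ → ℕ
  | 0, i => i
  | k + 1, i => cubeTwistTab.getD (iterB k i) 0

/-- The orbit, as a list. -/
def orbB (i : ℕ) : List ℕ := (List.range 5).map fun k => iterB k i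

/-- A certificate against a partial map: an octad through six points with images not in an octad. -/
def certOK (dom img : List ℕ) : (ℕ × ℕ) × ℕ × List ℕ × ℕ × ℕ → Bool
  | (_, D, pos, x, O) => inCode D && inCode O && popc D == 8 && popc O == 8 &&
    popc (pos.foldr (fun j m => m ||| 2 ^ img.getD j 0) 0) == 5 &&
    (pos.all fun j => decide (j < dom.length) && D.testBit (dom.getD j 0) &&
      O.testBit (img.getD j 0)) &&
    decide (x < dom.length) && D.testBit (dom.getD x 0) && !O.testBit (img.getD x 0)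

theorem testBit_foldr (f : ℕ → ℕ) (i : ℕ) : ∀ L : List ℕ,
    (L.foldr (fun j m => m ||| 2 ^ f j) 0).testBit i = true ↔ ∃ j ∈ L, f j = i
  | [] => by simp
  | j :: L => by
    rw [List.foldr_cons, Nat.testBit_or, Bool.or_eq_true, testBit_foldr f i L, Nat.testBit_two_pow,
      decide_eq_true_eq]
    simp only [List.mem_cons, exists_eq_or_imp]
    exact Or.comm

theorem length_orbB (i : ℕ) : (orbB i).length = 5 := by simp [orbB]

theorem getD_orbB (i : ℕ) {j : ℕ} (hj : j < 5) : (orbB i).getD j 0 = iterB j i := by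
  rw [List.getD_eq_getElem _ _ (by rw [length_orbB]; exact hj)]
  simp [orbB]

theorem cert_sound {σ : Equiv.Perm GolayPt} (hσ : σ ∈ M24) {dom img : List ℕ}
    (hdom : ∀ j < dom.length, dom.getD j 0 < 24 ∧ img.getD j 0 < 24 ∧
      σ (pt (dom.getD j 0)) = pt (img.getD j 0)) {c : (ℕ × ℕ) × ℕ × List ℕ × ℕ × ℕ}
    (h : certOK dom img c = true) : False := by
  obtain ⟨k, D, pos, x, O⟩ := c
  simp only [certOK, Bool.and_eq_true, List.all_eq_true, decide_eq_true_eq, beq_iff_eq,
    Bool.not_eq_true'] at h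
  obtain ⟨⟨⟨⟨⟨⟨⟨⟨hD, hO⟩, hD8⟩, hO8⟩, hm⟩, hpos⟩, hx⟩, hxD⟩, hxO⟩ := h
  have hDo : toSet D ∈ octads := octad_mem_iff.2 ⟨D, hD, hD8, rfl⟩
  have hOo : toSet O ∈ octads := octad_mem_iff.2 ⟨O, hO, hO8, rfl⟩
  have himg := smul_mem_octads hσ hDo
  set m := pos.foldr (fun j m => m ||| 2 ^ img.getD j 0) 0 with hmdef
  have hmem : ∀ p, p ∈ toSet m → ∃ j ∈ pos, pt (img.getD j 0) = p := fun p hp => by
    rw [mem_toSet, hmdef, testBit_foldr] at hp
    obtain ⟨j, hj, e⟩ := hp
    exact ⟨j, hj, by rw [e, pt_idx]⟩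
  have hin : ∀ j, j < dom.length → D.testBit (dom.getD j 0) = true →
      pt (img.getD j 0) ∈ σ • toSet D := fun j hj hb => by
    obtain ⟨h1, -, e⟩ := hdom j hj
    rw [← e]
    exact Finset.smul_mem_smul_finset (mem_toSet.2 (by rwa [idx_pt h1]))
  have e := octad_unique himg hOo (s := toSet m) (by rw [card_toSet, hm]) (fun p hp => by
      obtain ⟨j, hj, rfl⟩ := hmem p hp
      exact hin j (hpos j hj).1.1 (hpos j hj).1.2) (fun p hp => by
      obtain ⟨j, hj, rfl⟩ := hmem p hp
      rw [mem_toSet, idx_pt (hdom j (hpos j hj).1.1).2.1]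
      exact (hpos j hj).2)
  have := hin x hx hxD
  rw [e, mem_toSet, idx_pt (hdom x hx).2.1, hxO] at this
  exact Bool.noConfusion this

/-- The certificates for the first orbit. -/
def certs1 : List ((ℕ × ℕ) × ℕ × List ℕ × ℕ × ℕ) := [
    ((3, 5), 8683614, [0, 2, 3, 4, 5], 6, 10537016),
    ((3, 21), 8683614, [0, 2, 3, 4, 5], 6, 12222476),
    ((3, 20), 8683614, [0, 2, 3, 4, 5], 6, 13667400),
    ((3, 10), 8683614, [0, 2, 3, 4, 5], 6, 8963210),
    ((3, 7), 8683614, [0, 2, 3, 4, 5], 6, 13009064),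
    ((3, 8), 8683614, [0, 2, 3, 4, 5], 6, 10584520),
    ((3, 16), 8683614, [0, 2, 3, 4, 5], 6, 9543722),
    ((3, 13), 8683614, [0, 2, 3, 4, 5], 6, 10790408),
    ((3, 9), 8683614, [0, 2, 3, 4, 5], 6, 9474712),
    ((3, 12), 8683614, [0, 2, 3, 4, 5], 6, 8426796),
    ((3, 11), 8683614, [0, 2, 3, 4, 5], 6, 9279496),
    ((3, 19), 8683614, [0, 2, 3, 4, 5], 6, 13148440),
    ((3, 22), 8683614, [0, 2, 3, 4, 5], 6, 12698124),
    ((3, 14), 8683614, [0, 2, 3, 4, 5], 6, 8581192),
    ((3, 17), 8683614, [0, 2, 3, 4, 5], 6, 8555274),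
    ((15, 5), 8683614, [0, 2, 3, 4, 5], 6, 10537016),
    ((15, 21), 8683614, [0, 2, 3, 4, 5], 6, 12222476),
    ((15, 20), 8683614, [0, 2, 3, 4, 5], 6, 13667400),
    ((15, 10), 8683614, [0, 2, 3, 4, 5], 6, 8963210),
    ((15, 7), 8683614, [0, 2, 3, 4, 5], 6, 13009064),
    ((15, 8), 8683614, [0, 2, 3, 4, 5], 6, 10584520),
    ((15, 16), 8683614, [0, 2, 3, 4, 5], 6, 9543722),
    ((15, 13), 8683614, [0, 2, 3, 4, 5], 6, 10790408),
    ((15, 9), 8683614, [0, 2, 3, 4, 5], 6, 9474712),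
    ((15, 12), 8683614, [0, 2, 3, 4, 5], 6, 8426796),
    ((15, 11), 8683614, [0, 2, 3, 4, 5], 6, 9279496),
    ((15, 19), 8683614, [0, 2, 3, 4, 5], 6, 13148440),
    ((15, 22), 8683614, [0, 2, 3, 4, 5], 6, 12698124),
    ((15, 14), 8683614, [0, 2, 3, 4, 5], 6, 8581192),
    ((15, 17), 8683614, [0, 2, 3, 4, 5], 6, 8555274)]

/-- The certificates for the second orbit. -/
def certs2 : List ((ℕ × ℕ) × ℕ × List ℕ × ℕ × ℕ) := [
    ((15, 5), 3416079, [1, 2, 4, 5, 7], 10, 4505735),
    ((15, 21), 12222476, [0, 2, 3, 7, 10], 11, 12222476),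
    ((15, 20), 12222476, [0, 2, 3, 7, 10], 11, 8426796),
    ((15, 10), 12222476, [0, 2, 3, 7, 10], 11, 8431757),
    ((15, 7), 12222476, [0, 2, 3, 7, 10], 11, 8426796),
    ((15, 8), 12222476, [0, 2, 3, 7, 10], 11, 12698124),
    ((15, 16), 12222476, [0, 2, 3, 7, 10], 11, 8431757),
    ((15, 13), 12222476, [0, 2, 3, 7, 10], 11, 12698124),
    ((15, 9), 3416079, [1, 2, 4, 5, 7], 10, 4505735),
    ((15, 12), 12222476, [0, 2, 3, 7, 10], 11, 8426796),
    ((15, 11), 12222476, [0, 2, 3, 7, 10], 11, 12222476),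
    ((15, 19), 16056344, [0, 2, 5, 6, 10], 11, 12880401),
    ((15, 22), 12222476, [0, 2, 3, 7, 10], 11, 12698124),
    ((15, 14), 12222476, [0, 2, 3, 7, 10], 11, 12222476),
    ((15, 17), 12222476, [0, 2, 3, 7, 10], 11, 8431757)]

theorem cover1 : ∀ i : Fin 24, ∀ s ∈ [3, 15], i.val ∈ [23, 0, 3, 15] ∨ i.val ∈ orbB 1 ∨
    (certs1.any fun c => certOK ([23, 0, 3, 15] ++ orbB 1) ([23, 0, s, 18 - s] ++ orbB i.val) c) =
      true := by
  decide +kernel

theorem cover2 : ∀ i : Fin 24, i.val ∈ [23, 0, 3, 15] ∨ i.val ∈ orbB 1 ∨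
    (certs2.any fun c => certOK ([23, 0, 3, 15] ++ orbB 1 ++ orbB 5)
      ([23, 0, 15, 3] ++ orbB 1 ++ orbB i.val) c) = true := by
  decide +kernel

theorem fix_facts : (∀ i : Fin 24, cubeTwistTab.getD i.val 0 = i.val ↔ i.val ∈ [23, 0, 3, 15]) ∧
    (∀ i : Fin 24, ∀ k : Fin 5, iterB k.val i.val < 24) := by
  decide +kernel

theorem cubeTwist_pt {i : ℕ} (hi : i < 24) :
    cubeTwist (pt i) = pt (cubeTwistTab.getD i 0) := by
  rw [tab_cubeTwist.apply, idx_pt hi]

theorem pow_pt {i : ℕ} (hi : i < 24) : ∀ k < 5, (cubeTwist ^ k) (pt i) = pt (iterB k i)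
  | 0, _ => rfl
  | k + 1, hk => by
    rw [pow_succ', Equiv.Perm.mul_apply, pow_pt hi k (by omega),
      cubeTwist_pt (fix_facts.2 ⟨i, hi⟩ ⟨k, by omega⟩)]
    rfl

theorem comm_pt {σ : Equiv.Perm GolayPt} (hc : σ * cubeTwist = cubeTwist * σ) {i : ℕ} (hi : i < 24)
    {k : ℕ} (hk : k < 5) : σ (pt (iterB k i)) = pt (iterB k (idx (σ (pt i)))) := by
  rw [← pow_pt hi k hk, ← pow_pt (idx_lt _) k hk, pt_idx, ← Equiv.Perm.mul_apply,
    ← Equiv.Perm.mul_apply, (Commute.pow_right hc k).eq]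

theorem fixed_image {σ : Equiv.Perm GolayPt} (hc : σ * cubeTwist = cubeTwist * σ) {i : ℕ}
    (hi : i < 24) : i ∈ [23, 0, 3, 15] ↔ idx (σ (pt i)) ∈ [23, 0, 3, 15] := by
  rw [← fix_facts.1 ⟨i, hi⟩, ← fix_facts.1 ⟨idx (σ (pt i)), idx_lt _⟩]
  have e := congrArg (fun f : Equiv.Perm GolayPt => f (pt i)) hc
  simp only [Equiv.Perm.mul_apply, cubeTwist_pt hi] at e
  have hlt := tab_cubeTwist.lt hi
  constructor <;> intro h <;> simp only [] at h ⊢
  · rw [h, ← pt_idx (σ (pt i)), cubeTwist_pt (idx_lt _)] at e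
    have := congrArg idx e
    rw [idx_pt (idx_lt _), idx_pt (tab_cubeTwist.lt (idx_lt _))] at this
    exact this.symm
  · rw [← pt_idx (σ (pt i)), cubeTwist_pt (idx_lt _), h, pt_idx] at e
    have := congrArg idx (σ.injective e)
    rwa [idx_pt hlt, idx_pt hi] at this

theorem map_list {σ : Equiv.Perm GolayPt} (hc : σ * cubeTwist = cubeTwist * σ) {i : ℕ}
    (hi : i < 24) : ∀ j < 5, (orbB i).getD j 0 < 24 ∧ (orbB (idx (σ (pt i)))).getD j 0 < 24 ∧
      σ (pt ((orbB i).getD j 0)) = pt ((orbB (idx (σ (pt i)))).getD j 0) := by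
  intro j hj
  rw [getD_orbB _ hj, getD_orbB _ hj]
  exact ⟨fix_facts.2 ⟨i, hi⟩ ⟨j, hj⟩, fix_facts.2 ⟨_, idx_lt _⟩ ⟨j, hj⟩, comm_pt hc hi hj⟩

theorem centraliser_five {σ : Equiv.Perm GolayPt} (hσ : σ ∈ M24) (h0 : σ none = none)
    (h1 : σ (some 0) = some 0) (hc : σ * cubeTwist = cubeTwist * σ) :
    σ ∈ Subgroup.zpowers cubeTwist := by
  classical
  have key : ∀ τ : Equiv.Perm GolayPt, τ ∈ M24 → τ none = none → τ (some 0) = some 0 →
      τ * cubeTwist = cubeTwist * τ →
      (τ (pt 3) = pt 3 ∧ τ (pt 15) = pt 15) ∨ (τ (pt 3) = pt 15 ∧ τ (pt 15) = pt 3) := by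
    intro τ _ a0 a1 ac
    have hh : ∀ i ∈ [3, 15], τ (pt i) = pt 3 ∨ τ (pt i) = pt 15 := by
      intro i hi
      have hi24 : i < 24 := by simp at hi; omega
      have hm := (fixed_image ac hi24).1 (by simp at hi; rcases hi with rfl | rfl <;> simp)
      simp only [List.mem_cons, List.not_mem_nil, or_false] at hm
      rcases hm with e | e | e | e
      · exfalso
        have : τ (pt i) = τ none := by rw [a0, ← pt_idx (τ (pt i)), e]; rfl
        have := congrArg idx (τ.injective this)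
        rw [idx_pt hi24] at this
        simp at hi
        rcases hi with rfl | rfl <;> exact absurd this (by decide)
      · exfalso
        have : τ (pt i) = τ (some 0) := by rw [a1, ← pt_idx (τ (pt i)), e]; rfl
        have := congrArg idx (τ.injective this)
        rw [idx_pt hi24] at this
        simp at hi
        rcases hi with rfl | rfl <;> exact absurd this (by decide)
      · exact Or.inl (by rw [← pt_idx (τ (pt i)), e])
      · exact Or.inr (by rw [← pt_idx (τ (pt i)), e])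
    have ne : τ (pt 3) ≠ τ (pt 15) := fun e => absurd (τ.injective e) (by decide)
    rcases hh 3 (by simp) with e | e <;> rcases hh 15 (by simp) with e' | e'
    · exact absurd (e.trans e'.symm) ne
    · exact Or.inl ⟨e, e'⟩
    · exact Or.inr ⟨e, e'⟩
    · exact absurd (e.trans e'.symm) ne
  -- the image of the point of index 1 lies in its orbit
  obtain ⟨k, hk, hk1⟩ : ∃ k < 5, idx (σ (pt 1)) = iterB k 1 := by
    obtain ⟨s, hs, e3, e15⟩ : ∃ s ∈ [3, 15], σ (pt 3) = pt s ∧ σ (pt 15) = pt (18 - s) := by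
      rcases key σ hσ h0 h1 hc with ⟨e, e'⟩ | ⟨e, e'⟩
      exacts [⟨3, by simp, e, e'⟩, ⟨15, by simp, e, e'⟩]
    have hs24 : s < 24 ∧ 18 - s < 24 := by simp at hs; omega
    rcases cover1 ⟨idx (σ (pt 1)), idx_lt _⟩ s hs with h | h | h
    · exact absurd ((fixed_image hc (by norm_num)).2 h) (by decide)
    · simp only [orbB, List.mem_map, List.mem_range] at h
      obtain ⟨k, hk, e⟩ := h
      exact ⟨k, hk, e.symm⟩
    · exfalso
      obtain ⟨c, -, hc'⟩ := List.any_eq_true.1 h
      refine cert_sound hσ (fun j hj => ?_) hc'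
      simp only [List.length_append, length_orbB, List.length_cons, List.length_nil] at hj
      rcases lt_or_ge j 4 with hj4 | hj4
      · rw [List.getD_append _ _ _ _ hj4, List.getD_append _ _ _ _ hj4]
        interval_cases j
        exacts [⟨(by norm_num : (23 : ℕ) < 24), (by norm_num : (23 : ℕ) < 24), h0⟩,
          ⟨(by norm_num : (0 : ℕ) < 24), (by norm_num : (0 : ℕ) < 24), h1⟩,
          ⟨(by norm_num : (3 : ℕ) < 24), hs24.1, e3⟩, ⟨(by norm_num : (15 : ℕ) < 24), hs24.2, e15⟩]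
      · rw [List.getD_append_right _ _ _ _ (by simpa using hj4),
          List.getD_append_right _ _ _ _ (by simpa using hj4)]
        simp only [List.length_cons, List.length_nil]
        exact map_list hc (i := 1) (by norm_num) (j - 4) (by omega)
  set τ := (cubeTwist ^ k)⁻¹ * σ with hτdef
  have hσe : σ = cubeTwist ^ k * τ := by rw [hτdef, mul_inv_cancel_left]
  suffices τ = 1 by
    rw [hσe, this, mul_one]
    exact Subgroup.pow_mem _ (Subgroup.mem_zpowers _) k
  have hτm : τ ∈ M24 := M24.mul_mem (M24.inv_mem (M24.pow_mem cubeTwist_mem k)) hσ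
  have hτc : τ * cubeTwist = cubeTwist * τ :=
    ((Commute.pow_left (Commute.refl cubeTwist) k).inv_left.mul_left hc).eq
  have hfixpow : ∀ p, cubeTwist p = p → ((cubeTwist ^ k)⁻¹) p = p := fun p hp => by
    rw [Equiv.Perm.coe_inv, Equiv.symm_apply_eq, Equiv.Perm.pow_apply_eq_self_of_apply_eq_self hp]
  have t0 : τ none = none := by
    rw [hτdef, Equiv.Perm.mul_apply, h0]
    exact hfixpow _ (cubeTwist_pt (i := 23) (by norm_num))
  have t1 : τ (some 0) = some 0 := by
    rw [hτdef, Equiv.Perm.mul_apply, h1]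
    exact hfixpow _ (cubeTwist_pt (i := 0) (by norm_num))
  have tp : τ (pt 1) = pt 1 := by
    rw [hτdef, Equiv.Perm.mul_apply, ← pt_idx (σ (pt 1)), hk1, ← pow_pt (by norm_num) k hk,
      Equiv.Perm.coe_inv, Equiv.symm_apply_apply]
  have torb : ∀ j < 5, (orbB 1).getD j 0 < 24 ∧ (orbB 1).getD j 0 < 24 ∧
      τ (pt ((orbB 1).getD j 0)) = pt ((orbB 1).getD j 0) := by
    have := map_list hτc (i := 1) (by norm_num)
    rwa [tp, idx_pt (by norm_num)] at this
  have hlist : ∀ j < 5, τ (pt (iterB j 1)) = pt (iterB j 1) := fun j hj => by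
    have := (torb j hj).2.2
    rwa [getD_orbB _ hj] at this
  rcases key τ hτm t0 t1 hτc with ⟨e, e'⟩ | ⟨e, e'⟩
  · refine eq_one_of_fixed hτm (s := ([23, 0, 3, 15] ++ orbB 1).toFinset.image pt) (by decide +kernel)
      fun p hp => ?_
    simp only [Finset.mem_image, List.mem_toFinset, List.mem_append, List.mem_cons, List.not_mem_nil,
      or_false, orbB, List.mem_map, List.mem_range] at hp
    obtain ⟨i, (rfl | rfl | rfl | rfl) | ⟨j, hj, rfl⟩, rfl⟩ := hp
    exacts [t0, t1, e, e', hlist j hj]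
  · exfalso
    rcases cover2 ⟨idx (τ (pt 5)), idx_lt _⟩ with h | h | h
    · exact absurd ((fixed_image hτc (by norm_num)).2 h) (by decide)
    · simp only [orbB, List.mem_map, List.mem_range] at h
      obtain ⟨j, hj, e2⟩ := h
      have := τ.injective ((pt_idx (τ (pt 5))).symm.trans
        ((congrArg pt e2.symm).trans (hlist j hj).symm))
      have hne : ∀ j : Fin 5, pt 5 ≠ pt (iterB j.val 1) := by decide +kernel
      exact hne ⟨j, hj⟩ this
    · obtain ⟨c, -, hc'⟩ := List.any_eq_true.1 h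
      refine cert_sound hτm (fun j hj => ?_) hc'
      simp only [List.length_append, length_orbB, List.length_cons, List.length_nil] at hj
      rcases lt_or_ge j 9 with hj9 | hj9
      · rw [List.getD_append ([23, 0, 3, 15] ++ orbB 1) _ _ _ (by simp [length_orbB]; omega),
          List.getD_append ([23, 0, 15, 3] ++ orbB 1) _ _ _ (by simp [length_orbB]; omega)]
        rcases lt_or_ge j 4 with hj4 | hj4
        · rw [List.getD_append _ _ _ _ hj4, List.getD_append _ _ _ _ hj4]
          interval_cases j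
          exacts [⟨by decide, by decide, t0⟩, ⟨by decide, by decide, t1⟩,
            ⟨by decide, by decide, e⟩, ⟨by decide, by decide, e'⟩]
        · rw [List.getD_append_right _ _ _ _ (by simpa using hj4),
            List.getD_append_right _ _ _ _ (by simpa using hj4)]
          exact torb _ (by simp; omega)
      · rw [List.getD_append_right ([23, 0, 3, 15] ++ orbB 1) _ _ _ (by simp [length_orbB]; omega),
          List.getD_append_right ([23, 0, 15, 3] ++ orbB 1) _ _ _ (by simp [length_orbB]; omega)]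
        simp only [List.length_append, length_orbB, List.length_cons, List.length_nil]
        exact map_list hτc (i := 5) (by norm_num) _ (by omega)

end Cfsg.Agent.SporStruct.CentFive
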