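import Cfsg.Agent.SporStruct.OuterCommon
import Cfsg.Agent.SporStruct.CentFive

/-!
Automorphisms of the stabilisers of the standard vector of norm 48 and a minimal vector.
-/

set_option autoImplicit false

namespace Cfsg.Agent.SporStruct.OuterTwo

open Cfsg Cfsg.Agent.Leech CoMatrix
open Cfsg.Agent.Golay (pt idx idx_lt pt_idx idx_pt Tab)

/-- The tables of the generators. -/
def tabs (C : List (List ℤ)) : List (List (List ℤ)) :=
  [permMat Golay.doubleTab, permMat Golay.cubeTwistTab, C]

/-- The standard vector of norm 48, as a list. -/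
def stdL : List ℤ := (List.range 24).map fun i => if i = 23 then 5 else 1

/-- The minimal vector, as a list. -/
def twoL (ε : ℤ) : List ℤ :=
  (List.range 24).map fun i => if i = 23 then 4 else if i = 0 then 4 * ε else 0

theorem vecL_std48 : vecL (std48 : GolayPt → ℤ) = stdL :=
  range_map_congr fun i hi => by
    rw [coe_std48]
    revert i
    decide +kernel

theorem vecL_two : vecL (std32 : GolayPt → ℤ) = twoL 1 ∧
    vecL (Spor.leechU' : GolayPt → ℤ) = twoL (-1) :=
  ⟨show vecL Spor.vecU = _ by decide +kernel, show vecL Spor.vecU' = _ by decide +kernel⟩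

/-- The classes of the points under the element of order 5. -/
def cls8 (p : GolayPt) : Fin 8 :=
  [1, 4, 4, 2, 4, 5, 4, 5, 6, 6, 5, 7, 6, 6, 7, 3, 6, 7, 4, 7, 5, 5, 7, 0].getD (idx p) 0

/-- Representatives of the classes. -/
def rep8 (k : Fin 8) : ℕ := [23, 0, 3, 15, 1, 5, 8, 11].getD k.val 0

theorem cls8_facts : (∀ i : Fin 24, ∃ k : Fin 5, CentFive.iterB k.val (rep8 (cls8 (pt i.val))) = i.val) ∧
    ∀ k : Fin 8, rep8 k < 24 := by
  decide +kernel

theorem sum_cls8 (f : Fin 8 → ℤ) :
    ∑ p, f (cls8 p) = f 0 + f 1 + f 2 + f 3 + 5 * f 4 + 5 * f 5 + 5 * f 6 + 5 * f 7 := by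
  have hcard : ∀ j : Fin 8, (Finset.univ.filter fun p => cls8 p = j).card =
      [1, 1, 1, 1, 5, 5, 5, 5].getD j.val 0 := by
    decide +kernel
  rw [← Finset.sum_fiberwise Finset.univ cls8 (fun p => f (cls8 p))]
  have : ∀ j : Fin 8, ∑ p ∈ Finset.univ.filter (fun p => cls8 p = j), f (cls8 p) =
      ([1, 1, 1, 1, 5, 5, 5, 5].getD j.val 0 : ℕ) * f j := by
    intro j
    rw [Finset.sum_congr rfl (fun p hp => congrArg f (Finset.mem_filter.1 hp).2), Finset.sum_const,
      hcard, nsmul_eq_mul]
  simp only [this, Fin.sum_univ_eight]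
  simp

/-- The integers of absolute value at most `b`. -/
def rng (b : ℕ) : List ℤ := (List.range (2 * b + 1)).map fun (i : ℕ) => (i : ℤ) - b

theorem mem_rng {b : ℕ} {x : ℤ} : x ∈ rng b ↔ -(b : ℤ) ≤ x ∧ x ≤ b := by
  simp only [rng, List.mem_map, List.mem_range]
  constructor
  · rintro ⟨i, hi, rfl⟩; omega
  · intro h; exact ⟨(x + b).toNat, by omega, by omega⟩

/-- The vector with given values on the classes. -/
def expand (v : List ℤ) : List ℤ := (List.range 24).map fun i => v.getD (cls8 (pt i)).val 0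

/-- The fixed vectors of norm 64 with the products of the frame vector are among the given ones. -/
def enumOK (ε : ℤ) (xs : List (List ℤ)) : Bool :=
  (rng 3).all fun q1 => (rng 3).all fun q2 => (rng 3).all fun q3 => (rng 3).all fun q4 =>
    let s := 5 * (q1 * q1 + q2 * q2 + q3 * q3 + q4 * q4)
    !decide (s ≤ 64) || (rng 8).all fun A =>
      let B := ε * (8 - A)
      !decide (A * A + B * B + s ≤ 64) || (rng 8).all fun C =>
        let D := 40 - 5 * A - B - C - 5 * (q1 + q2 + q3 + q4)
        !decide (A * A + B * B + C * C + D * D + s = 64) ||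
          !inLB (expand [A, B, C, D, q1, q2, q3, q4]) ||
            decide (expand [A, B, C, D, q1, q2, q3, q4] ∈ xs)

/-- The images of the frame vector under the powers of the third generator. -/
noncomputable def cImages (C : List (List ℤ)) : List (List ℤ) :=
  (List.range 5).map fun j => evalPV (tabs C) (List.replicate j 2) (unitL 23)

/-- The substitution of an exponent and an element of the centraliser. -/
def subst (e j i : ℕ) : List (List ℕ) :=
  [List.replicate e 0, [1], List.replicate j 2 ++ List.replicate i 1]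

/-- All substitutions other than the allowed ones break a relation. -/
noncomputable def coverOK (C : List (List ℤ)) (rel : List (List ℕ × ℕ)) (allowed : List (ℕ × ℕ × ℕ)) (e : ℕ) :
    Bool :=
  (List.range 5).all fun j => (List.range 5).all fun i => decide ((e, j, i) ∈ allowed) ||
    rel.any fun r => killB (tabs C) r.1 r.2 (subst e j i) 23 ||
      killB (tabs C) r.1 r.2 (subst e j i) 1

/-- The checks on the third generator. -/
noncomputable def genOK (ε : ℤ) (C : List (List ℤ)) : Bool :=
  checkMap C && checkMap (transpL C) && (mapV C stdL == stdL) && (mapV C (twoL ε) == twoL ε) &&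
    (evalP (tabs C) [2, 1] == evalP (tabs C) [1, 2]) &&
    (evalP (tabs C) [1, 0] == evalP (tabs C) [0, 0, 0, 1]) &&
    (powM (permMat Golay.cubeTwistTab) 5 == idMat) &&
    (mapV (permMat Golay.doubleTab) stdL == stdL) &&
    (mapV (permMat Golay.doubleTab) (twoL ε) == twoL ε) &&
    (mapV (permMat Golay.cubeTwistTab) stdL == stdL) &&
    (mapV (permMat Golay.cubeTwistTab) (twoL ε) == twoL ε)

variable {G : Type*} [Group G] {ι : G →* Co0} {V : leechLattice} {ε : ℤ}

theorem covers11 : OuterRigid.Covers 11 3 ∧ OuterRigid.PowCovers 11 3 55 := by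
  refine ⟨?_, ?_⟩
  · unfold OuterRigid.Covers; decide +kernel
  · unfold OuterRigid.PowCovers; decide +kernel

theorem vecL_V (hV : (ε = 1 ∧ V = std32) ∨ (ε = -1 ∧ V = Spor.leechU')) :
    vecL (V : GolayPt → ℤ) = twoL ε := by
  rcases hV with ⟨rfl, rfl⟩ | ⟨rfl, rfl⟩
  exacts [vecL_two.1, vecL_two.2]

/-- An element of the image fixing the frame vector is a permutation fixing two points. -/
theorem out_frame (hV : (ε = 1 ∧ V = std32) ∨ (ε = -1 ∧ V = Spor.leechU'))
    (hr : ∀ y : Co0, (∃ g, ι g = y) ↔ y • std48 = std48 ∧ y • V = V) (g : G)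
    (hg : ι g • frame none = frame none) : ∃ σ : M24, σ.1 ∈ Spor.M22 ∧ ι g = permHom σ := by
  obtain ⟨h48, hgV⟩ := (hr _).1 ⟨g, rfl⟩
  obtain ⟨σ, h0, e⟩ := exists_permHom hg h48
  refine ⟨σ, OuterCommon.mem_M22.2 ⟨σ.2, h0, ?_⟩, e⟩
  have hV0 : ∀ p, (V : GolayPt → ℤ) p ≠ 0 ↔ p = none ∨ p = some 0 := by
    rcases hV with ⟨-, rfl⟩ | ⟨-, rfl⟩
    · show ∀ p, Spor.vecU p ≠ 0 ↔ _
      decide +kernel
    · show ∀ p, Spor.vecU' p ≠ 0 ↔ _
      decide +kernel
  rw [e] at hgV
  have := congrFun (congrArg Subtype.val hgV) (σ.1 (some 0))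
  rw [coe_permHom_smul, Equiv.symm_apply_apply] at this
  rcases (hV0 (σ.1 (some 0))).1 (this ▸ (hV0 _).2 (Or.inr rfl)) with e' | e'
  · exact absurd (σ.1.injective (e'.trans h0.symm)) (by simp)
  · exact e'

theorem two_main (hι : Function.Injective ι)
    (hV : (ε = 1 ∧ V = std32) ∨ (ε = -1 ∧ V = Spor.leechU'))
    (hr : ∀ y : Co0, (∃ g, ι g = y) ↔ y • std48 = std48 ∧ y • V = V)
    {N : ℕ} (hN : Nat.card G = 443520 * N) (hp : ¬ 11 ^ 2 ∣ 443520 * N)
    {C : List (List ℤ)} (hC : genOK ε C = true) (henum : enumOK ε (cImages C) = true)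
    {ws ps : List (List ℕ)} {slp : List ℕ} (hws : ws.map (evalP (tabs C)) = ps.map permMat)
    (hslp : evalP (ps.map permMat) slp = permMat Golay.conj22Tab)
    {orb : List (List ℕ)} (horb : (orb.map fun w => evalPV (tabs C) w (unitL 23)).Nodup)
    (hdiv : ∀ m ∈ N.divisors, m % 11 = 1 → m = 1 ∨ N / m < orb.length)
    {rel : List (List ℕ × ℕ)} (hrel : ∀ r ∈ rel, powP (packT (evalP (tabs C) r.1)) r.2 = idMat)
    {allowed : List (ℕ × ℕ × ℕ)} (h1 : coverOK C rel allowed 1 = true)
    (h10 : coverOK C rel allowed 10 = true) :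
    ∃ a b c : G, ([a, b, c].map ι).map rows = tabs C ∧
      Subgroup.closure {x | x ∈ [a, b, c]} = ⊤ ∧ orderOf a = 11 ∧ b * a * b⁻¹ = a ^ 3 ∧
      (∀ y, y * a * y⁻¹ ∈ Subgroup.zpowers a → y ^ 55 = 1) ∧
      (∀ y, y * a = a * y → y ∈ Subgroup.zpowers a) ∧
      ∀ α : MulAut G, ∃ h : G, ∃ e j i, (e, j, i) ∈ allowed ∧
        (MulAut.conj h * α) b = b ∧ (MulAut.conj h * α) a = a ^ e ∧
        (MulAut.conj h * α) c = word [a, b, c] (List.replicate j 2 ++ List.replicate i 1) := by
  haveI := OuterCommon.finiteOfInj hι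
  haveI := finite_Co0 codeUnique
  haveI : Fact (Nat.Prime 11) := ⟨by norm_num⟩
  simp only [genOK, Bool.and_eq_true, beq_iff_eq] at hC
  obtain ⟨⟨⟨⟨⟨⟨⟨⟨⟨⟨hC1, hC2⟩, hC48⟩, hCV⟩, hcb⟩, hba⟩, hb5⟩, ha48⟩, haV⟩, hb48⟩, hbV⟩ := hC
  have hfix : ∀ (y : Co0) (T : List (List ℤ)), rows y = T → mapV T stdL = stdL →
      mapV T (twoL ε) = twoL ε → ∃ g, ι g = y := fun y T e e1 e2 => (hr y).2
    ⟨Subtype.ext (vecL_inj (by rw [← mapV_rows, e, vecL_std48, e1])),
      Subtype.ext (vecL_inj (by rw [← mapV_rows, e, vecL_V hV, e2]))⟩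
  have hta : rows g11 = permMat Golay.doubleTab := rows_permHom (show Tab Golay.double Golay.doubleTab from Golay.tab_permOf _)
  obtain ⟨a, ha⟩ := hfix g11 _ hta ha48 haV
  set σb : M24 := ⟨cubeTwist, Golay.cubeTwist_mem⟩ with hσb
  have htb : rows (permHom σb) = permMat Golay.cubeTwistTab := rows_permHom Golay.tab_cubeTwist
  obtain ⟨b, hb⟩ := hfix _ _ htb hb48 hbV
  obtain ⟨c₀, hc₀⟩ := exists_elem hC1 hC2
  obtain ⟨c, hc⟩ := hfix c₀ _ hc₀ hC48 hCV
  set L := [a, b, c] with hLdef
  have hT : (L.map ι).map rows = tabs C := by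
    simp only [hLdef, List.map_cons, List.map_nil, ha, hb, hc, hta, htb, hc₀, tabs]
  have hLK : ∀ x ∈ L, x ∈ Subgroup.closure {x | x ∈ L} := fun x hx => Subgroup.subset_closure hx
  have hao : orderOf a = 11 := by rw [← orderOf_injective ι hι, ha, orderOf_g11]
  have hbc : c * b = b * c := by
    have := OuterCommon.rel_facts hι hT hcb
    simpa [word, hLdef] using this
  have hrelab : b * a * b⁻¹ = a ^ 3 := by
    have := OuterCommon.rel_facts hι hT hba
    simp [word, hLdef] at this
    rw [mul_inv_eq_iff_eq_mul, this]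
    simp only [pow_succ, pow_zero, one_mul, mul_assoc]
  have hb51 : b ^ 5 = 1 := hι (rows_injective (by
    rw [map_pow, rows_pow, hb, htb, hb5, map_one, rows_one]))
  have hyfix : ∀ y : G, ι y • std48 = std48 ∧
      (ι y • std32 = std32 ∨ ι y • Spor.leechU' = Spor.leechU') := by
    intro y
    obtain ⟨h48, hyV⟩ := (hr _).1 ⟨y, rfl⟩
    rcases hV with ⟨-, rfl⟩ | ⟨-, rfl⟩
    exacts [⟨h48, Or.inl hyV⟩, ⟨h48, Or.inr hyV⟩]
  have hnorm11 : ∀ y, y * a * y⁻¹ ∈ Subgroup.zpowers a →
      (y ^ 55 = 1 ∧ (y * a = a * y → y ∈ Subgroup.zpowers a)) := by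
    intro y hy
    have hy' : ι y * g11 * (ι y)⁻¹ ∈ Subgroup.zpowers g11 := by
      rw [← ha, ← map_inv, ← map_mul, ← map_mul, ← MonoidHom.map_zpowers]
      exact ⟨_, hy, rfl⟩
    obtain ⟨e1, e2⟩ := normalise_11 (hyfix y).1 (hyfix y).2 hy'
    refine ⟨hι (by rw [map_pow, e1, map_one]), fun hc' => ?_⟩
    have := e2 (by rw [← ha, ← map_mul, ← map_mul, hc'])
    rw [← ha, ← MonoidHom.map_zpowers, Subgroup.mem_map] at this
    obtain ⟨z, hz, e⟩ := this
    rwa [← hι e]
  have hcent : ∀ y, y * a = a * y → y ∈ Subgroup.zpowers a := fun y hy =>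
    (hnorm11 y (by rw [hy, mul_inv_cancel_right]; exact Subgroup.mem_zpowers a)).2 hy
  -- generation
  let act : MulAction G leechLattice := MulAction.compHom leechLattice ι
  have hact : ∀ (g : G) (v : leechLattice), g • v = ι g • v := fun _ _ => rfl
  have hout := out_frame hV hr
  have hgen : Subgroup.closure {x | x ∈ L} = ⊤ := by
    set K := Subgroup.closure {x | x ∈ L} with hK
    have hM22 : Spor.M22 ≤ M24 := fun σ hσ => (OuterCommon.mem_M22.1 hσ).1
    have hin : ∀ σ, ∀ h : σ ∈ Spor.M22, ∃ g : G, ι g = permHom ⟨σ, hM22 h⟩ := by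
      intro σ hσ
      obtain ⟨-, h0, h1'⟩ := OuterCommon.mem_M22.1 hσ
      have hs : ∀ p, p = none ∨ p = some 0 → σ.symm p = p := by
        rintro p (rfl | rfl) <;> rw [Equiv.symm_apply_eq] <;> simp [h0, h1']
      have hi : ∀ p, ((σ.symm p = none) ↔ p = none) ∧ ((σ.symm p = some 0) ↔ p = some 0) := fun p =>
        ⟨⟨fun e => by rw [← σ.apply_symm_apply p, e, h0], fun e => by rw [hs p (Or.inl e), e]⟩,
          ⟨fun e => by rw [← σ.apply_symm_apply p, e, h1'], fun e => by rw [hs p (Or.inr e), e]⟩⟩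
      refine (hr _).2 ⟨Subtype.ext (funext fun p => ?_), Subtype.ext (funext fun p => ?_)⟩
      · rw [coe_permHom_smul, coe_std48, coe_std48]
        simp only [(hi p).1]
      · rw [coe_permHom_smul]
        rcases hV with ⟨-, rfl⟩ | ⟨-, rfl⟩
        · show Spor.vecU _ = Spor.vecU _
          simp only [Spor.vecU, (hi p).1, (hi p).2]
        · show Spor.vecU' _ = Spor.vecU' _
          simp only [Spor.vecU', (hi p).1, (hi p).2]
    have hcards := OuterCommon.card_stab_frame hι hact hM22 hin
      (fun σ hσ => (OuterCommon.mem_M22.1 hσ).2.1) hout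
    rw [Golay.card_M22] at hcards
    have hidx : (MulAction.stabilizer G (frame none)).index = N :=
      OuterCommon.index_stab (by rw [hcards]; norm_num) (by rw [hcards, hN])
    have hst : MulAction.stabilizer G (frame none) ≤ K := by
      refine OuterCommon.stab_le hι Golay.M22_eq_closure hout ⟨g11_mem, a, hLK _ (by simp [hLdef]), ha⟩ ?_
      have hm := (OuterCommon.mem_M22.1 (Golay.gens22_mem (by simp : Golay.conjDouble ∈ _))).1
      obtain ⟨x, hx⟩ := hin Golay.conjDouble (Golay.gens22_mem (by simp))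
      exact ⟨hm, x, mem_of_word hι hT hLK (σ := ⟨_, hm⟩)
        (show Tab Golay.conjDouble Golay.conj22Tab from Golay.tab_permOf _) ws ps slp hws hslp hx, hx⟩
    obtain ⟨hd, hmod, horbit⟩ := OuterRigid.index_data (frame none) hao (by rw [hN]; exact hp) hst
      (fun y hy => OuterRigid.mem_of_normalise hao hrelab (hLK _ (by simp [hLdef]))
        (hLK _ (by simp [hLdef])) hy (hnorm11 y hy).1 covers11.2 hcent)
    rw [hidx] at hd horbit
    have hN0 : N ≠ 0 := by rintro rfl; rw [mul_zero] at hN; exact Nat.card_pos.ne' hN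
    rcases hdiv _ (Nat.mem_divisors.2 ⟨hd, hN0⟩) hmod with e | e
    · exact Subgroup.index_eq_one.1 e
    · exfalso
      have hge := orbit_ge hT hact hLK none orb (by
        rwa [show idx none = 23 from rfl])
      have : N / K.index = (MulAction.orbit K (frame none)).ncard := by
        rw [← horbit, Nat.mul_div_cancel _ (Nat.pos_of_ne_zero (by omega))]
      omega
  -- the centraliser of the element of order 5
  have hcentb : ∀ y : G, y * b = b * y → ∃ j < 5, ∃ i < 5,
      y = word L (List.replicate j 2 ++ List.replicate i 1) := by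
    intro y hy
    set x : leechLattice := ι y • frame none with hx
    obtain ⟨h48, hyV⟩ := (hr _).1 ⟨y, rfl⟩
    have hbf : permHom σb • frame none = frame none := by
      rw [← hb]
      refine Subtype.ext (vecL_inj ?_)
      rw [← mapV_rows, hb, htb, vecL_frame]
      decide +kernel
    have hxb : permHom σb • x = x := by
      rw [hx, ← mul_smul, ← hb, ← map_mul, ← hy, map_mul, mul_smul, hb, hbf]
    have hstep : ∀ i, i < 24 →
        (x : GolayPt → ℤ) (pt (Golay.cubeTwistTab.getD i 0)) = (x : GolayPt → ℤ) (pt i) := by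
      intro i hi
      have := congrFun (congrArg Subtype.val hxb) (pt (Golay.cubeTwistTab.getD i 0))
      rw [coe_permHom_smul, ← CentFive.cubeTwist_pt hi, hσb, Equiv.symm_apply_apply] at this
      rw [← CentFive.cubeTwist_pt hi]
      exact this.symm
    set v : Fin 8 → ℤ := fun k => (x : GolayPt → ℤ) (pt (rep8 k)) with hvdef
    have hxv : ∀ p, (x : GolayPt → ℤ) p = v (cls8 p) := by
      intro p
      obtain ⟨k, hk⟩ := cls8_facts.1 ⟨idx p, idx_lt p⟩
      simp only [pt_idx] at hk
      have hit : ∀ n < 5, (x : GolayPt → ℤ) (pt (CentFive.iterB n (rep8 (cls8 p)))) = v (cls8 p) := by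
        intro n hn
        induction n with
        | zero => rfl
        | succ n ih =>
          rw [CentFive.iterB, hstep _ (CentFive.fix_facts.2 ⟨_, cls8_facts.2 _⟩ ⟨n, by omega⟩),
            ih (by omega)]
      rw [← hit k k.2, hk, pt_idx]
    have hf : ∀ p, (frame none : GolayPt → ℤ) p = ![8, 0, 0, 0, 0, 0, 0, 0] (cls8 p) := by
      show ∀ p, (Pi.single none 8 : GolayPt → ℤ) p = _
      simp only [Pi.single_apply]
      decide +kernel
    have h48v : ∀ p, (std48 : GolayPt → ℤ) p = ![5, 1, 1, 1, 1, 1, 1, 1] (cls8 p) := by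
      simp only [coe_std48]; decide +kernel
    have hVv : ∀ p, (V : GolayPt → ℤ) p = ![4, 4 * ε, 0, 0, 0, 0, 0, 0] (cls8 p) := by
      rcases hV with ⟨rfl, rfl⟩ | ⟨rfl, rfl⟩
      · show ∀ p, Spor.vecU p = _
        decide +kernel
      · show ∀ p, Spor.vecU' p = _
        decide +kernel
    have key : ∀ (u : leechLattice) (w : Fin 8 → ℤ), (∀ p, (u : GolayPt → ℤ) p = w (cls8 p)) →
        ι y • u = u → v 0 * w 0 + v 1 * w 1 + v 2 * w 2 + v 3 * w 3 + 5 * (v 4 * w 4) +
          5 * (v 5 * w 5) + 5 * (v 6 * w 6) + 5 * (v 7 * w 7) = 8 * w 0 := by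
      intro u w hw hu
      have h2 := dotInt_smul (ι y) (frame none) u
      rw [hu, ← hx] at h2
      simp only [dotInt_sum, hxv, hw, hf] at h2
      rw [sum_cls8 fun k => v k * w k,
        sum_cls8 fun k => ![(8 : ℤ), 0, 0, 0, 0, 0, 0, 0] k * w k] at h2
      simpa using h2
    have hn : v 0 * v 0 + v 1 * v 1 + v 2 * v 2 + v 3 * v 3 + 5 * (v 4 * v 4) + 5 * (v 5 * v 5) +
        5 * (v 6 * v 6) + 5 * (v 7 * v 7) = 64 := by
      have h2 := sqNorm_smul (ι y) (frame none)
      rw [← hx, ← dotInt_self, ← dotInt_self] at h2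
      simp only [dotInt_sum, hxv, hf] at h2
      rw [sum_cls8 fun k => v k * v k,
        sum_cls8 fun k => ![(8 : ℤ), 0, 0, 0, 0, 0, 0, 0] k * ![(8 : ℤ), 0, 0, 0, 0, 0, 0, 0] k] at h2
      simpa using h2
    have k48 := key std48 _ h48v h48
    have kV := key V _ hVv hyV
    simp at k48 kV
    have hε : ε = 1 ∨ ε = -1 := hV.imp And.left And.left
    have hB : v 1 = ε * (8 - v 0) := by rcases hε with rfl | rfl <;> omega
    have hD : v 3 = 40 - 5 * v 0 - v 1 - v 2 - 5 * (v 4 + v 5 + v 6 + v 7) := by omega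
    have hexp : vecL (x : GolayPt → ℤ) = expand [v 0, v 1, v 2, v 3, v 4, v 5, v 6, v 7] := by
      refine range_map_congr fun i _ => ?_
      rw [hxv]
      have : ∀ k : Fin 8, [v 0, v 1, v 2, v 3, v 4, v 5, v 6, v 7].getD k.val 0 = v k := by
        intro k; fin_cases k <;> rfl
      exact (this _).symm
    have hmem : vecL (x : GolayPt → ℤ) ∈ cImages C := by
      have s0 := mul_self_nonneg (v 0); have s1 := mul_self_nonneg (v 1)
      have s2 := mul_self_nonneg (v 2); have s3 := mul_self_nonneg (v 3)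
      have s4 := mul_self_nonneg (v 4); have s5 := mul_self_nonneg (v 5)
      have s6 := mul_self_nonneg (v 6); have s7 := mul_self_nonneg (v 7)
      simp only [enumOK, List.all_eq_true, Bool.or_eq_true, Bool.not_eq_true', decide_eq_false_iff_not,
        decide_eq_true_eq] at henum
      have m3 : ∀ k ∈ [v 4, v 5, v 6, v 7], k ∈ rng 3 := by
        intro k hk
        rw [mem_rng]
        simp only [List.mem_cons, List.not_mem_nil, or_false] at hk
        rcases hk with rfl | rfl | rfl | rfl <;> constructor <;> push_cast <;> nlinarith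
      have m8 : ∀ k ∈ [v 0, v 2], k ∈ rng 8 := by
        intro k hk
        rw [mem_rng]
        simp only [List.mem_cons, List.not_mem_nil, or_false] at hk
        rcases hk with rfl | rfl <;> constructor <;> push_cast <;> nlinarith
      rcases henum _ (m3 (v 4) (by simp)) _ (m3 (v 5) (by simp)) _ (m3 (v 6) (by simp)) _
        (m3 (v 7) (by simp)) with e | e
      · exact absurd (by linarith) e
      rcases e (v 0) (m8 _ (by simp)) with e' | e'
      · exact absurd (by rw [← hB]; linarith) e'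
      rcases e' (v 2) (m8 _ (by simp)) with (e'' | e'') | e''
      · exact absurd (by rw [← hB, ← hD]; linarith) e''
      · rw [← hB, ← hD, ← hexp, (inLB_vecL _).2 x.2] at e''
        exact Bool.noConfusion e''
      · rwa [← hB, ← hD, ← hexp] at e''
    simp only [cImages, List.mem_map, List.mem_range] at hmem
    obtain ⟨j, hj, hjx⟩ := hmem
    set cj := word L (List.replicate j 2) with hcj
    have hcjx : ι cj • frame none = x := Subtype.ext (vecL_inj (by
      rw [hcj, vecL_word hT, ← hjx, show idx none = 23 from rfl]))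
    set z := cj⁻¹ * y with hz
    have hzf : ι z • frame none = frame none := by
      rw [hz, map_mul, map_inv, mul_smul, ← hx, ← hcjx, inv_smul_smul]
    have hcjb : Commute cj b := by
      rw [hcj, word, List.map_replicate, List.prod_replicate]
      exact Commute.pow_left hbc _
    have hzb : z * b = b * z := (hcjb.inv_left.mul_left hy).eq
    obtain ⟨σ, hσ, hzσ⟩ := hout z hzf
    obtain ⟨hσm, h0, h1'⟩ := OuterCommon.mem_M22.1 hσ
    have hσc : σ.1 * cubeTwist = cubeTwist * σ.1 := by
      have e := congrArg ι hzb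
      rw [map_mul ι z b, map_mul ι b z, hzσ, hb, ← map_mul, ← map_mul] at e
      exact congrArg (fun w : M24 => w.1) (permHom_injective e)
    obtain ⟨m, hm⟩ := Subgroup.mem_zpowers_iff.1 (CentFive.centraliser_five hσm h0 h1' hσc)
    have hzm : z = b ^ m := hι (by
      rw [map_zpow, hb, hzσ, ← map_zpow]
      exact congrArg permHom (Subtype.ext (by rw [SubgroupClass.coe_zpow]; exact hm.symm)))
    refine ⟨j, hj, (m % 5).toNat, by omega, ?_⟩
    rw [word_append, ← hcj, show word L (List.replicate (m % 5).toNat 1) = b ^ (m % 5).toNat by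
      rw [word, List.map_replicate, List.prod_replicate]; rfl]
    rw [← zpow_natCast, Int.toNat_of_nonneg (by omega), show b ^ (m % 5) = b ^ m from (zpow_eq_zpow_emod' m hb51).symm, ← hzm, hz,
      mul_inv_cancel_left]
  refine ⟨a, b, c, hT, hgen, hao, hrelab, fun y hy => (hnorm11 y hy).1, hcent, fun α => ?_⟩
  obtain ⟨h, hβb, hβa⟩ := OuterRigid.normalise (p := 11) (r := 3) (u := 6) (by rw [hN]; exact hp) hao
    hrelab hcent covers11.1 (by norm_num) (by norm_num) α
  set β := MulAut.conj h * α with hβ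
  obtain ⟨e, he, hβe⟩ : ∃ e, (e = 1 ∨ e = 10) ∧ β a = a ^ e := by
    rcases hβa with e' | e'
    · exact ⟨1, Or.inl rfl, by rw [e', pow_one]⟩
    · refine ⟨10, Or.inr rfl, ?_⟩
      rw [e', inv_eq_iff_mul_eq_one, ← pow_succ']
      exact orderOf_dvd_iff_pow_eq_one.1 (by rw [hao])
  obtain ⟨j, hj, i, hi, hji⟩ := hcentb (β c) (by
    calc β c * b = β (c * b) := by rw [map_mul, hβb]
      _ = b * β c := by rw [hbc, map_mul, hβb])
  refine ⟨h, e, j, i, ?_, hβb, hβe, hji⟩
  by_contra hna
  have hcov : coverOK C rel allowed e = true := by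
    rcases he with rfl | rfl
    exacts [h1, h10]
  simp only [coverOK, List.all_eq_true, List.mem_range, Bool.or_eq_true, decide_eq_true_eq,
    List.any_eq_true] at hcov
  rcases hcov j hj i hi with h' | ⟨r, hr', hk⟩
  · exact hna h'
  · have hα : ∀ k < L.length, β.toMonoidHom (L.getD k 1) = word L ((subst e j i).getD k []) := by
      intro k hk3
      simp only [hLdef, List.length_cons, List.length_nil] at hk3
      interval_cases k
      · show β a = word L (List.replicate e 0)
        rw [word, List.map_replicate, List.prod_replicate]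
        exact hβe
      · show β b = word L [1]
        rw [word_singleton]
        exact hβb
      · exact hji
    rcases hk with hk | hk
    · exact kill hι hT β.toMonoidHom hα (hrel r hr') (by norm_num) hk
    · exact kill hι hT β.toMonoidHom hα (hrel r hr') (by norm_num) hk

end Cfsg.Agent.SporStruct.OuterTwo
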