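import Cfsg.Agent.SporStruct.McLInvolData
import Cfsg.Agent.SporStruct.CoPacked
import Cfsg.Agent.SporStruct.OuterTwo
import Cfsg.Agent.Lib.LinearGroup.PSL42

/-!
Checks of the tables for the centraliser of an involution in McL.
-/

set_option autoImplicit false
set_option maxRecDepth 100000

namespace Cfsg.Agent.SporStruct.McLInvolCheck

open Cfsg Cfsg.Agent.Golay CoMatrix OuterTwo McLInvolData

/-- The permutation of the 35 labels in a list. -/
def look (l : List ℕ) (x : Fin 35) : Fin 35 := ⟨l.getD x.val 0 % 35, Nat.mod_lt _ (by norm_num)⟩

/-- The value of a word in the two permutations. -/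
def evalF (w : List ℕ) (x : Fin 35) : Fin 35 :=
  w.foldr (fun j y => look (if j = 0 then permA else permB) y) x

/-- The octads of the code, as masks. -/
def octL : List ℕ := ((List.range 4096).map comb).filter fun n => popc n == 8

/-- The mask is fixed by the involution. -/
def fixB (n : ℕ) : Bool := (List.range 24).all fun i => n.testBit (tTab.getD i 0) == n.testBit i

/-- The fixed octads avoiding both points. -/
def fix0 : List ℕ := octL.filter fun n => fixB n && !n.testBit 23 && !n.testBit 0

/-- A point moved by nothing, in the mask, other than the second one. -/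
def pointB (n k : ℕ) : Bool := n.testBit k && (tTab.getD k 0 == k)

/-- The fixed hexads with a point. -/
def fix16 : List (ℕ × ℕ) := (octL.filter fun n => fixB n && n.testBit 23 && n.testBit 0).flatMap
  fun n => ((List.range' 1 22).filter (pointB n)).map fun k => (n, k)

/-- The fixed octads through the second point with a point. -/
def fix8 : List (ℕ × ℕ) := (octL.filter fun n => fixB n && !n.testBit 23 && n.testBit 0).flatMap
  fun n => ((List.range' 1 22).filter (pointB n)).map fun k => (n, k)

theorem check_perm : isPermTab tTab = true ∧ checkAut tTab = true ∧ comp tTab tTab = idTab ∧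
    tTab ≠ idTab ∧ tTab.getD 23 0 = 23 ∧ tTab.getD 0 0 = 0 := by decide +kernel

theorem check_map : [tabA, tabB, tabQ].all (fun T => checkMap T) = true := by decide +kernel

theorem check_map' : [tabA, tabB, tabQ].all (fun T => checkMap (transpL T)) = true := by
  decide +kernel

theorem check_fix : [tabA, tabB, tabQ].all (fun T =>
    (mapP (packT T) stdL == stdL) && (mapP (packT T) (twoL 1) == twoL 1)) = true := by decide +kernel

theorem check_comm : ∀ T ∈ [tabA, tabB, tabQ],
    mulP (packT T) (permMat tTab) = mulP (packT (permMat tTab)) T := by decide +kernel

theorem check_sq : mulP (packT tabQ) tabQ = permMat tTab := by decide +kernel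

theorem check_vecs : fixV.length = 35 ∧
    fixV.all (fun v => decide (v.length = 24) && inLB v && (mapV (permMat tTab) v == v)) = true ∧
    fixV.Nodup := by decide +kernel

theorem check_act : ∀ x : Fin 35,
    mapV tabA (fixV.getD x.val []) = fixV.getD (look permA x).val [] ∧
    mapV tabB (fixV.getD x.val []) = fixV.getD (look permB x).val [] := by decide +kernel

theorem check_words : ∀ i j : Fin 4, i ≠ j → ∀ x,
    evalF (sigW.getD (4 * i.val + j.val) []) x = LinearGroup.PSL42.sig i j x := by decide +kernel

theorem check_letters : sigW.all (fun w => w.all fun j => decide (j < 2)) = true := by decide +kernel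

theorem check_count : 1 + fix0.length + fix16.length + fix8.length ≤ 105 := by decide +kernel

end Cfsg.Agent.SporStruct.McLInvolCheck
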