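import Cfsg.Agent.SporStruct.LeechMcL
import Cfsg.Agent.SporStruct.OctadStab
import Cfsg.Agent.SporStruct.M24Classes
import Cfsg.Agent.SporStruct.M24Counts

/-!
The action of the stabiliser of two minimal vectors with product `-8` on 2025 minimal vectors:
in standard position the stabiliser of one of them acts as `M22` on 330 octads, 462 hexads with a
point and 1232 pairs of an octad and a point.
-/

set_option autoImplicit false

namespace Cfsg.Agent.SporStruct.Pts2025

open Cfsg Cfsg.Agent.Leech Cfsg.Agent.Golay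
open scoped Pointwise

abbrev P : GolayPt := some 0

/-- The second vector in standard position. -/
def W : leechLattice := ⟨neg3 P, (neg3_mem P).1⟩

theorem coe_W : (W : GolayPt → ℤ) = neg3 P := rfl

theorem dot_W (x : GolayPt → ℤ) : dotInt (W : GolayPt → ℤ) x = (∑ i, x i) - 4 * x P := by
  have e : ∀ i, neg3 P i * x i = x i - if i = P then 4 * x P else 0 := fun i => by
    simp only [neg3]
    split_ifs with h
    · subst h; ring
    · ring
  rw [coe_W]
  simp only [dotInt, Finset.sum_congr rfl fun i _ => e i, Finset.sum_sub_distrib, sum_single_if]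

theorem dot_std32 (x : GolayPt → ℤ) :
    dotInt (std32 : GolayPt → ℤ) x = 4 * x none + 4 * x P := (dot_sub_std x).1

theorem dot_X0 (x : GolayPt → ℤ) :
    dotInt (std32' : GolayPt → ℤ) x = 4 * x none - 4 * x P := (dot_sub_std x).2

/-- The 2025 vectors in standard position. -/
def Pred (x : GolayPt → ℤ) : Prop :=
  x ∈ leechLattice ∧ sqNorm x = 32 ∧ dotInt (std32 : GolayPt → ℤ) x = 0 ∧
    dotInt (W : GolayPt → ℤ) x = 16

theorem none_ne_P : (none : GolayPt) ≠ P := by simp [P]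

theorem pred_X0 : Pred (std32' : GolayPt → ℤ) ∧
    dotInt (std32' : GolayPt → ℤ) (std32' : GolayPt → ℤ) = 32 := by
  have e1 : (std32' : GolayPt → ℤ) none = 4 := by rw [coe_std32']; exact four_apply_left (by simp) _ _
  have e2 : (std32' : GolayPt → ℤ) P = -4 := by rw [coe_std32']; exact four_apply_right (by simp) _ _
  refine ⟨⟨std32'.2, sqNorm_std32', ?_, ?_⟩, ?_⟩
  · rw [dot_std32, e1, e2]; norm_num
  · rw [dot_W, e2, coe_std32', sum_four]; norm_num
  · rw [dot_X0, e1, e2]; norm_num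

theorem pred_twos {o : Finset GolayPt} (ho : o ∈ octads) (hn : none ∉ o) (hp : P ∉ o) :
    Pred (twos o) ∧ dotInt (std32' : GolayPt → ℤ) (twos o) = 0 := by
  refine ⟨⟨(twos_mem ho).1, (twos_mem ho).2, ?_, ?_⟩, ?_⟩
  · rw [dot_std32, twos_of_notMem hn, twos_of_notMem hp]; norm_num
  · rw [dot_W, sum_twos, ho.2, twos_of_notMem hp]; norm_num
  · rw [dot_X0, twos_of_notMem hn, twos_of_notMem hp]; norm_num

theorem pred_twosNeg {o : Finset GolayPt} {k : GolayPt} (ho : o ∈ octads) (hn : none ∈ o)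
    (hp : P ∈ o) (hk : k ∈ o) (hkn : k ≠ none) (hkp : k ≠ P) :
    Pred (twosNeg o P k) ∧ dotInt (std32' : GolayPt → ℤ) (twosNeg o P k) = 16 := by
  have e1 : twosNeg o P k none = 2 := by
    simp [twosNeg, four, twos_of_mem hn, hkn.symm, P]
  have e2 : twosNeg o P k P = -2 := by
    simp [twosNeg, four, twos_of_mem hp, hkp.symm]
  refine ⟨⟨(twosNeg_mem ho hp hk hkp.symm).1, (twosNeg_mem ho hp hk hkp.symm).2, ?_, ?_⟩, ?_⟩
  · rw [dot_std32, e1, e2]; norm_num
  · rw [dot_W, sum_twosNeg, ho.2, e2]; norm_num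
  · rw [dot_X0, e1, e2]; norm_num

theorem pred_three {o : Finset GolayPt} {i : GolayPt} (ho : o ∈ octads) (hn : none ∉ o)
    (hp : P ∈ o) (hi : i ∈ o) (hip : i ≠ P) :
    Pred (threeVec o i) ∧ dotInt (std32' : GolayPt → ℤ) (threeVec o i) = 8 := by
  have e1 : threeVec o i none = 1 := threeVec_of_notMem hn (fun h => hn (h ▸ hi))
  have e2 : threeVec o i P = -1 := threeVec_of_mem hp hip.symm
  refine ⟨⟨(threeVec_mem ho hi).1, (threeVec_mem ho hi).2, ?_, ?_⟩, ?_⟩
  · rw [dot_std32, e1, e2]; norm_num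
  · rw [dot_W, sum_threeVec, ho.2, e2]; norm_num
  · rw [dot_X0, e1, e2]; norm_num

theorem pred_cases {x : GolayPt → ℤ} (h : Pred x) :
    x = (std32' : GolayPt → ℤ) ∨
      (∃ o ∈ octads, none ∉ o ∧ P ∉ o ∧ x = twos o) ∨
      (∃ o ∈ octads, ∃ k ∈ o, none ∈ o ∧ P ∈ o ∧ k ≠ none ∧ k ≠ P ∧ x = twosNeg o P k) ∨
      ∃ o ∈ octads, ∃ i ∈ o, none ∉ o ∧ P ∈ o ∧ i ≠ P ∧ x = threeVec o i := by
  obtain ⟨hx, hn, h32, hW⟩ := h
  rw [dot_std32] at h32
  rw [dot_W] at hW
  rcases shape32 hx hn with ⟨a, b, hab, hxa, hxb, h0⟩ | ⟨o, ho, h2, h0⟩ | ⟨a, hxa, h1⟩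
  · left
    have vals : ∀ p, x p = 0 ∨ x p = 4 ∨ x p = -4 := fun p => by
      by_cases e1 : p = a
      · subst e1; omega
      · by_cases e2 : p = b
        · subst e2; omega
        · exact Or.inl (h0 p e1 e2)
    have hsum : ∑ i, x i = x a + x b := Finset.sum_eq_add_of_mem a b (Finset.mem_univ a)
      (Finset.mem_univ b) hab fun i _ hi => h0 i hi.1 hi.2
    have hvn := vals none
    have hvp := vals P
    have hn4 : x none = 4 := by omega
    obtain ⟨j, hj, hxj, hx4⟩ := coord_four_any hx hn (p := none) (Or.inl hn4)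
    have hjP : j = P := by
      by_contra hjp
      have : x P = 0 := by
        rw [hx4]
        simp [four, Ne.symm hjp, P]
      omega
    subst hjP
    rw [hx4, coe_std32', hn4, show x P = -4 by omega]
  · obtain ⟨hle, heq⟩ := sum_neg_bound h2 h0
    rw [ho.2] at hle heq
    by_cases hp : P ∈ o
    · right; right; left
      have hno : none ∈ o := by_contra fun e => by have := h0 _ e; have := h2 _ hp; omega
      have h2p := h2 _ hp
      have hxp : x P = -2 := by omega
      have hxn : x none = 2 := by omega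
      set x' : GolayPt → ℤ := fun i => x i + if i = P then 4 else 0 with hx'
      have h2' : ∀ i ∈ o, x' i = 2 ∨ x' i = -2 := fun i hi => by
        have := h2 i hi
        by_cases e : i = P
        · subst e; simp [hx', hxp]
        · simp [hx', e, this]
      have h0' : ∀ i, i ∉ o → x' i = 0 := fun i hi => by
        have e : i ≠ P := fun e => hi (e ▸ hp)
        simp [hx', e, h0 i hi]
      have hs' : ∑ i, x' i = 12 := by
        simp only [hx', Finset.sum_add_distrib, sum_single_if]; omega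
      obtain ⟨k, hk, hxk⟩ : ∃ k ∈ o, x' k = -2 := by
        by_contra hc
        push Not at hc
        have e : x' = twos o := funext fun i => by
          by_cases hi : i ∈ o
          · rw [twos_of_mem hi]; exact (h2' i hi).resolve_right (hc i hi)
          · rw [twos_of_notMem hi, h0' i hi]
        rw [e, sum_twos, ho.2] at hs'
        norm_num at hs'
      have hkp : k ≠ P := fun e => by subst e; simp [hx', hxp] at hxk
      have hxk' : x k = -2 := by simpa [hx', hkp] using hxk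
      have hkn : k ≠ none := fun e => by subst e; omega
      set y : GolayPt → ℤ := fun i => x' i + if i = k then 4 else 0 with hy
      have hsy : ∑ i, y i = 2 * (8 : ℤ) := by
        simp only [hy, Finset.sum_add_distrib, sum_single_if, hs']; norm_num
      have hy2 : ∀ i ∈ o, y i = 2 ∨ y i = -2 := fun i hi => by
        by_cases e : i = k
        · subst e; simp [hy, hxk]
        · simp [hy, e, h2' i hi]
      have hy0 : ∀ i, i ∉ o → y i = 0 := fun i hi => by
        have e : i ≠ k := fun e => hi (e ▸ hk)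
        simp [hy, e, h0' i hi]
      have hyo : y = twos o := (sum_neg_bound hy2 hy0).2 (by rw [hsy, ho.2]; norm_num)
      refine ⟨o, ho, k, hk, hno, hp, hkn, hkp, funext fun i => ?_⟩
      have := congrFun hyo i
      simp only [hy, hx'] at this
      simp only [twosNeg, four, Pi.sub_apply, Pi.add_apply, Pi.single_apply]
      omega
    · right; left
      have hxp := h0 _ hp
      have hno : none ∉ o := fun e => by have := h2 _ e; omega
      exact ⟨o, ho, hno, hp, heq (by push_cast; omega)⟩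
  · right; right; right
    obtain ⟨N, hN, hval, hiff⟩ := shape3_data hx hxa h1
    have hsum := sum_shape3 hval
    have hw := code_weights N hN
    simp only [List.mem_cons, List.not_mem_nil, or_false] at hw
    have hap : a ≠ P := fun e => by
      subst e
      have := h1 none none_ne_P
      omega
    have han : a ≠ none := fun e => by
      subst e
      have := h1 P none_ne_P.symm
      omega
    have hvp := hval P hap.symm
    have hvn := hval none han.symm
    have hpn : x P = 1 ∨ x P = -1 := h1 P hap.symm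
    by_cases haN : a ∈ N
    · have hxa3 : x a = 3 := hiff.1 haN
      have ha1 : bit N a = 1 := by simp [bit, haN]
      rw [ha1, hxa3] at hsum
      have hN8 : N.card = 8 := by
        have : 0 < N.card := Finset.card_pos.2 ⟨a, haN⟩
        omega
      have hxp : x P = -1 := by omega
      have hP : P ∈ N := by_contra fun e => by simp [bit, e] at hvp; omega
      have hno : none ∉ N := fun e => by simp [bit, e] at hvn; omega
      refine ⟨N, ⟨hN, hN8⟩, a, haN, hno, hP, hap, funext fun i => ?_⟩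
      by_cases hi : i = a
      · subst hi; simp [threeVec, bit, haN, hxa3]
      · simp [threeVec, hi, hval i hi]
    · exfalso
      have hxa3 : x a = -3 := hxa.resolve_left fun e => haN (hiff.2 e)
      have ha0 : bit N a = 0 := by simp [bit, haN]
      rw [ha0, hxa3] at hsum
      have hN0 : N.card = 0 := by omega
      rw [Finset.card_eq_zero] at hN0
      subst hN0
      simp [bit] at hvp hvn
      omega

/-! ### The orbits of the stabiliser -/

theorem permElt_fix {σ : M24} (h1 : σ.1 none = none) (h2 : σ.1 P = P) :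
    permElt σ • std32 = std32 ∧ permElt σ • W = W ∧ permElt σ • std32' = std32' := by
  refine ⟨Subtype.ext ?_, Subtype.ext (funext fun i => ?_), Subtype.ext ?_⟩
  · rw [permElt_four none P 4 4 coe_std32, h1, h2, coe_std32]
  · have e : σ.1.symm i = P ↔ i = P := by rw [Equiv.symm_apply_eq, h2]
    rw [coe_permElt_smul, coe_W]
    simp only [neg3, e]
  · rw [permElt_four none P 4 (-4) coe_std32', h1, h2, coe_std32']

theorem perm_twos (σ : M24) {y : leechLattice} {o : Finset GolayPt}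
    (hy : (y : GolayPt → ℤ) = twos o) :
    ((permElt σ • y : leechLattice) : GolayPt → ℤ) = twos (σ.1 • o) := by
  funext i
  rw [coe_permElt_smul, hy]
  simp only [twos, bit, M24.mem_smul_iff, Equiv.Perm.coe_inv]

theorem perm_twosNeg {σ : M24} (h2 : σ.1 P = P) {y : leechLattice} {o : Finset GolayPt}
    {k : GolayPt} (hy : (y : GolayPt → ℤ) = twosNeg o P k) :
    ((permElt σ • y : leechLattice) : GolayPt → ℤ) = twosNeg (σ.1 • o) P (σ.1 k) := by
  funext i
  have e1 : σ.1.symm i = P ↔ i = P := by rw [Equiv.symm_apply_eq, h2]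
  have e2 : σ.1.symm i = k ↔ i = σ.1 k := Equiv.symm_apply_eq _
  rw [coe_permElt_smul, hy]
  simp only [twosNeg, four, twos, bit, Pi.sub_apply, Pi.add_apply, Pi.single_apply,
    M24.mem_smul_iff, Equiv.Perm.coe_inv, e1, e2]

theorem perm_three (σ : M24) {y : leechLattice} {o : Finset GolayPt} {k : GolayPt}
    (hy : (y : GolayPt → ℤ) = threeVec o k) :
    ((permElt σ • y : leechLattice) : GolayPt → ℤ) = threeVec (σ.1 • o) (σ.1 k) := by
  funext i
  have e2 : σ.1.symm i = k ↔ i = σ.1 k := Equiv.symm_apply_eq _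
  rw [coe_permElt_smul, hy]
  simp only [threeVec, bit, M24.mem_smul_iff, Equiv.Perm.coe_inv, e2]

theorem exists_frame_avoid {o : Finset GolayPt} (ho : o ∈ octads) (hn : none ∉ o) (hp : P ∉ o) :
    ∃ w ∈ octads, ∃ a b c d q : GolayPt, [none, P, a, b, c, d, q].Nodup ∧
      none ∈ w ∧ P ∈ w ∧ (a ∈ w ∧ b ∈ w ∧ c ∈ w ∧ d ∈ w) ∧ q ∉ w ∧
      (a ∈ o ∧ b ∈ o ∧ c ∈ o ∧ d ∈ o ∧ q ∈ o) := by
  obtain ⟨T, hTo, hT⟩ := Finset.exists_subset_card_eq (s := o) (n := 3) (by rw [ho.2]; norm_num)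
  have hpT : P ∉ T := fun h => hp (hTo h)
  have hnT : none ∉ insert P T := fun h => by
    rcases Finset.mem_insert.1 h with h | h
    · exact none_ne_P h
    · exact hn (hTo h)
  obtain ⟨w, hw, hsub⟩ := exists_octad (s := insert none (insert P T))
    (by rw [Finset.card_insert_of_notMem hnT, Finset.card_insert_of_notMem hpT, hT])
  simp only [Finset.insert_subset_iff] at hsub
  have h4 : (w ∩ o).card = 4 := by
    have h3 : 3 ≤ (w ∩ o).card := hT ▸ Finset.card_le_card (Finset.subset_inter hsub.2.2 hTo)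
    rcases M24.octad_inter_card hw ho with h | h | h | h
    · omega
    · omega
    · exact h
    · exact absurd (h ▸ hsub.1) hn
  obtain ⟨a, b, c, d, hab, hac, had, hbc, hbd, hcd, he⟩ := Finset.card_eq_four.1 h4
  have hm : ∀ x ∈ ({a, b, c, d} : Finset GolayPt), x ∈ w ∧ x ∈ o := fun x hx => by
    rwa [← he, Finset.mem_inter] at hx
  obtain ⟨ha, ha'⟩ := hm a (by simp)
  obtain ⟨hb, hb'⟩ := hm b (by simp)
  obtain ⟨hc, hc'⟩ := hm c (by simp)
  obtain ⟨hd, hd'⟩ := hm d (by simp)
  obtain ⟨q, hq, hqw⟩ : ∃ q ∈ o, q ∉ w := by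
    by_contra hcon
    push Not at hcon
    have := Finset.card_le_card (Finset.subset_inter hcon (Finset.Subset.refl o))
    rw [h4, ho.2] at this
    omega
  refine ⟨w, hw, a, b, c, d, q, ?_, hsub.1, hsub.2.1, ⟨ha, hb, hc, hd⟩, hqw,
    ha', hb', hc', hd', hq⟩
  have e : ∀ {u v : GolayPt}, u ∉ o → v ∈ o → u ≠ v := fun hu hv h => hu (h ▸ hv)
  have e' : ∀ {u : GolayPt}, u ∈ w → u ≠ q := fun hu h => hqw (h ▸ hu)
  simp [hab, hac, had, hbc, hbd, hcd, e hn ha', e hn hb', e hn hc', e hn hd', e hn hq, e hp ha',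
    e hp hb', e hp hc', e hp hd', e hp hq, e' ha, e' hb, e' hc, e' hd, none_ne_P]

theorem five_eq {o o' : Finset GolayPt} (ho : o ∈ octads) (ho' : o' ∈ octads) {L : List GolayPt}
    (hL : L.Nodup) (h5 : L.length = 5) (h : ∀ x ∈ L, x ∈ o) (h' : ∀ x ∈ L, x ∈ o') : o = o' :=
  octad_unique ho ho' (s := L.toFinset) (by rw [List.toFinset_card_of_nodup hL, h5])
    (fun x hx => h x (List.mem_toFinset.1 hx)) (fun x hx => h' x (List.mem_toFinset.1 hx))

theorem trans_avoid {o o' : Finset GolayPt} (ho : o ∈ octads) (hn : none ∉ o) (hp : P ∉ o)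
    (ho' : o' ∈ octads) (hn' : none ∉ o') (hp' : P ∉ o') :
    ∃ σ : M24, σ.1 none = none ∧ σ.1 P = P ∧ σ.1 • o = o' := by
  obtain ⟨w, hw, a, b, c, d, q, hnd, wn, wp, ⟨wa, wb, wc, wd⟩, wq, oa, ob, oc, od, oq⟩ :=
    exists_frame_avoid ho hn hp
  obtain ⟨w', hw', a', b', c', d', q', hnd', wn', wp', ⟨wa', wb', wc', wd'⟩, wq',
    oa', ob', oc', od', oq'⟩ := exists_frame_avoid ho' hn' hp'
  obtain ⟨g, hg, -, hgj⟩ := M24.exists_map_frames (fun j => [none, P, a, b, c, d, q].getD j none)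
    (fun j => [none, P, a', b', c', d', q'].getD j none) hw hw'
    (fun j k hj hk h => M24.getD_inj hnd none (by simp; omega) (by simp; omega) h)
    (fun j k hj hk h => M24.getD_inj hnd' none (by simp; omega) (by simp; omega) h)
    (fun j hj => by interval_cases j <;> simp [wn, wp, wa, wb, wc, wd])
    (fun j hj => by interval_cases j <;> simp [wn', wp', wa', wb', wc', wd'])
    (by simpa using wq) (by simpa using wq')
  refine ⟨⟨g, hg⟩, hgj 0 (by norm_num), hgj 1 (by norm_num), ?_⟩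
  show g • o = o'
  have ea : g a = a' := hgj 2 (by norm_num)
  have eb : g b = b' := hgj 3 (by norm_num)
  have ec : g c = c' := hgj 4 (by norm_num)
  have ed : g d = d' := hgj 5 (by norm_num)
  have eq : g q = q' := hgj 6 (by norm_num)
  refine five_eq (smul_mem_octads hg ho) ho' (L := [a', b', c', d', q']) ?_ rfl ?_ ?_
  · exact (List.nodup_cons.1 (List.nodup_cons.1 hnd').2).2
  · simp [← ea, ← eb, ← ec, ← ed, ← eq, M24.apply_mem_smul, oa, ob, oc, od, oq]
  · simp [oa', ob', oc', od', oq']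

theorem exists_hexad_list {o : Finset GolayPt} {k : GolayPt} (ho : o ∈ octads) (hn : none ∈ o)
    (hp : P ∈ o) (hk : k ∈ o) (hkn : k ≠ none) (hkp : k ≠ P) :
    ∃ a b : GolayPt, [none, P, k, a, b].Nodup ∧ ∀ x ∈ [none, P, k, a, b], x ∈ o := by
  obtain ⟨a, ha, b, hb, hab⟩ := (Finset.one_lt_card (s := o \ {none, P, k})).1 (by
    have := Finset.le_card_sdiff ({none, P, k} : Finset GolayPt) o
    have h3 := Finset.card_le_three (a := (none : GolayPt)) (b := P) (c := k)
    rw [ho.2] at this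
    omega)
  simp only [Finset.mem_sdiff, Finset.mem_insert, Finset.mem_singleton, not_or] at ha hb
  refine ⟨a, b, ?_, by simp [hn, hp, hk, ha.1, hb.1]⟩
  simp [none_ne_P, hkn.symm, hkp.symm, Ne.symm ha.2.1, Ne.symm ha.2.2.1, Ne.symm ha.2.2.2,
    Ne.symm hb.2.1, Ne.symm hb.2.2.1, Ne.symm hb.2.2.2, hab]

theorem trans_hexad {o o' : Finset GolayPt} {k k' : GolayPt} (ho : o ∈ octads) (hn : none ∈ o)
    (hp : P ∈ o) (hk : k ∈ o) (hkn : k ≠ none) (hkp : k ≠ P)
    (ho' : o' ∈ octads) (hn' : none ∈ o')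
    (hp' : P ∈ o') (hk' : k' ∈ o') (hkn' : k' ≠ none) (hkp' : k' ≠ P) :
    ∃ σ : M24, σ.1 none = none ∧ σ.1 P = P ∧ σ.1 • o = o' ∧ σ.1 k = k' := by
  obtain ⟨a, b, hnd, hin⟩ := exists_hexad_list ho hn hp hk hkn hkp
  obtain ⟨a', b', hnd', hin'⟩ := exists_hexad_list ho' hn' hp' hk' hkn' hkp'
  obtain ⟨g, hg, hmap⟩ := M24.exists_map_list hnd hnd' rfl (by simp)
  simp only [List.map_cons, List.map_nil, List.cons.injEq, and_true] at hmap
  refine ⟨⟨g, hg⟩, hmap.1, hmap.2.1, ?_, hmap.2.2.1⟩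
  show g • o = o'
  refine five_eq (smul_mem_octads hg ho) ho' hnd' rfl ?_ hin'
  intro x hx
  simp only [List.mem_cons, List.not_mem_nil, or_false] at hx
  rcases hx with rfl | rfl | rfl | rfl | rfl
  · rw [← hmap.1, M24.apply_mem_smul]; exact hn
  · rw [← hmap.2.1, M24.apply_mem_smul]; exact hp
  · rw [← hmap.2.2.1, M24.apply_mem_smul]; exact hk
  · rw [← hmap.2.2.2.1, M24.apply_mem_smul]; exact hin _ (by simp)
  · rw [← hmap.2.2.2.2, M24.apply_mem_smul]; exact hin _ (by simp)

theorem exists_octad_list {o : Finset GolayPt} {i : GolayPt} (ho : o ∈ octads) (hn : none ∉ o)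
    (hp : P ∈ o) (hi : i ∈ o) (hip : i ≠ P) :
    ∃ a b c : GolayPt, [none, P, i, a, b, c].Nodup ∧
      (∀ x ∈ [P, i, a, b, c], x ∈ o) ∧
      ¬ ∃ w ∈ octads, ∀ x ∈ [none, P, i, a, b, c], x ∈ w := by
  obtain ⟨T, hT, hTc⟩ := Finset.exists_subset_card_eq (s := o \ {P, i}) (n := 3) (by
    have := Finset.le_card_sdiff ({P, i} : Finset GolayPt) o
    have h2 := Finset.card_le_two (a := P) (b := i)
    rw [ho.2] at this
    omega)
  obtain ⟨a, b, c, hab, hac, hbc, rfl⟩ := Finset.card_eq_three.1 hTc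
  simp only [Finset.insert_subset_iff, Finset.singleton_subset_iff, Finset.mem_sdiff,
    Finset.mem_insert, Finset.mem_singleton, not_or] at hT
  obtain ⟨⟨ha, haP, hai⟩, ⟨hb, hbP, hbi⟩, hc, hcP, hci⟩ := hT
  have hin : ∀ x ∈ [P, i, a, b, c], x ∈ o := by simp [hp, hi, ha, hb, hc]
  have hnd : [P, i, a, b, c].Nodup := by
    simp [hip.symm, Ne.symm haP, Ne.symm hbP, Ne.symm hcP, Ne.symm hai, Ne.symm hbi, Ne.symm hci,
      hab, hac, hbc]
  have e : ∀ x ∈ [P, i, a, b, c], none ≠ x := fun x hx h => hn (h ▸ hin x hx)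
  refine ⟨a, b, c, List.nodup_cons.2 ⟨fun h => e none h rfl, hnd⟩, hin, ?_⟩
  rintro ⟨w, hw, hall⟩
  exact hn (five_eq hw ho hnd rfl (fun x hx => hall x (List.mem_cons_of_mem _ hx)) hin ▸
    hall none (by simp))

theorem trans_octad {o o' : Finset GolayPt} {i i' : GolayPt} (ho : o ∈ octads) (hn : none ∉ o)
    (hp : P ∈ o) (hi : i ∈ o) (hip : i ≠ P) (ho' : o' ∈ octads) (hn' : none ∉ o')
    (hp' : P ∈ o') (hi' : i' ∈ o') (hip' : i' ≠ P) :
    ∃ σ : M24, σ.1 none = none ∧ σ.1 P = P ∧ σ.1 • o = o' ∧ σ.1 i = i' := by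
  obtain ⟨a, b, c, hnd, hin, hout⟩ := exists_octad_list ho hn hp hi hip
  obtain ⟨a', b', c', hnd', hin', hout'⟩ := exists_octad_list ho' hn' hp' hi' hip'
  obtain ⟨g, hg, hmap⟩ := M24.exists_map_list_six_out hnd hnd' rfl rfl hout hout'
  simp only [List.map_cons, List.map_nil, List.cons.injEq, and_true] at hmap
  refine ⟨⟨g, hg⟩, hmap.1, hmap.2.1, ?_, hmap.2.2.1⟩
  show g • o = o'
  refine five_eq (smul_mem_octads hg ho) ho' (List.nodup_cons.1 hnd').2 rfl ?_ hin'
  intro x hx
  simp only [List.mem_cons, List.not_mem_nil, or_false] at hx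
  rcases hx with rfl | rfl | rfl | rfl | rfl
  · rw [← hmap.2.1, M24.apply_mem_smul]; exact hp
  · rw [← hmap.2.2.1, M24.apply_mem_smul]; exact hi
  · rw [← hmap.2.2.2.1, M24.apply_mem_smul]; exact hin _ (by simp)
  · rw [← hmap.2.2.2.2.1, M24.apply_mem_smul]; exact hin _ (by simp)
  · rw [← hmap.2.2.2.2.2, M24.apply_mem_smul]; exact hin _ (by simp)

/-- Vectors with the same product with `std32'` are in one orbit. -/
theorem trans_std {y y' : leechLattice} (hy : Pred (y : GolayPt → ℤ))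
    (hy' : Pred (y' : GolayPt → ℤ))
    (h : dotInt (std32' : GolayPt → ℤ) (y : GolayPt → ℤ) =
      dotInt (std32' : GolayPt → ℤ) (y' : GolayPt → ℤ)) :
    ∃ g : Co0, g • std32 = std32 ∧ g • W = W ∧ g • std32' = std32' ∧ g • y = y' := by
  rcases pred_cases hy with e | ⟨o, ho, a1, a2, e⟩ | ⟨o, ho, k, hk, a1, a2, a3, a4, e⟩ |
      ⟨o, ho, k, hk, a1, a2, a3, e⟩ <;>
    rcases pred_cases hy' with e' | ⟨o', ho', b1, b2, e'⟩ | ⟨o', ho', k', hk', b1, b2, b3, b4, e'⟩ |
      ⟨o', ho', k', hk', b1, b2, b3, e'⟩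
  · exact ⟨1, one_smul _ _, one_smul _ _, one_smul _ _,
      by rw [one_smul]; exact Subtype.ext (e.trans e'.symm)⟩
  · rw [e, e', pred_X0.2, (pred_twos ho' b1 b2).2] at h; omega
  · rw [e, e', pred_X0.2, (pred_twosNeg ho' b1 b2 hk' b3 b4).2] at h; omega
  · rw [e, e', pred_X0.2, (pred_three ho' b1 b2 hk' b3).2] at h; omega
  · rw [e, e', pred_X0.2, (pred_twos ho a1 a2).2] at h; omega
  · obtain ⟨σ, s1, s2, s3⟩ := trans_avoid ho a1 a2 ho' b1 b2
    obtain ⟨p1, p2, p3⟩ := permElt_fix s1 s2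
    exact ⟨permElt σ, p1, p2, p3, Subtype.ext (by rw [perm_twos σ e, s3, e'])⟩
  · rw [e, e', (pred_twos ho a1 a2).2, (pred_twosNeg ho' b1 b2 hk' b3 b4).2] at h; omega
  · rw [e, e', (pred_twos ho a1 a2).2, (pred_three ho' b1 b2 hk' b3).2] at h; omega
  · rw [e, e', pred_X0.2, (pred_twosNeg ho a1 a2 hk a3 a4).2] at h; omega
  · rw [e, e', (pred_twosNeg ho a1 a2 hk a3 a4).2, (pred_twos ho' b1 b2).2] at h; omega
  · obtain ⟨σ, s1, s2, s3, s4⟩ := trans_hexad ho a1 a2 hk a3 a4 ho' b1 b2 hk' b3 b4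
    obtain ⟨p1, p2, p3⟩ := permElt_fix s1 s2
    exact ⟨permElt σ, p1, p2, p3, Subtype.ext (by rw [perm_twosNeg s2 e, s3, s4, e'])⟩
  · rw [e, e', (pred_twosNeg ho a1 a2 hk a3 a4).2, (pred_three ho' b1 b2 hk' b3).2] at h; omega
  · rw [e, e', pred_X0.2, (pred_three ho a1 a2 hk a3).2] at h; omega
  · rw [e, e', (pred_three ho a1 a2 hk a3).2, (pred_twos ho' b1 b2).2] at h; omega
  · rw [e, e', (pred_three ho a1 a2 hk a3).2, (pred_twosNeg ho' b1 b2 hk' b3 b4).2] at h; omega
  · obtain ⟨σ, s1, s2, s3, s4⟩ := trans_octad ho a1 a2 hk a3 ho' b1 b2 hk' b3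
    obtain ⟨p1, p2, p3⟩ := permElt_fix s1 s2
    exact ⟨permElt σ, p1, p2, p3, Subtype.ext (by rw [perm_three σ e, s3, s4, e'])⟩

/-! ### Counts -/

theorem card_through_one (p : GolayPt) : (blocksThrough octads {p}).card = 253 := by
  have := M24.card_octadsThrough_mul (s := ({p} : Finset GolayPt)) (by simp)
  rw [Finset.card_singleton] at this
  norm_num [Nat.choose] at this
  omega

theorem card_through_pair : (blocksThrough octads {(none : GolayPt), P}).card = 77 := by
  have := M24.card_octadsThrough_mul (s := ({none, P} : Finset GolayPt)) (by simp [none_ne_P])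
  rw [Finset.card_pair none_ne_P] at this
  norm_num [Nat.choose] at this
  omega

theorem card_P_only : ((blocksThrough octads {P}).filter (none ∉ ·)).card = 176 := by
  have h := Finset.card_filter_add_card_filter_not (s := blocksThrough octads {P})
    (fun o => (none : GolayPt) ∈ o)
  have e : (blocksThrough octads {P}).filter (fun o => (none : GolayPt) ∈ o) =
      blocksThrough octads {(none : GolayPt), P} := by
    ext o
    simp only [Finset.mem_filter, mem_blocksThrough, Finset.insert_subset_iff,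
      Finset.singleton_subset_iff]
    tauto
  rw [e, card_through_pair, card_through_one] at h
  omega

noncomputable def avoid : Finset (Finset GolayPt) :=
  ((blocksThrough octads ∅).filter (P ∉ ·)).filter (none ∉ ·)

theorem mem_avoid {o : Finset GolayPt} : o ∈ avoid ↔ o ∈ octads ∧ none ∉ o ∧ P ∉ o := by
  simp [avoid, mem_blocksThrough]
  tauto

theorem card_avoid : avoid.card = 330 := by
  have h0 : (blocksThrough octads (∅ : Finset GolayPt)).card = 759 := by
    have := M24.card_octadsThrough_mul (s := (∅ : Finset GolayPt)) (by simp)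
    rw [Finset.card_empty] at this
    norm_num [Nat.choose] at this
    omega
  have h1 := Finset.card_filter_add_card_filter_not (s := blocksThrough octads ∅)
    (fun o => P ∈ o)
  have e1 : (blocksThrough octads ∅).filter (fun o => P ∈ o) = blocksThrough octads {P} := by
    ext o; simp [mem_blocksThrough]
  rw [e1, card_through_one, h0] at h1
  have h2 := Finset.card_filter_add_card_filter_not
    (s := (blocksThrough octads ∅).filter (P ∉ ·)) (fun o => (none : GolayPt) ∈ o)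
  have e2 : ((blocksThrough octads ∅).filter (P ∉ ·)).filter (fun o => (none : GolayPt) ∈ o) =
      (blocksThrough octads {(none : GolayPt)}).filter (P ∉ ·) := by
    ext o
    simp only [Finset.mem_filter, mem_blocksThrough, Finset.empty_subset,
      Finset.singleton_subset_iff]
    tauto
  have h3 := Finset.card_filter_add_card_filter_not (s := blocksThrough octads {(none : GolayPt)})
    (fun o => P ∈ o)
  have e3 : (blocksThrough octads {(none : GolayPt)}).filter (fun o => P ∈ o) =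
      blocksThrough octads {(none : GolayPt), P} := by
    ext o
    simp only [Finset.mem_filter, mem_blocksThrough, Finset.insert_subset_iff,
      Finset.singleton_subset_iff]
    tauto
  rw [e3, card_through_pair, card_through_one] at h3
  rw [e2] at h2
  rw [avoid]
  omega

noncomputable def K0 : Finset (GolayPt → ℤ) := avoid.image twos

noncomputable def K16 : Finset (GolayPt → ℤ) :=
  ((blocksThrough octads {(none : GolayPt), P}).sigma fun o => o \ {none, P}).image
    fun z => twosNeg z.1 P z.2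

noncomputable def K8 : Finset (GolayPt → ℤ) :=
  (((blocksThrough octads {P}).filter (none ∉ ·)).sigma fun o => o \ {P}).image
    fun z => threeVec z.1 z.2

theorem twosNeg_facts {o : Finset GolayPt} {k : GolayPt} (hp : P ∈ o) (hk : k ∈ o) (hkp : k ≠ P)
    (i : GolayPt) :
    (i ∈ o ↔ twosNeg o P k i ≠ 0) ∧ (i ≠ P → (i = k ↔ twosNeg o P k i = -2)) := by
  by_cases h1 : i = P
  · subst h1; simp [twosNeg, four, twos_of_mem hp, hp, hkp.symm]
  · by_cases h2 : i = k
    · subst h2; simp [twosNeg, four, twos_of_mem hk, hk, h1]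
    · by_cases h3 : i ∈ o
      · simp [twosNeg, four, twos_of_mem h3, h3, h1, h2]
      · simp [twosNeg, four, twos_of_notMem h3, h3, h1, h2]

theorem threeVec_facts {o : Finset GolayPt} {k : GolayPt} (hk : k ∈ o) (i : GolayPt) :
    (i = k ↔ threeVec o k i = 3) ∧ (i ∈ o ↔ threeVec o k i ≠ 1) := by
  by_cases h1 : i = k
  · subst h1; simp [threeVec, bit, hk]
  · by_cases h3 : i ∈ o
    · simp [threeVec, bit, h1, h3]
    · simp [threeVec, bit, h1, h3]

theorem card_K0 : K0.card = 330 := by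
  rw [K0, Finset.card_image_of_injective, card_avoid]
  intro o o' h
  ext i
  have := congrFun h i
  by_cases a : i ∈ o <;> by_cases b : i ∈ o' <;> simp [twos, bit, a, b] at this ⊢

theorem card_K16 : K16.card = 462 := by
  rw [K16, Finset.card_image_of_injOn, Finset.card_sigma,
    Finset.sum_congr rfl (g := fun _ => 6) fun o ho => ?_, Finset.sum_const, card_through_pair,
    smul_eq_mul]
  · rw [mem_blocksThrough] at ho
    rw [Finset.card_sdiff_of_subset ho.2, Finset.card_pair none_ne_P, ho.1.2]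
  · rintro ⟨o, k⟩ hz ⟨o', k'⟩ hz' h
    simp only [Finset.mem_coe, Finset.mem_sigma, mem_blocksThrough, Finset.insert_subset_iff,
      Finset.singleton_subset_iff, Finset.mem_sdiff, Finset.mem_insert, Finset.mem_singleton,
      not_or] at hz hz'
    simp only at h
    have F := twosNeg_facts hz.1.2.2 hz.2.1 hz.2.2.2
    have F' := twosNeg_facts hz'.1.2.2 hz'.2.1 hz'.2.2.2
    have ek : k = k' := ((F' k).2 hz.2.2.2).2 (h ▸ ((F k).2 hz.2.2.2).1 rfl)
    have eo : o = o' := by ext i; rw [(F i).1, (F' i).1, h]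
    rw [ek, eo]

theorem card_K8 : K8.card = 1232 := by
  rw [K8, Finset.card_image_of_injOn, Finset.card_sigma,
    Finset.sum_congr rfl (g := fun _ => 7) fun o ho => ?_, Finset.sum_const, card_P_only,
    smul_eq_mul]
  · rw [Finset.mem_filter, mem_blocksThrough] at ho
    rw [Finset.card_sdiff_of_subset ho.1.2, Finset.card_singleton, ho.1.1.2]
  · rintro ⟨o, k⟩ hz ⟨o', k'⟩ hz' h
    simp only [Finset.mem_coe, Finset.mem_sigma, Finset.mem_filter, mem_blocksThrough,
      Finset.singleton_subset_iff, Finset.mem_sdiff, Finset.mem_singleton] at hz hz'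
    simp only at h
    have F := threeVec_facts hz.2.1
    have F' := threeVec_facts hz'.2.1
    have ek : k = k' := (F' k).1.2 (h ▸ (F k).1.1 rfl)
    have eo : o = o' := by ext i; rw [(F i).2, (F' i).2, h]
    rw [ek, eo]

theorem mem_K0 {x : GolayPt → ℤ} : x ∈ K0 ↔ ∃ o ∈ octads, none ∉ o ∧ P ∉ o ∧ x = twos o := by
  simp only [K0, Finset.mem_image, mem_avoid]
  exact ⟨fun ⟨o, ⟨a, b, c⟩, e⟩ => ⟨o, a, b, c, e.symm⟩, fun ⟨o, a, b, c, e⟩ => ⟨o, ⟨a, b, c⟩, e.symm⟩⟩

theorem mem_K16 {x : GolayPt → ℤ} : x ∈ K16 ↔ ∃ o ∈ octads, ∃ k ∈ o,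
    none ∈ o ∧ P ∈ o ∧ k ≠ none ∧ k ≠ P ∧ x = twosNeg o P k := by
  simp only [K16, Finset.mem_image, Finset.mem_sigma, mem_blocksThrough, Sigma.exists,
    Finset.insert_subset_iff, Finset.singleton_subset_iff, Finset.mem_sdiff, Finset.mem_insert,
    Finset.mem_singleton, not_or]
  constructor
  · rintro ⟨o, k, ⟨⟨a, b, c⟩, d, e, f⟩, rfl⟩
    exact ⟨o, a, k, d, b, c, e, f, rfl⟩
  · rintro ⟨o, a, k, d, b, c, e, f, rfl⟩
    exact ⟨o, k, ⟨⟨a, b, c⟩, d, e, f⟩, rfl⟩

theorem mem_K8 {x : GolayPt → ℤ} : x ∈ K8 ↔ ∃ o ∈ octads, ∃ i ∈ o,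
    none ∉ o ∧ P ∈ o ∧ i ≠ P ∧ x = threeVec o i := by
  simp only [K8, Finset.mem_image, Finset.mem_sigma, Finset.mem_filter, mem_blocksThrough,
    Sigma.exists, Finset.singleton_subset_iff, Finset.mem_sdiff, Finset.mem_singleton]
  constructor
  · rintro ⟨o, k, ⟨⟨⟨a, b⟩, c⟩, d, e⟩, rfl⟩
    exact ⟨o, a, k, d, c, b, e, rfl⟩
  · rintro ⟨o, a, k, d, c, b, e, rfl⟩
    exact ⟨o, k, ⟨⟨⟨a, b⟩, c⟩, d, e⟩, rfl⟩

/-- The classes by the product with `std32'`. -/
def cls (c : ℤ) : Set (GolayPt → ℤ) := {x | Pred x ∧ dotInt (std32' : GolayPt → ℤ) x = c}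

theorem cls_eq : cls 32 = {(std32' : GolayPt → ℤ)} ∧ cls 0 = ↑K0 ∧ cls 16 = ↑K16 ∧ cls 8 = ↑K8 := by
  refine ⟨?_, ?_, ?_, ?_⟩ <;> ext x <;>
    simp only [cls, Set.mem_ofPred_eq, Set.mem_singleton_iff, Finset.mem_coe, mem_K0, mem_K16,
      mem_K8] <;>
    constructor
  · rintro ⟨h, hd⟩
    rcases pred_cases h with e | ⟨o, a, b, c, e⟩ | ⟨o, a, k, b, c, d, f, g, e⟩ |
      ⟨o, a, k, b, c, d, f, e⟩
    · exact e
    · rw [e, (pred_twos a b c).2] at hd; omega
    · rw [e, (pred_twosNeg a c d b f g).2] at hd; omega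
    · rw [e, (pred_three a c d b f).2] at hd; omega
  · rintro rfl; exact pred_X0
  · rintro ⟨h, hd⟩
    rcases pred_cases h with e | ⟨o, a, b, c, e⟩ | ⟨o, a, k, b, c, d, f, g, e⟩ |
      ⟨o, a, k, b, c, d, f, e⟩
    · rw [e, pred_X0.2] at hd; omega
    · exact ⟨o, a, b, c, e⟩
    · rw [e, (pred_twosNeg a c d b f g).2] at hd; omega
    · rw [e, (pred_three a c d b f).2] at hd; omega
  · rintro ⟨o, a, b, c, rfl⟩; exact pred_twos a b c
  · rintro ⟨h, hd⟩
    rcases pred_cases h with e | ⟨o, a, b, c, e⟩ | ⟨o, a, k, b, c, d, f, g, e⟩ |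
      ⟨o, a, k, b, c, d, f, e⟩
    · rw [e, pred_X0.2] at hd; omega
    · rw [e, (pred_twos a b c).2] at hd; omega
    · exact ⟨o, a, k, b, c, d, f, g, e⟩
    · rw [e, (pred_three a c d b f).2] at hd; omega
  · rintro ⟨o, a, k, b, c, d, f, g, rfl⟩; exact pred_twosNeg a c d b f g
  · rintro ⟨h, hd⟩
    rcases pred_cases h with e | ⟨o, a, b, c, e⟩ | ⟨o, a, k, b, c, d, f, g, e⟩ |
      ⟨o, a, k, b, c, d, f, e⟩
    · rw [e, pred_X0.2] at hd; omega
    · rw [e, (pred_twos a b c).2] at hd; omega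
    · rw [e, (pred_twosNeg a c d b f g).2] at hd; omega
    · exact ⟨o, a, k, b, c, d, f, e⟩
  · rintro ⟨o, a, k, b, c, d, f, rfl⟩; exact pred_three a c d b f

theorem ncard_cls : (cls 32).ncard = 1 ∧ (cls 0).ncard = 330 ∧ (cls 16).ncard = 462 ∧
    (cls 8).ncard = 1232 := by
  obtain ⟨h1, h2, h3, h4⟩ := cls_eq
  rw [h1, h2, h3, h4, Set.ncard_singleton, Set.ncard_coe_finset, Set.ncard_coe_finset,
    Set.ncard_coe_finset, card_K0, card_K16, card_K8]
  exact ⟨rfl, rfl, rfl, rfl⟩

theorem cls_finite (c : ℤ) : (cls c).Finite := by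
  by_contra h
  obtain ⟨h1, h2, h3, h4⟩ := cls_eq
  obtain ⟨x, hx, hd⟩ := Set.Infinite.nonempty h
  rcases pred_cases hx with e | ⟨o, a, b, f, e⟩ | ⟨o, a, k, b, f, d, u, g, e⟩ |
    ⟨o, a, k, b, f, d, u, e⟩
  · rw [e, pred_X0.2] at hd; subst hd; exact h (h1 ▸ Set.finite_singleton _)
  · rw [e, (pred_twos a b f).2] at hd; subst hd; exact h (h2 ▸ K0.finite_toSet)
  · rw [e, (pred_twosNeg a f d b u g).2] at hd; subst hd; exact h (h3 ▸ K16.finite_toSet)
  · rw [e, (pred_three a f d b u).2] at hd; subst hd; exact h (h4 ▸ K8.finite_toSet)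

theorem ncard_pred : {x : GolayPt → ℤ | Pred x}.ncard = 2025 := by
  obtain ⟨h1, h2, h3, h4⟩ := cls_eq
  have e : {x : GolayPt → ℤ | Pred x} = ((cls 32 ∪ cls 0) ∪ cls 16) ∪ cls 8 := by
    ext x
    refine ⟨fun h => ?_, fun h => ?_⟩
    · rcases pred_cases h with e | ⟨o, a, b, c, e⟩ | ⟨o, a, k, b, c, d, f, g, e⟩ |
        ⟨o, a, k, b, c, d, f, e⟩
      · exact Or.inl (Or.inl (Or.inl ⟨h, e ▸ pred_X0.2⟩))
      · exact Or.inl (Or.inl (Or.inr ⟨h, e ▸ (pred_twos a b c).2⟩))
      · exact Or.inl (Or.inr ⟨h, e ▸ (pred_twosNeg a c d b f g).2⟩)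
      · exact Or.inr ⟨h, e ▸ (pred_three a c d b f).2⟩
    · rcases h with ((h | h) | h) | h <;> exact h.1
  have dj : ∀ {a b : ℤ}, a ≠ b → Disjoint (cls a) (cls b) := fun hab =>
    Set.disjoint_left.2 fun x hx hy => hab (hx.2.symm.trans hy.2)
  obtain ⟨n1, n2, n3, n4⟩ := ncard_cls
  rw [e, Set.ncard_union_eq ?_ ((cls_finite _).union (cls_finite _) |>.union (cls_finite _))
      (cls_finite _),
    Set.ncard_union_eq ?_ ((cls_finite _).union (cls_finite _)) (cls_finite _),
    Set.ncard_union_eq (dj (by norm_num)) (cls_finite _) (cls_finite _), n1, n2, n3, n4]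
  · exact Set.disjoint_union_left.2 ⟨dj (by norm_num), dj (by norm_num)⟩
  · exact Set.disjoint_union_left.2
      ⟨Set.disjoint_union_left.2 ⟨dj (by norm_num), dj (by norm_num)⟩, dj (by norm_num)⟩

/-! ### Arbitrary triples -/

/-- Every triple has the standard form. -/
theorem exists_smul_std (hu : CodeUnique) {v w x : leechLattice}
    (hv : sqNorm (v : GolayPt → ℤ) = 32) (hw : sqNorm (w : GolayPt → ℤ) = 32)
    (hvw : dotInt (v : GolayPt → ℤ) (w : GolayPt → ℤ) = -8)
    (hx : sqNorm (x : GolayPt → ℤ) = 32)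
    (hvx : dotInt (v : GolayPt → ℤ) (x : GolayPt → ℤ) = 0)
    (hwx : dotInt (w : GolayPt → ℤ) (x : GolayPt → ℤ) = 16) :
    ∃ g : Co0, g • v = std32 ∧ g • w = W ∧ g • x = std32' := by
  obtain ⟨g, hgv, hgx⟩ := exists_smul_orth hu hv hx hvx
  have ev : g • v = std32 := Subtype.ext (hgv.trans coe_std32.symm)
  have ex : g • x = std32' := Subtype.ext hgx
  set z := ((g • w : leechLattice) : GolayPt → ℤ) with hz
  have h1 : dotInt (std32 : GolayPt → ℤ) z = -8 := by rw [hz, ← ev, dotInt_smul, hvw]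
  have h2 : dotInt (std32' : GolayPt → ℤ) z = 16 := by
    rw [hz, ← ex, dotInt_smul, dotInt_comm, hwx]
  rw [dot_std32] at h1
  rw [dot_X0] at h2
  have hzn : z none = 1 := by omega
  have hzp : z P = -3 := by omega
  have hzm : z ∈ leechLattice := (g • w).2
  rcases shape32 hzm ((sqNorm_smul g w).trans hw) with
    ⟨a, b, -, ha, hb, h0⟩ | ⟨o, -, h2', h0⟩ | ⟨a, ha, h1'⟩
  · exfalso
    by_cases e1 : none = a
    · subst e1; omega
    · by_cases e2 : none = b
      · subst e2; omega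
      · have := h0 none e1 e2; omega
  · exfalso
    by_cases e : none ∈ o
    · have := h2' _ e; omega
    · have := h0 _ e; omega
  · have haP : a = P := by_contra fun e => by have := h1' P (Ne.symm e); omega
    subst haP
    obtain ⟨N, hN, hval, hiff⟩ := shape3_data hzm ha h1'
    have hpN : P ∉ N := fun e => by have := hiff.1 e; omega
    have hnN : none ∉ N := fun e => by
      have := hval none none_ne_P
      simp [bit, e] at this
      omega
    refine ⟨mono 1 hN * g, ?_, ?_, ?_⟩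
    · rw [mul_smul, ev]
      apply Subtype.ext
      rw [coe_mono_smul, coe_std32]
      simp only [OneMemClass.coe_one]
      rw [signedPerm_four]
      simp [hnN, show (some 0 : GolayPt) ∉ N from hpN]
    · rw [mul_smul]
      apply Subtype.ext
      rw [coe_mono_smul, ← hz, coe_W]
      funext i
      simp only [signedPerm, OneMemClass.coe_one, Equiv.Perm.one_symm, Equiv.Perm.coe_one, id_eq]
      by_cases hi : i = P
      · subst hi; simp [neg3, hpN, hzp]
      · have := hval i hi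
        by_cases hiN : i ∈ N <;> simp [neg3, hi, hiN, this, bit]
    · rw [mul_smul, ex]
      apply Subtype.ext
      rw [coe_mono_smul, coe_std32']
      simp only [OneMemClass.coe_one]
      rw [signedPerm_four]
      simp [hnN, show (some 0 : GolayPt) ∉ N from hpN]

/-- The 2025 vectors of a pair. -/
abbrev pts (v w : leechLattice) : Set leechLattice :=
  {x | sqNorm (x : GolayPt → ℤ) = 32 ∧ dotInt (v : GolayPt → ℤ) (x : GolayPt → ℤ) = 0 ∧
    dotInt (w : GolayPt → ℤ) (x : GolayPt → ℤ) = 16}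

theorem mem_pts_iff {v w : leechLattice} {g : Co0} (g1 : g • v = std32) (g2 : g • w = W)
    (y : leechLattice) : y ∈ pts v w ↔ Pred ((g • y : leechLattice) : GolayPt → ℤ) := by
  rw [Pred, ← g1, ← g2, dotInt_smul, dotInt_smul, sqNorm_smul]
  exact ⟨fun h => ⟨(g • y).2, h⟩, fun h => h.2⟩

theorem ncard_transport {v w : leechLattice} {g : Co0} (g1 : g • v = std32) (g2 : g • w = W)
    (R : leechLattice → Prop) (S : (GolayPt → ℤ) → Prop)
    (hRS : ∀ y, R y ↔ S ((g • y : leechLattice) : GolayPt → ℤ)) :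
    {y | y ∈ pts v w ∧ R y}.ncard = {z : GolayPt → ℤ | Pred z ∧ S z}.ncard := by
  have e : (fun y : leechLattice => ((g • y : leechLattice) : GolayPt → ℤ)) ''
      {y | y ∈ pts v w ∧ R y} = {z : GolayPt → ℤ | Pred z ∧ S z} := by
    ext z
    constructor
    · rintro ⟨y, ⟨h1, h2⟩, rfl⟩
      exact ⟨(mem_pts_iff g1 g2 y).1 h1, (hRS y).1 h2⟩
    · rintro ⟨h1, h2⟩
      refine ⟨g⁻¹ • ⟨z, h1.1⟩, ⟨(mem_pts_iff g1 g2 _).2 ?_, (hRS _).2 ?_⟩, ?_⟩
      · rw [smul_inv_smul]; exact h1
      · rw [smul_inv_smul]; exact h2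
      · show ((g • g⁻¹ • (⟨z, h1.1⟩ : leechLattice) : leechLattice) : GolayPt → ℤ) = z
        rw [smul_inv_smul]
  rw [← e, Set.ncard_image_of_injective]
  exact fun a b h => smul_left_cancel g (Subtype.ext h)

theorem main (hu : CodeUnique) {v w : leechLattice}
    (hv : sqNorm (v : GolayPt → ℤ) = 32) (hw : sqNorm (w : GolayPt → ℤ) = 32)
    (hvw : dotInt (v : GolayPt → ℤ) (w : GolayPt → ℤ) = -8) :
    (pts v w).ncard = 2025 ∧
    (∀ x ∈ pts v w, ∀ x' ∈ pts v w, ∃ g : Co0, g • v = v ∧ g • w = w ∧ g • x = x') ∧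
    ∀ x ∈ pts v w, ∃ y₁ ∈ pts v w, ∃ y₂ ∈ pts v w, ∃ y₃ ∈ pts v w,
      (MulAction.orbit ↥(MulAction.stabilizer Co0 v ⊓ MulAction.stabilizer Co0 w ⊓
        MulAction.stabilizer Co0 x) y₁).ncard = 330 ∧
      (MulAction.orbit ↥(MulAction.stabilizer Co0 v ⊓ MulAction.stabilizer Co0 w ⊓
        MulAction.stabilizer Co0 x) y₂).ncard = 462 ∧
      (MulAction.orbit ↥(MulAction.stabilizer Co0 v ⊓ MulAction.stabilizer Co0 w ⊓
        MulAction.stabilizer Co0 x) y₃).ncard = 1232 := by
  have trip : ∀ x ∈ pts v w, ∃ g : Co0, g • v = std32 ∧ g • w = W ∧ g • x = std32' :=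
    fun x hx => exists_smul_std hu hv hw hvw hx.1 hx.2.1 hx.2.2
  refine ⟨?_, fun x hx x' hx' => ?_, fun x hx => ?_⟩
  · obtain ⟨a, ha, hb⟩ : ∃ a : Co0, a • v = std32 ∧ a • w = W := by
      have hne : (pts std32 W).Nonempty :=
        ⟨std32', pred_X0.1.2.1, pred_X0.1.2.2.1, pred_X0.1.2.2.2⟩
      obtain ⟨g, g1, g2⟩ := transitive_pair hu hv hw hvw sqNorm_std32 (neg3_mem P).2
        (show dotInt (std32 : GolayPt → ℤ) (W : GolayPt → ℤ) = -8 by
          rw [dot_std32, coe_W]; simp [neg3, none_ne_P])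
      exact ⟨g, g1, g2⟩
    have := ncard_transport ha hb (fun _ => True) (fun _ => True) fun _ => Iff.rfl
    simpa [ncard_pred] using this
  · obtain ⟨g, g1, g2, g3⟩ := trip x hx
    obtain ⟨h, h1, h2, h3⟩ := trip x' hx'
    refine ⟨h⁻¹ * g, ?_, ?_, ?_⟩
    · rw [mul_smul, g1, ← h1, inv_smul_smul]
    · rw [mul_smul, g2, ← h2, inv_smul_smul]
    · rw [mul_smul, g3, ← h3, inv_smul_smul]
  · obtain ⟨g, g1, g2, g3⟩ := trip x hx
    have dt : ∀ y : leechLattice, dotInt (x : GolayPt → ℤ) (y : GolayPt → ℤ) =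
        dotInt (std32' : GolayPt → ℤ) ((g • y : leechLattice) : GolayPt → ℤ) := fun y => by
      rw [← g3, dotInt_smul]
    have orb : ∀ (c : ℤ) (n : ℕ), (cls c).ncard = n → 0 < n → ∃ y ∈ pts v w,
        (MulAction.orbit ↥(MulAction.stabilizer Co0 v ⊓ MulAction.stabilizer Co0 w ⊓
          MulAction.stabilizer Co0 x) y).ncard = n := by
      intro c n hc hn
      obtain ⟨z, hz, hzc⟩ := Set.nonempty_of_ncard_ne_zero (s := cls c) (by omega)
      have hy : g⁻¹ • (⟨z, hz.1⟩ : leechLattice) ∈ pts v w :=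
        (mem_pts_iff g1 g2 _).2 (by rw [smul_inv_smul]; exact hz)
      refine ⟨_, hy, ?_⟩
      set y₀ := g⁻¹ • (⟨z, hz.1⟩ : leechLattice) with hy₀
      have hyc : dotInt (x : GolayPt → ℤ) (y₀ : GolayPt → ℤ) = c := by
        rw [dt, hy₀, smul_inv_smul]; exact hzc
      have e : MulAction.orbit ↥(MulAction.stabilizer Co0 v ⊓ MulAction.stabilizer Co0 w ⊓
          MulAction.stabilizer Co0 x) y₀ =
          {y | y ∈ pts v w ∧ dotInt (x : GolayPt → ℤ) (y : GolayPt → ℤ) = c} := by
        ext y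
        constructor
        · rintro ⟨⟨h, ⟨h1, h2⟩, h3⟩, rfl⟩
          have f1 : h • v = v := h1
          have f2 : h • w = w := h2
          have f3 : h • x = x := h3
          obtain ⟨q1, q2, q3⟩ := hy
          show h • y₀ ∈ pts v w ∧ dotInt (x : GolayPt → ℤ) ((h • y₀ : leechLattice) : GolayPt → ℤ) = c
          refine ⟨⟨(sqNorm_smul h _).trans q1, ?_, ?_⟩, ?_⟩
          · rw [← f1, dotInt_smul, q2]
          · rw [← f2, dotInt_smul, q3]
          · rw [← f3, dotInt_smul, hyc]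
        · rintro ⟨h1, h2⟩
          obtain ⟨p, p1, p2, p3, p4⟩ := trans_std ((mem_pts_iff g1 g2 y₀).1 hy)
            ((mem_pts_iff g1 g2 y).1 h1) (by rw [← dt, ← dt, hyc, h2])
          refine ⟨⟨g⁻¹ * p * g, ⟨?_, ?_⟩, ?_⟩, ?_⟩
          · show (g⁻¹ * p * g) • v = v
            rw [mul_smul, mul_smul, g1, p1, ← g1, inv_smul_smul]
          · show (g⁻¹ * p * g) • w = w
            rw [mul_smul, mul_smul, g2, p2, ← g2, inv_smul_smul]
          · show (g⁻¹ * p * g) • x = x
            rw [mul_smul, mul_smul, g3, p3, ← g3, inv_smul_smul]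
          · show (g⁻¹ * p * g) • y₀ = y
            rw [mul_smul, mul_smul, p4, inv_smul_smul]
      rw [e, ncard_transport g1 g2 (fun y => dotInt (x : GolayPt → ℤ) (y : GolayPt → ℤ) = c)
        (fun z => dotInt (std32' : GolayPt → ℤ) z = c) (fun y => by rw [dt])]
      exact hc
    obtain ⟨-, c0, c16, c8⟩ := ncard_cls
    obtain ⟨y₁, m1, o1⟩ := orb 0 330 c0 (by norm_num)
    obtain ⟨y₂, m2, o2⟩ := orb 16 462 c16 (by norm_num)
    obtain ⟨y₃, m3, o3⟩ := orb 8 1232 c8 (by norm_num)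
    exact ⟨y₁, m1, y₂, m2, y₃, m3, o1, o2, o3⟩

end Cfsg.Agent.SporStruct.Pts2025
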