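import Cfsg.Agent.SporStruct.OuterMcLCheck

/-!
The outer automorphism group of McL has order 2.
-/

set_option autoImplicit false

namespace Cfsg.Agent.SporStruct.OuterMcL

open Cfsg Cfsg.Agent.Leech CoMatrix OuterTwo OuterData

/-- The embedding in Co0. -/
def emb : Spor.McL →* Co0 := Subgroup.inclusion (inf_le_left.trans inf_le_left)

theorem emb_injective : Function.Injective emb := Subgroup.inclusion_injective _

theorem range_iff (y : Co0) : (∃ g, emb g = y) ↔ y • std48 = std48 ∧ y • std32 = std32 := by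
  constructor
  · rintro ⟨g, rfl⟩
    refine ⟨?_, g.2.2⟩
    show emb g • -Spor.leechV = -Spor.leechV
    rw [smul_neg', show emb g • Spor.leechV = Spor.leechV from g.2.1.2]
  · rintro ⟨h48, hU⟩
    refine ⟨⟨y.1, ⟨y.2, ?_⟩, hU⟩, rfl⟩
    have h : y • -Spor.leechV = -Spor.leechV := h48
    rw [smul_neg', neg_inj] at h
    exact h

theorem card_McL : Nat.card Spor.McL = 443520 * 2025 := by
  have hn : sqNorm (std32 : GolayPt → ℤ) = 32 ∧
      sqNorm ((std48 - std32 : leechLattice) : GolayPt → ℤ) = 32 ∧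
      dotInt (std32 : GolayPt → ℤ) ((std48 - std32 : leechLattice) : GolayPt → ℤ) = -8 := by
    rw [AddSubgroup.coe_sub, ← dotInt_self, ← dotInt_self, dotInt_sum, dotInt_sum, dotInt_sum]
    simp only [Pi.sub_apply, coe_std48]
    show (∑ i, Spor.vecU i * Spor.vecU i) = _ ∧ (∑ i, (_ - Spor.vecU i) * (_ - Spor.vecU i)) = _ ∧
      (∑ i, Spor.vecU i * (_ - Spor.vecU i)) = _
    decide +kernel
  rw [show (443520 * 2025 : ℕ) = 898128000 by norm_num,
    ← card_stab_pair codeUnique hn.1 hn.2.1 hn.2.2]
  refine Nat.card_congr ((MonoidHom.ofInjective emb_injective).toEquiv.trans ?_)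
  refine Equiv.subtypeEquivRight fun y => ?_
  rw [MonoidHom.mem_range, range_iff]
  constructor
  · rintro ⟨h1, h2⟩
    exact ⟨h2, by show y • (std48 - std32) = _; rw [smul_sub', h1, h2]⟩
  · rintro ⟨h1, h2⟩
    have h2' : y • (std48 - std32) = std48 - std32 := h2
    have h1' : y • std32 = std32 := h1
    rw [smul_sub', h1', sub_left_inj] at h2'
    exact ⟨h2', h1'⟩

theorem card_out : Nat.card (Out Spor.McL) = 2 := by
  obtain ⟨a, b, c, hT, hgen, hao, hab, -, hcent, hα⟩ := two_main emb_injective
    (Or.inl ⟨rfl, rfl⟩) range_iff card_McL (by norm_num) check_gen check_enum check_words.1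
    check_words.2 check_orbit.1 check_orbit.2 check_rel check_cover.1 check_cover.2
  obtain ⟨ho1, ho2, hoo, hos, hoU, hoa, hob, hoc, hc5, hc4⟩ := check_outer
  obtain ⟨o, ho⟩ := exists_elem ho1 ho2
  have hoo' : o * o = 1 := rows_injective (by rw [rows_mul, ho, hoo, rows_one])
  have hos' : o • std48 = std48 :=
    Subtype.ext (vecL_inj (by rw [← mapV_rows, ho, vecL_std48, hos]))
  have hoU' : o • std32 = std48 - std32 := Subtype.ext (vecL_inj (by
    rw [← mapV_rows, ho, vecL_two.1, hoU, swapL, ← vecL_two.1, ← vecL_std48, AddSubgroup.coe_sub,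
      vecL, vecL, vecL, List.zipWith_map, List.zipWith_self]
    rfl))
  obtain ⟨O, hO⟩ := OuterCommon.exists_aut emb_injective hoo' (fun g => by
    obtain ⟨g48, gU⟩ := (range_iff _).1 ⟨g, rfl⟩
    refine (range_iff _).2 ⟨by rw [mul_smul, mul_smul, hos', g48, hos'], ?_⟩
    rw [mul_smul, mul_smul, hoU', smul_sub', gU, g48, ← hoU', ← mul_smul, hoo', one_smul])
  have hg := rows_getD hT
  have hra : rows (emb a) = permMat Golay.doubleTab := hg 0
  have hrb : rows (emb b) = permMat Golay.cubeTwistTab := hg 1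
  have hrc : rows (emb c) = mcC := hg 2
  have hOa : O a = a := emb_injective (rows_injective (by
    rw [hO, rows_mul, rows_mul, ho, hra]; exact hoa))
  have hOb : O b = b := emb_injective (rows_injective (by
    rw [hO, rows_mul, rows_mul, ho, hrb]; exact hob))
  have hOc : O c = c ^ 4 := emb_injective (rows_injective (by
    rw [hO, map_pow, rows_mul, rows_mul, rows_pow, ho, hrc]; exact hoc))
  have hc16 : (c ^ 4) ^ 4 = c := by
    have : c ^ 5 = 1 := emb_injective (rows_injective (by
      rw [map_pow, rows_pow, hrc, hc5, map_one, rows_one]))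
    rw [← pow_mul, show 4 * 4 = 5 * 3 + 1 from rfl, pow_succ, pow_mul, this, one_pow, one_mul]
  refine OuterRigid.card_out_eq_two O (fun hin => ?_) fun α => ?_
  · obtain ⟨h, hh⟩ := hin
    have hca : h * a = a * h := by
      have : h * a * h⁻¹ = a := (DFunLike.congr_fun hh a).trans hOa
      calc h * a = h * a * h⁻¹ * h := by group
        _ = a * h := by rw [this]
    obtain ⟨m, rfl⟩ := Subgroup.mem_zpowers_iff.1 (hcent h hca)
    have hcb : a ^ m * b * (a ^ m)⁻¹ = b := (DFunLike.congr_fun hh b).trans hOb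
    have e2 : a ^ (m + -(3 * m)) = a ^ (0 : ℤ) := by
      rw [zpow_add, zpow_zero, zpow_neg]
      have h3 := OuterRigid.mul_zpow_conj hab (-m)
      calc a ^ m * (a ^ (3 * m))⁻¹ = a ^ m * (a ^ (((3 : ℕ) : ℤ) * -m) * b) * b⁻¹ := by
            rw [← zpow_neg]; push_cast; rw [mul_neg]; group
        _ = (a ^ m * b * (a ^ m)⁻¹) * b⁻¹ := by rw [← h3, zpow_neg]; group
        _ = 1 := by rw [hcb, mul_inv_cancel]
    rw [zpow_eq_zpow_iff_modEq, hao, Int.modEq_zero_iff_dvd] at e2
    have h1 : a ^ m = 1 := by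
      rw [← zpow_zero a, zpow_eq_zpow_iff_modEq, hao, Int.modEq_zero_iff_dvd]
      omega
    have hc' : c = c ^ 4 := by
      have := (DFunLike.congr_fun hh c).trans hOc
      rwa [MulAut.conj_apply, h1, one_mul, inv_one, mul_one] at this
    refine hc4 ?_
    rw [← hrc, ← rows_pow, ← map_pow, ← hc']
  · obtain ⟨h, e, j, i, hall, hb', ha', hc'⟩ := hα α
    simp only [allowed, List.mem_cons, List.not_mem_nil, or_false, Prod.mk.injEq] at hall
    rcases hall with ⟨rfl, rfl, rfl⟩ | ⟨rfl, rfl, rfl⟩
    · left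
      refine OuterCommon.inn_of_conj_mul (h := h) (OuterCommon.eq_of_gens hgen fun x hx => ?_)
      simp only [List.mem_cons, List.not_mem_nil, or_false] at hx
      rcases hx with rfl | rfl | rfl
      · exact ha'.trans (pow_one _)
      · exact hb'
      · exact hc'.trans (by simp [word])
    · right
      refine OuterCommon.inn_of_conj_mul (h := h) (OuterCommon.eq_of_gens hgen fun x hx => ?_)
      rw [← mul_assoc]
      simp only [List.mem_cons, List.not_mem_nil, or_false] at hx
      rcases hx with rfl | rfl | rfl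
      · rw [MulAut.mul_apply, hOa, ha', pow_one]; rfl
      · rw [MulAut.mul_apply, hOb, hb']; rfl
      · have hc4' : (MulAut.conj h * α) x = x ^ 4 := hc'.trans (by simp [word, pow_succ, mul_assoc])
        rw [MulAut.mul_apply, hOc, map_pow, hc4', hc16]; rfl

end Cfsg.Agent.SporStruct.OuterMcL
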