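import Cfsg.Agent.SporStruct.M22Invol
import Cfsg.Agent.SporStruct.McLPoints2025
import Cfsg.Agent.SporStruct.McLInvolCheck
import Cfsg.Agent.SporStruct.OuterMcL
import Cfsg.Agent.Lib.Leech.CodeUnique
import Cfsg.Prelude.Def_SporadicB

/-!
McL has one class of involutions, with centraliser a double cover of `A8`: the centraliser acts on
35 fixed vertices as `A8` on bisections of eight points, with kernel generated by the involution.
-/

set_option autoImplicit false

namespace Cfsg.Agent.SporStruct.McLInvol

open Cfsg Cfsg.Agent.Leech CoMatrix OuterTwo McLInvolData McLInvolCheck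
open Cfsg.Agent.Golay (pt idx idx_lt pt_idx idx_pt Tab toSet mem_toSet inCode tab_permOf permOf comp
  tab_one tab_unique idTab octad_mem_iff idx_injective)
open Cfsg.Agent.SporStruct.Pts2025 (W P pts Pred)
open scoped Pointwise

abbrev G := ↥Spor.McL

local notation "emb" => OuterMcL.emb

theorem emb_smul (g : G) (v : leechLattice) : emb g • v = g • v := rfl

theorem W_eq : (W : leechLattice) = std48 - std32 := by
  refine Subtype.ext (funext fun i => ?_)
  rw [AddSubgroup.coe_sub, Pi.sub_apply, coe_std48, Pts2025.coe_W]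
  show neg3 P i = _ - Spor.vecU i
  revert i
  decide +kernel

theorem fix_triple (g : G) : emb g • std48 = std48 ∧ emb g • std32 = std32 ∧ emb g • W = W := by
  obtain ⟨h1, h2⟩ := (OuterMcL.range_iff _).1 ⟨g, rfl⟩
  exact ⟨h1, h2, by rw [W_eq, smul_sub', h1, h2]⟩

theorem exists_mcl {y : Co0} (h1 : y • std48 = std48) (h2 : y • std32 = std32) :
    ∃ g : G, emb g = y := (OuterMcL.range_iff y).2 ⟨h1, h2⟩

/-! ### `M22` inside McL -/

/-- `M22` inside `M24`. -/
def incl : Spor.M22 →* Cfsg.M24 := Subgroup.inclusion fun _ h => h.1.1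

theorem incl_fix (σ : Spor.M22) : permHom (incl σ) • std48 = std48 ∧
    permHom (incl σ) • std32 = std32 ∧ permHom (incl σ) • std32' = std32' := by
  have h0 : (incl σ).1 none = none := σ.2.1.2
  have h1 : (incl σ).1 P = P := σ.2.2
  obtain ⟨a, b, c⟩ := Pts2025.permElt_fix h0 h1
  exact ⟨permElt_std48 h0, a, c⟩

/-- The image of a permutation. -/
noncomputable def toGfun (σ : Spor.M22) : G :=
  (exists_mcl (incl_fix σ).1 (incl_fix σ).2.1).choose

theorem emb_toGfun (σ : Spor.M22) : emb (toGfun σ) = permHom (incl σ) :=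
  (exists_mcl (incl_fix σ).1 (incl_fix σ).2.1).choose_spec

/-- The embedding of `M22`. -/
noncomputable def toG : Spor.M22 →* G :=
  MonoidHom.mk' toGfun fun σ τ => OuterMcL.emb_injective (by
    rw [emb_toGfun, map_mul, map_mul, map_mul, emb_toGfun, emb_toGfun])

theorem emb_toG (σ : Spor.M22) : emb (toG σ) = permHom (incl σ) := emb_toGfun σ

instance : Finite G := Nat.finite_of_card_ne_zero (by rw [OuterMcL.card_McL]; norm_num)

theorem toG_injective : Function.Injective toG := fun σ τ h => by
  have := permHom_injective ((emb_toG σ).symm.trans ((congrArg _ h).trans (emb_toG τ)))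
  exact Subgroup.inclusion_injective _ this

theorem orbit_eq : MulAction.orbit G std32' = pts std32 W := by
  have hW : sqNorm (W : GolayPt → ℤ) = 32 := (neg3_mem P).2
  have hd : dotInt (std32 : GolayPt → ℤ) (W : GolayPt → ℤ) = -8 := by
    rw [Pts2025.dot_std32, Pts2025.coe_W]; simp [neg3, Pts2025.none_ne_P]
  have hx : std32' ∈ pts std32 W :=
    ⟨Pts2025.pred_X0.1.2.1, Pts2025.pred_X0.1.2.2.1, Pts2025.pred_X0.1.2.2.2⟩
  ext y
  constructor
  · rintro ⟨g, rfl⟩
    obtain ⟨-, h2, h3⟩ := fix_triple g
    obtain ⟨q1, q2, q3⟩ := hx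
    show emb g • std32' ∈ pts std32 W
    refine ⟨(sqNorm_smul _ _).trans q1, ?_, ?_⟩
    · rw [← h2, dotInt_smul, q2]
    · rw [← h3, dotInt_smul, q3]
  · intro hy
    obtain ⟨g, g1, g2, g3⟩ :=
      (Pts2025.main codeUnique sqNorm_std32 hW hd).2.1 _ hx _ hy
    have g48 : g • std48 = std48 := by
      have e : g • (std48 - std32) = std48 - std32 := by rw [← W_eq, g2]
      rwa [smul_sub', g1, sub_left_inj] at e
    obtain ⟨h, rfl⟩ := exists_mcl g48 g1
    exact ⟨h, g3⟩

theorem stab_eq : MulAction.stabilizer G std32' = toG.range := by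
  have hle : toG.range ≤ MulAction.stabilizer G std32' := by
    rintro _ ⟨σ, rfl⟩
    show emb (toG σ) • std32' = std32'
    rw [emb_toG, (incl_fix σ).2.2]
  refine (Subgroup.eq_of_le_of_card_ge hle ?_).symm
  have h := (MulAction.stabilizer G std32').card_mul_index
  rw [MulAction.index_stabilizer, orbit_eq, OuterMcL.card_McL,
    (Pts2025.main codeUnique sqNorm_std32 (neg3_mem P).2 (by
      rw [Pts2025.dot_std32, Pts2025.coe_W]; simp [neg3, Pts2025.none_ne_P])).1] at h
  rw [← Nat.card_congr (MonoidHom.ofInjective toG_injective).toEquiv, Golay.card_M22]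
  omega

/-! ### One class -/

theorem isConj_invol (x y : G) (hx : orderOf x = 2) (hy : orderOf y = 2) : IsConj x y := by
  have : Fact (Nat.Prime 2) := ⟨Nat.prime_two⟩
  obtain ⟨R⟩ : Nonempty (Sylow 2 Spor.M22) := inferInstance
  have h22 : (Nat.card Spor.M22).factorization 2 = 7 := by
    rw [Golay.card_M22]; decide +kernel
  have hR : Nat.card (R : Subgroup Spor.M22) = 2 ^ 7 := by rw [R.card_eq_multiplicity, h22]
  obtain ⟨S, hS⟩ := (R.isPGroup'.map toG).exists_le_sylow
  have hRS : (R : Subgroup Spor.M22).map toG = (S : Subgroup G) := by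
    refine Subgroup.eq_of_le_of_card_ge hS ?_
    rw [← Nat.card_congr (Subgroup.equivMapOfInjective _ _ toG_injective).toEquiv, hR,
      S.card_eq_multiplicity, OuterMcL.card_McL]
    exact le_of_eq (by decide +kernel)
  have key : ∀ x : G, orderOf x = 2 → ∃ σ : Spor.M22, orderOf σ = 2 ∧ IsConj (toG σ) x := by
    intro x hx
    obtain ⟨Q, hQ⟩ := (IsPGroup.of_card (p := 2) (n := 1) (G := Subgroup.zpowers x)
      (by rw [Nat.card_zpowers, hx, pow_one])).exists_le_sylow
    obtain ⟨c, hc⟩ := MulAction.exists_smul_eq G S Q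
    have hxQ : x ∈ (Q : Subgroup G) := hQ (Subgroup.mem_zpowers x)
    rw [← hc, Sylow.coe_subgroup_smul, ← hRS] at hxQ
    obtain ⟨z, ⟨σ, -, rfl⟩, hz⟩ := hxQ
    have hz' : c * toG σ * c⁻¹ = x := hz
    refine ⟨σ, ?_, isConj_iff.2 ⟨c, hz'⟩⟩
    rw [← orderOf_injective toG toG_injective, ← hx, ← hz', ← MulAut.conj_apply,
      MulEquiv.orderOf_eq]
  obtain ⟨σ, hσ, hσx⟩ := key x hx
  obtain ⟨τ, hτ, hτy⟩ := key y hy
  exact hσx.symm.trans ((toG.map_isConj (M22Invol.isConj_invol hσ hτ)).trans hτy)

/-! ### The involution -/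

/-- The involution as an element of `M22`. -/
noncomputable def t22 : Spor.M22 :=
  have hT := tab_permOf check_perm.1
  ⟨permOf tTab check_perm.1, M22Invol.mem_M22.2 ⟨hT.mem_M24 check_perm.2.1,
    idx_injective ((hT 23 (by norm_num)).trans check_perm.2.2.2.2.1),
    idx_injective ((hT 0 (by norm_num)).trans check_perm.2.2.2.2.2)⟩⟩

theorem tab_t : Tab (incl t22).1 tTab := tab_permOf check_perm.1

theorem orderOf_t22 : orderOf t22 = 2 := by
  have : Fact (Nat.Prime 2) := ⟨Nat.prime_two⟩
  refine orderOf_eq_prime (Subtype.ext ?_) fun e => check_perm.2.2.2.1 ?_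
  · rw [pow_two]
    exact tab_unique (check_perm.2.2.1 ▸ tab_t.mul tab_t) tab_one
  · refine List.ext_getElem (by decide +kernel) fun i h1 h2 => ?_
    have hi : i < 24 := by simpa [idTab] using h2
    have := tab_t i hi
    rw [show (incl t22).1 = 1 from congrArg Subtype.val e, Equiv.Perm.one_apply, idx_pt hi,
      List.getD_eq_getElem _ _ h1] at this
    simp [idTab, ← this]

theorem apply_t (k : GolayPt) : idx ((incl t22).1 k) = tTab.getD (idx k) 0 := by
  have := tab_t (idx k) (idx_lt k)
  rwa [pt_idx] at this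

theorem mem_octL {o : Finset GolayPt} (ho : o ∈ octads) : ∃ n ∈ octL, toSet n = o := by
  obtain ⟨n, hn, h8, e⟩ := octad_mem_iff.1 ho
  refine ⟨n, List.mem_filter.2 ⟨List.mem_map.2 ⟨n % 4096, List.mem_range.2 (Nat.mod_lt _ (by norm_num)),
    ?_⟩, by simpa using h8⟩, e⟩
  simpa [inCode] using hn

theorem fixB_of {n : ℕ} (h : (incl t22).1 • toSet n = toSet n) : fixB n = true := by
  simp only [fixB, List.all_eq_true, List.mem_range, beq_iff_eq]
  intro i hi
  have h1 : ((incl t22).1 (pt i) ∈ toSet n) ↔ pt i ∈ toSet n := by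
    conv_lhs => rw [← h]
    exact M24.apply_mem_smul
  rw [mem_toSet, mem_toSet, tab_t i hi, idx_pt hi] at h1
  exact Bool.eq_iff_iff.2 h1

theorem point_range {k : GolayPt} (hn : k ≠ none) (hP : k ≠ P) :
    idx k ∈ List.range' 1 22 := by
  have h1 : idx k ≠ 23 := fun e => hn (idx_injective (e.trans rfl))
  have h2 : idx k ≠ 0 := fun e => hP (idx_injective (e.trans rfl))
  have := idx_lt k
  simp only [List.mem_range'_1]
  omega

/-- The fixed points on the 2025 vectors. -/
def Y : Set leechLattice := {y | y ∈ pts std32 W ∧ toG t22 • y = y}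

theorem ncard_Y : Y.ncard ≤ 105 := by
  classical
  let S : Finset (GolayPt → ℤ) := insert (std32' : GolayPt → ℤ)
    ((fix0.map fun n => twos (toSet n)).toFinset ∪
      (fix16.map fun z => twosNeg (toSet z.1) P (pt z.2)).toFinset ∪
      (fix8.map fun z => threeVec (toSet z.1) (pt z.2)).toFinset)
  have hS : S.card ≤ 105 := by
    refine le_trans ?_ check_count
    have a := Finset.card_insert_le (std32' : GolayPt → ℤ)
      ((fix0.map fun n => twos (toSet n)).toFinset ∪
      (fix16.map fun z => twosNeg (toSet z.1) P (pt z.2)).toFinset ∪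
      (fix8.map fun z => threeVec (toSet z.1) (pt z.2)).toFinset)
    have b := Finset.card_union_le ((fix0.map fun n => twos (toSet n)).toFinset ∪
      (fix16.map fun z => twosNeg (toSet z.1) P (pt z.2)).toFinset)
      (fix8.map fun z => threeVec (toSet z.1) (pt z.2)).toFinset
    have c := Finset.card_union_le (fix0.map fun n => twos (toSet n)).toFinset
      (fix16.map fun z => twosNeg (toSet z.1) P (pt z.2)).toFinset
    have d1 := List.toFinset_card_le (fix0.map fun n => twos (toSet n))
    have d2 := List.toFinset_card_le (fix16.map fun z => twosNeg (toSet z.1) P (pt z.2))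
    have d3 := List.toFinset_card_le (fix8.map fun z => threeVec (toSet z.1) (pt z.2))
    rw [List.length_map] at d1 d2 d3
    show (insert _ _ : Finset (GolayPt → ℤ)).card ≤ _
    omega
  have hsub : (fun y : leechLattice => (y : GolayPt → ℤ)) '' Y ⊆ ↑S := by
    rintro _ ⟨y, ⟨⟨h1, h2, h3⟩, hfix⟩, rfl⟩
    have hfix' : (permElt (incl t22) • y : leechLattice) = y := by
      have : emb (toG t22) • y = y := hfix
      rwa [emb_toG] at this
    have hP' : (incl t22).1 P = P := t22.2.2
    simp only [S, Finset.coe_insert, Finset.coe_union, Set.mem_insert_iff, Set.mem_union,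
      List.coe_toFinset, Set.mem_ofPred_eq, List.mem_map]
    rcases Pts2025.pred_cases ⟨y.2, h1, h2, h3⟩ with e | ⟨o, ho, a1, a2, e⟩ |
      ⟨o, ho, k, hk, a1, a2, a3, a4, e⟩ | ⟨o, ho, k, hk, a1, a2, a3, e⟩
    · exact Or.inl e
    · refine Or.inr (Or.inl (Or.inl ?_))
      obtain ⟨n, hn, rfl⟩ := mem_octL ho
      have hs := Pts2025.perm_twos (incl t22) e
      rw [hfix', e] at hs
      have ho' : (incl t22).1 • toSet n = toSet n := by
        ext i
        have := congrFun hs i
        by_cases a : i ∈ (incl t22).1 • toSet n <;> by_cases b : i ∈ toSet n <;>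
          simp only [twos, bit, a, b, if_true, if_false] at this ⊢ <;> omega
      refine ⟨n, List.mem_filter.2 ⟨hn, ?_⟩, e.symm⟩
      rw [mem_toSet] at a1 a2
      have b1 : n.testBit 23 = false := Bool.eq_false_iff.2 a1
      have b2 : n.testBit 0 = false := Bool.eq_false_iff.2 a2
      simp [fixB_of ho', b1, b2]
    · refine Or.inr (Or.inl (Or.inr ?_))
      obtain ⟨n, hn, rfl⟩ := mem_octL ho
      have hs := Pts2025.perm_twosNeg hP' e
      rw [hfix', e] at hs
      have hp' : P ∈ (incl t22).1 • toSet n := by rw [← hP', M24.apply_mem_smul]; exact a2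
      have hk' : (incl t22).1 k ∈ (incl t22).1 • toSet n := M24.apply_mem_smul.2 hk
      have hkP : (incl t22).1 k ≠ P := fun h => a4 ((incl t22).1.injective (h.trans hP'.symm))
      have F := Pts2025.twosNeg_facts a2 hk a4
      have F' := Pts2025.twosNeg_facts hp' hk' hkP
      have ek : k = (incl t22).1 k := ((F' k).2 a4).2 (hs ▸ ((F k).2 a4).1 rfl)
      have eo : (incl t22).1 • toSet n = toSet n := by
        ext i; rw [(F i).1, (F' i).1, hs]
      refine ⟨(n, idx k), List.mem_flatMap.2 ⟨n, List.mem_filter.2 ⟨hn, ?_⟩,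
        List.mem_map.2 ⟨idx k, List.mem_filter.2 ⟨point_range a3 a4, ?_⟩, rfl⟩⟩, ?_⟩
      · rw [mem_toSet] at a1 a2
        have b1 : n.testBit 23 = true := a1
        have b2 : n.testBit 0 = true := a2
        simp [fixB_of eo, b1, b2]
      · rw [mem_toSet] at hk
        show (n.testBit (idx k) && (tTab.getD (idx k) 0 == idx k)) = true
        rw [← apply_t, ← ek, hk]
        simp
      · show twosNeg (toSet n) P (pt (idx k)) = _
        rw [pt_idx, e]
    · refine Or.inr (Or.inr ?_)
      obtain ⟨n, hn, rfl⟩ := mem_octL ho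
      have hs := Pts2025.perm_three (incl t22) e
      rw [hfix', e] at hs
      have hk' : (incl t22).1 k ∈ (incl t22).1 • toSet n := M24.apply_mem_smul.2 hk
      have F := Pts2025.threeVec_facts hk
      have F' := Pts2025.threeVec_facts hk'
      have ek : k = (incl t22).1 k := (F' k).1.2 (hs ▸ (F k).1.1 rfl)
      have eo : (incl t22).1 • toSet n = toSet n := by
        ext i; rw [(F i).2, (F' i).2, hs]
      have hkn : k ≠ none := fun h => a1 (h ▸ hk)
      refine ⟨(n, idx k), List.mem_flatMap.2 ⟨n, List.mem_filter.2 ⟨hn, ?_⟩,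
        List.mem_map.2 ⟨idx k, List.mem_filter.2 ⟨point_range hkn a3, ?_⟩, rfl⟩⟩, ?_⟩
      · rw [mem_toSet] at a1 a2
        have b1 : n.testBit 23 = false := Bool.eq_false_iff.2 a1
        have b2 : n.testBit 0 = true := a2
        simp [fixB_of eo, b1, b2]
      · rw [mem_toSet] at hk
        show (n.testBit (idx k) && (tTab.getD (idx k) 0 == idx k)) = true
        rw [← apply_t, ← ek, hk]
        simp
      · show threeVec (toSet n) (pt (idx k)) = _
        rw [pt_idx, e]
  have h := Set.ncard_le_ncard hsub S.finite_toSet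
  rw [Set.ncard_coe_finset, Set.ncard_image_of_injective _ Subtype.val_injective] at h
  omega

theorem Y_finite : Y.Finite := by
  refine (Set.finite_of_ncard_pos (s := pts std32 W) ?_).subset fun y hy => hy.1
  rw [(Pts2025.main codeUnique sqNorm_std32 (neg3_mem P).2 (by
    rw [Pts2025.dot_std32, Pts2025.coe_W]; simp [neg3, Pts2025.none_ne_P])).1]
  norm_num

/-- The centraliser. -/
noncomputable abbrev C : Subgroup G := Subgroup.centralizer ({toG t22} : Set G)

theorem card_C_le : Nat.card C ≤ 40320 := by
  have hmul := (MulAction.stabilizer C std32').card_mul_index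
  rw [MulAction.index_stabilizer] at hmul
  have horb : (MulAction.orbit C std32').ncard ≤ 105 := by
    refine le_trans (Set.ncard_le_ncard ?_ Y_finite) ncard_Y
    rintro _ ⟨c, rfl⟩
    refine ⟨?_, ?_⟩
    · rw [← orbit_eq]; exact ⟨c.1, rfl⟩
    · show toG t22 • (c.1 • std32') = c.1 • std32'
      rw [← mul_smul, ← Subgroup.mem_centralizer_singleton_iff.1 c.2, mul_smul]
      congr 1
      show emb (toG t22) • std32' = std32'
      rw [emb_toG, (incl_fix t22).2.2]
  have hst : Nat.card (MulAction.stabilizer C std32') ≤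
      Nat.card (Subgroup.centralizer ({t22} : Set Spor.M22)) := by
    have hmem : ∀ c : MulAction.stabilizer C std32', ∃ σ, toG σ = c.1.1 := fun c => by
      have h : c.1.1 ∈ MulAction.stabilizer G std32' := c.2
      rwa [stab_eq] at h
    choose σ hσ using hmem
    refine Nat.card_le_card_of_injective (fun c => (⟨σ c, ?_⟩ :
      Subgroup.centralizer ({t22} : Set Spor.M22))) fun c d e => ?_
    · refine Subgroup.mem_centralizer_singleton_iff.2 (toG_injective ?_)
      rw [map_mul, map_mul, hσ]
      exact Subgroup.mem_centralizer_singleton_iff.1 c.1.2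
    · refine Subtype.ext (Subtype.ext ?_)
      rw [← hσ c, ← hσ d]
      exact congrArg toG (congrArg Subtype.val e)
  have := Nat.mul_le_mul (hst.trans (M22Invol.card_centralizer_le orderOf_t22)) horb
  omega

/-! ### The 35 fixed vertices -/

/-- The vertices, as lattice vectors. -/
noncomputable def F (x : Fin 35) : leechLattice :=
  ⟨vecP (fixV.getD x.val []), by
    have hx : x.val < fixV.length := check_vecs.1.symm ▸ x.2
    have hv := List.all_eq_true.1 check_vecs.2.1 _ (List.getElem_mem hx)
    simp only [Bool.and_eq_true, decide_eq_true_eq] at hv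
    rw [List.getD_eq_getElem _ _ hx, ← inLB_vecL, vecL_vecP hv.1.1]
    exact hv.1.2⟩

theorem getD_mem (x : Fin 35) : fixV.getD x.val [] ∈ fixV := by
  have hx : x.val < fixV.length := check_vecs.1.symm ▸ x.2
  rw [List.getD_eq_getElem _ _ hx]
  exact List.getElem_mem hx

theorem vecL_F (x : Fin 35) : vecL (F x : GolayPt → ℤ) = fixV.getD x.val [] := by
  have hv := List.all_eq_true.1 check_vecs.2.1 _ (getD_mem x)
  simp only [Bool.and_eq_true, decide_eq_true_eq] at hv
  exact vecL_vecP hv.1.1

theorem F_injective : Function.Injective F := fun x y e => by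
  have h : fixV.getD x.val [] = fixV.getD y.val [] := by rw [← vecL_F, ← vecL_F, e]
  exact Fin.ext (M24.getD_inj check_vecs.2.2 [] (check_vecs.1.symm ▸ x.2)
    (check_vecs.1.symm ▸ y.2) h)

/-- The action of the centraliser on the lattice. -/
noncomputable def rho : C →* Equiv.Perm leechLattice := Spor.McL.subtype.comp C.subtype

theorem rho_apply (c : C) (v : leechLattice) : rho c v = emb c.1 • v := rfl

/-- The elements permuting the vertices. -/
noncomputable abbrev C0 : Subgroup C := LinearGroup.famStab rho F F_injective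

theorem rows_t : rows (emb (toG t22)) = permMat tTab := by
  rw [emb_toG]
  exact rows_permHom tab_t

theorem exists_gen {T : List (List ℤ)} (hT : T ∈ [tabA, tabB, tabQ]) :
    ∃ c : C, rows (emb c.1) = T := by
  obtain ⟨g, hg⟩ := exists_elem (List.all_eq_true.1 check_map T hT)
    (List.all_eq_true.1 check_map' T hT)
  have hf := List.all_eq_true.1 check_fix T hT
  simp only [Bool.and_eq_true, beq_iff_eq] at hf
  have h48 : g • std48 = std48 := Subtype.ext (vecL_inj (by
    rw [← mapP_rows g std48 (by rw [sqNorm_std48]; norm_num), hg, vecL_std48, hf.1]))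
  have h32 : g • std32 = std32 := Subtype.ext (vecL_inj (by
    rw [← mapP_rows g std32 (by rw [sqNorm_std32]; norm_num), hg, vecL_two.1, hf.2]))
  obtain ⟨y, rfl⟩ := exists_mcl h48 h32
  refine ⟨⟨y, Subgroup.mem_centralizer_singleton_iff.2 (OuterMcL.emb_injective (rows_injective ?_))⟩, hg⟩
  rw [map_mul, map_mul, ← mulP_rows, ← mulP_rows, hg, rows_t]
  exact check_comm T hT

theorem rho_F {c : C} {T : List (List ℤ)} (hc : rows (emb c.1) = T) {x y : Fin 35}
    (h : mapV T (fixV.getD x.val []) = fixV.getD y.val []) : rho c (F x) = F y := by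
  refine Subtype.ext (vecL_inj ?_)
  rw [rho_apply, ← mapV_rows, hc, vecL_F, vecL_F, h]

theorem t_mem_C : toG t22 ∈ C := Subgroup.mem_centralizer_singleton_iff.2 rfl

/-- The involution in its centraliser. -/
noncomputable abbrev tC : C := ⟨toG t22, t_mem_C⟩

theorem rho_t (x : Fin 35) : rho tC (F x) = F x := by
  refine rho_F (T := permMat tTab) rows_t ?_
  have hv := List.all_eq_true.1 check_vecs.2.1 _ (getD_mem x)
  simp only [Bool.and_eq_true, beq_iff_eq] at hv
  exact hv.2

theorem word_perm {x y : Equiv.Perm (Fin 35)} (hx : ⇑x = look permA) (hy : ⇑y = look permB) :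
    ∀ w : List ℕ, (∀ j ∈ w, j < 2) → ∀ i, word [x, y] w i = evalF w i
  | [], _, i => rfl
  | j :: w, hw, i => by
    have hj : j < 2 := hw j List.mem_cons_self
    rw [show word [x, y] (j :: w) = [x, y].getD j 1 * word [x, y] w from List.prod_cons,
      Equiv.Perm.mul_apply, word_perm hx hy w (fun k hk => hw k (List.mem_cons_of_mem _ hk)) i]
    interval_cases j
    · exact congrFun hx _
    · exact congrFun hy _

theorem card_SL : Nat.card LinearGroup.PSL42.G = 20160 := by
  obtain ⟨e⟩ := LinearGroup.PSL42.equiv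
  rw [Nat.card_congr e.toEquiv, nat_card_alternatingGroup, Nat.card_fin]
  norm_num [Nat.factorial]

theorem main :
    ∃ t : G, orderOf t = 2 ∧
      IsNonsplitDoubleCover ↥(Subgroup.centralizer ({t} : Set G)) ↥(alternatingGroup (Fin 8)) := by
  have hordt : orderOf (toG t22) = 2 := by rw [orderOf_injective toG toG_injective, orderOf_t22]
  refine ⟨toG t22, hordt, ?_⟩
  obtain ⟨a, ha⟩ := exists_gen (T := tabA) (by simp)
  obtain ⟨b, hb⟩ := exists_gen (T := tabB) (by simp)
  obtain ⟨q, hq⟩ := exists_gen (T := tabQ) (by simp)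
  have hfa : ∀ x, rho a (F x) = F (look permA x) := fun x => rho_F ha (check_act x).1
  have hfb : ∀ x, rho b (F x) = F (look permB x) := fun x => rho_F hb (check_act x).2
  have hst : LinearGroup.famStab (rho.comp C0.subtype) F F_injective = ⊤ :=
    top_le_iff.1 fun c _ => c.2
  let f : C0 →* Equiv.Perm (Fin 35) := LinearGroup.famHom _ F_injective hst
  let a0 : C0 := ⟨a, fun x => ⟨_, hfa x⟩⟩
  let b0 : C0 := ⟨b, fun x => ⟨_, hfb x⟩⟩
  let t0 : C0 := ⟨tC, fun x => ⟨_, rho_t x⟩⟩
  have fa : ⇑(f a0) = look permA := LinearGroup.famHom_eq _ F_injective hst a0 _ hfa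
  have fb : ⇑(f b0) = look permB := LinearGroup.famHom_eq _ F_injective hst b0 _ hfb
  have ft : f t0 = 1 :=
    DFunLike.coe_injective (LinearGroup.famHom_eq _ F_injective hst t0 id rho_t)
  -- the image contains the group of the lines
  have hrange : LinearGroup.PSL42.onLines.range ≤ f.range := by
    rw [MonoidHom.range_eq_map, ← LinearGroup.PSL42.closure_gens, MonoidHom.map_closure,
      Subgroup.closure_le]
    rintro _ ⟨_, ⟨i, j, hij, rfl⟩, rfl⟩
    refine ⟨word [a0, b0] (sigW.getD (4 * i.val + j.val) []), Equiv.ext fun x => ?_⟩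
    have hl : ∀ k ∈ sigW.getD (4 * i.val + j.val) [], k < 2 := by
      intro k hk
      rcases lt_or_ge (4 * i.val + j.val) sigW.length with h | h
      · rw [List.getD_eq_getElem _ _ h] at hk
        simpa using List.all_eq_true.1 (List.all_eq_true.1 check_letters _ (List.getElem_mem h)) k hk
      · rw [List.getD_eq_default _ _ h] at hk
        simp at hk
    rw [map_word]
    refine (word_perm (x := f a0) (y := f b0) fa fb _ hl x).trans ((check_words i j hij x).trans ?_)
    rw [LinearGroup.PSL42.onLines, LinearGroup.famHom_eq _ LinearGroup.PSL42.enc_injective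
      LinearGroup.PSL42.stab _ (LinearGroup.PSL42.sig i j) (LinearGroup.PSL42.rel_line i j hij)]
  have hlines : Nat.card LinearGroup.PSL42.onLines.range = 20160 := by
    rw [← Nat.card_congr (MonoidHom.ofInjective LinearGroup.PSL42.onLines_injective).toEquiv, card_SL]
  have hr : 20160 ≤ Nat.card f.range :=
    hlines ▸ Subgroup.card_le_of_le hrange
  have tne : tC ≠ 1 := fun e => by
    have h : toG t22 = 1 := congrArg Subtype.val e
    rw [h, orderOf_one] at hordt
    omega
  have hk : 2 ≤ Nat.card f.ker := by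
    have : Nontrivial f.ker := ⟨⟨⟨t0, ft⟩, 1, fun e => tne (congrArg (fun z : f.ker => z.1.1) e)⟩⟩
    exact Finite.one_lt_card
  have hC0 : Nat.card C0 = Nat.card f.ker * Nat.card f.range := by
    rw [← f.ker.card_mul_index, Subgroup.index_ker]
  have hle0 : Nat.card C0 ≤ Nat.card C := Subgroup.card_le_card_group C0
  have hC := card_C_le
  have hmul : 2 * 20160 ≤ Nat.card f.ker * Nat.card f.range := Nat.mul_le_mul hk hr
  have htop : C0 = ⊤ := Subgroup.eq_top_of_card_eq _ (by omega)
  have hr' : Nat.card f.range = 20160 := by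
    have := Nat.mul_le_mul_right (Nat.card f.range) hk
    omega
  have hk' : Nat.card f.ker = 2 := by
    have h2 : Nat.card f.ker * Nat.card f.range = 40320 := by omega
    rw [hr'] at h2
    omega
  have hrange' : LinearGroup.PSL42.onLines.range = f.range :=
    Subgroup.eq_of_le_of_card_ge hrange (by rw [hlines, hr'])
  -- transfer to the centraliser
  let e : C0 ≃* C := (MulEquiv.subgroupCongr htop).trans Subgroup.topEquiv
  let g : C →* Equiv.Perm (Fin 35) := f.comp e.symm.toMonoidHom
  have gr : g.range = f.range := by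
    ext z
    refine ⟨fun ⟨c, hc⟩ => ⟨_, hc⟩, fun ⟨c, hc⟩ => ⟨e c, ?_⟩⟩
    show f (e.symm (e c)) = z
    rw [e.symm_apply_apply, hc]
  have gk : ∀ c : C, g c = 1 → c = 1 ∨ c = tC := by
    intro c hc
    obtain ⟨u, -, huniq⟩ := (Nat.card_eq_two_iff' (1 : f.ker)).1 hk'
    by_cases h1 : (⟨e.symm c, hc⟩ : f.ker) = 1
    · left
      have : e.symm c = 1 := congrArg Subtype.val h1
      rw [← e.apply_symm_apply c, this, map_one]
    · right
      have h2 : (⟨e.symm c, hc⟩ : f.ker) = ⟨t0, ft⟩ := (huniq _ h1).trans
        (huniq _ fun h => tne (congrArg (fun z : f.ker => z.1.1) h)).symm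
      rw [← e.apply_symm_apply c, show e.symm c = t0 from congrArg Subtype.val h2]
      rfl
  have gt : g tC = 1 := by
    show f (e.symm tC) = 1
    rw [show e.symm tC = t0 from Subtype.ext rfl, ft]
  have htcent : tC ∈ Subgroup.center C := Subgroup.mem_center_iff.2 fun c =>
    Subtype.ext (Subgroup.mem_centralizer_singleton_iff.1 c.2)
  have eA : g.range ≃* alternatingGroup (Fin 8) :=
    ((MulEquiv.subgroupCongr (gr.trans hrange'.symm)).trans
      (MonoidHom.ofInjective LinearGroup.PSL42.onLines_injective).symm).trans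
      LinearGroup.PSL42.equiv.some
  have hcA : Subgroup.center (alternatingGroup (Fin 8)) = ⊥ := by
    have : IsSimpleGroup (alternatingGroup (Fin 8)) := alternatingGroup.isSimpleGroup (by simp)
    refine ((inferInstance : (Subgroup.center (alternatingGroup (Fin 8))).Normal).eq_bot_or_eq_top
      ).resolve_right fun htop => ?_
    have hmem : (⟨LinearGroup.PSL42.per 0 1, LinearGroup.PSL42.per_mem 0 1⟩ :
        alternatingGroup (Fin 8)) ∈ Subgroup.center (alternatingGroup (Fin 8)) :=
      htop.symm ▸ Subgroup.mem_top _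
    have hcomm := Subgroup.mem_center_iff.1 hmem
      ⟨LinearGroup.PSL42.per 1 0, LinearGroup.PSL42.per_mem 1 0⟩
    have hcomm' := congrArg Subtype.val hcomm
    revert hcomm'
    show LinearGroup.PSL42.per 1 0 * LinearGroup.PSL42.per 0 1 =
      LinearGroup.PSL42.per 0 1 * LinearGroup.PSL42.per 1 0 → False
    decide +kernel
  have hker : g.ker = Subgroup.center C := by
    refine le_antisymm (fun c hc => ?_) fun c hc => ?_
    · rcases gk c hc with rfl | rfl
      · exact Subgroup.one_mem _
      · exact htcent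
    · have h1 : eA (g.rangeRestrict c) ∈ Subgroup.center (alternatingGroup (Fin 8)) :=
        Subgroup.mem_center_iff.2 fun z => by
          obtain ⟨d, hd⟩ := g.rangeRestrict_surjective (eA.symm z)
          rw [← eA.apply_symm_apply z, ← hd, ← map_mul, ← map_mul, ← map_mul, ← map_mul,
            Subgroup.mem_center_iff.1 hc d]
      rw [hcA, Subgroup.mem_bot, EmbeddingLike.map_eq_one_iff] at h1
      exact congrArg Subtype.val h1
  refine ⟨?_, ⟨(QuotientGroup.quotientMulEquivOfEq hker.symm).trans
    ((QuotientGroup.quotientKerEquivRange g).trans eA)⟩, fun L hL => ?_⟩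
  · rw [← hker]
    have : g.ker ≃ f.ker :=
      { toFun := fun c => ⟨e.symm c.1, c.2⟩
        invFun := fun c => ⟨e c.1, by
          show f (e.symm (e c.1)) = 1
          rw [e.symm_apply_apply]; exact c.2⟩
        left_inv := fun c => Subtype.ext (e.apply_symm_apply c.1)
        right_inv := fun c => Subtype.ext (e.symm_apply_apply c.1) }
    rw [Nat.card_congr this, hk']
  · obtain ⟨⟨z, l⟩, hzl⟩ := hL.2 q
    have hzl' : (z : C) * l = q := hzl
    have hz2 : (z : C) * z = 1 := by
      have hzk : (z : C) ∈ g.ker := by rw [hker]; exact z.2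
      rcases gk _ hzk with h | h
      · rw [h, one_mul]
      · rw [h]
        refine Subtype.ext ?_
        show toG t22 * toG t22 = 1
        rw [← pow_two, ← hordt, pow_orderOf_eq_one]
    have hqq : q * q = tC := by
      refine Subtype.ext (OuterMcL.emb_injective (rows_injective ?_))
      rw [Subgroup.coe_mul, map_mul, ← mulP_rows, hq, rows_t]
      exact check_sq
    have hzc := Subgroup.mem_center_iff.1 z.2
    have htL : tC ∈ L := by
      have : q * q = (l : C) * l := by
        rw [← hzl']
        calc (z : C) * l * (z * l) = z * (l * z) * l := by group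
          _ = z * (z * l) * l := by rw [hzc]
          _ = (z * z) * (l * l) := by group
          _ = _ := by rw [hz2, one_mul]
      rw [← hqq, this]
      exact L.mul_mem l.2 l.2
    exact tne (Subgroup.disjoint_def.1 hL.disjoint htcent htL)

end Cfsg.Agent.SporStruct.McLInvol
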