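import Cfsg.Agent.SporStruct.LeechMcL

/-!
The McLaughlin configuration for an arbitrary pair.
-/

set_option autoImplicit false

namespace Cfsg.Agent.SporStruct

open Cfsg Cfsg.Agent.Leech
open scoped Pointwise

/-- A decomposition has an orthogonal companion. -/
theorem exists_companion' (hu : CodeUnique) {u v : leechLattice}
    (hn : sqNorm (u : GolayPt → ℤ) = 48) (hv : sqNorm (v : GolayPt → ℤ) = 32)
    (huv : dotInt (u : GolayPt → ℤ) (v : GolayPt → ℤ) = 24) :
    ∃ a : leechLattice, sqNorm (a : GolayPt → ℤ) = 32 ∧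
      dotInt (a : GolayPt → ℤ) (v : GolayPt → ℤ) = 0 ∧
      dotInt (u : GolayPt → ℤ) (a : GolayPt → ℤ) = 16 := by
  obtain ⟨g, hg⟩ := exists_smul_eq_std48 hu hn
  set y := ((g • v : leechLattice) : GolayPt → ℤ) with hy
  have hy24 : 4 * y none + ∑ i, y i = 24 := by
    rw [← dot_std48', ← hg, hy, dotInt_smul, dotInt_comm, huv]
  have back : ∀ a : leechLattice, sqNorm (a : GolayPt → ℤ) = 32 →
      dotInt (a : GolayPt → ℤ) y = 0 → dotInt (a : GolayPt → ℤ) (std48 : GolayPt → ℤ) = 16 →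
      ∃ a : leechLattice, sqNorm (a : GolayPt → ℤ) = 32 ∧
        dotInt (a : GolayPt → ℤ) (v : GolayPt → ℤ) = 0 ∧
        dotInt (u : GolayPt → ℤ) (a : GolayPt → ℤ) = 16 := by
    intro a h1 h2 h3
    refine ⟨g⁻¹ • a, (sqNorm_smul _ _).trans h1, ?_, ?_⟩
    · rw [← dotInt_smul g, smul_inv_smul, ← hy, h2]
    · rw [← dotInt_smul g, smul_inv_smul, hg, dotInt_comm, h3]
  have mk : ∀ j, j ≠ none → y j = y none →
      ∃ a : leechLattice, sqNorm (a : GolayPt → ℤ) = 32 ∧
        dotInt (a : GolayPt → ℤ) (v : GolayPt → ℤ) = 0 ∧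
        dotInt (u : GolayPt → ℤ) (a : GolayPt → ℤ) = 16 := by
    intro j hj h
    obtain ⟨hm, hn⟩ := four_spec hj.symm (Or.inl rfl : (4 : ℤ) = 4 ∨ (4 : ℤ) = -4)
      (Or.inr rfl : (-4 : ℤ) = 4 ∨ (-4 : ℤ) = -4)
    refine back ⟨_, hm⟩ hn ?_ ?_
    · rw [dotInt_four, h]; ring
    · rw [dotInt_four, coe_std48, coe_std48, if_pos rfl, if_neg hj]; norm_num
  rcases shape32 (x := y) (g • v).2 ((sqNorm_smul g v).trans hv) with
    ⟨p, q, hpq, hp, hq, h0⟩ | ⟨o, ho, h2, h0⟩ | ⟨p, hp, h1⟩
  · have vals : ∀ i, y i = 0 ∨ y i = 4 ∨ y i = -4 := fun i => by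
      by_cases e1 : i = p
      · subst e1; omega
      · by_cases e2 : i = q
        · subst e2; omega
        · exact Or.inl (h0 i e1 e2)
    have hsum : ∑ i, y i = y p + y q := Finset.sum_eq_add_of_mem p q (Finset.mem_univ p)
      (Finset.mem_univ q) hpq fun i _ hi => h0 i hi.1 hi.2
    have hvn := vals none
    have hn4 : y none = 4 := by omega
    obtain ⟨j, hj, hyj, hy4⟩ := coord_four_any (g • v).2 ((sqNorm_smul g v).trans hv) (p := none)
      (Or.inl hn4)
    rw [← hy, hn4] at hy4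
    rw [← hy] at hyj
    have hall : ∑ i, y i = 4 + y j := by
      conv_lhs => rw [hy4]
      exact sum_four _ _ _ _
    exact mk j hj (by omega)
  · obtain ⟨hle, heq⟩ := sum_neg_bound h2 h0
    rw [ho.2] at hle heq
    have hno : (none : GolayPt) ∈ o := by_contra fun e => by have := h0 _ e; omega
    have hvn := h2 none hno
    have htw : y = twos o := heq (by push_cast; omega)
    obtain ⟨j, hjo, hj⟩ := Finset.exists_mem_ne (by rw [ho.2]; norm_num : 1 < o.card) none
    exact mk j hj (by rw [htw, twos_of_mem hjo, twos_of_mem hno])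
  · obtain ⟨N, hN, hval, hiff⟩ := shape3_data (g • v).2 hp h1
    have hsum := sum_shape3 hval
    rw [← hy] at hsum hiff
    have hge : bit N p ≤ (N.card : ℤ) := by
      rw [← sum_bit]
      exact Finset.single_le_sum (f := fun i => bit N i)
        (fun i _ => by simp only [bit]; split_ifs <;> norm_num) (Finset.mem_univ p)
    by_cases hnp : none = p
    · subst hnp
      have hy3 : y none = 3 := by omega
      have hmem : (none : GolayPt) ∈ N := hiff.2 hy3
      simp only [bit, hmem, if_true] at hsum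
      have hN8 : N ∈ octads := ⟨hN, by omega⟩
      have hth : y = threeVec N none := funext fun i => by
        by_cases hi : i = none
        · subst hi; rw [hy3, threeVec_none hmem]
        · have := hval i hi
          rw [← hy] at this
          simp [threeVec, hi, this]
      obtain ⟨D, hD, h4, hnD, -⟩ := M24.exists_inter_four hN8 hmem hmem
      refine back ⟨twos D, (twos_mem hD).1⟩ (twos_mem hD).2 ?_ ?_
      · show dotInt (twos D) _ = _
        rw [hth, dotInt_twos_threeVec, if_neg hnD, Finset.inter_comm, h4, hD.2]; norm_num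
      · show dotInt (twos D) _ = _
        rw [dot_std48', sum_twos, hD.2, twos_of_notMem hnD]; norm_num
    · have hn1 := h1 none hnp
      by_contra hcon
      have hone : ∀ i, i ≠ none → i ≠ p → y i = - y none := fun i hi hip => by
        have h' := h1 i hip
        have : y i ≠ y none := fun e => hcon (mk i hi e)
        omega
      have hs : ∑ i, y i = y p + y none + 22 * (- y none) := by
        rw [Finset.sum_eq_add_sum_sdiff_singleton_of_mem (Finset.mem_univ p),
          Finset.sum_eq_add_sum_sdiff_singleton_of_mem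
            (Finset.mem_sdiff.2 ⟨Finset.mem_univ _, fun h => hnp (Finset.mem_singleton.1 h)⟩
              : (none : GolayPt) ∈ Finset.univ \ {p}),
          Finset.sum_congr rfl fun i hi => hone i (by simp at hi; exact hi.2)
            (by simp at hi; exact hi.1), Finset.sum_const,
          Finset.card_sdiff_of_subset (by simp [hnp]), Finset.card_sdiff_of_subset (by simp),
          Finset.card_univ, card_pt, Finset.card_singleton, Finset.card_singleton, nsmul_eq_mul]
        push_cast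
        ring
      omega

/-- The normal form of a decomposition. -/
theorem exists_smul_mc (hu : CodeUnique) {u v : leechLattice}
    (hn : sqNorm (u : GolayPt → ℤ) = 48) (hv : sqNorm (v : GolayPt → ℤ) = 32)
    (huv : dotInt (u : GolayPt → ℤ) (v : GolayPt → ℤ) = 24) :
    ∃ g : Co0, g • u = std48 ∧ g • v = std32 := by
  obtain ⟨a, ha, hav, hua⟩ := exists_companion' hu hn hv huv
  obtain ⟨g, h1, -, h3⟩ := exists_smul_triple hu hn ha hv hav hua huv
  exact ⟨g, h1, h3⟩

/-- The vertices of the configuration of a decomposition. -/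
def mcConfig (u v : leechLattice) : Set leechLattice :=
  {x | sqNorm (x : GolayPt → ℤ) = 32 ∧ sqNorm ((u : GolayPt → ℤ) - (x : GolayPt → ℤ)) = 32 ∧
    dotInt (v : GolayPt → ℤ) (x : GolayPt → ℤ) = 16}

theorem dot_of_sub {u v : GolayPt → ℤ} (hn : sqNorm u = 48) (hv : sqNorm v = 32) :
    sqNorm (u - v) = 32 ↔ dotInt u v = 24 := by
  rw [sqNorm_sub, hn, hv]
  omega

theorem mem_mcConfig_iff {u v x : leechLattice} (hn : sqNorm (u : GolayPt → ℤ) = 48) :
    x ∈ mcConfig u v ↔ sqNorm (x : GolayPt → ℤ) = 32 ∧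
      dotInt (x : GolayPt → ℤ) (u : GolayPt → ℤ) = 24 ∧
      dotInt (x : GolayPt → ℤ) (v : GolayPt → ℤ) = 16 := by
  rw [mcConfig, Set.mem_ofPred_eq, dotInt_comm (x : GolayPt → ℤ), dotInt_comm (x : GolayPt → ℤ)]
  exact and_congr_right fun h => and_congr (dot_of_sub hn h) Iff.rfl

theorem smul_mem_mc_iff {u v : leechLattice} (hn : sqNorm (u : GolayPt → ℤ) = 48) {g : Co0}
    (h1 : g • u = std48) (h2 : g • v = std32) (x : leechLattice) :
    x ∈ mcConfig u v ↔ g • x ∈ mcStd := by
  rw [mem_mcConfig_iff hn, mcStd, Set.mem_ofPred_eq, ← h1, ← h2, dotInt_smul, dotInt_smul,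
    sqNorm_smul]

/-- The octads through the points of `s` avoiding `p`. -/
noncomputable def octAvoid (s : Finset GolayPt) (p : GolayPt) : Finset (Finset GolayPt) :=
  (blocksThrough octads s).filter fun o => p ∉ o

theorem card_octAvoid {s : Finset GolayPt} {p : GolayPt} :
    (octAvoid s p).card + (blocksThrough octads (insert p s)).card =
      (blocksThrough octads s).card := by
  rw [octAvoid, ← Finset.card_filter_add_card_filter_not (s := blocksThrough octads s)
    (fun o => p ∉ o)]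
  congr 1
  refine congrArg Finset.card (Finset.ext fun o => ?_)
  simp only [mem_blocksThrough, Finset.mem_filter, not_not, Finset.insert_subset_iff]
  tauto

theorem card_through {s : Finset GolayPt} {c : ℕ} (hs : s.card = c) (hc : c ≤ 3) :
    (blocksThrough octads s).card = [759, 253, 77, 21].getD c 0 := by
  have h := M24.card_octadsThrough_mul (s := s) (by omega)
  rw [hs] at h
  interval_cases c <;> norm_num [Nat.choose] at h ⊢ <;> omega

/-- The 22 vertices of the first kind. -/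
def mcPoints (S : Finset GolayPt) : Finset (GolayPt → ℤ) := Sᶜ.image fun j => four none j 4 4

theorem card_mcPoints {S : Finset GolayPt} (h : none ∈ S) :
    (mcPoints S).card = 24 - S.card := by
  rw [mcPoints, Finset.card_image_of_injOn, Finset.card_compl, Golay.card_golayPt]
  intro j hj k hk e
  simp only [Finset.coe_compl, Set.mem_compl_iff, Finset.mem_coe] at hj hk
  exact four_inj_right (fun e => hj (e ▸ h)) (fun e => hk (e ▸ h)) e

theorem mem_mcPoints {S : Finset GolayPt} {x : GolayPt → ℤ} :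
    x ∈ mcPoints S ↔ ∃ j, j ∉ S ∧ x = four none j 4 4 := by
  simp [mcPoints, eq_comm]

/-- The hexad vertices over a family of octads. -/
noncomputable def mcHexads (F : Finset (Finset GolayPt)) : Finset (GolayPt → ℤ) := F.image twos

/-- The vertices of the third kind over a family of octads. -/
noncomputable def mcOctads (F : Finset (Finset GolayPt)) : Finset (GolayPt → ℤ) :=
  F.image fun o => threeVec o none

theorem card_mcHexads (F : Finset (Finset GolayPt)) : (mcHexads F).card = F.card :=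
  Finset.card_image_of_injective _ twos_injective

theorem card_mcOctads (F : Finset (Finset GolayPt)) : (mcOctads F).card = F.card :=
  Finset.card_image_of_injective _ (threeVec_injective none)

theorem mem_mcHexads {F : Finset (Finset GolayPt)} {x : GolayPt → ℤ} :
    x ∈ mcHexads F ↔ ∃ o ∈ F, x = twos o := by
  simp [mcHexads, eq_comm]

theorem mem_mcOctads {F : Finset (Finset GolayPt)} {x : GolayPt → ℤ} :
    x ∈ mcOctads F ↔ ∃ o ∈ F, x = threeVec o none := by
  simp [mcOctads, eq_comm]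

theorem disjoint_kinds {S : Finset GolayPt} (hS : none ∈ S) {F G : Finset (Finset GolayPt)}
    (hF : ∀ o ∈ F, none ∈ o) (hG : ∀ o ∈ G, none ∈ o) :
    Disjoint (mcPoints S) (mcHexads F) ∧ Disjoint (mcPoints S) (mcOctads G) ∧
      Disjoint (mcHexads F) (mcOctads G) := by
  have hp : ∀ {x}, x ∈ mcPoints S → x none = 4 := fun hx => by
    obtain ⟨j, hj, rfl⟩ := mem_mcPoints.1 hx
    exact four_apply_left (fun e => hj (by rw [← e]; exact hS)) 4 4
  have hh : ∀ {x}, x ∈ mcHexads F → x none = 2 := fun hx => by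
    obtain ⟨o, ho, rfl⟩ := mem_mcHexads.1 hx
    exact twos_of_mem (hF o ho)
  have ht : ∀ {x}, x ∈ mcOctads G → x none = 3 := fun hx => by
    obtain ⟨o, ho, rfl⟩ := mem_mcOctads.1 hx
    exact threeVec_none (hG o ho)
  refine ⟨Finset.disjoint_left.2 fun x a b => ?_, Finset.disjoint_left.2 fun x a b => ?_,
    Finset.disjoint_left.2 fun x a b => ?_⟩
  · have := hp a; have := hh b; omega
  · have := hp a; have := ht b; omega
  · have := hh a; have := ht b; omega

/-- All 275 vertices. -/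
noncomputable def mcAll : Finset (GolayPt → ℤ) :=
  mcPoints {none, some 0} ∪ mcHexads octPair ∪ mcOctads (octAvoid {none} (some 0))

theorem mem_octAvoid {s : Finset GolayPt} {p : GolayPt} {o : Finset GolayPt} :
    o ∈ octAvoid s p ↔ (o ∈ octads ∧ s ⊆ o) ∧ p ∉ o := by
  simp [octAvoid, mem_blocksThrough]

theorem card_mcAll : mcAll.card = 275 := by
  obtain ⟨d1, d2, d3⟩ := disjoint_kinds (S := {none, some 0}) (by simp)
    (F := octPair) (G := octAvoid {none} (some 0)) (fun o ho => (mem_octPair.1 ho).2.1)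
    (fun o ho => Finset.singleton_subset_iff.1 (mem_octAvoid.1 ho).1.2)
  have h := card_octAvoid (s := {none}) (p := some 0)
  rw [card_through (Finset.card_singleton none) (by norm_num),
    card_through (c := 2) (Finset.card_pair (by simp)) (by norm_num)] at h
  simp at h
  rw [mcAll, Finset.card_union_of_disjoint (Finset.disjoint_union_left.2 ⟨d2, d3⟩),
    Finset.card_union_of_disjoint d1, card_mcPoints (by simp), card_mcHexads, card_mcOctads,
    card_octPair, Finset.card_pair (by simp)]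
  omega

theorem mem_mcAll {x : GolayPt → ℤ} :
    x ∈ mcAll ↔ x ∈ leechLattice ∧ sqNorm x = 32 ∧ dotInt x (std48 : GolayPt → ℤ) = 24 ∧
      dotInt x (std32 : GolayPt → ℤ) = 16 := by
  simp only [mcAll, Finset.mem_union, mem_mcPoints, mem_mcHexads, mem_mcOctads, mem_octPair,
    mem_octAvoid, Finset.singleton_subset_iff, Finset.mem_insert, Finset.mem_singleton, not_or]
  constructor
  · rintro ((⟨j, ⟨hj1, hj2⟩, rfl⟩ | ⟨o, ⟨ho, hn, h0⟩, rfl⟩) | ⟨o, ⟨⟨ho, hn⟩, h0⟩, rfl⟩)
    · exact ⟨(four_spec (Ne.symm hj1) (Or.inl rfl) (Or.inl rfl)).1,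
        (four_spec (Ne.symm hj1) (Or.inl rfl) (Or.inl rfl)).2, mc_point_dots hj1 hj2⟩
    · exact ⟨(twos_mem ho).1, (twos_mem ho).2, mc_hexad_dots ho hn h0⟩
    · exact ⟨(threeVec_mem ho hn).1, (threeVec_mem ho hn).2, mc_octad_dots ho hn h0⟩
  · rintro ⟨hx, hn, h1, h2⟩
    rcases mc_cases hx hn h1 h2 with ⟨j, a, b, c⟩ | ⟨o, ho, a, b, c⟩ | ⟨o, ho, a, b, c⟩
    · exact Or.inl (Or.inl ⟨j, ⟨a, b⟩, c⟩)
    · exact Or.inl (Or.inr ⟨o, ⟨ho, a, b⟩, c⟩)
    · exact Or.inr ⟨o, ⟨⟨ho, a⟩, b⟩, c⟩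

/-- Transporting a count to standard position. -/
theorem ncard_transport {u v : leechLattice} (hn : sqNorm (u : GolayPt → ℤ) = 48) {g : Co0}
    (h1 : g • u = std48) (h2 : g • v = std32) (P : leechLattice → Prop)
    (Q : (GolayPt → ℤ) → Prop) (hPQ : ∀ x, P x ↔ Q ((g • x : leechLattice) : GolayPt → ℤ))
    [DecidablePred Q] :
    {x : leechLattice | x ∈ mcConfig u v ∧ P x}.ncard = (mcAll.filter Q).card := by
  rw [← Set.ncard_coe_finset]
  refine Set.ncard_congr (fun x _ => ((g • x : leechLattice) : GolayPt → ℤ)) (fun x hx => ?_)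
    (fun x y _ _ h => smul_left_cancel g (Subtype.ext h)) (fun z hz => ?_)
  · obtain ⟨a, b, c⟩ := (smul_mem_mc_iff hn h1 h2 x).1 hx.1
    exact Finset.mem_filter.2 ⟨mem_mcAll.2 ⟨(g • x).2, a, b, c⟩, (hPQ x).1 hx.2⟩
  · obtain ⟨hzA, hzQ⟩ := Finset.mem_filter.1 hz
    obtain ⟨hzL, a, b, c⟩ := mem_mcAll.1 hzA
    refine ⟨g⁻¹ • ⟨z, hzL⟩, ⟨?_, ?_⟩, by rw [smul_inv_smul]⟩
    · rw [smul_mem_mc_iff hn h1 h2, smul_inv_smul]
      exact ⟨a, b, c⟩
    · rw [hPQ, smul_inv_smul]
      exact hzQ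

theorem mcConfig_count (hu : CodeUnique) {u v : leechLattice}
    (hn : sqNorm (u : GolayPt → ℤ) = 48) (hv : sqNorm (v : GolayPt → ℤ) = 32)
    (huv : dotInt (u : GolayPt → ℤ) (v : GolayPt → ℤ) = 24) :
    (mcConfig u v).ncard = 275 := by
  obtain ⟨g, h1, h2⟩ := exists_smul_mc hu hn hv huv
  have h := ncard_transport hn h1 h2 (fun _ => True) (fun _ => True) (fun _ => Iff.rfl)
  rw [Finset.filter_true_of_mem fun _ _ => trivial, card_mcAll] at h
  rw [← h]
  congr 1
  ext x
  simp

theorem exists_smul_mc_vertex (hu : CodeUnique) {u v x : leechLattice}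
    (hn : sqNorm (u : GolayPt → ℤ) = 48) (hv : sqNorm (v : GolayPt → ℤ) = 32)
    (huv : dotInt (u : GolayPt → ℤ) (v : GolayPt → ℤ) = 24) (hx : x ∈ mcConfig u v) :
    ∃ g : Co0, g • u = std48 ∧ g • v = std32 ∧ g • x = mcPoint := by
  obtain ⟨g, h1, h2⟩ := exists_smul_mc hu hn hv huv
  obtain ⟨h, k1, k2, k3⟩ := exists_smul_mcPoint hu ((smul_mem_mc_iff hn h1 h2 x).1 hx)
  exact ⟨h * g, by rw [mul_smul, h1, k1], by rw [mul_smul, h2, k2], by rw [mul_smul, k3]⟩

theorem mcConfig_transitive (hu : CodeUnique) {u v x x' : leechLattice}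
    (hn : sqNorm (u : GolayPt → ℤ) = 48) (hv : sqNorm (v : GolayPt → ℤ) = 32)
    (huv : dotInt (u : GolayPt → ℤ) (v : GolayPt → ℤ) = 24) (hx : x ∈ mcConfig u v)
    (hx' : x' ∈ mcConfig u v) : ∃ g : Co0, g • u = u ∧ g • v = v ∧ g • x = x' := by
  obtain ⟨g, a1, a2, a3⟩ := exists_smul_mc_vertex hu hn hv huv hx
  obtain ⟨h, b1, b2, b3⟩ := exists_smul_mc_vertex hu hn hv huv hx'
  refine ⟨h⁻¹ * g, ?_, ?_, ?_⟩
  · rw [mul_smul, a1, ← b1, inv_smul_smul]
  · rw [mul_smul, a2, ← b2, inv_smul_smul]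
  · rw [mul_smul, a3, ← b3, inv_smul_smul]

theorem dot_mcPoint_point {j : GolayPt} (hjn : j ≠ none) :
    dotInt (mcPoint : GolayPt → ℤ) (four none j 4 4) = if j = some 1 then 32 else 16 := by
  rw [coe_mcPoint, dotInt_four, four_apply_left hjn.symm]
  split_ifs with h
  · subst h; rw [four_apply_right (by simp)]; rfl
  · simp [four, Ne.symm h]

theorem dot_mcPoint_hexad {o : Finset GolayPt} (hn : none ∈ o) :
    dotInt (mcPoint : GolayPt → ℤ) (twos o) = if some 1 ∈ o then 16 else 8 := by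
  rw [coe_mcPoint, dotInt_four, twos_of_mem hn]
  split_ifs with h
  · rw [twos_of_mem h]; rfl
  · rw [twos_of_notMem h]; rfl

theorem dot_mcPoint_octad {o : Finset GolayPt} (hn : none ∈ o) :
    dotInt (mcPoint : GolayPt → ℤ) (threeVec o none) = if some 1 ∈ o then 8 else 16 := by
  rw [coe_mcPoint, dotInt_four, threeVec_none hn]
  split_ifs with h
  · rw [threeVec_of_mem h (by simp)]; rfl
  · rw [threeVec_of_notMem h (by simp)]; rfl

theorem mem_mcAll_cases {x : GolayPt → ℤ} (hx : x ∈ mcAll) :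
    (∃ j, j ≠ none ∧ j ≠ some 0 ∧ x = four none j 4 4) ∨
      (∃ o ∈ octads, none ∈ o ∧ some 0 ∈ o ∧ x = twos o) ∨
      ∃ o ∈ octads, none ∈ o ∧ some 0 ∉ o ∧ x = threeVec o none := by
  obtain ⟨a, b, c, d⟩ := mem_mcAll.1 hx
  exact mc_cases a b c d

/-- The 112 vertices with product 8. -/
theorem card_mcEight :
    (mcAll.filter fun x => dotInt (mcPoint : GolayPt → ℤ) x = 8).card = 112 := by
  have h01 : (some 0 : GolayPt) ≠ some 1 := by decide
  have hset : (mcAll.filter fun x => dotInt (mcPoint : GolayPt → ℤ) x = 8) =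
      mcHexads (octAvoid {none, some 0} (some 1)) ∪ mcOctads (octAvoid {none, some 1} (some 0)) := by
    ext x
    simp only [Finset.mem_filter, Finset.mem_union, mem_mcHexads, mem_mcOctads, mem_octAvoid,
      Finset.insert_subset_iff, Finset.singleton_subset_iff]
    constructor
    · rintro ⟨hx, hd⟩
      rcases mem_mcAll_cases hx with ⟨j, hjn, hj0, rfl⟩ | ⟨o, ho, a, b, rfl⟩ | ⟨o, ho, a, b, rfl⟩
      · rw [dot_mcPoint_point hjn] at hd; split_ifs at hd <;> omega
      · rw [dot_mcPoint_hexad a] at hd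
        refine Or.inl ⟨o, ⟨⟨ho, a, b⟩, fun h => ?_⟩, rfl⟩
        rw [if_pos h] at hd; omega
      · rw [dot_mcPoint_octad a] at hd
        refine Or.inr ⟨o, ⟨⟨ho, a, by_contra fun h => ?_⟩, b⟩, rfl⟩
        rw [if_neg h] at hd; omega
    · rintro (⟨o, ⟨⟨ho, a, b⟩, c⟩, rfl⟩ | ⟨o, ⟨⟨ho, a, b⟩, c⟩, rfl⟩)
      · exact ⟨mem_mcAll.2 ⟨(twos_mem ho).1, (twos_mem ho).2, mc_hexad_dots ho a b⟩,
          by rw [dot_mcPoint_hexad a, if_neg c]⟩
      · exact ⟨mem_mcAll.2 ⟨(threeVec_mem ho a).1, (threeVec_mem ho a).2, mc_octad_dots ho a c⟩,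
          by rw [dot_mcPoint_octad a, if_pos b]⟩
  rw [hset, Finset.card_union_of_disjoint (disjoint_kinds (S := {none}) (by simp)
    (fun o ho => (mem_octAvoid.1 ho).1.2 (by simp))
    (fun o ho => (mem_octAvoid.1 ho).1.2 (by simp))).2.2, card_mcHexads, card_mcOctads]
  have c2 : ∀ a b : GolayPt, a ≠ b → (blocksThrough octads {a, b}).card = 77 := fun a b hab =>
    card_through (c := 2) (Finset.card_pair hab) (by norm_num)
  have c3 : ∀ a b c : GolayPt, a ≠ b → a ≠ c → b ≠ c →
      (blocksThrough octads {a, b, c}).card = 21 := fun a b c h1 h2 h3 =>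
    card_through (c := 3) (Finset.card_eq_three.2 ⟨a, b, c, h1, h2, h3, rfl⟩) (by norm_num)
  have e1 := card_octAvoid (s := {none, some 0}) (p := some 1)
  have e2 := card_octAvoid (s := {none, some 1}) (p := some 0)
  rw [c2 _ _ (by simp), c3 _ _ _ (by simp) h01.symm (by simp)] at e1
  rw [c2 _ _ (by simp), c3 _ _ _ (by simp) h01 (by simp)] at e2
  omega

theorem card_mcSixteen :
    (mcAll.filter fun x => x ≠ (mcPoint : GolayPt → ℤ) ∧
      dotInt (mcPoint : GolayPt → ℤ) x = 16).card = 162 := by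
  have hq : (mcPoint : GolayPt → ℤ) ∈ mcAll := mem_mcAll.2
    ⟨mcPoint.2, sqNorm_mcPoint, mc_point_dots (j := some 1) (by simp) (by decide)⟩
  have hsplit : mcAll = insert (mcPoint : GolayPt → ℤ)
      ((mcAll.filter fun x => dotInt (mcPoint : GolayPt → ℤ) x = 8) ∪
        mcAll.filter fun x => x ≠ (mcPoint : GolayPt → ℤ) ∧
          dotInt (mcPoint : GolayPt → ℤ) x = 16) := by
    ext x
    simp only [Finset.mem_insert, Finset.mem_union, Finset.mem_filter]
    constructor
    · intro hx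
      by_cases he : x = (mcPoint : GolayPt → ℤ)
      · exact Or.inl he
      · right
        rcases mem_mcAll_cases hx with ⟨j, hjn, hj0, rfl⟩ | ⟨o, ho, a, b, rfl⟩ | ⟨o, ho, a, b, rfl⟩
        · refine Or.inr ⟨hx, he, ?_⟩
          rw [dot_mcPoint_point hjn, if_neg (fun e => he (by rw [e, coe_mcPoint]))]
        · rw [dot_mcPoint_hexad a]
          split_ifs
          · exact Or.inr ⟨hx, he, rfl⟩
          · exact Or.inl ⟨hx, rfl⟩
        · rw [dot_mcPoint_octad a]
          split_ifs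
          · exact Or.inl ⟨hx, rfl⟩
          · exact Or.inr ⟨hx, he, rfl⟩
    · rintro (rfl | ⟨h, -⟩ | ⟨h, -⟩)
      exacts [hq, h, h]
  have h := card_mcAll
  rw [hsplit, Finset.card_insert_of_notMem, Finset.card_union_of_disjoint, card_mcEight] at h
  · omega
  · rw [Finset.disjoint_left]
    intro x hx hx'
    simp only [Finset.mem_filter] at hx hx'
    omega
  · simp only [Finset.mem_union, Finset.mem_filter, not_or]
    refine ⟨fun hh => ?_, fun hh => hh.2.1 rfl⟩
    rw [dotInt_self, sqNorm_mcPoint] at hh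
    omega

theorem mcConfig_rank_three (hu : CodeUnique) {u v x : leechLattice}
    (hn : sqNorm (u : GolayPt → ℤ) = 48) (hv : sqNorm (v : GolayPt → ℤ) = 32)
    (huv : dotInt (u : GolayPt → ℤ) (v : GolayPt → ℤ) = 24) (hx : x ∈ mcConfig u v) :
    {y : leechLattice | y ∈ mcConfig u v ∧
      dotInt (x : GolayPt → ℤ) (y : GolayPt → ℤ) = 8}.ncard = 112 ∧
    {y : leechLattice | y ∈ mcConfig u v ∧ y ≠ x ∧
      dotInt (x : GolayPt → ℤ) (y : GolayPt → ℤ) = 16}.ncard = 162 ∧
    ∀ y ∈ mcConfig u v, ∀ y' ∈ mcConfig u v, y ≠ x → y' ≠ x →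
      dotInt (x : GolayPt → ℤ) (y : GolayPt → ℤ) = dotInt (x : GolayPt → ℤ) (y' : GolayPt → ℤ) →
      ∃ g : Co0, g • u = u ∧ g • v = v ∧ g • x = x ∧ g • y = y' := by
  obtain ⟨g, g1, g2, g3⟩ := exists_smul_mc_vertex hu hn hv huv hx
  have dt : ∀ y : leechLattice, dotInt (x : GolayPt → ℤ) (y : GolayPt → ℤ) =
      dotInt (mcPoint : GolayPt → ℤ) ((g • y : leechLattice) : GolayPt → ℤ) := fun y => by
    rw [← g3, dotInt_smul]
  have ne : ∀ y, y ≠ x ↔ g • y ≠ mcPoint := fun y => by
    rw [← g3, ne_eq, ne_eq, smul_left_cancel_iff]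
  have ne' : ∀ y, y ≠ x ↔ ((g • y : leechLattice) : GolayPt → ℤ) ≠ (mcPoint : GolayPt → ℤ) :=
    fun y => (ne y).trans (not_congr Subtype.ext_iff)
  refine ⟨?_, ?_, fun y hy y' hy' hne hne' he => ?_⟩
  · rw [ncard_transport hn g1 g2 (fun y => dotInt (x : GolayPt → ℤ) (y : GolayPt → ℤ) = 8)
      (fun z => dotInt (mcPoint : GolayPt → ℤ) z = 8) (fun y => by rw [dt]), card_mcEight]
  · rw [ncard_transport hn g1 g2
      (fun y => y ≠ x ∧ dotInt (x : GolayPt → ℤ) (y : GolayPt → ℤ) = 16)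
      (fun z => z ≠ (mcPoint : GolayPt → ℤ) ∧ dotInt (mcPoint : GolayPt → ℤ) z = 16)
      (fun y => and_congr (ne' y) (by rw [dt])), card_mcSixteen]
  · rw [dt y, dt y'] at he
    have ys := (smul_mem_mc_iff hn g1 g2 y).1 hy
    have ys' := (smul_mem_mc_iff hn g1 g2 y').1 hy'
    obtain ⟨p, p1, p2, p3, p4⟩ : ∃ p : Co0, p • std48 = std48 ∧ p • std32 = std32 ∧
        p • mcPoint = mcPoint ∧ p • (g • y) = g • y' := by
      by_cases h16 : dotInt (mcPoint : GolayPt → ℤ) ((g • y : leechLattice) : GolayPt → ℤ) = 16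
      · obtain ⟨a, a1, a2, a3, a4⟩ := exists_smul_sixteen hu ys ((ne y).1 hne) h16
        obtain ⟨b, b1, b2, b3, b4⟩ := exists_smul_sixteen hu ys' ((ne y').1 hne') (he ▸ h16)
        refine ⟨b⁻¹ * a, ?_, ?_, ?_, ?_⟩
        · rw [mul_smul, a1, inv_smul_eq_iff, b1]
        · rw [mul_smul, a2, inv_smul_eq_iff, b2]
        · rw [mul_smul, a3, inv_smul_eq_iff, b3]
        · rw [mul_smul, a4, ← b4, inv_smul_smul]
      · have h8 : dotInt (mcPoint : GolayPt → ℤ) ((g • y : leechLattice) : GolayPt → ℤ) = 8 := by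
          rcases mc_cases (g • y).2 ys.1 ys.2.1 ys.2.2 with
            ⟨j, hjn, hj0, e⟩ | ⟨o, ho, a, b, e⟩ | ⟨o, ho, a, b, e⟩
          · exfalso
            rw [e, dot_mcPoint_point hjn, if_neg] at h16
            · exact h16 rfl
            · rintro rfl
              exact (ne y).1 hne (Subtype.ext e)
          · rw [e, dot_mcPoint_hexad a] at h16 ⊢
            split_ifs at h16 ⊢ with h
            · exact absurd rfl h16
            · rfl
          · rw [e, dot_mcPoint_octad a] at h16 ⊢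
            split_ifs at h16 ⊢ with h
            · rfl
            · exact absurd rfl h16
        obtain ⟨a, o, a1, a2, a3, ho, on, o0, o1, a4⟩ := exists_smul_eight hu ys h8
        obtain ⟨b, o', b1, b2, b3, ho', on', o0', o1', b4⟩ := exists_smul_eight hu ys' (he ▸ h8)
        obtain ⟨c, c1, c2, c3, c4⟩ := exists_smul_hexads ho ho' on o0 o1 on' o0' o1' a4 b4
        refine ⟨b⁻¹ * c * a, ?_, ?_, ?_, ?_⟩
        · rw [mul_smul, mul_smul, a1, c1, inv_smul_eq_iff, b1]
        · rw [mul_smul, mul_smul, a2, c2, inv_smul_eq_iff, b2]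
        · rw [mul_smul, mul_smul, a3, c3, inv_smul_eq_iff, b3]
        · rw [mul_smul, mul_smul, c4, inv_smul_smul]
    refine ⟨g⁻¹ * p * g, ?_, ?_, ?_, ?_⟩
    · rw [mul_smul, mul_smul, g1, p1, ← g1, inv_smul_smul]
    · rw [mul_smul, mul_smul, g2, p2, ← g2, inv_smul_smul]
    · rw [mul_smul, mul_smul, g3, p3, ← g3, inv_smul_smul]
    · rw [mul_smul, mul_smul, p4, inv_smul_smul]

end Cfsg.Agent.SporStruct
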