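import Cfsg.Agent.Lib.Leech.Normalisers

/-!
Integer tables for elements of Co0: the 24 images of the frame.
-/

set_option autoImplicit false

namespace Cfsg.Agent.SporStruct.CoMatrix

open Cfsg Cfsg.Agent.Leech
open Cfsg.Agent.Golay (pt idx idx_lt pt_idx idx_pt Tab toSet mem_toSet inCode genN)

/-- The coordinates of a vector, by index. -/
def vecL (v : GolayPt → ℤ) : List ℤ := (List.range 24).map fun i => v (pt i)

/-- Add a multiple of a row. -/
def addRow (acc : List ℤ) (a : ℤ) (r : List ℤ) : List ℤ :=
  if a = 0 then acc else List.zipWith (fun x y => x + a * y) acc r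

/-- A linear combination of rows. -/
def combR : List ℤ → List (List ℤ) → List ℤ
  | [], _ => List.replicate 24 0
  | _ :: _, [] => List.replicate 24 0
  | a :: as, r :: rs => addRow (combR as rs) a r

/-- The image of a vector under a table. -/
def mapV (T : List (List ℤ)) (v : List ℤ) : List ℤ := (combR v T).map (· / 8)

/-- Composition of tables. -/
def mulM (A B : List (List ℤ)) : List (List ℤ) := B.map (mapV A)

/-- The table of a permutation of the frame. -/
def permMat (l : List ℕ) : List (List ℤ) :=
  (List.range 24).map fun i => (List.range 24).map fun k => if k = l.getD i 0 then 8 else 0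

/-- The table of the identity. -/
def idMat : List (List ℤ) := permMat (List.range 24)

/-- The product of a word in given tables. -/
def evalW (G : List (List (List ℤ))) (w : List ℕ) : List (List ℤ) :=
  w.foldr (fun j acc => mulM (G.getD j idMat) acc) idMat

/-- A power of a table. -/
def powM (A : List (List ℤ)) : ℕ → List (List ℤ)
  | 0 => idMat
  | n + 1 => mulM A (powM A n)

/-- The table of an element. -/
noncomputable def rows (g : Co0) : List (List ℤ) :=
  (List.range 24).map fun i => vecL ((g • frame (pt i) : leechLattice) : GolayPt → ℤ)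

theorem getD_range_map {α : Type*} (f : ℕ → α) (d : α) {i : ℕ} (hi : i < 24) :
    ((List.range 24).map f).getD i d = f i := by
  rw [List.getD_eq_getElem _ _ (by simpa using hi)]
  simp

theorem range_map_congr {α : Type*} {f g : ℕ → α} (h : ∀ i < 24, f i = g i) :
    (List.range 24).map f = (List.range 24).map g :=
  List.map_congr_left fun i hi => h i (List.mem_range.1 hi)

theorem vecL_inj {v w : GolayPt → ℤ} (h : vecL v = vecL w) : v = w := funext fun p => by
  have e := congrArg (fun l => List.getD l (idx p) 0) h
  simp only [vecL, getD_range_map _ _ (idx_lt p), pt_idx] at e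
  exact e

theorem combR_map (f : ℕ → ℤ) (F : ℕ → ℕ → ℤ) : ∀ L : List ℕ,
    combR (L.map f) (L.map fun i => (List.range 24).map (F i)) =
      (List.range 24).map fun k => (L.map fun i => f i * F i k).sum
  | [] => by
    simp only [List.map_nil, combR, List.sum_nil]
    decide +kernel
  | i :: L => by
    simp only [List.map_cons, combR, combR_map f F L, addRow]
    split_ifs with h
    · simp [h]
    · rw [List.zipWith_map, List.zipWith_self]
      exact List.map_congr_left fun k _ => by simp [add_comm]

theorem sum_range_eq (h : ℕ → ℤ) : ((List.range 24).map h).sum = ∑ p : GolayPt, h (idx p) := by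
  have e : ((List.range 24).map h).sum = ∑ i ∈ Finset.range 24, h i := rfl
  rw [e]
  refine (Finset.sum_bij' (fun p _ => idx p) (fun i _ => pt i) ?_ ?_ ?_ ?_ ?_).symm
  · intro p _; exact Finset.mem_range.2 (idx_lt p)
  · intro i _; exact Finset.mem_univ _
  · intro p _; exact pt_idx p
  · intro i hi; exact idx_pt (Finset.mem_range.1 hi)
  · intro p _; rfl

theorem combR_vecL (v : GolayPt → ℤ) (F : GolayPt → GolayPt → ℤ) :
    combR (vecL v) ((List.range 24).map fun i => vecL (F (pt i))) =
      vecL fun k => ∑ p, v p * F p k := by
  rw [vecL, show (fun i => vecL (F (pt i))) = fun i => (List.range 24).map (fun k => F (pt i) (pt k))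
    from rfl, combR_map (fun i => v (pt i)) (fun i k => F (pt i) (pt k)), vecL]
  refine List.map_congr_left fun k _ => ?_
  rw [sum_range_eq]
  simp only [pt_idx]

/-- Applying the table of an element. -/
theorem mapV_rows (g : Co0) (v : leechLattice) :
    mapV (rows g) (vecL (v : GolayPt → ℤ)) = vecL ((g • v : leechLattice) : GolayPt → ℤ) := by
  rw [mapV, rows, combR_vecL (v : GolayPt → ℤ)
    (fun p => ((g • frame p : leechLattice) : GolayPt → ℤ)), vecL, List.map_map, vecL]
  refine List.map_congr_left fun k _ => ?_
  have h := congrFun (coe_smul_eight g v) (pt k)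
  simp only [Pi.smul_apply, smul_eq_mul, Finset.sum_apply] at h
  simp only [Function.comp_apply, ← h]
  omega

theorem rows_mul (g h : Co0) : rows (g * h) = mulM (rows g) (rows h) := by
  rw [mulM]
  conv_rhs => rw [rows.eq_def h, List.map_map]
  rw [rows]
  refine List.map_congr_left fun i _ => ?_
  rw [Function.comp_apply, mapV_rows, mul_smul]

theorem rows_injective {g h : Co0} (e : rows g = rows h) : g = h := by
  refine ext_frame fun p => Subtype.ext (vecL_inj ?_)
  have := congrArg (fun l => List.getD l (idx p) []) e
  simp only [rows, getD_range_map _ _ (idx_lt p), pt_idx] at this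
  exact this

theorem rows_permHom {σ : M24} {l : List ℕ} (h : Tab σ.1 l) : rows (permHom σ) = permMat l := by
  refine range_map_congr fun i hi => ?_
  show (List.range 24).map _ = _
  refine range_map_congr fun k hk => ?_
  rw [coe_permHom_smul]
  show (Pi.single (pt i) (8 : ℤ) : GolayPt → ℤ) (σ.1.symm (pt k)) = _
  rw [← h i hi, Pi.single_apply]
  refine if_congr ⟨fun e => ?_, fun e => ?_⟩ rfl rfl
  · rw [← e, Equiv.apply_symm_apply, idx_pt hk]
  · rw [Equiv.symm_apply_eq, e, pt_idx]

theorem rows_one : rows 1 = idMat := by
  rw [← map_one permHom, rows_permHom (l := List.range 24)]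
  · rfl
  · exact Golay.tab_one

theorem rows_pow (g : Co0) : ∀ n, rows (g ^ n) = powM (rows g) n
  | 0 => by rw [pow_zero, rows_one]; rfl
  | n + 1 => by rw [pow_succ', rows_mul, rows_pow g n]; rfl

/-- The product of a word in given elements. -/
def word {G : Type*} [Monoid G] (L : List G) (w : List ℕ) : G := (w.map fun j => L.getD j 1).prod

theorem rows_word (L : List Co0) (G : List (List (List ℤ))) (h : L.map rows = G) :
    ∀ w : List ℕ, rows (word L w) = evalW G w
  | [] => by simp only [word, List.map_nil, List.prod_nil, rows_one]; rfl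
  | j :: w => by
    have hj : rows (L.getD j 1) = G.getD j idMat := by
      rw [← h, ← rows_one]
      exact (List.getD_map ..).symm
    rw [show word L (j :: w) = L.getD j 1 * word L w from List.prod_cons, rows_mul, hj,
      rows_word L G h w]
    rfl

theorem map_word {G H : Type*} [Monoid G] [Monoid H] (f : G →* H) (L : List G) (w : List ℕ) :
    f (word L w) = word (L.map f) w := by
  rw [word, word, map_list_prod, List.map_map]
  congr 1
  refine List.map_congr_left fun j _ => ?_
  rw [Function.comp_apply, ← map_one f, List.getD_map]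

theorem word_mem {G : Type*} [Group G] {K : Subgroup G} {L : List G} (h : ∀ x ∈ L, x ∈ K)
    (w : List ℕ) : word L w ∈ K := by
  refine list_prod_mem fun x hx => ?_
  obtain ⟨j, -, rfl⟩ := List.mem_map.1 hx
  rcases lt_or_ge j L.length with hj | hj
  · rw [List.getD_eq_getElem _ _ hj]; exact h _ (List.getElem_mem hj)
  · rw [List.getD_eq_default _ _ hj]; exact K.one_mem

/-! ### Membership in the lattice -/

/-- The mask of the indices satisfying a condition. -/
def maskOf (P : ℕ → Bool) : List ℕ → ℕ
  | [] => 0
  | i :: L => if P i then 2 ^ i ||| maskOf P L else maskOf P L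

theorem testBit_maskOf (P : ℕ → Bool) (j : ℕ) : ∀ L : List ℕ,
    (maskOf P L).testBit j = true ↔ j ∈ L ∧ P j = true
  | [] => by simp [maskOf]
  | i :: L => by
    simp only [maskOf, List.mem_cons]
    split_ifs with h
    · rw [Nat.testBit_or, Bool.or_eq_true, testBit_maskOf P j L, Nat.testBit_two_pow,
        decide_eq_true_eq]
      constructor
      · rintro (rfl | ⟨a, b⟩)
        · exact ⟨Or.inl rfl, h⟩
        · exact ⟨Or.inr a, b⟩
      · rintro ⟨rfl | a, b⟩
        · exact Or.inl rfl
        · exact Or.inr ⟨a, b⟩
    · rw [testBit_maskOf P j L]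
      constructor
      · rintro ⟨a, b⟩; exact ⟨Or.inr a, b⟩
      · rintro ⟨rfl | a, b⟩
        · exact absurd b h
        · exact ⟨a, b⟩

/-- The test for lattice vectors. -/
def inLB (x : List ℤ) : Bool :=
  let m := x.getD 0 0 % 2
  ((List.range 24).all fun i => decide ((x.getD i 0 - m) % 2 = 0)) &&
    inCode (maskOf (fun i => decide ((x.getD i 0 - m) % 4 ≠ 0)) (List.range 24)) &&
    decide ((x.sum - 4 * m) % 8 = 0)

theorem sum_vecL (v : GolayPt → ℤ) : (vecL v).sum = ∑ p, v p := by
  rw [vecL, sum_range_eq]
  simp only [pt_idx]

theorem inLB_vecL (v : GolayPt → ℤ) : inLB (vecL v) = true ↔ v ∈ leechLattice := by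
  set m := v (pt 0) % 2 with hm
  have hget : ∀ i < 24, (vecL v).getD i 0 = v (pt i) := fun i hi => getD_range_map _ _ hi
  set M := maskOf (fun i => decide (((vecL v).getD i 0 - m) % 4 ≠ 0)) (List.range 24) with hM
  have hMlt : M < 2 ^ 24 := Nat.lt_pow_two_of_testBit _ fun j hj => by
    rw [Bool.eq_false_iff]
    intro h
    have := List.mem_range.1 ((testBit_maskOf _ _ _).1 h).1
    omega
  have hmem : ∀ p, p ∈ toSet M ↔ (v p - m) % 4 ≠ 0 := fun p => by
    rw [mem_toSet, hM, testBit_maskOf, decide_eq_true_eq, hget _ (idx_lt p), pt_idx,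
      List.mem_range]
    simp [idx_lt p]
  simp only [inLB, hget 0 (by norm_num), ← hm, ← hM, sum_vecL, Bool.and_eq_true, List.all_eq_true,
    List.mem_range, decide_eq_true_eq]
  constructor
  · rintro ⟨⟨h2, hc⟩, h8⟩
    refine mem_lattice_iff.2 ⟨m, toSet M, Golay.mem_supports_iff.2 ⟨M, hc, rfl⟩, fun p => ?_, by omega⟩
    have hp := h2 (idx p) (idx_lt p)
    rw [hget _ (idx_lt p), pt_idx] at hp
    by_cases h : p ∈ toSet M
    · have := (hmem p).1 h
      simp only [bit, if_pos h]
      omega
    · have : (v p - m) % 4 = 0 := by_contra fun e => h ((hmem p).2 e)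
      simp only [bit, if_neg h]
      omega
  · intro hv
    obtain ⟨m', hm', c, hc, h4, h8⟩ := exists_normal_form hv
    have hmm : m' = m := by
      have := h4 (pt 0)
      rw [hm]
      simp only [bit] at this
      split_ifs at this <;> omega
    subst hmm
    refine ⟨⟨fun i hi => ?_, ?_⟩, by omega⟩
    · rw [hget i hi]
      have := h4 (pt i)
      simp only [bit] at this
      split_ifs at this <;> omega
    · have hcM : toSet M = c := Finset.ext fun p => by
        rw [hmem]
        have := h4 p
        simp only [bit] at this
        split_ifs at this with h <;> simp only [h, iff_true, iff_false] <;> omega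
      obtain ⟨n, hn, hnc⟩ := Golay.mem_supports_iff.1 hc
      rw [← Golay.toSet_injOn (Golay.inCode_lt hn) hMlt (hnc.trans hcM.symm)]
      exact hn

/-! ### Elements from tables -/

/-- Generators of the lattice. -/
def latGens : List (List ℤ) :=
  [(List.range 24).map (fun i => if i = 23 then -3 else 1),
    (List.range 24).map (fun i => if i = 23 then 8 else 0)] ++
  (List.range 23).map (fun j => (List.range 24).map fun i => if i = j then 4 else if i = 23 then -4 else 0) ++
  genN.map (fun n => (List.range 24).map fun i => if n.testBit i then 2 else 0)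

/-- The dot product of two lists. -/
def dotL (a b : List ℤ) : ℤ := (List.zipWith (· * ·) a b).sum

/-- The check for a table to define an endomorphism preserving the norm. -/
def checkMap (T : List (List ℤ)) : Bool :=
  decide (T.length = 24) && (T.all fun r => decide (r.length = 24)) &&
  ((List.range 24).all fun i => (List.range 24).all fun j =>
    dotL (T.getD i []) (T.getD j []) == if i = j then 64 else 0) &&
  latGens.all fun v => ((combR v T).all fun a => decide (a % 8 = 0)) && inLB (mapV T v)

/-- The vector of a row. -/
def vecP (r : List ℤ) : GolayPt → ℤ := fun p => r.getD (idx p) 0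

theorem vecL_vecP {r : List ℤ} (h : r.length = 24) : vecL (vecP r) = r := by
  refine List.ext_getElem (by simp [vecL, h]) fun i h1 h2 => ?_
  have hi : i < 24 := h ▸ h2
  simp [vecL, vecP, idx_pt hi, h2]

theorem latGens_vec : ∀ v ∈ latGens, v.length = 24 := by decide +kernel

theorem closure_latGens :
    leechLattice ≤ AddSubgroup.closure ((fun r => vecP r) '' {r | r ∈ latGens}) := by
  set M := AddSubgroup.closure ((fun r => vecP r) '' {r | r ∈ latGens})
  have hgen : ∀ (r : List ℤ) (v : GolayPt → ℤ), r ∈ latGens → (∀ p, r.getD (idx p) 0 = v p) → v ∈ M :=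
    fun r v hr e => by
      rw [← (funext e : vecP r = v)]
      exact AddSubgroup.subset_closure ⟨r, hr, rfl⟩
  have hA : (fun p : GolayPt => if p = none then (-3 : ℤ) else 1) ∈ M :=
    hgen ((List.range 24).map fun i => if i = 23 then -3 else 1) _
      (by simp [latGens]) (by decide +kernel)
  have h8 : (Pi.single none 8 : GolayPt → ℤ) ∈ M :=
    hgen ((List.range 24).map fun i => if i = 23 then 8 else 0) _
      (by simp [latGens]) (by simp only [Pi.single_apply]; decide +kernel)
  have h44 : ∀ q : GolayPt, q ≠ none → four q none 4 (-4) ∈ M := by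
    have key : ∀ q : GolayPt, q ≠ none → ∀ p,
        (((List.range 24).map fun i => if i = idx q then (4 : ℤ) else if i = 23 then -4 else 0).getD
          (idx p) 0) = (if p = q then (4 : ℤ) else 0) + if p = none then -4 else 0 := by
      decide +kernel
    intro q hq
    refine hgen _ _ ?_ (fun p => (key q hq p).trans (by simp [four, Pi.single_apply]))
    simp only [latGens, List.mem_append, List.mem_map, List.mem_range]
    refine Or.inl (Or.inr ⟨idx q, ?_, rfl⟩)
    have : idx q ≠ 23 := fun e => hq (Golay.idx_injective (e.trans (by rfl)))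
    have := idx_lt q
    omega
  have hquad : ∀ y : GolayPt → ℤ, (2 : ℤ) ∣ ∑ i, y i → (fun i => 4 * y i) ∈ M := by
    intro y hy
    obtain ⟨k, hk⟩ := hy
    have e : (fun i => 4 * y i) =
        ∑ q ∈ Finset.univ.erase (none : GolayPt), y q • four q none 4 (-4) +
          k • Pi.single none 8 := by
      funext i
      simp only [Pi.add_apply, Finset.sum_apply, Pi.smul_apply, smul_eq_mul, four, Pi.single_apply]
      by_cases hi : i = none
      · subst hi
        rw [Finset.sum_congr rfl (g := fun q => y q * -4) fun q hq => by
            simp [Ne.symm (Finset.ne_of_mem_erase hq)], ← Finset.sum_mul,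
          Finset.sum_erase_eq_sub (Finset.mem_univ _), hk]
        simp only [if_true]
        ring
      · simp [hi, Finset.sum_ite_eq, mul_comm]
    rw [e]
    exact M.add_mem (M.sum_mem fun q hq => M.zsmul_mem (h44 q (Finset.ne_of_mem_erase hq)) _)
      (M.zsmul_mem h8 _)
  have hcode : ∀ c ∈ code, (fun i => 2 * bit c i) ∈ M := by
    rintro c ⟨w, hw, rfl⟩
    induction hw using Submodule.span_induction with
    | mem w hw =>
      have key : ∃ n ∈ genN, w = Golay.toWord n := by
        rcases hw with ⟨t, rfl⟩ | rfl
        · refine ⟨genN.getD t.val 0, ?_, funext fun p => Golay.qrWord_eq' t p⟩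
          have ht : t.val < genN.length := (ZMod.val_lt t).trans_le (by decide +kernel)
          rw [List.getD_eq_getElem _ _ ht]
          exact List.getElem_mem ht
        · exact ⟨16777215, by decide +kernel, funext fun p => (Golay.one_eq p).2⟩
      obtain ⟨n, hn, rfl⟩ := key
      rw [Golay.support₂_toWord]
      refine hgen ((List.range 24).map fun i => if n.testBit i then 2 else 0) _ ?_ fun p => ?_
      · simp only [latGens, List.mem_append, List.mem_map]
        exact Or.inr ⟨n, hn, rfl⟩
      · rw [getD_range_map _ _ (idx_lt p)]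
        simp only [bit, mem_toSet]
        split_ifs <;> simp_all
    | zero =>
      have : (fun i : GolayPt => 2 * bit (support₂ (0 : GolayPt → ZMod 2)) i) = 0 := by
        funext i; simp [bit, support₂]
      rw [this]; exact M.zero_mem
    | add u v hu hv ihu ihv =>
      have hs : support₂ (u + v) = symmDiff (support₂ u) (support₂ v) := by
        ext p
        rcases zmod2_cases (u p) with h | h <;> rcases zmod2_cases (v p) with h' | h' <;>
          simp [support₂, Finset.mem_symmDiff, h, h'] <;> decide
      have e : (fun i => 2 * bit (support₂ (u + v)) i) = (fun i => 2 * bit (support₂ u) i) +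
          (fun i => 2 * bit (support₂ v) i) - fun i => 4 * bit (support₂ u ∩ support₂ v) i := by
        funext i
        have := bit_add (support₂ u) (support₂ v) i
        simp only [Pi.sub_apply, Pi.add_apply, hs]
        omega
      rw [e]
      refine M.sub_mem (M.add_mem ihu ihv) (hquad _ ?_)
      rw [sum_bit]
      exact_mod_cast Golay.golayCode_inter_even hu hv
    | smul a u hu ih =>
      rcases zmod2_cases a with rfl | rfl
      · have : (fun i : GolayPt => 2 * bit (support₂ ((0 : ZMod 2) • u)) i) = 0 := by
          funext i; simp [bit, support₂]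
        rw [this]; exact M.zero_mem
      · rwa [one_smul]
  intro x hx
  obtain ⟨m, hm, c, hc, h4, h8'⟩ := exists_normal_form hx
  have hy : ∀ i, ∃ y : ℤ, x i - m * (if i = none then -3 else 1) - 2 * bit c i = 4 * y := fun i => by
    obtain ⟨k, hk⟩ := h4 i
    split_ifs
    · exact ⟨k + m, by omega⟩
    · exact ⟨k, by omega⟩
  choose y hy using hy
  have e : x = m • (fun p : GolayPt => if p = none then (-3 : ℤ) else 1) + (fun i => 2 * bit c i) +
      fun i => 4 * y i := funext fun i => by
    have := hy i
    simp only [Pi.add_apply, Pi.smul_apply, smul_eq_mul]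
    omega
  rw [e]
  refine M.add_mem (M.add_mem (M.zsmul_mem hA m) (hcode c hc)) (hquad _ ?_)
  have hs : ∑ i, 4 * y i = ∑ i, x i - m * ∑ i : GolayPt, (if i = none then (-3 : ℤ) else 1) -
      2 * (c.card : ℤ) := by
    rw [← sum_bit, Finset.mul_sum, Finset.mul_sum, ← Finset.sum_sub_distrib, ← Finset.sum_sub_distrib]
    exact Finset.sum_congr rfl fun i _ => (hy i).symm
  rw [show ∑ i : GolayPt, (if i = none then (-3 : ℤ) else 1) = 20 by decide, ← Finset.mul_sum] at hs
  have := four_dvd_card hc
  omega

end Cfsg.Agent.SporStruct.CoMatrix
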