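import Cfsg.Agent.SporStruct.M24Sets
import Cfsg.Agent.SporStruct.M24Counts
import Cfsg.Agent.SporStruct.OctadPick
import Cfsg.Agent.SporStruct.M24Classes
import Cfsg.Agent.Sporadic96.M24.Objects
import Cfsg.Prelude.Def_SporadicCombinatorics

/-!
Sextets and trios under `Cfsg.M24`.
-/

set_option autoImplicit false

namespace Cfsg.Agent.SporStruct.M24

open Cfsg Cfsg.Agent.Golay
open scoped Pointwise

theorem smul_mem_sextets {g : Equiv.Perm GolayPt} (hg : g ∈ Cfsg.M24)
    {S : Finset (Finset GolayPt)} (hS : S ∈ sextets) : g • S ∈ sextets := by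
  obtain ⟨h6, h4, hu⟩ := hS
  refine ⟨by rw [Finset.card_smul_finset, h6], fun t ht => ?_, fun t ht u hu' hne => ?_⟩
  · obtain ⟨t', ht', rfl⟩ := Finset.mem_smul_finset.1 ht
    rw [Finset.card_smul_finset, h4 t' ht']
  · obtain ⟨t', ht', rfl⟩ := Finset.mem_smul_finset.1 ht
    obtain ⟨u', hu'', rfl⟩ := Finset.mem_smul_finset.1 hu'
    rw [← Finset.smul_finset_union]
    exact smul_mem_octads hg (hu t' ht' u' hu'' fun e => hne (by rw [e]))

theorem smul_mem_trios {g : Equiv.Perm GolayPt} (hg : g ∈ Cfsg.M24)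
    {T : Finset (Finset GolayPt)} (hT : T ∈ trios) : g • T ∈ trios := by
  obtain ⟨h3, ho, hd⟩ := hT
  refine ⟨by rw [Finset.card_smul_finset, h3], fun o ho' => ?_, fun o ho' o' ho'' hne => ?_⟩
  · obtain ⟨p, hp, rfl⟩ := Finset.mem_smul_finset.1 ho'
    exact smul_mem_octads hg (ho p hp)
  · obtain ⟨p, hp, rfl⟩ := Finset.mem_smul_finset.1 ho'
    obtain ⟨q, hq, rfl⟩ := Finset.mem_smul_finset.1 ho''
    have h := hd p hp q hq fun e => hne (by rw [e])
    rw [Finset.disjoint_iff_inter_eq_empty] at h ⊢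
    rw [← Finset.smul_finset_inter, h, Finset.smul_finset_empty]

theorem sextet_disjoint {S : Finset (Finset GolayPt)} (hS : S ∈ sextets) {t u : Finset GolayPt}
    (ht : t ∈ S) (hu : u ∈ S) (hne : t ≠ u) : Disjoint t u := by
  rw [← Finset.card_union_eq_card_add_card, hS.2.1 t ht, hS.2.1 u hu]
  exact (hS.2.2 t ht u hu hne).2

theorem sextet_unique {S S' : Finset (Finset GolayPt)} (hS : S ∈ sextets) (hS' : S' ∈ sextets)
    {t : Finset GolayPt} (ht : t ∈ S) (ht' : t ∈ S') : S = S' := by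
  have h5 : (blocksThrough octads t).card = 5 := by
    have h := card_octadsThrough_mul (s := t) (by rw [hS.2.1 t ht]; norm_num)
    rw [hS.2.1 t ht] at h
    norm_num [Nat.choose] at h
    omega
  have key : ∀ {R : Finset (Finset GolayPt)}, R ∈ sextets → t ∈ R →
      R.erase t = (blocksThrough octads t).image fun o => o \ t := by
    intro R hR htR
    apply Finset.eq_of_subset_of_card_le
    · intro u hu
      obtain ⟨hne, huR⟩ := Finset.mem_erase.1 hu
      refine Finset.mem_image.2 ⟨t ∪ u, ?_, ?_⟩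
      · rw [mem_blocksThrough]
        exact ⟨hR.2.2 t htR u huR hne.symm, Finset.subset_union_left⟩
      · rw [Finset.union_sdiff_left,
          Finset.sdiff_eq_self_of_disjoint (sextet_disjoint hR huR htR hne)]
    · rw [Finset.card_erase_of_mem htR, hR.1]
      exact Finset.card_image_le.trans (by rw [h5])
  calc S = insert t (S.erase t) := (Finset.insert_erase ht).symm
    _ = insert t (S'.erase t) := by rw [key hS ht, key hS' ht']
    _ = S' := Finset.insert_erase ht'

theorem exists_map_four {t t' : Finset GolayPt} (h : t.card = 4) (h' : t'.card = 4) :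
    ∃ g ∈ Cfsg.M24, g • t = t' := by
  obtain ⟨g, hg, hgL⟩ := exists_map_list t.nodup_toList t'.nodup_toList
    (by rw [Finset.length_toList, Finset.length_toList, h, h'])
    (by rw [Finset.length_toList, h]; norm_num)
  refine ⟨g, hg, Finset.eq_of_subset_of_card_le ?_ (by rw [Finset.card_smul_finset, h, h'])⟩
  intro x hx
  obtain ⟨y, hy, rfl⟩ := Finset.mem_smul_finset.1 hx
  rw [← Finset.mem_toList, ← hgL]
  exact List.mem_map.2 ⟨y, Finset.mem_toList.2 hy, rfl⟩

theorem exists_sextet : ∃ S : Finset (Finset GolayPt), S ∈ sextets := by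
  have h := Sporadic96.ncard_sextets
  obtain ⟨S, hS⟩ := Set.nonempty_of_ncard_ne_zero (s := sextets) (by omega)
  exact ⟨S, hS⟩

theorem existsUnique_sextet {t : Finset GolayPt} (ht : t.card = 4) :
    ∃! S : Finset (Finset GolayPt), S ∈ sextets ∧ t ∈ S := by
  obtain ⟨S₀, hS₀⟩ := exists_sextet
  obtain ⟨t₀, ht₀⟩ := Finset.card_pos.1 (by rw [hS₀.1]; norm_num : 0 < S₀.card)
  obtain ⟨g, hg, hgt⟩ := exists_map_four (hS₀.2.1 t₀ ht₀) ht
  exact ⟨g • S₀, ⟨smul_mem_sextets hg hS₀, hgt ▸ Finset.smul_mem_smul_finset ht₀⟩,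
    fun S hS => sextet_unique hS.1 (smul_mem_sextets hg hS₀) hS.2
      (hgt ▸ Finset.smul_mem_smul_finset ht₀)⟩

/-- `Cfsg.M24` is transitive on sextets. -/
theorem exists_map_sextet {S S' : Finset (Finset GolayPt)} (hS : S ∈ sextets) (hS' : S' ∈ sextets) :
    ∃ g ∈ Cfsg.M24, g • S = S' := by
  obtain ⟨t, ht⟩ := Finset.card_pos.1 (by rw [hS.1]; norm_num : 0 < S.card)
  obtain ⟨t', ht'⟩ := Finset.card_pos.1 (by rw [hS'.1]; norm_num : 0 < S'.card)
  obtain ⟨g, hg, hgt⟩ := exists_map_four (hS.2.1 t ht) (hS'.2.1 t' ht')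
  exact ⟨g, hg, sextet_unique (smul_mem_sextets hg hS) hS'
    (hgt ▸ Finset.smul_mem_smul_finset ht) ht'⟩

/-- The third octad of a trio. -/
theorem trio_eq {T : Finset (Finset GolayPt)} (hT : T ∈ trios) {a b : Finset GolayPt} (ha : a ∈ T)
    (hb : b ∈ T) (hab : a ≠ b) : T = {a, b, (a ∪ b)ᶜ} := by
  have hd := hT.2.2 a ha b hb hab
  obtain ⟨c, hc, hca, hcb⟩ : ∃ c ∈ T, c ≠ a ∧ c ≠ b := by
    by_contra hne
    push Not at hne
    have : T ⊆ {a, b} := fun x hx => by
      by_cases h : x = a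
      · simp [h]
      · simp [hne x hx h]
    have := (Finset.card_le_card this).trans Finset.card_le_two
    rw [hT.1] at this
    omega
  have e : c = (a ∪ b)ᶜ := by
    refine Finset.eq_of_subset_of_card_le (fun x hx => ?_) ?_
    · rw [Finset.mem_compl, Finset.mem_union, not_or]
      exact ⟨fun h => Finset.disjoint_left.1 (hT.2.2 c hc a ha hca) hx h,
        fun h => Finset.disjoint_left.1 (hT.2.2 c hc b hb hcb) hx h⟩
    · rw [Finset.card_compl, card_golayPt, Finset.card_union_of_disjoint hd,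
        card_of_mem_octads (hT.2.1 a ha), card_of_mem_octads (hT.2.1 b hb),
        card_of_mem_octads (hT.2.1 c hc)]
  subst e
  refine (Finset.eq_of_subset_of_card_le ?_ ?_).symm
  · exact Finset.insert_subset ha (Finset.insert_subset hb (Finset.singleton_subset_iff.2 hc))
  · rw [hT.1, Finset.card_insert_of_notMem, Finset.card_insert_of_notMem, Finset.card_singleton]
    · rw [Finset.mem_singleton]; exact Ne.symm hcb
    · simp only [Finset.mem_insert, Finset.mem_singleton, not_or]; exact ⟨hab, Ne.symm hca⟩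

/-- `Cfsg.M24` is transitive on trios. -/
theorem exists_map_trio {T T' : Finset (Finset GolayPt)} (hT : T ∈ trios) (hT' : T' ∈ trios) :
    ∃ g ∈ Cfsg.M24, g • T = T' := by
  obtain ⟨a, ha, b, hb, hab⟩ := Finset.one_lt_card.1 (by rw [hT.1]; norm_num : 1 < T.card)
  obtain ⟨a', ha', b', hb', hab'⟩ := Finset.one_lt_card.1 (by rw [hT'.1]; norm_num : 1 < T'.card)
  obtain ⟨g, hg, hga⟩ := octad_transitive (hT.2.1 a ha) (hT'.2.1 a' ha')
  have hgb : g • b ∈ g • T := Finset.smul_mem_smul_finset hb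
  have hgT := smul_mem_trios hg hT
  have hga' : a' ∈ g • T := hga ▸ Finset.smul_mem_smul_finset ha
  have hne : a' ≠ g • b := fun e => hab (MulAction.injective g (hga.trans e))
  have h1 : (a' ∩ g • b).card = 0 := by
    rw [Finset.disjoint_iff_inter_eq_empty.1 (hgT.2.2 a' hga' _ hgb hne), Finset.card_empty]
  have h2 : (a' ∩ b').card = 0 := by
    rw [Finset.disjoint_iff_inter_eq_empty.1 (hT'.2.2 a' ha' _ hb' hab'), Finset.card_empty]
  obtain ⟨k, hk, hka, hkb⟩ := octad_suborbit (hT'.2.1 a' ha') (hgT.2.1 _ hgb) (hT'.2.1 b' hb')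
    (h1.trans h2.symm)
  refine ⟨k * g, Cfsg.M24.mul_mem hk hg, ?_⟩
  have hkT := smul_mem_trios hk hgT
  have m1 : a' ∈ k • g • T := by
    simpa only [hka] using Finset.smul_mem_smul_finset (a := k) hga'
  have m2 : b' ∈ k • g • T := by
    simpa only [hkb] using Finset.smul_mem_smul_finset (a := k) hgb
  rw [mul_smul, trio_eq hkT m1 m2 hab', trio_eq hT' ha' hb' hab']

end Cfsg.Agent.SporStruct.M24
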