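import Cfsg.Agent.SporStruct.SextetStabData

/-!
The stabiliser of a sextet in `Cfsg.M24`: `2^6 : 3 · S_6`.
-/

set_option autoImplicit false

namespace Cfsg.Agent.SporStruct.M24

open Cfsg Cfsg.Agent.Golay
open Cfsg.Agent.Sporadic96 (lane fam mem_fam)
open scoped Pointwise

theorem Packed.card_stab {Fam : Set (Finset (Finset GolayPt))} {m N P : ℕ}
    (hP : Packed Fam m N P) {S : Finset (Finset GolayPt)} (hS : S ∈ Fam) :
    Nat.card (MulAction.stabilizer Cfsg.M24 S) * N = 244823040 := by
  have horb : MulAction.orbit Cfsg.M24 S = Fam := by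
    ext T
    constructor
    · rintro ⟨⟨g, hg⟩, rfl⟩; exact hP.smul hg hS
    · intro hT
      obtain ⟨g, hg, h⟩ := hP.trans hS hT
      exact ⟨⟨g, hg⟩, h⟩
  have hcard : Fam.ncard = N := by
    have e : Fam = ↑((Finset.range N).image (fam m P)) := by ext T; simp [hP.iff]
    rw [e, Set.ncard_coe_finset, Finset.card_image_of_injOn, Finset.card_range]
    intro a ha b hb hab
    exact hP.inj (by simpa using ha) (by simpa using hb) hab
  have h := MulAction.index_stabilizer Cfsg.M24 S
  rw [horb, hcard] at h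
  rw [← h, Subgroup.card_mul_index, card_M24]

/-- The members of a packed object, numbered. -/
noncomputable def famEquiv {m P k : ℕ} (h : (fam m P k).card = m) :
    Fin m ≃ {x // x ∈ fam m P k} :=
  Equiv.ofBijective (fun r => ⟨toSet (lane P (m * k + r)), mem_fam.2 ⟨r, r.2, rfl⟩⟩)
    ((Fintype.bijective_iff_surjective_and_card _).2 ⟨fun x => by
      obtain ⟨r, hr, e⟩ := mem_fam.1 x.2
      exact ⟨⟨r, hr⟩, Subtype.ext e⟩, by rw [Fintype.card_fin, Fintype.card_coe, h]⟩)

theorem famEquiv_apply {m P k : ℕ} (h : (fam m P k).card = m) (r : Fin m) :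
    (famEquiv h r : Finset GolayPt) = toSet (lane P (m * k + r)) := rfl

/-- A full symmetric action on one family is one on every image of it. -/
theorem famHom_range_smul {S : Finset (Finset GolayPt)} (h : (famHom S).range = ⊤)
    {c : Equiv.Perm GolayPt} (hc : c ∈ Cfsg.M24) : (famHom (c • S)).range = ⊤ := by
  refine eq_top_iff.2 fun σ _ => ?_
  let φ : {x // x ∈ S} ≃ {x // x ∈ c • S} :=
    (MulAction.toPerm c).subtypeEquiv fun x => (Finset.smul_mem_smul_finset_iff c).symm
  obtain ⟨g, hg⟩ : φ.symm.permCongr σ ∈ (famHom S).range := h ▸ Subgroup.mem_top _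
  have hgS : ((g : Cfsg.M24) : Equiv.Perm GolayPt) • S = S := g.2
  refine ⟨⟨⟨c * g.1.1 * c⁻¹, Cfsg.M24.mul_mem (Cfsg.M24.mul_mem hc g.1.2)
    (Cfsg.M24.inv_mem hc)⟩, ?_⟩, ?_⟩
  · show (c * g.1.1 * c⁻¹) • (c • S) = c • S
    rw [mul_smul, mul_smul, inv_smul_smul, hgS]
  · apply Equiv.ext
    intro x
    apply Subtype.ext
    rw [famHom_apply]
    show (c * g.1.1 * c⁻¹) • (x : Finset GolayPt) = σ x
    rw [mul_smul, mul_smul]
    have h1 := famHom_apply g (φ.symm x)
    rw [hg, Equiv.permCongr_apply, Equiv.symm_symm, Equiv.apply_symm_apply] at h1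
    have h2 : (φ.symm x : Finset GolayPt) = c⁻¹ • (x : Finset GolayPt) := rfl
    have h3 : (φ.symm (σ x) : Finset GolayPt) = c⁻¹ • (σ x : Finset GolayPt) := rfl
    rw [← h2, ← h1, h3, smul_inv_smul]

theorem card_sextet_stab {S : Finset (Finset GolayPt)} (hS : S ∈ sextets) :
    Nat.card (MulAction.stabilizer Cfsg.M24 S) = 138240 := by
  have := packed_sextets.card_stab hS
  omega

theorem sextet0_card : (fam 6 Sporadic96.sextP 0).card = 6 :=
  packed_sextets.card (packed_sextets.mem (by norm_num))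

theorem swap0_range : (famHom (fam 6 Sporadic96.sextP 0)).range = ⊤ := by
  refine range_eq_top_of_swaps _ fun a b hab => ?_
  set e := famEquiv sextet0_card
  obtain ⟨i, rfl⟩ := e.surjective a
  obtain ⟨j, rfl⟩ := e.surjective b
  have hij : i ≠ j := fun h => hab (by rw [h])
  have key : ∀ i j : Fin 6, ∀ {l}, (i.val, j.val, l) ∈ tetradSwaps →
      ∃ g, famHom (fam 6 Sporadic96.sextP 0) g = Equiv.swap (e i) (e j) := by
    intro i j l hl
    obtain ⟨σ, hσ, -, hmv⟩ := famMoves_spec (List.all_eq_true.1 tetradSwaps_ok _ hl)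
    have hS : σ • fam 6 Sporadic96.sextP 0 = fam 6 Sporadic96.sextP 0 :=
      packed_sextets.smul_fam (by norm_num) (by norm_num) fun r hr =>
        ⟨_, (hmv r hr).1, by simpa using (hmv r hr).2⟩
    refine ⟨⟨⟨σ, hσ⟩, hS⟩, Equiv.ext fun x => ?_⟩
    obtain ⟨r, rfl⟩ := e.surjective x
    rw [e.injective.swap_apply]
    apply Subtype.ext
    rw [famHom_apply, famEquiv_apply, famEquiv_apply]
    simp only [Nat.mul_zero, Nat.zero_add]
    refine (hmv r r.2).2.trans ?_
    congr 2
    simp only [swapFn, Equiv.swap_apply_def, Fin.val_inj]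
    split_ifs <;> rfl
  have h := tetradSwaps_complete
  simp only [List.all_eq_true, List.mem_range, List.any_eq_true, Bool.or_eq_true,
    Bool.and_eq_true, beq_iff_eq] at h
  rcases h i i.2 j j.2 with h | ⟨⟨a', b', l⟩, hl, ⟨rfl, rfl⟩ | ⟨rfl, rfl⟩⟩
  · exact absurd (Fin.ext h) hij
  · exact key i j hl
  · rw [Equiv.swap_comm]; exact key j i hl

theorem sextet_famHom_range {S : Finset (Finset GolayPt)} (hS : S ∈ sextets) :
    (famHom S).range = ⊤ := by
  obtain ⟨c, hc, rfl⟩ := exists_map_sextet (packed_sextets.mem (by norm_num : 0 < 1771)) hS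
  exact famHom_range_smul swap0_range hc

theorem card_sextet_ker {S : Finset (Finset GolayPt)} (hS : S ∈ sextets) :
    Nat.card (famHom S).ker = 192 := by
  have h := (famHom S).ker.card_mul_index
  rw [Subgroup.index_ker, sextet_famHom_range hS, Subgroup.card_top, card_sextet_stab hS,
    Nat.card_perm, Nat.card_eq_finsetCard, hS.1] at h
  rw [show Nat.factorial 6 = 720 from rfl] at h
  omega

/-- Every member is fixed and so is every split of it into two pairs. -/
def SplitFix (S : Finset (Finset GolayPt)) (g : Equiv.Perm GolayPt) : Prop :=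
  ∀ t ∈ S, g • t = t ∧ ∀ s ⊆ t, s.card = 2 → g • s = s ∨ g • s = t \ s

theorem SplitFix.conj {S : Finset (Finset GolayPt)} {g : Equiv.Perm GolayPt} (h : SplitFix S g)
    (c : Equiv.Perm GolayPt) : SplitFix (c • S) (c * g * c⁻¹) := by
  intro t ht
  obtain ⟨t', ht', rfl⟩ := Finset.mem_smul_finset.1 ht
  obtain ⟨h1, h2⟩ := h t' ht'
  refine ⟨by rw [mul_smul, mul_smul, inv_smul_smul, h1], fun s hs hsc => ?_⟩
  have hs' : c⁻¹ • s ⊆ t' := fun x hx => by
    have : c • x ∈ c • t' := hs (by simpa using Finset.smul_mem_smul_finset (a := c) hx)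
    exact (Finset.smul_mem_smul_finset_iff c).1 this
  rcases h2 _ hs' (by rw [Finset.card_smul_finset, hsc]) with e | e
  · left; rw [mul_smul, mul_smul, e, smul_inv_smul]
  · right; rw [mul_smul, mul_smul, e, Finset.smul_finset_sdiff, smul_inv_smul]

theorem SplitFix.involution {S : Finset (Finset GolayPt)} {g : Equiv.Perm GolayPt}
    (hS : S ∈ sextets) (h : SplitFix S g) : g * g = 1 := by
  have hcover : S.biUnion (fun a => a) = Finset.univ := by
    apply Finset.eq_univ_of_card
    rw [Finset.card_biUnion (fun a ha b hb hne => sextet_disjoint hS ha hb hne), card_golayPt,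
      Finset.sum_congr rfl (fun a ha => hS.2.1 a ha), Finset.sum_const,
      hS.1]
    rfl
  refine Equiv.ext fun x => ?_
  rw [Equiv.Perm.mul_apply, Equiv.Perm.one_apply]
  obtain ⟨t, ht, hxt⟩ := Finset.mem_biUnion.1 (hcover ▸ Finset.mem_univ x)
  obtain ⟨h1, h2⟩ := h t ht
  by_cases hx : g x = x
  · rw [hx, hx]
  have hgx : g x ∈ t := by
    simpa [h1] using Finset.smul_mem_smul_finset (a := g) hxt
  have hsub : ({x, g x} : Finset GolayPt) ⊆ t :=
    Finset.insert_subset hxt (Finset.singleton_subset_iff.2 hgx)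
  have hmem : g (g x) ∈ g • ({x, g x} : Finset GolayPt) ∧ g x ∈ g • ({x, g x} : Finset GolayPt) :=
    ⟨Finset.smul_mem_smul_finset (a := g) (by simp), Finset.smul_mem_smul_finset (a := g) (by simp)⟩
  rcases h2 _ hsub (Finset.card_pair (Ne.symm hx)) with e | e <;> rw [e] at hmem
  · rcases Finset.mem_insert.1 hmem.1 with e | e
    · exact e
    · exact absurd (g.injective (Finset.mem_singleton.1 e)) hx
  · simp at hmem

/-- The subgroup fixing all members and all their splits. -/
def splitSub (S : Finset (Finset GolayPt)) : Subgroup (MulAction.stabilizer Cfsg.M24 S) where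
  carrier := {g | SplitFix S ((g : Cfsg.M24) : Equiv.Perm GolayPt)}
  one_mem' := fun t _ => ⟨one_smul _ t, fun s _ _ => Or.inl (one_smul _ s)⟩
  mul_mem' := by
    intro g h hg hh t ht
    obtain ⟨g1, g2⟩ := hg t ht
    obtain ⟨h1, h2⟩ := hh t ht
    refine ⟨by simp only [Subgroup.coe_mul, mul_smul, h1, g1], fun s hs hsc => ?_⟩
    simp only [Subgroup.coe_mul, mul_smul]
    rcases g2 s hs hsc with a | a <;> rcases h2 s hs hsc with b | b <;>
      simp only [b, Finset.smul_finset_sdiff, a, g1, Finset.sdiff_sdiff_eq_self hs, true_or, or_true]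
  inv_mem' := by
    intro g hg t ht
    obtain ⟨g1, g2⟩ := hg t ht
    have e : ((g : Cfsg.M24) : Equiv.Perm GolayPt)⁻¹ • t = t := by
      rw [inv_smul_eq_iff, g1]
    refine ⟨by simpa using e, fun s hs hsc => ?_⟩
    simp only [InvMemClass.coe_inv, inv_smul_eq_iff]
    rcases g2 s hs hsc with a | a
    · exact Or.inl a.symm
    · right
      rw [Finset.smul_finset_sdiff, g1, a, Finset.sdiff_sdiff_eq_self hs]

theorem splitSub_normal (S : Finset (Finset GolayPt)) : (splitSub S).Normal := by
  refine ⟨fun g hg h => ?_⟩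
  have hS : ((h : Cfsg.M24) : Equiv.Perm GolayPt) • S = S := h.2
  have := SplitFix.conj hg ((h : Cfsg.M24) : Equiv.Perm GolayPt)
  rw [hS] at this
  exact this

theorem splitTab_spec {l : List ℕ} (hl : splitTabCheck l = true) :
    l.length = 24 ∧ ∃ σ ∈ Cfsg.M24, Tab σ l ∧ σ • fam 6 Sporadic96.sextP 0 =
      fam 6 Sporadic96.sextP 0 ∧ SplitFix (fam 6 Sporadic96.sextP 0) σ := by
  simp only [splitTabCheck, Bool.and_eq_true, List.all_eq_true, List.mem_range, beq_iff_eq,
    Bool.or_eq_true, Bool.not_eq_true', bne_iff_ne, ne_eq] at hl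
  obtain ⟨⟨⟨hlen, hm⟩, hinv⟩, hcl⟩ := hl
  obtain ⟨σ, hσ, hT, hmv⟩ := famMoves_spec hm
  have hii : ∀ x, σ (σ x) = x := fun x => by
    apply idx_injective
    have h1 := hT _ (idx_lt x)
    rw [pt_idx] at h1
    have h2 := hT _ (idx_lt (σ x))
    rw [pt_idx, h1, hinv _ (idx_lt x)] at h2
    exact h2
  refine ⟨hlen, σ, hσ, hT, packed_sextets.smul_fam (by norm_num) (by norm_num) fun r hr =>
    ⟨r, hr, by simpa using (hmv r hr).2⟩, fun t ht => ?_⟩
  obtain ⟨r, hr, rfl⟩ := mem_fam.1 ht
  simp only [Nat.mul_zero, Nat.zero_add]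
  have hfix : σ • toSet (lane Sporadic96.sextP r) = toSet (lane Sporadic96.sextP r) :=
    (hmv r hr).2
  refine ⟨hfix, fun s hs hsc => ?_⟩
  have hidx : ∀ x, idx (σ x) = l.getD (idx x) 0 := fun x => by
    have := hT _ (idx_lt x)
    rwa [pt_idx] at this
  rcases hcl r hr with h | h
  · have hx : ∀ x ∈ s, σ x = x := fun x hx => by
      apply idx_injective
      rw [hidx]
      rcases h _ (idx_lt x) with e | e
      · exact absurd (mem_toSet.1 (hs hx)) (by rw [e]; simp)
      · exact e
    refine Or.inl (Finset.eq_of_subset_of_card_le (fun y hy => ?_) (by simp))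
    obtain ⟨x, hx', rfl⟩ := Finset.mem_smul_finset.1 hy
    show σ x ∈ s
    rw [hx x hx']; exact hx'
  · have hx : ∀ x ∈ s, σ x ≠ x := fun x hx hxx => by
      rcases h _ (idx_lt x) with e | e
      · exact absurd (mem_toSet.1 (hs hx)) (by rw [e]; simp)
      · exact e (by rw [← hidx, hxx])
    obtain ⟨a, b, hab, rfl⟩ := Finset.card_eq_two.1 hsc
    have ea : σ • ({a, b} : Finset GolayPt) = {σ a, σ b} := by
      simp [Finset.smul_finset_insert, Finset.smul_finset_singleton]
    by_cases hc : σ a = b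
    · left
      rw [ea, hc, ← hc, hii, Finset.pair_comm]
    · right
      have hb' : σ b ≠ a := fun e => hc (by rw [← e, hii])
      refine Finset.eq_of_subset_of_card_le (fun y hy => ?_) ?_
      · have hyt : y ∈ toSet (lane Sporadic96.sextP r) :=
          hfix ▸ Finset.smul_finset_subset_smul_finset hs hy
        rw [ea, Finset.mem_insert, Finset.mem_singleton] at hy
        rw [Finset.mem_sdiff, Finset.mem_insert, Finset.mem_singleton, not_or]
        refine ⟨hyt, ?_⟩
        rcases hy with rfl | rfl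
        · exact ⟨hx a (by simp), hc⟩
        · exact ⟨hb', hx b (by simp)⟩
      · rw [Finset.card_sdiff_of_subset hs, Finset.card_smul_finset, hsc,
          sextets_tetrad_card hr]
where
  sextets_tetrad_card {r : ℕ} (hr : r < 6) : (toSet (lane Sporadic96.sextP r)).card = 4 :=
    (packed_sextets.mem (by norm_num : 0 < 1771)).2.1 _
      (mem_fam.2 ⟨r, hr, by simp⟩)

theorem card_splitSub {S : Finset (Finset GolayPt)} (hS : S ∈ sextets) :
    Nat.card (splitSub S) = 64 := by
  have hexp : ∀ x : splitSub S, x * x = 1 := fun x => by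
    apply Subtype.ext; apply Subtype.ext; apply Subtype.ext
    exact SplitFix.involution hS x.2
  have hp : IsPGroup 2 (splitSub S) := fun x => ⟨1, by rw [pow_one, pow_two]; exact hexp x⟩
  obtain ⟨k, hk⟩ := (IsPGroup.iff_card (p := 2)).1 hp
  have hle : splitSub S ≤ (famHom S).ker := fun g hg =>
    (famHom_eq_one_iff g).2 fun t ht => (hg t ht).1
  have hdvd := Subgroup.card_dvd_of_le hle
  rw [card_sextet_ker hS, hk] at hdvd
  have hge : 64 ≤ Nat.card (splitSub S) := by
    obtain ⟨c, hc, rfl⟩ := exists_map_sextet (packed_sextets.mem (by norm_num : 0 < 1771)) hS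
    obtain ⟨hall, hlen, hnd⟩ := splitTabs_ok
    rw [List.all_eq_true] at hall
    choose σ hσ hσT hσS hσQ using fun i : Fin splitTabs.length =>
      (splitTab_spec (hall _ (List.getElem_mem i.2))).2
    have hf : ∀ i, (c * σ i * c⁻¹) ∈ Cfsg.M24 ∧
        (c * σ i * c⁻¹) • (c • fam 6 Sporadic96.sextP 0) = c • fam 6 Sporadic96.sextP 0 := fun i =>
      ⟨Cfsg.M24.mul_mem (Cfsg.M24.mul_mem hc (hσ i)) (Cfsg.M24.inv_mem hc), by
        rw [mul_smul, mul_smul, inv_smul_smul, hσS]⟩
    let f : Fin splitTabs.length → splitSub (c • fam 6 Sporadic96.sextP 0) := fun i =>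
      ⟨⟨⟨c * σ i * c⁻¹, (hf i).1⟩, (hf i).2⟩, (hσQ i).conj c⟩
    have hinj : Function.Injective f := fun i j hij => by
      have e : c * σ i * c⁻¹ = c * σ j * c⁻¹ :=
        congrArg (fun x : splitSub _ => x.1.1.1) hij
      have e' : σ i = σ j := mul_left_cancel (mul_right_cancel e)
      exact Fin.ext (hnd.getElem_inj_iff.1 (tab_ext (hσT i) (e' ▸ hσT j)
        (splitTab_spec (hall _ (List.getElem_mem i.2))).1
        (splitTab_spec (hall _ (List.getElem_mem j.2))).1))
    have := Nat.card_le_card_of_injective f hinj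
    rwa [Nat.card_eq_fintype_card, Fintype.card_fin, hlen] at this
  rw [hk] at hge ⊢
  have h7 : k < 7 := by
    by_contra h
    have := (Nat.pow_dvd_pow 2 (by omega : 7 ≤ k)).trans hdvd
    norm_num at this
  interval_cases k <;> simp_all

end Cfsg.Agent.SporStruct.M24
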