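import Cfsg.Agent.SporStruct.Sextets
import Cfsg.Agent.SporStruct.SextetOrbits
import Cfsg.Agent.SporStruct.TrioOrbits

/-!
Sextets and trios as packed families.
-/

set_option autoImplicit false

namespace Cfsg.Agent.SporStruct.M24

open Cfsg
open scoped Pointwise

theorem packed_sextets : Packed sextets 6 1771 Sporadic96.sextP where
  iff := Sporadic96.sextet_iff
  inj := Sporadic96.fam_sext_injective
  card h := h.1
  smul := smul_mem_sextets
  trans := exists_map_sextet

theorem packed_trios : Packed trios 3 3795 Sporadic96.trioP where
  iff := Sporadic96.trio_iff
  inj := Sporadic96.fam_trio_injective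
  card h := h.1
  smul := smul_mem_trios
  trans := exists_map_trio

end Cfsg.Agent.SporStruct.M24
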