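import Cfsg.Agent.SporStruct.TrioStabData
import Cfsg.Agent.SporStruct.SextetStab

/-!
The stabiliser of a trio in `Cfsg.M24`: `2^6 : (L_3(2) × S_3)`.
-/

set_option autoImplicit false

namespace Cfsg.Agent.SporStruct.M24

open Cfsg Cfsg.Agent.Golay
open Cfsg.Agent.Sporadic96 (lane lane_lt fam mem_fam)
open scoped Pointwise

/-- The first trio. -/
abbrev trio0 : Finset (Finset GolayPt) := fam 3 Sporadic96.trioP 0

/-- A sextet refining a trio. -/
def Refines (T S : Finset (Finset GolayPt)) : Prop :=
  S ∈ sextets ∧ ∀ t ∈ S, ∃ o ∈ T, t ⊆ o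

theorem Refines.smul {T S : Finset (Finset GolayPt)} (h : Refines T S) {g : Equiv.Perm GolayPt}
    (hg : g ∈ Cfsg.M24) : Refines (g • T) (g • S) := by
  refine ⟨smul_mem_sextets hg h.1, fun t ht => ?_⟩
  obtain ⟨t', ht', rfl⟩ := Finset.mem_smul_finset.1 ht
  obtain ⟨o, ho, hto⟩ := h.2 t' ht'
  exact ⟨g • o, Finset.smul_mem_smul_finset ho, Finset.smul_finset_subset_smul_finset hto⟩

/-- The seven sextets refining the first trio. -/
def refineSext (i : Fin 7) : Finset (Finset GolayPt) :=
  fam 6 Sporadic96.sextP (refineList.getD i 0)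

theorem refineList_lt (i : Fin 7) : refineList.getD i 0 < 1771 := by
  have h := refineList_ok.2.2.2
  simp only [List.all_eq_true, Nat.ble_eq] at h
  have hi : i.val < refineList.length := by rw [refineList_ok.2.1]; exact i.2
  rw [List.getD_eq_getElem _ _ hi]
  have := h _ (List.getElem_mem hi)
  omega

theorem refineSext_injective : Function.Injective refineSext := fun i j h => by
  have e := Sporadic96.fam_sext_injective (refineList_lt i) (refineList_lt j) h
  exact Fin.ext (getD_inj refineList_ok.2.2.1 0 (by rw [refineList_ok.2.1]; exact i.2)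
    (by rw [refineList_ok.2.1]; exact j.2) e)

theorem subset_toSet_iff {a b : ℕ} (ha : a < 2 ^ 24) : toSet a ⊆ toSet b ↔ a &&& b = a := by
  rw [← Finset.inter_eq_left, toSet_inter]
  exact ⟨fun h => toSet_injOn (lt_of_le_of_lt Nat.and_le_left ha) ha h, fun h => by rw [h]⟩

/-- The refining sextets, as a finite set. -/
def refineFin : Finset (Finset (Finset GolayPt)) := Finset.univ.image refineSext

theorem mem_refineFin {S : Finset (Finset GolayPt)} : S ∈ refineFin ↔ Refines trio0 S := by
  have hc := refineList_ok.1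
  simp only [refineCheck, List.all_eq_true, List.mem_range, beq_iff_eq] at hc
  have key : ∀ k < 1771, Refines trio0 (fam 6 Sporadic96.sextP k) ↔ k ∈ refineList := by
    intro k hk
    have h := Bool.eq_iff_iff.1 (hc k hk)
    simp only [List.all_eq_true, List.any_eq_true, List.mem_range, beq_iff_eq,
      List.contains_iff_mem] at h
    rw [← h]
    constructor
    · rintro ⟨-, h'⟩ q hq
      obtain ⟨o, ho, hqo⟩ := h' _ (mem_fam.2 ⟨q, hq, rfl⟩)
      obtain ⟨r, hr, rfl⟩ := mem_fam.1 ho
      exact ⟨r, hr, by simpa [subset_toSet_iff (lane_lt _ _)] using hqo⟩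
    · intro h'
      refine ⟨packed_sextets.mem hk, fun t ht => ?_⟩
      obtain ⟨q, hq, rfl⟩ := mem_fam.1 ht
      obtain ⟨r, hr, e⟩ := h' q hq
      exact ⟨_, mem_fam.2 ⟨r, hr, rfl⟩, by simpa [subset_toSet_iff (lane_lt _ _)] using e⟩
  simp only [refineFin, Finset.mem_image, Finset.mem_univ, true_and]
  constructor
  · rintro ⟨i, rfl⟩
    refine (key _ (refineList_lt i)).2 ?_
    rw [List.getD_eq_getElem _ _ (by rw [refineList_ok.2.1]; exact i.2)]
    exact List.getElem_mem _
  · intro hS
    obtain ⟨k, hk, rfl⟩ := Sporadic96.sextet_iff.1 hS.1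
    obtain ⟨i, hi, rfl⟩ := List.getElem_of_mem ((key k hk).1 hS)
    exact ⟨⟨i, refineList_ok.2.1 ▸ hi⟩, by rw [refineSext, List.getD_eq_getElem _ _ hi]⟩

theorem refineFin_invariant (g : Cfsg.M24) (hg : g ∈ MulAction.stabilizer Cfsg.M24 trio0)
    (S : Finset (Finset GolayPt)) : g • S ∈ refineFin ↔ S ∈ refineFin := by
  have hT : (g : Equiv.Perm GolayPt) • trio0 = trio0 := hg
  rw [mem_refineFin, mem_refineFin, Subgroup.smul_def]
  constructor
  · intro h
    have := h.smul (Cfsg.M24.inv_mem g.2)
    rwa [inv_smul_smul, (inv_smul_eq_iff.2 hT.symm : (g : Equiv.Perm GolayPt)⁻¹ • trio0 = trio0)]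
      at this
  · intro h
    have := h.smul g.2
    rwa [hT] at this

/-- Numbering of the refining sextets. -/
noncomputable def refineEquiv : Fin 7 ≃ {x // x ∈ refineFin} :=
  Equiv.ofBijective (fun i => ⟨refineSext i, Finset.mem_image_of_mem _ (Finset.mem_univ i)⟩)
    ⟨fun _ _ h => refineSext_injective (congrArg Subtype.val h), fun x => by
      obtain ⟨i, -, hi⟩ := Finset.mem_image.1 x.2
      exact ⟨i, Subtype.ext hi⟩⟩

theorem trio0_card : trio0.card = 3 :=
  packed_trios.card (packed_trios.mem (by norm_num))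

/-- The action on the seven sextets and the three octads. -/
noncomputable def trioHom :
    MulAction.stabilizer Cfsg.M24 trio0 →* Equiv.Perm (Fin 7) × Equiv.Perm (Fin 3) :=
  (refineEquiv.symm.permCongrHom.toMonoidHom.comp (permOn _ refineFin refineFin_invariant)).prod
    ((famEquiv trio0_card).symm.permCongrHom.toMonoidHom.comp (famHom trio0))

theorem trioTab_spec {l σ : List ℕ} {τ : ℕ → ℕ} (h : trioTabCheck l σ τ = true)
    (s : Equiv.Perm (Fin 7)) (t : Equiv.Perm (Fin 3)) (hs : ∀ i, (s i).val = σ.getD i 0)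
    (ht : ∀ i, (t i).val = τ i) :
    ∃ g, trioHom g = (s, t) ∧ Tab ((g : Cfsg.M24) : Equiv.Perm GolayPt) l := by
  simp only [trioTabCheck, Bool.and_eq_true, List.all_eq_true, List.mem_range, Nat.ble_eq,
    List.any_eq_true] at h
  obtain ⟨hm, h7⟩ := h
  obtain ⟨p, hp, hT, hmv⟩ := famMoves_spec hm
  have hp0 : p • trio0 = trio0 := packed_trios.smul_fam (by norm_num) (by norm_num) fun r hr =>
    ⟨_, (hmv r hr).1, by simpa using (hmv r hr).2⟩
  refine ⟨⟨⟨p, hp⟩, hp0⟩, Prod.ext (Equiv.ext fun i => ?_) (Equiv.ext fun i => ?_), hT⟩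
  · apply refineEquiv.injective
    apply Subtype.ext
    show ((refineEquiv (refineEquiv.symm.permCongr _ i) : {x // x ∈ refineFin}) :
      Finset (Finset GolayPt)) = _
    rw [Equiv.permCongr_apply, Equiv.symm_symm, Equiv.apply_symm_apply, permOn_apply]
    show p • refineSext i = refineSext (s i)
    rw [refineSext, refineSext, hs i]
    have hlt := refineList_lt (s i)
    rw [hs i] at hlt
    refine packed_sextets.smul_fam (refineList_lt i) hlt fun q hq => ?_
    obtain ⟨u, hu, e⟩ := (h7 i i.2).2 q hq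
    exact ⟨u, hu, hT.smul_toSet e⟩
  · apply (famEquiv trio0_card).injective
    apply Subtype.ext
    show ((famEquiv trio0_card ((famEquiv trio0_card).symm.permCongr _ i) : {x // x ∈ trio0}) :
      Finset GolayPt) = _
    rw [Equiv.permCongr_apply, Equiv.symm_symm, Equiv.apply_symm_apply, famHom_apply,
      famEquiv_apply, famEquiv_apply, ht i]
    simpa using (hmv i i.2).2

/-- The vector with the binary digits of `i + 1`. -/
def vec3 (i : Fin 7) : {v : Fin 3 → ZMod 2 // v ≠ 0} :=
  ⟨fun j => if (i.val + 1).testBit j.val then 1 else 0, by revert i; decide⟩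

theorem vec3_bijective : Function.Bijective vec3 := by
  refine (Fintype.bijective_iff_surjective_and_card _).2 ⟨?_, ?_⟩
  · decide
  · decide

/-- The action of `GL 3 2` on nonzero vectors. -/
def glPerm : GL (Fin 3) (ZMod 2) →* Equiv.Perm {v : Fin 3 → ZMod 2 // v ≠ 0} where
  toFun A :=
    { toFun := fun v => ⟨(A : Matrix (Fin 3) (Fin 3) (ZMod 2)).mulVec v, fun h => v.2 (by
        have h2 := congrArg ((A⁻¹ : GL (Fin 3) (ZMod 2)) : Matrix (Fin 3) (Fin 3) (ZMod 2)).mulVec h
        rwa [Matrix.mulVec_mulVec, ← Units.val_mul, inv_mul_cancel, Units.val_one,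
          Matrix.one_mulVec, Matrix.mulVec_zero] at h2)⟩
      invFun := fun v => ⟨((A⁻¹ : GL (Fin 3) (ZMod 2)) : Matrix (Fin 3) (Fin 3) (ZMod 2)).mulVec v,
        fun h => v.2 (by
          have h2 := congrArg (A : Matrix (Fin 3) (Fin 3) (ZMod 2)).mulVec h
          rwa [Matrix.mulVec_mulVec, ← Units.val_mul, mul_inv_cancel, Units.val_one,
            Matrix.one_mulVec, Matrix.mulVec_zero] at h2)⟩
      left_inv := fun v => Subtype.ext (by
        show ((A⁻¹ : GL (Fin 3) (ZMod 2)) : Matrix (Fin 3) (Fin 3) (ZMod 2)).mulVec _ = _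
        rw [Matrix.mulVec_mulVec, ← Units.val_mul, inv_mul_cancel, Units.val_one,
          Matrix.one_mulVec])
      right_inv := fun v => Subtype.ext (by
        show (A : Matrix (Fin 3) (Fin 3) (ZMod 2)).mulVec _ = _
        rw [Matrix.mulVec_mulVec, ← Units.val_mul, mul_inv_cancel, Units.val_one,
          Matrix.one_mulVec]) }
  map_one' := Equiv.ext fun v => Subtype.ext (by simp)
  map_mul' A B := Equiv.ext fun v => Subtype.ext (by simp [Matrix.mulVec_mulVec])

theorem glPerm_injective : Function.Injective glPerm := fun A B h => by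
  apply Units.ext
  apply Matrix.ext_of_mulVec_single
  intro j
  have hne : (Pi.single j 1 : Fin 3 → ZMod 2) ≠ 0 := by revert j; decide
  exact congrArg Subtype.val (Equiv.ext_iff.1 h ⟨_, hne⟩)

/-- `GL 3 2 × S_3` on seven and three points. -/
noncomputable def modelHom :
    GL (Fin 3) (ZMod 2) × Equiv.Perm (Fin 3) →* Equiv.Perm (Fin 7) × Equiv.Perm (Fin 3) :=
  ((Equiv.ofBijective vec3 vec3_bijective).symm.permCongrHom.toMonoidHom.comp glPerm).prodMap
    (MonoidHom.id _)

theorem modelHom_injective : Function.Injective modelHom :=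
  Prod.map_injective.2 ⟨((Equiv.ofBijective vec3
    vec3_bijective).symm.permCongrHom.injective).comp glPerm_injective, Function.injective_id⟩

theorem transvTabs_model : ∀ e ∈ transvTabs, ∀ i : Fin 7, ∃ j : Fin 7,
    j.val = e.2.2.1.getD i 0 ∧ ∀ k : Fin 3, (vec3 j).1 k =
      (vec3 i).1 k + if k.val = e.1 then (if h : e.2.1 < 3 then (vec3 i).1 ⟨e.2.1, h⟩ else 0) else 0 := by
  decide

theorem modelHom_range_le : modelHom.range ≤ trioHom.range := by
  set H := trioHom.range.comap modelHom
  suffices ∀ x, x ∈ H by rintro _ ⟨x, rfl⟩; exact this x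
  have hgl : ∀ A : GL (Fin 3) (ZMod 2), (A, 1) ∈ H := by
    have h : ∀ M : Matrix (Fin 3) (Fin 3) (ZMod 2), M.det ≠ 0 →
        ∀ A : GL (Fin 3) (ZMod 2), (A : Matrix _ _ (ZMod 2)) = M → (A, 1) ∈ H := by
      intro M hM
      refine Matrix.diagonal_transvection_induction_of_det_ne_zero
        (fun M => ∀ A : GL (Fin 3) (ZMod 2), (A : Matrix _ _ (ZMod 2)) = M → (A, 1) ∈ H)
        M hM ?_ ?_ ?_
      · intro d hd A hA
        have hd' : ∀ i, d i = 1 := fun i => by
          rw [Matrix.det_diagonal, Finset.prod_ne_zero_iff] at hd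
          have := hd i (Finset.mem_univ i)
          revert this
          generalize d i = x
          revert x
          decide
        have : A = 1 := Units.ext (by rw [hA, Units.val_one, ← Matrix.diagonal_one]; congr 1; exact funext hd')
        rw [this]; exact one_mem _
      · rintro ⟨a, b, hab, c⟩ A hA
        rw [Matrix.TransvectionStruct.toMatrix_mk] at hA
        have hc : c = 0 ∨ c = 1 := (by decide : ∀ x : ZMod 2, x = 0 ∨ x = 1) c
        rcases hc with rfl | rfl
        · have : A = 1 := Units.ext (by rw [hA, Matrix.transvection_zero, Units.val_one])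
          rw [this]; exact one_mem _
        · obtain ⟨e, he, ha, hb⟩ : ∃ e ∈ transvTabs, e.1 = a.val ∧ e.2.1 = b.val := by
            clear hA; revert a b; decide
          obtain ⟨g, hg, -⟩ := trioTab_spec (List.all_eq_true.1 transvTabs_ok.1 e he)
            (modelHom (A, 1)).1 1 (fun i => by
              obtain ⟨j, hj, hjv⟩ := transvTabs_model e he i
              rw [← hj]
              congr 1
              apply (Equiv.ofBijective vec3 vec3_bijective).injective
              show (Equiv.ofBijective vec3 vec3_bijective)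
                ((Equiv.ofBijective vec3 vec3_bijective).symm.permCongr (glPerm A) i) = _
              rw [Equiv.permCongr_apply, Equiv.symm_symm, Equiv.apply_symm_apply]
              apply Subtype.ext
              show (A : Matrix (Fin 3) (Fin 3) (ZMod 2)).mulVec (vec3 i).1 = (vec3 j).1
              funext k
              rw [hjv k, ha, hA, Matrix.transvection, Matrix.add_mulVec, Matrix.one_mulVec,
                Pi.add_apply, Matrix.single_mulVec, dif_pos (hb ▸ b.2)]
              simp only [one_mul, Function.update_apply, Pi.zero_apply, Fin.val_inj, hb, Fin.eta])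
            (fun _ => rfl)
          exact ⟨g, hg.trans (Prod.ext rfl rfl)⟩
      · intro P Q hP hQ hPi hQi A hA
        have : A = Matrix.GeneralLinearGroup.mkOfDetNeZero P hP *
            Matrix.GeneralLinearGroup.mkOfDetNeZero Q hQ :=
          Units.ext (by rw [hA, Units.val_mul]; rfl)
        have e : ((A, 1) : GL (Fin 3) (ZMod 2) × Equiv.Perm (Fin 3)) =
            (Matrix.GeneralLinearGroup.mkOfDetNeZero P hP, 1) *
              (Matrix.GeneralLinearGroup.mkOfDetNeZero Q hQ, 1) := by rw [this]; simp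
        rw [e]
        exact H.mul_mem (hPi _ rfl) (hQi _ rfl)
    intro A
    exact h _ (by
      have := A.isUnit
      rw [Matrix.isUnit_iff_isUnit_det] at this
      exact this.ne_zero) A rfl
  have hperm : ∀ σ : Equiv.Perm (Fin 3), (1, σ) ∈ H := fun σ => by
    induction σ using Equiv.Perm.swap_induction_on with
    | one => exact one_mem _
    | swap_mul σ a b hab ih =>
      have key : ∀ a b : Fin 3, ∀ {l}, (a.val, b.val, l) ∈ octadSwaps →
          ((1, Equiv.swap a b) : GL (Fin 3) (ZMod 2) × _) ∈ H := by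
        intro a b l hl
        obtain ⟨g, hg, -⟩ := trioTab_spec (List.all_eq_true.1 transvTabs_ok.2 _ hl) 1
          (Equiv.swap a b) (fun i => by simp) (fun i => by
            simp only [swapFn3, Equiv.swap_apply_def, Fin.val_inj]
            split_ifs <;> rfl)
        exact ⟨g, hg.trans (Prod.ext (by ext x; simp [modelHom, Equiv.permCongr_apply]) rfl)⟩
      have hsw : ((1, Equiv.swap a b) : GL (Fin 3) (ZMod 2) × _) ∈ H := by
        obtain ⟨e, he, h | h⟩ : ∃ e ∈ octadSwaps,
            (e.1 = a.val ∧ e.2.1 = b.val) ∨ (e.1 = b.val ∧ e.2.1 = a.val) := by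
          clear ih; revert a b; decide
        · exact key a b (l := e.2.2) (by rw [← h.1, ← h.2]; exact he)
        · rw [Equiv.swap_comm]; exact key b a (l := e.2.2) (by rw [← h.1, ← h.2]; exact he)
      have : ((1, Equiv.swap a b * σ) : GL (Fin 3) (ZMod 2) × Equiv.Perm (Fin 3)) =
          (1, Equiv.swap a b) * (1, σ) := by simp
      rw [this]
      exact H.mul_mem hsw ih
  rintro ⟨A, σ⟩
  have : ((A, σ) : GL (Fin 3) (ZMod 2) × Equiv.Perm (Fin 3)) = (A, 1) * (1, σ) := by simp
  rw [this]
  exact H.mul_mem (hgl A) (hperm σ)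

theorem card_model_range : Nat.card modelHom.range = 1008 := by
  rw [← Nat.card_congr (MonoidHom.ofInjective modelHom_injective).toEquiv, Nat.card_prod,
    Matrix.card_GL_field, Nat.card_perm, Nat.card_fin, Fin.prod_univ_three, ZMod.card]
  rfl

theorem card_trio_stab {T : Finset (Finset GolayPt)} (hT : T ∈ trios) :
    Nat.card (MulAction.stabilizer Cfsg.M24 T) = 64512 := by
  have := packed_trios.card_stab hT
  omega

theorem card_trio_ker_ge : ∀ i : Fin trioKerTabs.length, ∃ g : trioHom.ker,
    Tab ((g.1 : Cfsg.M24) : Equiv.Perm GolayPt) trioKerTabs[i] := by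
  intro i
  have h := List.all_eq_true.1 trioKerTabs_ok.1 _ (List.getElem_mem i.2)
  simp only [Bool.and_eq_true] at h
  obtain ⟨g, hg, hT⟩ := trioTab_spec h.1.2 1 1 (fun j => by simp) (fun _ => rfl)
  exact ⟨⟨g, hg⟩, hT⟩

theorem trio_ker_facts : Nat.card trioHom.ker = 64 ∧ trioHom.range = modelHom.range ∧
    ∀ x ∈ trioHom.ker, x * x = 1 := by
  obtain ⟨hall, hlen, hnd⟩ := trioKerTabs_ok
  rw [List.all_eq_true] at hall
  choose f hf using card_trio_ker_ge
  have hl : ∀ i : Fin trioKerTabs.length, trioKerTabs[i].length = 24 := fun i => by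
    have h := hall _ (List.getElem_mem i.2)
    simp only [Bool.and_eq_true, beq_iff_eq] at h
    exact h.1.1
  have hinj : Function.Injective f := fun i j hij => Fin.ext (hnd.getElem_inj_iff.1
    (tab_ext (hf i) (by rw [hij]; exact hf j) (hl i) (hl j)))
  have hge := Nat.card_le_card_of_injective f hinj
  rw [Nat.card_eq_fintype_card, Fintype.card_fin, hlen] at hge
  have h := trioHom.ker.card_mul_index
  rw [Subgroup.index_ker, card_trio_stab (packed_trios.mem (by norm_num))] at h
  have hr := Subgroup.card_le_of_le modelHom_range_le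
  rw [card_model_range] at hr
  have hker : Nat.card trioHom.ker = 64 := by nlinarith
  refine ⟨hker, (Subgroup.eq_of_le_of_card_ge modelHom_range_le ?_).symm, ?_⟩
  · rw [card_model_range]; rw [hker] at h; omega
  · have hbij : Function.Bijective f := by
      rw [Nat.bijective_iff_injective_and_card]
      exact ⟨hinj, by rw [hker, Nat.card_eq_fintype_card, Fintype.card_fin, hlen]⟩
    intro x hx
    obtain ⟨i, hi⟩ := hbij.2 ⟨x, hx⟩
    have hT := hf i
    rw [hi] at hT
    have hc := hall _ (List.getElem_mem i.2)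
    simp only [Bool.and_eq_true, List.all_eq_true, List.mem_range, beq_iff_eq] at hc
    apply Subtype.ext; apply Subtype.ext
    refine Equiv.ext fun p => idx_injective ?_
    show idx (((x : Cfsg.M24) : Equiv.Perm GolayPt) (((x : Cfsg.M24) : Equiv.Perm GolayPt) p)) = idx p
    have h1 := hT _ (idx_lt p)
    rw [pt_idx] at h1
    have h2 := hT _ (idx_lt (((x : Cfsg.M24) : Equiv.Perm GolayPt) p))
    rw [pt_idx, h1] at h2
    exact h2.trans (hc.2 _ (idx_lt p))

/-- Conjugation between the stabilisers. -/
def stabConj {S : Finset (Finset GolayPt)} (c : Cfsg.M24) :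
    MulAction.stabilizer Cfsg.M24 S ≃* MulAction.stabilizer Cfsg.M24 (c • S) where
  toFun g := ⟨c * g * c⁻¹, by
    rw [MulAction.mem_stabilizer_iff, mul_smul, mul_smul, inv_smul_smul,
      MulAction.mem_stabilizer_iff.1 g.2]⟩
  invFun g := ⟨c⁻¹ * g * c, by
    rw [MulAction.mem_stabilizer_iff, mul_smul, mul_smul, MulAction.mem_stabilizer_iff.1 g.2,
      inv_smul_smul]⟩
  left_inv g := Subtype.ext (by simp [mul_assoc])
  right_inv g := Subtype.ext (by simp [mul_assoc])
  map_mul' g h := Subtype.ext (by simp [mul_assoc])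

theorem trio_famHom_range {T : Finset (Finset GolayPt)} (hT : T ∈ trios) :
    (famHom T).range = ⊤ := by
  obtain ⟨c, hc, rfl⟩ := exists_map_trio (packed_trios.mem (by norm_num : 0 < 3795)) hT
  refine famHom_range_smul (eq_top_iff.2 fun σ _ => ?_) hc
  obtain ⟨g, hg⟩ : modelHom (1, (famEquiv trio0_card).symm.permCongrHom σ) ∈ trioHom.range :=
    modelHom_range_le ⟨_, rfl⟩
  exact ⟨g, (famEquiv trio0_card).symm.permCongrHom.injective (congrArg Prod.snd hg)⟩

theorem trio_structure {T : Finset (Finset GolayPt)} (hT : T ∈ trios) :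
    ∃ (N : Subgroup (MulAction.stabilizer Cfsg.M24 T)) (_ : N.Normal), Nat.card N = 64 ∧
      (∀ x ∈ N, x * x = 1) ∧
      Nonempty (MulAction.stabilizer Cfsg.M24 T ⧸ N ≃*
        GL (Fin 3) (ZMod 2) × Equiv.Perm (Fin 3)) := by
  obtain ⟨c, hc, rfl⟩ := exists_map_trio (packed_trios.mem (by norm_num : 0 < 3795)) hT
  obtain ⟨hker, hrange, hexp⟩ := trio_ker_facts
  let e : MulAction.stabilizer Cfsg.M24 trio0 ≃* MulAction.stabilizer Cfsg.M24 (c • trio0) :=
    stabConj ⟨c, hc⟩
  have hn : (trioHom.ker.map (e : MulAction.stabilizer Cfsg.M24 trio0 →*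
      MulAction.stabilizer Cfsg.M24 (c • trio0))).Normal :=
    Subgroup.Normal.map inferInstance _ e.surjective
  refine ⟨_, hn, ?_, ?_, ?_⟩
  · rw [← hker]
    exact (Nat.card_congr (trioHom.ker.equivMapOfInjective _ e.injective).toEquiv).symm
  · rintro _ ⟨x, hx, rfl⟩
    rw [← map_mul, hexp x hx, map_one]
  · exact ⟨(QuotientGroup.congr _ _ e rfl).symm.trans ((QuotientGroup.quotientKerEquivRange
      trioHom).trans ((MulEquiv.subgroupCongr hrange).trans
        (MonoidHom.ofInjective modelHom_injective).symm))⟩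

end Cfsg.Agent.SporStruct.M24
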