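import Mathlib

/-!
A point stabiliser is maximal when no sum of suborbit lengths containing `1` divides the degree.
-/

set_option autoImplicit false

namespace Cfsg.Agent.SporStruct

open scoped Pointwise

variable {G X : Type*} [Group G] [MulAction G X]

/-- If the orbit of `x` is covered by `{x}` and finitely many sets, each inside one orbit of the
stabiliser, and no proper nonempty choice of them gives, together with `x`, a number dividing the
length of the orbit, then the stabiliser is maximal. -/
theorem isCoatom_stabilizer_of_suborbits (x : X) {r : ℕ} (hr : 0 < r) (O : Fin r → Set X)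
    (s : Fin r → ℕ) (hfin : ∀ i, (O i).Finite) (hcard : ∀ i, (O i).ncard = s i)
    (hs0 : ∀ i, s i ≠ 0)
    (hdisj : ∀ i j, i ≠ j → Disjoint (O i) (O j)) (hx : ∀ i, x ∉ O i)
    (hsub : ∀ i, O i ⊆ MulAction.orbit G x)
    (hcover : ∀ y ∈ MulAction.orbit G x, y = x ∨ ∃ i, y ∈ O i)
    (htrans : ∀ i, ∀ y ∈ O i, ∀ z ∈ O i, ∃ g ∈ MulAction.stabilizer G x, g • y = z)
    (harith : ∀ J : Finset (Fin r), J.Nonempty → J ≠ Finset.univ →
      ¬ (1 + ∑ i ∈ J, s i) ∣ (1 + ∑ i, s i)) :
    IsCoatom (MulAction.stabilizer G x) := by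
  classical
  set U : Finset X := insert x (Finset.univ.biUnion fun i => (hfin i).toFinset) with hU
  have hcardU : ∀ J : Finset (Fin r),
      (insert x (J.biUnion fun i => (hfin i).toFinset)).card = 1 + ∑ i ∈ J, s i := by
    intro J
    rw [Finset.card_insert_of_notMem, Finset.card_biUnion, add_comm]
    · congr 1
      refine Finset.sum_congr rfl fun i _ => ?_
      rw [← hcard i, Set.ncard_eq_toFinset_card _ (hfin i)]
    · intro i _ j _ hij
      rw [Function.onFun, Set.Finite.disjoint_toFinset]
      exact hdisj i j hij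
    · simp [hx]
  have horbU : MulAction.orbit G x = ↑U := by
    ext y
    simp only [hU, Finset.coe_insert, Finset.coe_biUnion, Set.mem_insert_iff, Set.mem_iUnion,
      Finset.coe_univ, Set.mem_univ, exists_true_left, Set.Finite.coe_toFinset]
    exact ⟨hcover y, fun h => h.elim (fun e => by rw [e]; exact MulAction.mem_orbit_self x)
      (fun ⟨i, hi⟩ => hsub i hi)⟩
  have hindex : (MulAction.stabilizer G x).index = 1 + ∑ i, s i := by
    rw [MulAction.index_stabilizer, horbU, Set.ncard_coe_finset, hU, hcardU]
  refine ⟨fun htop => ?_, fun K hK => ?_⟩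
  · have h1 : (MulAction.stabilizer G x).index = 1 := by rw [htop]; exact Subgroup.index_top
    rw [hindex] at h1
    have hle := Finset.single_le_sum (f := s) (fun i _ => Nat.zero_le _)
      (Finset.mem_univ (⟨0, hr⟩ : Fin r))
    have := hs0 ⟨0, hr⟩
    omega
  set H := MulAction.stabilizer G x with hH
  set J : Finset (Fin r) := Finset.univ.filter fun i => ∃ y ∈ O i, ∃ k ∈ K, k • x = y with hJ
  have horbK : MulAction.orbit K x = ↑(insert x (J.biUnion fun i => (hfin i).toFinset)) := by
    ext y
    simp only [Finset.coe_insert, Finset.coe_biUnion, Set.mem_insert_iff, Set.mem_iUnion,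
      Set.Finite.coe_toFinset, hJ, Finset.coe_filter, Finset.mem_univ, true_and, Set.mem_ofPred_eq,
      MulAction.mem_orbit_iff, exists_prop]
    constructor
    · rintro ⟨⟨k, hk⟩, rfl⟩
      rcases hcover _ (MulAction.mem_orbit x k) with h | ⟨i, hi⟩
      · exact Or.inl h
      · exact Or.inr ⟨i, ⟨_, hi, k, hk, rfl⟩, hi⟩
    · rintro (h | ⟨i, ⟨z, hz, k, hk, hkz⟩, hy⟩)
      · exact ⟨1, by rw [one_smul, h]⟩
      · obtain ⟨g, hg, hgy⟩ := htrans i z hz y hy
        exact ⟨⟨g * k, K.mul_mem (hK.le hg) hk⟩, by
          rw [Subgroup.smul_def]; simp only [mul_smul, hkz, hgy]⟩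
  have hrel : H.relIndex K = 1 + ∑ i ∈ J, s i := by
    have : H.subgroupOf K = MulAction.stabilizer K x := by
      ext k; rfl
    rw [Subgroup.relIndex, this, MulAction.index_stabilizer, horbK, Set.ncard_coe_finset, hcardU]
  have hdvd : H.relIndex K ∣ H.index :=
    ⟨K.index, (Subgroup.relIndex_mul_index hK.le).symm⟩
  rw [hrel, hindex] at hdvd
  rcases J.eq_empty_or_nonempty with hJe | hJn
  · rw [hJe, Finset.sum_empty, add_zero, Subgroup.relIndex_eq_one] at hrel
    exact absurd hrel hK.not_ge
  · by_cases hJu : J = Finset.univ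
    · have h := Subgroup.relIndex_mul_index hK.le
      rw [hrel, hJu, hindex] at h
      have : 0 < 1 + ∑ i, s i := by omega
      rw [← Subgroup.index_eq_one]
      exact Nat.eq_of_mul_eq_mul_left this (by rw [h, mul_one])
    · exact absurd hdvd (harith J hJn hJu)

end Cfsg.Agent.SporStruct
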