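import Cfsg.Agent.SporStruct.M24Sets
import Cfsg.Agent.Lib.Leech.Monomial

/-!
Code words with a prescribed pattern on at most five points, and monomial moves.
-/

set_option autoImplicit false

namespace Cfsg.Agent.SporStruct.M24

open Cfsg Cfsg.Agent.Golay
open scoped Pointwise

set_option maxRecDepth 20000 in
theorem pattern_base : ∀ a : Fin 6, ∀ b : Fin 6, a.val + b.val ≤ 5 →
    ((List.range 4096).any fun m =>
      ((List.range a.val).all fun i => (comb m).testBit (baseN.getD i 0)) &&
      ((List.range b.val).all fun i => !(comb m).testBit (baseN.getD (a.val + i) 0))) = true := by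
  decide +kernel

theorem bp_inj {i j : ℕ} (hi : i < 7) (hj : j < 7) (h : bp i = bp j) : i = j := by
  have := bp_facts.2.2.1 ⟨i, hi⟩ ⟨j, hj⟩ h
  simpa using this

/-- A code word containing `A` and missing `B`, for at most five points. -/
theorem exists_code_pattern {A B : Finset GolayPt} (hd : Disjoint A B) (h5 : A.card + B.card ≤ 5) :
    ∃ c ∈ supports (golayCode : Set (GolayPt → ZMod 2)), A ⊆ c ∧ Disjoint B c := by
  have h := pattern_base ⟨A.card, by omega⟩ ⟨B.card, by omega⟩ h5
  simp only [List.any_eq_true, List.mem_range, Bool.and_eq_true, List.all_eq_true,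
    Bool.not_eq_true'] at h
  obtain ⟨m, hm, hA, hB⟩ := h
  have injA : Set.InjOn bp ↑(Finset.range A.card) := fun i hi j hj e => by
    simp only [Finset.coe_range, Set.mem_Iio] at hi hj
    exact bp_inj (by omega) (by omega) e
  have injB : Set.InjOn (fun i => bp (A.card + i)) ↑(Finset.range B.card) := fun i hi j hj e => by
    simp only [Finset.coe_range, Set.mem_Iio] at hi hj
    have := bp_inj (by omega) (by omega) e
    omega
  obtain ⟨g, hg, hgA, hgB⟩ := exists_map_disjoint (s := (Finset.range A.card).image bp)
    (t := (Finset.range B.card).image fun i => bp (A.card + i)) (s' := A) (t' := B) (by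
      rw [Finset.disjoint_left]
      intro p hp hp'
      obtain ⟨i, hi, rfl⟩ := Finset.mem_image.1 hp
      obtain ⟨j, hj, e⟩ := Finset.mem_image.1 hp'
      rw [Finset.mem_range] at hi hj
      have := bp_inj (by omega) (by omega) e
      omega) hd
    (by rw [Finset.card_image_of_injOn injA, Finset.card_range])
    (by rw [Finset.card_image_of_injOn injB, Finset.card_range])
    (by rw [Finset.card_image_of_injOn injA, Finset.card_image_of_injOn injB, Finset.card_range,
      Finset.card_range]; exact h5)
  refine ⟨g • toSet (comb m), smul_mem_supports hg (mem_supports_iff.2 ⟨_, inCode_comb hm, rfl⟩),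
    ?_, ?_⟩
  · conv_lhs => rw [← hgA]
    refine Finset.smul_finset_subset_smul_finset fun p hp => ?_
    obtain ⟨i, hi, rfl⟩ := Finset.mem_image.1 hp
    rw [mem_toSet, idx_bp]
    exact hA i (Finset.mem_range.1 hi)
  · rw [← hgB, Finset.disjoint_left]
    intro p hp hp'
    obtain ⟨q, hq, rfl⟩ := Finset.mem_smul_finset.1 hp
    rw [Finset.smul_mem_smul_finset_iff] at hp'
    obtain ⟨i, hi, rfl⟩ := Finset.mem_image.1 hq
    rw [mem_toSet, idx_bp] at hp'
    rw [hB i (Finset.mem_range.1 hi)] at hp'
    exact Bool.false_ne_true hp'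

/-- A monomial element moving up to five points to prescribed points with prescribed signs. -/
theorem exists_mono_list {A A' : List GolayPt} (hA : A.Nodup) (hA' : A'.Nodup)
    (hlen : A.length = A'.length) (h5 : A.length ≤ 5) (neg : GolayPt → Prop) :
    ∃ (σ : Cfsg.M24) (c : Finset GolayPt) (hc : c ∈ supports (golayCode : Set (GolayPt → ZMod 2))),
      A.map σ.1 = A' ∧ ∀ p ∈ A', (p ∈ c ↔ neg p) := by
  classical
  obtain ⟨g, hg, hmap⟩ := exists_map_list hA hA' hlen h5
  have hsum : (A'.toFinset.filter neg).card + (A'.toFinset.filter fun p => ¬ neg p).card ≤ 5 := by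
    rw [Finset.card_filter_add_card_filter_not, List.toFinset_card_of_nodup hA']
    omega
  obtain ⟨c, hc, hin, hout⟩ := exists_code_pattern (Finset.disjoint_filter_filter_not _ _ neg) hsum
  refine ⟨⟨g, hg⟩, c, hc, hmap, fun p hp => ⟨fun hpc => ?_, fun hn => ?_⟩⟩
  · by_contra hn
    exact Finset.disjoint_left.1 hout (Finset.mem_filter.2 ⟨List.mem_toFinset.2 hp, hn⟩) hpc
  · exact hin (Finset.mem_filter.2 ⟨List.mem_toFinset.2 hp, hn⟩)

end Cfsg.Agent.SporStruct.M24
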