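import Cfsg.Agent.Lib.Leech.Orbits
import Cfsg.Agent.SporStruct.CodePattern

/-!
Orbits of Co0 on pairs of minimal vectors with inner product 0 and -16.
-/

set_option autoImplicit false

namespace Cfsg.Agent.SporStruct

open Cfsg Cfsg.Agent.Leech
open scoped Pointwise

/-- A minimal vector with a coordinate `±4`. -/
theorem coord_four_any {v : GolayPt → ℤ} (hv : v ∈ leechLattice) (hn : sqNorm v = 32) {p : GolayPt}
    (hp : v p = 4 ∨ v p = -4) :
    ∃ j, j ≠ p ∧ (v j = 4 ∨ v j = -4) ∧ v = four p j (v p) (v j) := by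
  rcases shape32 hv hn with ⟨a, b, hab, ha, hb, h0⟩ | ⟨o, ho, h2, h0⟩ | ⟨a, ha, h1⟩
  · have mk : ∀ a b : GolayPt, a = p → a ≠ b → (v b = 4 ∨ v b = -4) →
        (∀ i, i ≠ a → i ≠ b → v i = 0) →
        ∃ j, j ≠ p ∧ (v j = 4 ∨ v j = -4) ∧ v = four p j (v p) (v j) := by
      intro a b hap hab hb h0
      subst hap
      refine ⟨b, hab.symm, hb, funext fun k => ?_⟩
      simp only [four, Pi.add_apply, Pi.single_apply]
      by_cases h1 : k = a
      · subst h1; simp [hab]
      · by_cases h2 : k = b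
        · subst h2; simp [h1]
        · simp [h1, h2, h0 k h1 h2]
    by_cases hap : a = p
    · exact mk a b hap hab hb h0
    by_cases hbp : b = p
    · exact mk b a hbp hab.symm ha fun i x y => h0 i y x
    have := h0 p (Ne.symm hap) (Ne.symm hbp); omega
  · by_cases hno : p ∈ o
    · have := h2 p hno; omega
    · have := h0 p hno; omega
  · by_cases h : p = a
    · subst h; omega
    · have := h1 p h; omega

theorem signedPerm_four (σ : Equiv.Perm GolayPt) (c : Finset GolayPt) (i j : GolayPt) (a b : ℤ) :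
    signedPerm σ c (four i j a b) =
      four (σ i) (σ j) (if σ i ∈ c then -a else a) (if σ j ∈ c then -b else b) := by
  rw [four, signedPerm_add, signedPerm_single, signedPerm_single]
  rfl

theorem four_apply_left {i j : GolayPt} (h : i ≠ j) (a b : ℤ) : four i j a b i = a := by
  simp [four, h]

theorem four_apply_right {i j : GolayPt} (h : i ≠ j) (a b : ℤ) : four i j a b j = b := by
  simp [four, h.symm]

/-- Orthogonal minimal vectors go to `(4, 4, 0 ...)` and `(4, -4, 0 ...)`. -/
theorem exists_smul_orth (hu : CodeUnique) {v w : leechLattice}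
    (hv : sqNorm (v : GolayPt → ℤ) = 32) (hw : sqNorm (w : GolayPt → ℤ) = 32)
    (hd : dotInt (v : GolayPt → ℤ) (w : GolayPt → ℤ) = 0) :
    ∃ g : Co0, ((g • v : leechLattice) : GolayPt → ℤ) = four none (some 0) 4 4 ∧
      ((g • w : leechLattice) : GolayPt → ℤ) = four none (some 0) 4 (-4) := by
  obtain ⟨g, hg⟩ := exists_smul_eq_frame hu (x := v + w) (by
    rw [AddSubgroup.coe_add, sqNorm_add, hv, hw, hd]; norm_num)
  set y := ((g • v : leechLattice) : GolayPt → ℤ) with hy
  set z := ((g • w : leechLattice) : GolayPt → ℤ) with hz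
  have h4 : y none = 4 := by
    have := coord_none hg v
    rw [AddSubgroup.coe_add, dotInt_add_left', dotInt_self, hv, dotInt_comm, hd, ← hy] at this
    omega
  obtain ⟨j, hj, hyj, hy4⟩ := coord_four_any (g • v).2 ((sqNorm_smul g v).trans hv) (p := none)
    (Or.inl h4)
  rw [← hy] at hyj hy4
  have hsum : y + z = Pi.single none 8 := by
    rw [hy, hz, ← AddSubgroup.coe_add, ← smul_add', hg]; rfl
  have hz4 : z = four none j 4 (-y j) := by
    have : z = Pi.single none 8 - y := by rw [← hsum]; abel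
    rw [this, hy4, h4, four_apply_right hj.symm, four, four, Pi.single_neg, sub_add_eq_sub_sub,
      ← Pi.single_sub]
    norm_num
    abel
  obtain ⟨σ, c, hc, hmap, hneg⟩ := M24.exists_mono_list (A := [none, j]) (A' := [none, some 0])
    (by simp [hj.symm]) (by simp) rfl (by simp) (fun p => p = some 0 ∧ y j = -4)
  simp only [List.map_cons, List.map_nil, List.cons.injEq, and_true] at hmap
  have hn : (none : GolayPt) ∉ c := fun h => by simpa using ((hneg none (by simp)).1 h).1
  have h0 : (some 0 : GolayPt) ∈ c ↔ y j = -4 := by simpa using hneg (some 0) (by simp)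
  refine ⟨mono σ hc * g, ?_, ?_⟩
  · rw [mul_smul, coe_mono_smul, ← hy, hy4, h4, signedPerm_four, hmap.1, hmap.2, if_neg hn]
    rcases hyj with e | e
    · rw [e, if_neg (fun h => by have := h0.1 h; omega)]
    · rw [e, if_pos (h0.2 e), neg_neg]
  · rw [mul_smul, coe_mono_smul, ← hz, hz4, signedPerm_four, hmap.1, hmap.2, if_neg hn]
    rcases hyj with e | e
    · rw [e, if_neg (fun h => by have := h0.1 h; omega)]
    · rw [e, if_pos (h0.2 e), neg_neg]

theorem transitive_orth (hu : CodeUnique) {v w v' w' : leechLattice}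
    (hv : sqNorm (v : GolayPt → ℤ) = 32) (hw : sqNorm (w : GolayPt → ℤ) = 32)
    (hd : dotInt (v : GolayPt → ℤ) (w : GolayPt → ℤ) = 0)
    (hv' : sqNorm (v' : GolayPt → ℤ) = 32) (hw' : sqNorm (w' : GolayPt → ℤ) = 32)
    (hd' : dotInt (v' : GolayPt → ℤ) (w' : GolayPt → ℤ) = 0) :
    ∃ g : Co0, g • v = v' ∧ g • w = w' := by
  obtain ⟨g, hg1, hg2⟩ := exists_smul_orth hu hv hw hd
  obtain ⟨h, hh1, hh2⟩ := exists_smul_orth hu hv' hw' hd'
  refine ⟨h⁻¹ * g, ?_, ?_⟩
  · rw [mul_smul, Subtype.ext (hg1.trans hh1.symm), inv_smul_smul]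
  · rw [mul_smul, Subtype.ext (hg2.trans hh2.symm), inv_smul_smul]

/-- For minimal `v`, `w` with product -16 some minimal `r` is orthogonal to `v` and has product -16
with `w`. -/
theorem exists_orth_neg16 (hu : CodeUnique) {v w : leechLattice}
    (hv : sqNorm (v : GolayPt → ℤ) = 32) (hw : sqNorm (w : GolayPt → ℤ) = 32)
    (hd : dotInt (v : GolayPt → ℤ) (w : GolayPt → ℤ) = -16) :
    ∃ r : leechLattice, sqNorm (r : GolayPt → ℤ) = 32 ∧
      dotInt (r : GolayPt → ℤ) (v : GolayPt → ℤ) = 0 ∧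
      dotInt (r : GolayPt → ℤ) (w : GolayPt → ℤ) = -16 := by
  obtain ⟨g, hg⟩ := exists_smul_eq_std32 hu hw
  set y := ((g • v : leechLattice) : GolayPt → ℤ) with hy
  have hsum : 4 * y none + 4 * y (some 0) = -16 := by
    rw [← dotInt_smul g, hg, dotInt_comm, coe_std32, dotInt_four] at hd
    exact hd
  have mk : ∀ p q : GolayPt, ∀ s : ℤ, (s = 4 ∨ s = -4) → (p = none ∨ p = some 0) →
      q ≠ none → q ≠ some 0 → s * y q = 4 * y p → ∃ r : leechLattice,
      sqNorm (r : GolayPt → ℤ) = 32 ∧ dotInt (r : GolayPt → ℤ) (v : GolayPt → ℤ) = 0 ∧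
      dotInt (r : GolayPt → ℤ) (w : GolayPt → ℤ) = -16 := by
    intro p q s hs hp hq1 hq2 h
    have hpq : p ≠ q := by rcases hp with rfl | rfl <;> simp [hq1.symm, hq2.symm]
    obtain ⟨hm, hn⟩ := four_spec hpq (Or.inr rfl : (-4 : ℤ) = 4 ∨ (-4 : ℤ) = -4) hs
    refine ⟨g⁻¹ • ⟨_, hm⟩, (sqNorm_smul _ _).trans hn, ?_, ?_⟩
    · rw [← dotInt_smul g, smul_inv_smul, ← hy, dotInt_four]; linarith
    · rw [← dotInt_smul g, smul_inv_smul, hg, dotInt_four, coe_std32]
      have hqv : four none (some 0) 4 4 q = 0 := by simp [four, hq1, hq2]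
      have hpv : four none (some 0) 4 4 p = 4 := by rcases hp with rfl | rfl <;> simp [four]
      rw [hqv, hpv]; norm_num
  have hout : ∀ S : Finset GolayPt, S.card < 24 → ∃ q, q ∉ S := fun S hS => by
    by_contra h
    push Not at h
    have := Finset.card_le_card (fun x _ => h x : (Finset.univ : Finset GolayPt) ⊆ S)
    rw [Finset.card_univ, Golay.card_golayPt] at this
    omega
  rcases shape32 (x := y) (g • v).2 ((sqNorm_smul g v).trans hv) with
    ⟨a, b, hab, ha, hb, h0⟩ | ⟨o, ho, h2, h0⟩ | ⟨a, ha, h1⟩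
  · have vals : ∀ p, y p = 0 ∨ y p = 4 ∨ y p = -4 := fun p => by
      by_cases h1 : p = a
      · subst h1; omega
      · by_cases h2 : p = b
        · subst h2; omega
        · exact Or.inl (h0 p h1 h2)
    obtain ⟨q, hq⟩ := hout {none, some 0, a, b}
      (lt_of_le_of_lt Finset.card_le_four (by norm_num))
    simp only [Finset.mem_insert, Finset.mem_singleton, not_or] at hq
    have hyq : y q = 0 := h0 q hq.2.2.1 hq.2.2.2
    have := vals none; have := vals (some 0)
    rcases (by omega : y none = 0 ∨ y (some 0) = 0) with h | h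
    · exact mk none q 4 (Or.inl rfl) (Or.inl rfl) hq.1 hq.2.1 (by rw [hyq, h])
    · exact mk (some 0) q 4 (Or.inl rfl) (Or.inr rfl) hq.1 hq.2.1 (by rw [hyq, h])
  · have vals : ∀ p, y p = 0 ∨ y p = 2 ∨ y p = -2 := fun p => by
      by_cases h : p ∈ o
      · have := h2 p h; omega
      · exact Or.inl (h0 p h)
    have := vals none; have := vals (some 0)
    have hyn : y none = -2 := by omega
    obtain ⟨q, hq, hq'⟩ : ∃ q ∈ o, q ≠ none ∧ q ≠ some 0 := by
      by_contra h
      push Not at h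
      have hsub : o ⊆ {none, some 0} := fun q hq => by
        by_cases e : q = none
        · simp [e]
        · simp [h q hq e]
      have := Finset.card_le_card hsub
      have := Finset.card_le_two (a := (none : GolayPt)) (b := some 0)
      rw [ho.2] at *
      omega
    rcases h2 q hq with e | e
    · exact mk none q (-4) (Or.inr rfl) (Or.inl rfl) hq'.1 hq'.2 (by rw [e, hyn]; norm_num)
    · exact mk none q 4 (Or.inl rfl) (Or.inl rfl) hq'.1 hq'.2 (by rw [e, hyn])
  · have vals : ∀ p, y p = 1 ∨ y p = -1 ∨ y p = 3 ∨ y p = -3 := fun p => by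
      by_cases h : p = a
      · subst h; omega
      · have := h1 p h; omega
    obtain ⟨q, hq⟩ := hout {none, some 0, a} (lt_of_le_of_lt Finset.card_le_three (by norm_num))
    simp only [Finset.mem_insert, Finset.mem_singleton, not_or] at hq
    have := vals none; have := vals (some 0)
    rcases (by omega : y none = -1 ∨ y (some 0) = -1) with h | h
    · rcases h1 q hq.2.2 with e | e
      · exact mk none q (-4) (Or.inr rfl) (Or.inl rfl) hq.1 hq.2.1 (by rw [e, h] <;> norm_num)
      · exact mk none q 4 (Or.inl rfl) (Or.inl rfl) hq.1 hq.2.1 (by rw [e, h] <;> norm_num)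
    · rcases h1 q hq.2.2 with e | e
      · exact mk (some 0) q (-4) (Or.inr rfl) (Or.inr rfl) hq.1 hq.2.1 (by rw [e, h] <;> norm_num)
      · exact mk (some 0) q 4 (Or.inl rfl) (Or.inr rfl) hq.1 hq.2.1 (by rw [e, h] <;> norm_num)

/-- Minimal vectors with product -16 go to `(4, 4, 0, ...)` and `(-4, 0, 4, 0, ...)`. -/
theorem exists_smul_neg16 (hu : CodeUnique) {v w : leechLattice}
    (hv : sqNorm (v : GolayPt → ℤ) = 32) (hw : sqNorm (w : GolayPt → ℤ) = 32)
    (hd : dotInt (v : GolayPt → ℤ) (w : GolayPt → ℤ) = -16) :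
    ∃ g : Co0, ((g • v : leechLattice) : GolayPt → ℤ) = four none (some 0) 4 4 ∧
      ((g • w : leechLattice) : GolayPt → ℤ) = four none (some 1) (-4) 4 := by
  obtain ⟨r, hr, hrv, hrw⟩ := exists_orth_neg16 hu hv hw hd
  obtain ⟨g, hg⟩ := exists_smul_eq_frame hu (x := v + r) (by
    rw [AddSubgroup.coe_add, sqNorm_add, hv, hr, dotInt_comm, hrv]; norm_num)
  set y := ((g • v : leechLattice) : GolayPt → ℤ) with hy
  set z := ((g • w : leechLattice) : GolayPt → ℤ) with hz
  have h4 : y none = 4 := by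
    have := coord_none hg v
    rw [AddSubgroup.coe_add, dotInt_add_left', dotInt_self, hv, hrv, ← hy] at this
    omega
  have h4' : z none = -4 := by
    have := coord_none hg w
    rw [AddSubgroup.coe_add, dotInt_add_left', hd, hrw, ← hz] at this
    omega
  obtain ⟨j, hj, hyj, hy4⟩ := coord_four_any (g • v).2 ((sqNorm_smul g v).trans hv) (p := none)
    (Or.inl h4)
  obtain ⟨k, hk, hzk, hz4⟩ := coord_four_any (g • w).2 ((sqNorm_smul g w).trans hw) (p := none)
    (Or.inr h4')
  rw [← hy] at hyj hy4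
  rw [← hz] at hzk hz4
  rw [h4] at hy4
  rw [h4'] at hz4
  have hjk : j ≠ k := by
    intro e
    have hdd : dotInt y z = -16 := (dotInt_smul g v w).trans hd
    rw [hy4, dotInt_four, h4', e] at hdd
    rw [e] at hyj
    rcases hyj with a | a <;> rw [a] at hdd <;> omega
  obtain ⟨σ, c, hc, hmap, hneg⟩ := M24.exists_mono_list (A := [none, j, k])
    (A' := [none, some 0, some 1])
    (by simp [hj.symm, hk.symm, hjk]) (by decide) rfl (by simp)
    (fun p => (p = some 0 ∧ y j = -4) ∨ (p = some 1 ∧ z k = -4))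
  simp only [List.map_cons, List.map_nil, List.cons.injEq, and_true] at hmap
  have hn : (none : GolayPt) ∉ c := fun h => by simpa using (hneg none (by simp)).1 h
  have h01 : (some 0 : GolayPt) ≠ some 1 := by decide
  have h0 : (some 0 : GolayPt) ∈ c ↔ y j = -4 := by
    simpa [h01] using hneg (some 0) (by simp)
  have h1 : (some 1 : GolayPt) ∈ c ↔ z k = -4 := by
    simpa [h01.symm] using hneg (some 1) (by simp)
  refine ⟨mono σ hc * g, ?_, ?_⟩
  · rw [mul_smul, coe_mono_smul, ← hy, hy4, signedPerm_four, hmap.1, hmap.2.1, if_neg hn]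
    rcases hyj with e | e
    · rw [e, if_neg (fun h => by have := h0.1 h; omega)]
    · rw [e, if_pos (h0.2 e), neg_neg]
  · rw [mul_smul, coe_mono_smul, ← hz, hz4, signedPerm_four, hmap.1, hmap.2.2, if_neg hn]
    rcases hzk with e | e
    · rw [e, if_neg (fun h => by have := h1.1 h; omega)]
    · rw [e, if_pos (h1.2 e), neg_neg]

theorem transitive_neg16 (hu : CodeUnique) {v w v' w' : leechLattice}
    (hv : sqNorm (v : GolayPt → ℤ) = 32) (hw : sqNorm (w : GolayPt → ℤ) = 32)
    (hd : dotInt (v : GolayPt → ℤ) (w : GolayPt → ℤ) = -16)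
    (hv' : sqNorm (v' : GolayPt → ℤ) = 32) (hw' : sqNorm (w' : GolayPt → ℤ) = 32)
    (hd' : dotInt (v' : GolayPt → ℤ) (w' : GolayPt → ℤ) = -16) :
    ∃ g : Co0, g • v = v' ∧ g • w = w' := by
  obtain ⟨g, hg1, hg2⟩ := exists_smul_neg16 hu hv hw hd
  obtain ⟨h, hh1, hh2⟩ := exists_smul_neg16 hu hv' hw' hd'
  refine ⟨h⁻¹ * g, ?_, ?_⟩
  · rw [mul_smul, Subtype.ext (hg1.trans hh1.symm), inv_smul_smul]
  · rw [mul_smul, Subtype.ext (hg2.trans hh2.symm), inv_smul_smul]

end Cfsg.Agent.SporStruct
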