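import Cfsg.Agent.SporStruct.M24TwoGroup
import Cfsg.Agent.SporStruct.OctadStab
import Cfsg.Agent.SporStruct.SextetStab
import Cfsg.Agent.SporStruct.M24Classes
import Cfsg.Agent.Lib.Golay.Subgroups

/-!
Subgroups of index 253, 276, 759, 1771 in `Cfsg.M24`.
-/

set_option autoImplicit false

namespace Cfsg.Agent.SporStruct.M24

open Cfsg Cfsg.Agent.Golay
open Cfsg.Agent.Sporadic96 (lane fam mem_fam toFam mem_toFam)
open scoped Pointwise

section Counting

variable {X : Type*} [MulAction (Equiv.Perm GolayPt) X]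

theorem card_eq_orbit_mul (K : Subgroup (Equiv.Perm GolayPt)) (x : X) :
    Nat.card K = (MulAction.orbit K x).ncard *
      Nat.card ↥(K ⊓ MulAction.stabilizer (Equiv.Perm GolayPt) x) := by
  have e : MulAction.stabilizer K x ≃ ↥(K ⊓ MulAction.stabilizer (Equiv.Perm GolayPt) x) :=
    { toFun := fun g => ⟨g.1.1, g.1.2, g.2⟩
      invFun := fun g => ⟨⟨g.1, g.2.1⟩, g.2.2⟩
      left_inv := fun _ => rfl
      right_inv := fun _ => rfl }
  rw [← Nat.card_congr e, ← Nat.card_coe_set_eq, ← Nat.card_prod,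
    Nat.card_congr (MulAction.orbitProdStabilizerEquivGroup K x)]

theorem mem_orbit_sub {K : Subgroup (Equiv.Perm GolayPt)} {x y : X} :
    y ∈ MulAction.orbit K x ↔ ∃ g ∈ K, g • x = y := by
  constructor
  · rintro ⟨⟨g, hg⟩, h⟩; exact ⟨g, hg, h⟩
  · rintro ⟨g, hg, h⟩; exact ⟨⟨g, hg⟩, h⟩

/-- An orbit of a subgroup is not much shorter than one of the group. -/
theorem orbit_bound {G L : Subgroup (Equiv.Perm GolayPt)} (hL : L ≤ G) (x : X) :
    (MulAction.orbit G x).ncard * Nat.card L ≤ Nat.card G * (MulAction.orbit L x).ncard := by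
  have h1 := card_eq_orbit_mul G x
  have h2 := card_eq_orbit_mul L x
  have h3 := Subgroup.card_le_of_le (inf_le_inf_right (MulAction.stabilizer _ x) hL)
  rw [h1, h2]
  calc _ = (MulAction.orbit G x).ncard * (MulAction.orbit L x).ncard *
        Nat.card ↥(L ⊓ MulAction.stabilizer (Equiv.Perm GolayPt) x) := by ring
    _ ≤ (MulAction.orbit G x).ncard * (MulAction.orbit L x).ncard *
        Nat.card ↥(G ⊓ MulAction.stabilizer (Equiv.Perm GolayPt) x) := Nat.mul_le_mul_left _ h3
    _ = _ := by ring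

end Counting

/-- The point stabiliser in a subgroup. -/
abbrev stab0 (H : Subgroup (Equiv.Perm GolayPt)) : Subgroup (Equiv.Perm GolayPt) :=
  H ⊓ MulAction.stabilizer (Equiv.Perm GolayPt) (none : GolayPt)

theorem mem_stab0 {H : Subgroup (Equiv.Perm GolayPt)} {g : Equiv.Perm GolayPt} :
    g ∈ stab0 H ↔ g ∈ H ∧ g none = none := Iff.rfl

variable {H : Subgroup (Equiv.Perm GolayPt)}

theorem card_of_transitive (htr : ∀ x, ∃ h ∈ H, h none = x) :
    Nat.card H = 24 * Nat.card (stab0 H) := by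
  have h := card_eq_orbit_mul H (none : GolayPt)
  have e : MulAction.orbit H (none : GolayPt) = Set.univ := Set.eq_univ_of_forall fun x =>
    mem_orbit_sub.2 (htr x)
  rw [h, e, Set.ncard_univ, Nat.card_eq_fintype_card, card_golayPt]

/-- No element of order seven in a point stabiliser fixing exactly one further point. -/
theorem false_of_two_fixed (hM : H ≤ Cfsg.M24) (htr : ∀ x, ∃ h ∈ H, h none = x) {q : GolayPt}
    (hq : q ≠ none) (hfix : ∀ k ∈ stab0 H, k q = q)
    (honly : ∀ x, (∀ k ∈ stab0 H, k x = x) → x = none ∨ x = q)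
    (h7 : 7 ∣ Nat.card (stab0 H)) : False := by
  have : Fact (Nat.Prime 7) := ⟨by norm_num⟩
  obtain ⟨g, hg, hgq⟩ := htr q
  have conj : ∀ {u h : Equiv.Perm GolayPt}, u ∈ H → h ∈ H → u (h none) = h none →
      u (h q) = h q := by
    intro u h hu hh hfixh
    have hk : h⁻¹ * u * h ∈ stab0 H := mem_stab0.2 ⟨mul_mem (mul_mem (inv_mem hh) hu) hh, by
      simp [Equiv.Perm.mul_apply, hfixh]⟩
    have := hfix _ hk
    simp only [Equiv.Perm.mul_apply, Equiv.Perm.coe_inv, Equiv.symm_apply_eq] at this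
    exact this
  -- fixing `q` forces fixing `none`
  have hgn : g q = none := by
    rcases honly (g q) (fun k hk => conj (mem_stab0.1 hk).1 hg (by rw [hgq]; exact hfix k hk))
      with h | h
    · exact h
    · exact absurd (g.injective (h.trans hgq.symm)) hq
  have hfixn : ∀ h ∈ H, h q = q → h none = none := fun h hh hhq => by
    have := conj hh hg (by rw [hgq]; exact hhq)
    rwa [hgn] at this
  obtain ⟨⟨x, hx⟩, hxo⟩ := exists_prime_orderOf_dvd_card' 7 h7
  rw [Subgroup.orderOf_mk] at hxo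
  have hxH := (mem_stab0.1 hx).1
  obtain ⟨z, hz, hz'⟩ := Finset.exists_mem_notMem_of_card_lt_card
    (show ({none, q} : Finset GolayPt).card < (fixedPts x).card by
      rw [card_fixedPts_seven (hM hxH) hxo, Finset.card_pair hq.symm]; norm_num)
  rw [Finset.mem_insert, Finset.mem_singleton, not_or] at hz'
  obtain ⟨h, hh, hhz⟩ := htr z
  have hw : h q ∈ fixedPts x :=
    mem_fixedPts.2 (conj hxH hh (by rw [hhz]; exact mem_fixedPts.1 hz))
  have h3 : ({none, q, z} : Finset GolayPt) = fixedPts x := by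
    refine Finset.eq_of_subset_of_card_le (fun y hy => ?_) ?_
    · simp only [Finset.mem_insert, Finset.mem_singleton] at hy
      rcases hy with rfl | rfl | rfl
      · exact mem_fixedPts.2 (mem_stab0.1 hx).2
      · exact mem_fixedPts.2 (hfix x hx)
      · exact hz
    · rw [card_fixedPts_seven (hM hxH) hxo, Finset.card_insert_of_notMem, Finset.card_pair]
      · exact Ne.symm hz'.2
      · simp only [Finset.mem_insert, Finset.mem_singleton, not_or]
        exact ⟨hq.symm, Ne.symm hz'.1⟩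
  rw [← h3] at hw
  simp only [Finset.mem_insert, Finset.mem_singleton] at hw
  rcases hw with hw | hw | hw
  · have hgh : (g * h) none = none := hfixn _ (mul_mem hg hh) (by
      rw [Equiv.Perm.mul_apply, hw, hgq])
    rw [Equiv.Perm.mul_apply, hhz] at hgh
    exact hz'.2 (g.injective (hgh.trans hgn.symm))
  · exact hz'.1 (hhz ▸ hfixn h hh hw)
  · exact hq (h.injective (hw.trans hhz.symm))

theorem all_fixed_of_card {g : Equiv.Perm GolayPt} (hg : orderOf g = 5) {S : Finset GolayPt}
    (hS : g • S = S) (hc : S.card = 3) : ∀ x ∈ S, g x = x := by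
  have : Fact (Nat.Prime 5) := ⟨by norm_num⟩
  have h := card_modEq_fixed (p := 5) (by rw [← hg, pow_orderOf_eq_one])
    (S := S) (Golay.apply_mem_iff_of_smul_eq hS)
  have hle := Finset.card_filter_le S fun q => g q = q
  have : (S.filter fun q => g q = q).card = S.card := by
    rw [hc] at h hle ⊢
    unfold Nat.ModEq at h
    omega
  intro x hx
  rw [← Finset.eq_of_subset_of_card_le (Finset.filter_subset _ S) this.ge] at hx
  exact (Finset.mem_filter.1 hx).2

/-- No blocks of size three with long point stabiliser orbits outside. -/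
theorem false_of_triple (hM : H ≤ Cfsg.M24) (htr : ∀ x, ∃ h ∈ H, h none = x) {T : Finset GolayPt}
    (hn : none ∈ T) (hc : T.card = 3) (hK : ∀ k ∈ stab0 H, k • T = T)
    (hlong : ∀ y ∉ T, 21 ≤ (MulAction.orbit (stab0 H) y).ncard)
    (h5 : 5 ∣ Nat.card (stab0 H)) : False := by
  have key : ∀ u ∈ H, u none ∈ T → u • T = T := by
    intro u hu hr
    refine Finset.eq_of_subset_of_card_le (fun y hy => ?_) (by rw [Finset.card_smul_finset])
    by_contra hyT
    set K' := stab0 H ⊓ MulAction.stabilizer (Equiv.Perm GolayPt) (u none) with hK'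
    have hinv : ∀ k ∈ K', k • (u • T) = u • T := by
      rintro k ⟨hk, hkr⟩
      have hmem : u⁻¹ * k * u ∈ stab0 H :=
        mem_stab0.2 ⟨mul_mem (mul_mem (inv_mem hu) (mem_stab0.1 hk).1) hu, by
          have hkr' : k (u none) = u none := hkr
          simp [Equiv.Perm.mul_apply, hkr']⟩
      have := hK _ hmem
      rwa [mul_smul, mul_smul, inv_smul_eq_iff] at this
    have h3 : (MulAction.orbit K' y).ncard ≤ 3 := by
      refine (Set.ncard_le_ncard (t := ((u • T : Finset GolayPt) : Set GolayPt)) ?_).trans ?_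
      · intro w hw
        obtain ⟨k, hk, rfl⟩ := mem_orbit_sub.1 hw
        rw [Finset.mem_coe, ← hinv k hk]
        exact Finset.smul_mem_smul_finset hy
      · rw [Set.ncard_coe_finset, Finset.card_smul_finset, hc]
    have hr3 : (MulAction.orbit (stab0 H) (u none)).ncard ≤ 3 := by
      refine (Set.ncard_le_ncard (t := (T : Set GolayPt)) ?_).trans
        (by rw [Set.ncard_coe_finset, hc])
      intro w hw
      obtain ⟨k, hk, rfl⟩ := mem_orbit_sub.1 hw
      rw [Finset.mem_coe, ← hK k hk]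
      exact Finset.smul_mem_smul_finset hr
    have hcard := card_eq_orbit_mul (stab0 H) (u none)
    have hb := orbit_bound (inf_le_left : K' ≤ stab0 H) y
    have hl := hlong y hyT
    have hpos : 0 < Nat.card K' := Nat.card_pos
    rw [← hK'] at hcard
    have h1 : 21 * Nat.card K' ≤ Nat.card (stab0 H) * 3 :=
      (Nat.mul_le_mul_right _ hl).trans (hb.trans (Nat.mul_le_mul_left _ h3))
    have h2 : Nat.card (stab0 H) ≤ 3 * Nat.card K' := hcard ▸ Nat.mul_le_mul_right _ hr3
    omega
  have key2 : ∀ a ∈ H, ∀ b ∈ H, a none ∈ b • T → a • T = b • T := by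
    intro a ha b hb hab
    have := key (b⁻¹ * a) (mul_mem (inv_mem hb) ha) (by
      rw [mem_smul_iff] at hab
      exact hab)
    rwa [mul_smul, inv_smul_eq_iff] at this
  have : Fact (Nat.Prime 5) := ⟨by norm_num⟩
  obtain ⟨⟨x, hx⟩, hxo⟩ := exists_prime_orderOf_dvd_card' 5 h5
  rw [Subgroup.orderOf_mk] at hxo
  have hT := all_fixed_of_card hxo (hK x hx) hc
  have hF := card_fixedPts_five (hM (mem_stab0.1 hx).1) hxo
  obtain ⟨z, hz, hzT⟩ := Finset.exists_mem_notMem_of_card_lt_card
    (show T.card < (fixedPts x).card by rw [hF, hc]; norm_num)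
  obtain ⟨h, hh, hhz⟩ := htr z
  have hzh : z ∈ h • T := hhz ▸ Finset.smul_mem_smul_finset hn
  have hxhT : x • (h • T) = h • T := by
    rw [← mul_smul]
    refine key2 _ (mul_mem (mem_stab0.1 hx).1 hh) _ hh ?_
    rw [Equiv.Perm.mul_apply, hhz, mem_fixedPts.1 hz]
    exact hzh
  have hhT := all_fixed_of_card hxo hxhT (by rw [Finset.card_smul_finset, hc])
  have hFeq : insert z T = fixedPts x := by
    refine Finset.eq_of_subset_of_card_le (Finset.insert_subset hz fun y hy =>
      mem_fixedPts.2 (hT y hy)) ?_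
    rw [hF, Finset.card_insert_of_notMem hzT, hc]
  obtain ⟨y, hy, hyz⟩ := Finset.exists_mem_ne (s := h • T)
    (by rw [Finset.card_smul_finset, hc]; norm_num) z
  have hyT : y ∈ T := by
    have := mem_fixedPts.2 (hhT y hy)
    rw [← hFeq, Finset.mem_insert] at this
    exact this.resolve_left hyz
  obtain ⟨g, hg, rfl⟩ := htr y
  have e1 := key2 g hg h hh hy
  have e2 := key g hg hyT
  exact hzT (by rw [← e2, e1]; exact hzh)

theorem toSet_twoOctad_mem : toSet twoOctad ∈ octads :=
  octad_mem_iff.2 ⟨twoOctad, by decide +kernel, by decide +kernel, rfl⟩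

theorem twoSextet_mem : toFam twoSextet ∈ sextets := by
  have e : twoSextet = (List.range 6).map fun r => lane Sporadic96.sextP (6 * 16 + r) := by
    decide +kernel
  rw [e]
  exact packed_sextets.mem (by norm_num : 16 < 1771)

/-- Five points of the octad left invariant fix the octad. -/
theorem fix_octad_of_five {g : Equiv.Perm GolayPt} (hg : g ∈ Cfsg.M24) {F : Finset GolayPt}
    (hF : F ⊆ toSet twoOctad) (hc : 5 ≤ F.card) (hgF : g • F = F) :
    g • toSet twoOctad = toSet twoOctad :=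
  octad_unique (smul_mem_octads hg toSet_twoOctad_mem) toSet_twoOctad_mem hc
    (hgF ▸ Finset.smul_finset_subset_smul_finset hF) hF

/-- The invariant tetrad fixes the sextet. -/
theorem fix_sextet_of_tetrad {g : Equiv.Perm GolayPt} (hg : g ∈ Cfsg.M24)
    (hgt : g • toSet 8388657 = toSet 8388657) : g • toFam twoSextet = toFam twoSextet := by
  have ht : toSet 8388657 ∈ toFam twoSextet := mem_toFam.2 ⟨8388657, by decide, rfl⟩
  refine sextet_unique (smul_mem_sextets hg twoSextet_mem) twoSextet_mem ?_ ht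
  rw [← hgt]
  exact Finset.smul_mem_smul_finset ht

theorem twoFix_pairs : ∀ x : GolayPt,
    (x = none ∨ x = pt 4) ∨ (((0 : ℕ), idx x) ∈ [((0 : ℕ), (0 : ℕ)), (0, 5)] ∧ x ∈ toSet 33) ∨
      ((2, idx x) ∈ [((2 : ℕ), (2 : ℕ)), (2, 6), (2, 10), (2, 11)] ∧ x ∈ toSet 3140) ∨
      ((1, idx x) ∈ [((1 : ℕ), (1 : ℕ)), (1, 3), (1, 7), (1, 8), (1, 9), (1, 12), (1, 13), (1, 14),
        (1, 15), (1, 16), (1, 17), (1, 18), (1, 19), (1, 20), (1, 21), (1, 22)] ∧
        x ∈ toSet 8385418) := by
  decide +kernel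

theorem classes_of_invariant (hP : twoGroup ≤ H) {W : Finset GolayPt}
    (hW : ∀ k ∈ stab0 H, ∀ x, k x ∈ W ↔ x ∈ W) (hn : none ∉ W) :
    ∀ x, x ∈ W ↔ (x = pt 4 ∧ pt 4 ∈ W) ∨ (x ∈ toSet 33 ∧ pt 0 ∈ W) ∨
      (x ∈ toSet 3140 ∧ pt 2 ∈ W) ∨ (x ∈ toSet 8385418 ∧ pt 1 ∈ W) := by
  have rel : ∀ {a b : ℕ}, (a, b) ∈ twoFixWords.map (fun e => (e.1, e.2.1)) →
      (pt b ∈ W ↔ pt a ∈ W) := by
    intro a b h
    obtain ⟨g, hg, hg0, hgab⟩ := twoGroup_fix_orbit h
    rw [← hgab]
    exact hW g (mem_stab0.2 ⟨hP hg, hg0⟩) _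
  rw [twoWords_ok.2.2.2] at rel
  have disj : ∀ x : GolayPt, (x = pt 4 → x ∉ toSet 33 ∧ x ∉ toSet 3140 ∧ x ∉ toSet 8385418) ∧
      (x ∈ toSet 33 → x ∉ toSet 3140 ∧ x ∉ toSet 8385418) ∧
      (x ∈ toSet 3140 → x ∉ toSet 8385418) := by decide +kernel
  intro x
  obtain ⟨d1, d2, d3⟩ := disj x
  rcases twoFix_pairs x with (rfl | rfl) | ⟨h, hm⟩ | ⟨h, hm⟩ | ⟨h, hm⟩
  · refine iff_of_false hn ?_
    have : (none : GolayPt) ≠ pt 4 ∧ (none : GolayPt) ∉ toSet 33 ∧
        (none : GolayPt) ∉ toSet 3140 ∧ (none : GolayPt) ∉ toSet 8385418 := by decide +kernel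
    tauto
  · have := d1 rfl
    tauto
  · have hx : pt (idx x) ∈ W ↔ pt 0 ∈ W := rel (by
      simp only [List.mem_cons, List.not_mem_nil, or_false] at h ⊢; tauto)
    rw [pt_idx] at hx
    have hne : x ≠ pt 4 := fun e => (d1 e).1 hm
    have := d2 hm
    tauto
  · have hx : pt (idx x) ∈ W ↔ pt 2 ∈ W := rel (by
      simp only [List.mem_cons, List.not_mem_nil, or_false] at h ⊢; tauto)
    rw [pt_idx] at hx
    have hne : x ≠ pt 4 := fun e => (d1 e).2.1 hm
    have : x ∉ toSet 33 := fun e => (d2 e).1 hm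
    have := d3 hm
    tauto
  · have hx : pt (idx x) ∈ W ↔ pt 1 ∈ W := rel (by
      simp only [List.mem_cons, List.not_mem_nil, or_false] at h ⊢; tauto)
    rw [pt_idx] at hx
    have hne : x ≠ pt 4 := fun e => (d1 e).2.2 hm
    have : x ∉ toSet 33 := fun e => (d2 e).2 hm
    have : x ∉ toSet 3140 := fun e => d3 e hm
    tauto

/-- An invariant set avoiding the extra point, as a mask. -/
theorem invariant_mask (hP : twoGroup ≤ H) {W : Finset GolayPt}
    (hW : ∀ k ∈ stab0 H, ∀ x, k x ∈ W ↔ x ∈ W) (hn : none ∉ W) :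
    ∃ a b c d : Bool, (a = true ↔ pt 4 ∈ W) ∧ (b = true ↔ pt 0 ∈ W) ∧ (c = true ↔ pt 2 ∈ W) ∧
      (d = true ↔ pt 1 ∈ W) ∧ W = toSet ((if a then 16 else 0) ||| (if b then 33 else 0) |||
        (if c then 3140 else 0) ||| (if d then 8385418 else 0)) := by
  refine ⟨decide (pt 4 ∈ W), decide (pt 0 ∈ W), decide (pt 2 ∈ W), decide (pt 1 ∈ W),
    decide_eq_true_iff, decide_eq_true_iff, decide_eq_true_iff, decide_eq_true_iff,
    Finset.ext fun x => ?_⟩
  have h4 : ∀ x : GolayPt, x = pt 4 ↔ x ∈ toSet 16 := by decide +kernel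
  rw [classes_of_invariant hP hW hn x, h4 x, ← toSet_union, ← toSet_union, ← toSet_union]
  by_cases p4 : pt 4 ∈ W <;> by_cases p0 : pt 0 ∈ W <;> by_cases p2 : pt 2 ∈ W <;>
    by_cases p1 : pt 1 ∈ W <;>
    simp [p4, p0, p2, p1, or_assoc]

theorem orbit_facts (hP : twoGroup ≤ H) :
    (∀ x, ∃ h ∈ H, h none = x) ∨ ∀ h ∈ H, h • toSet twoOctad = toSet twoOctad := by
  by_cases h1 : ∃ x ∉ toSet twoOctad, ∃ h ∈ H, h none = x
  · left
    intro y
    by_cases hy : y ∈ toSet twoOctad
    · obtain ⟨g, hg, hgy⟩ := twoGroup_octad hy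
      exact ⟨g, hP hg, hgy⟩
    · obtain ⟨x, hx, h, hh, hhx⟩ := h1
      have out : ∀ z : GolayPt, z ∉ toSet twoOctad → (1, idx z) ∈ [((1 : ℕ), (1 : ℕ)), (1, 3),
          (1, 7), (1, 8), (1, 9), (1, 12), (1, 13), (1, 14), (1, 15), (1, 16), (1, 17), (1, 18),
          (1, 19), (1, 20), (1, 21), (1, 22)] := by decide +kernel
      have rel : ∀ z, z ∉ toSet twoOctad → ∃ g ∈ twoGroup, g (pt 1) = z := fun z hz => by
        obtain ⟨g, hg, -, hgz⟩ := twoGroup_fix_orbit (a := 1) (b := idx z) (by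
          rw [twoWords_ok.2.2.2]
          have := out z hz
          simp only [List.mem_cons, List.not_mem_nil, or_false] at this ⊢
          tauto)
        exact ⟨g, hg, by rw [hgz, pt_idx]⟩
      obtain ⟨a, ha, hax⟩ := rel x hx
      obtain ⟨b, hb, hby⟩ := rel y hy
      refine ⟨b * a⁻¹ * h, mul_mem (mul_mem (hP hb) (inv_mem (hP ha))) hh, ?_⟩
      simp [Equiv.Perm.mul_apply, hhx, ← hax, hby]
  · right
    push Not at h1
    intro h hh
    refine Finset.eq_of_subset_of_card_le (fun y hy => ?_) (by rw [Finset.card_smul_finset])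
    obtain ⟨x, hx, rfl⟩ := Finset.mem_smul_finset.1 hy
    obtain ⟨g, hg, rfl⟩ := twoGroup_octad hx
    by_contra hc
    exact h1 _ hc (h * g) (mul_mem hh (hP hg)) rfl

/-- A structure fixed by the 2-group and the point stabiliser is fixed, or the latter is small. -/
theorem fixed_or_small {X : Type*} [MulAction (Equiv.Perm GolayPt) X] (hM : H ≤ Cfsg.M24)
    (hP : twoGroup ≤ H) (htr : ∀ x, ∃ h ∈ H, h none = x) (x : X)
    (hPx : ∀ g ∈ twoGroup, g • x = x) (hKx : ∀ k ∈ stab0 H, k • x = x) (m : ℕ)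
    (hm : ∀ y, (∃ g ∈ Cfsg.M24, g • x = y) → y ≠ x → m ≤ (MulAction.orbit
      ↥(Cfsg.M24 ⊓ MulAction.stabilizer (Equiv.Perm GolayPt) x) y).ncard) :
    (∀ h ∈ H, h • x = x) ∨ m * (8 * Nat.card (stab0 H)) ≤
      2 * Nat.card ↥(Cfsg.M24 ⊓ MulAction.stabilizer (Equiv.Perm GolayPt) x) := by
  set L := H ⊓ MulAction.stabilizer (Equiv.Perm GolayPt) x with hLdef
  have hPL : twoGroup ≤ L := fun g hg => ⟨hP hg, hPx g hg⟩
  have hL8 : 8 * Nat.card (stab0 H) ≤ Nat.card L := by
    rw [card_eq_orbit_mul L (none : GolayPt)]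
    refine Nat.mul_le_mul ?_ (Subgroup.card_le_of_le fun k hk =>
      ⟨⟨(mem_stab0.1 hk).1, hKx k hk⟩, (mem_stab0.1 hk).2⟩)
    refine le_trans ?_ (Set.ncard_le_ncard (s := (toSet twoOctad : Set GolayPt)) ?_)
    · rw [Set.ncard_coe_finset, card_of_mem_octads toSet_twoOctad_mem]
    · intro y hy
      obtain ⟨g, hg, hgy⟩ := twoGroup_octad (Finset.mem_coe.1 hy)
      exact mem_orbit_sub.2 ⟨g, hPL hg, hgy⟩
  have hn3 : (MulAction.orbit H x).ncard ≤ 3 := by
    have h := card_eq_orbit_mul H x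
    rw [card_of_transitive htr, ← hLdef] at h
    have hpos : 0 < Nat.card (stab0 H) := Nat.card_pos
    by_contra hlt
    have h4 : 4 * (8 * Nat.card (stab0 H)) ≤ (MulAction.orbit H x).ncard * Nat.card L :=
      Nat.mul_le_mul (by omega) hL8
    omega
  by_contra hcon
  push Not at hcon
  obtain ⟨⟨h, hh, hhx⟩, hlt⟩ := hcon
  have hbound := orbit_bound (X := X) (G := Cfsg.M24 ⊓ MulAction.stabilizer _ x) (L := L)
    (fun g hg => ⟨hM hg.1, hg.2⟩) (h • x)
  have h2 : (MulAction.orbit L (h • x)).ncard ≤ 2 := by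
    have hsub : MulAction.orbit L (h • x) ⊆ MulAction.orbit H x \ {x} := by
      intro y hy
      obtain ⟨g, hg, rfl⟩ := mem_orbit_sub.1 hy
      refine ⟨mem_orbit_sub.2 ⟨g * h, mul_mem hg.1 hh, mul_smul _ _ _⟩, fun e => hhx ?_⟩
      have hgx : g • x = x := hg.2
      exact MulAction.injective g (e.trans hgx.symm)
    have hfin : (MulAction.orbit H x).Finite := Set.finite_range _
    refine (Set.ncard_le_ncard hsub hfin.diff).trans ?_
    rw [Set.ncard_sdiff_singleton_of_mem (MulAction.mem_orbit_self x)]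
    omega
  have hm' := hm _ ⟨h, hM hh, rfl⟩ hhx
  have hfinal : m * (8 * Nat.card (stab0 H)) ≤
      Nat.card ↥(Cfsg.M24 ⊓ MulAction.stabilizer (Equiv.Perm GolayPt) x) * 2 :=
    (Nat.mul_le_mul hm' hL8).trans (hbound.trans (Nat.mul_le_mul_left _ h2))
  omega

theorem octad_suborbit_ge {y : Finset GolayPt}
    (hy : ∃ g ∈ Cfsg.M24, g • toSet twoOctad = y) (hne : y ≠ toSet twoOctad) :
    30 ≤ (MulAction.orbit ↥(Cfsg.M24 ⊓
      MulAction.stabilizer (Equiv.Perm GolayPt) (toSet twoOctad)) y).ncard := by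
  obtain ⟨g, hg, rfl⟩ := hy
  have hy8 := smul_mem_octads hg toSet_twoOctad_mem
  set k := (toSet twoOctad ∩ g • toSet twoOctad).card with hk
  refine le_trans ?_ (Set.ncard_le_ncard
    (s := {s : Finset GolayPt | s ∈ wordsOfWeight (golayCode : Set (GolayPt → ZMod 2)) 8 ∧
      (toSet twoOctad ∩ s).card = k}) ?_)
  · rw [ncard_class]
    have hc : classCount twoOctad 8 0 = 30 ∧ 30 ≤ classCount twoOctad 8 2 ∧
        30 ≤ classCount twoOctad 8 4 := by decide +kernel
    rcases octad_inter_card toSet_twoOctad_mem hy8 with e | e | e | e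
    · rw [hk, e, hc.1]
    · rw [hk, e]; exact hc.2.1
    · rw [hk, e]; exact hc.2.2
    · exact absurd e hne
  · rintro s ⟨hs, hsk⟩
    obtain ⟨u, hu, huo, hus⟩ := octad_suborbit toSet_twoOctad_mem hy8 hs hsk.symm
    exact mem_orbit_sub.2 ⟨u, ⟨hu, huo⟩, hus⟩

theorem sextet_suborbit_ge {y : Finset (Finset GolayPt)}
    (hy : ∃ g ∈ Cfsg.M24, g • toFam twoSextet = y) (hne : y ≠ toFam twoSextet) :
    90 ≤ (MulAction.orbit ↥(Cfsg.M24 ⊓
      MulAction.stabilizer (Equiv.Perm GolayPt) (toFam twoSextet)) y).ncard := by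
  obtain ⟨g, hg, rfl⟩ := hy
  have hy6 := smul_mem_sextets hg twoSextet_mem
  obtain ⟨i, hi⟩ := (sextet_famCert.cover' packed_sextets twoSextet_mem hy6).resolve_left hne
  refine le_trans ?_ (Set.ncard_le_ncard (s := classSet sextets (toFam twoSextet) (sextetProf i)) ?_
    (Set.finite_range _))
  · rw [sextet_famCert.ncard_classSet packed_sextets twoSextet_mem i, sextet_sizes]
    have : ∀ i : Fin 3, 90 ≤ (![90, 240, 1440] : Fin 3 → ℕ) i := by decide
    exact this i
  · intro s hs
    obtain ⟨u, hu, hus, huy⟩ :=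
      sextet_famCert.trans_classSet packed_sextets twoSextet_mem i hi hs
    exact mem_orbit_sub.2 ⟨u, ⟨hu, hus⟩, huy⟩

theorem card_octad_fix : Nat.card ↥(Cfsg.M24 ⊓
    MulAction.stabilizer (Equiv.Perm GolayPt) (toSet twoOctad)) = 322560 :=
  card_setStab toSet_twoOctad_mem

theorem card_sextet_fix : Nat.card ↥(Cfsg.M24 ⊓
    MulAction.stabilizer (Equiv.Perm GolayPt) (toFam twoSextet)) = 138240 := by
  rw [← card_sextet_stab twoSextet_mem]
  exact Nat.card_congr
    { toFun := fun g => ⟨⟨g.1, g.2.1⟩, g.2.2⟩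
      invFun := fun g => ⟨g.1.1, g.1.2, g.2⟩
      left_inv := fun _ => rfl
      right_inv := fun _ => rfl }

/-- The outcome of the transitive case. -/
theorem transitive_case (hM : H ≤ Cfsg.M24) (hP : twoGroup ≤ H)
    (htr : ∀ x, ∃ h ∈ H, h none = x)
    (hcard : Nat.card H = 967680 ∨ Nat.card H = 322560 ∨ Nat.card H = 138240) :
    ∀ h ∈ H, h • toFam twoSextet = toFam twoSextet := by
  have hK := card_of_transitive htr
  -- the two ways to finish
  have viaOct : (∀ k ∈ stab0 H, k • toSet twoOctad = toSet twoOctad) → False := by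
    intro hKo
    rcases fixed_or_small hM hP htr (toSet twoOctad) (fun g hg => (twoGroup_fix hg).1) hKo 30
      (fun y hy hne => octad_suborbit_ge hy hne) with h | h
    · obtain ⟨g, hg, hgx⟩ := htr (pt 1)
      have h1 : pt 1 ∈ toSet twoOctad := by
        rw [← hgx, ← h g hg]
        exact Finset.smul_mem_smul_finset (by decide +kernel)
      revert h1
      decide +kernel
    · rw [card_octad_fix] at h
      rcases hcard with e | e | e <;> omega
  have viaSext : (∀ k ∈ stab0 H, k • toSet 8388657 = toSet 8388657) →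
      ∀ h ∈ H, h • toFam twoSextet = toFam twoSextet := by
    intro hKt
    rcases fixed_or_small hM hP htr (toFam twoSextet) (fun g hg => (twoGroup_fix hg).2)
      (fun k hk => fix_sextet_of_tetrad (hM (mem_stab0.1 hk).1) (hKt k hk)) 90
      (fun y hy hne => sextet_suborbit_ge hy hne) with h | h
    · exact h
    · rw [card_sextet_fix] at h
      rcases hcard with e | e | e <;> omega
  have hfixset : ∀ {F : Finset GolayPt} (n : ℕ), F = toSet n →
      (∀ k ∈ stab0 H, ∀ x, k x ∈ F ↔ x ∈ F) →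
      ∀ k ∈ stab0 H, k • toSet (8388608 ||| n) = toSet (8388608 ||| n) := by
    intro F n hF hinv k hk
    refine Finset.eq_of_subset_of_card_le (fun y hy => ?_) (by rw [Finset.card_smul_finset])
    obtain ⟨x, hx, rfl⟩ := Finset.mem_smul_finset.1 hy
    have h23 : ∀ z : GolayPt, z ∈ toSet 8388608 ↔ z = none := by decide +kernel
    rw [← toSet_union, Finset.mem_union, h23, ← hF] at hx ⊢
    rcases hx with rfl | hx
    · exact Or.inl (mem_stab0.1 hk).2
    · exact Or.inr ((hinv k hk x).2 hx)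
  have hinvO : ∀ p, ∀ k ∈ stab0 H, ∀ x, k x ∈ orbF (stab0 H) p ↔ x ∈ orbF (stab0 H) p :=
    fun p k hk x => orbF_invariant hk x
  have hnone : ∀ {p : GolayPt}, p ≠ none → none ∉ orbF (stab0 H) p := fun hp h => by
    obtain ⟨g, hg, e⟩ := mem_orbF.1 h
    exact hp (g.injective (e.trans (mem_stab0.1 hg).2.symm))
  have hdvd : ∀ p, (orbF (stab0 H) p).card ∣ Nat.card (stab0 H) := fun p =>
    ⟨_, card_eq_orbF_mul _ p⟩
  have hq : pt 4 ≠ none := by decide +kernel
  obtain ⟨a, b, c, d, ha, hb, hc, hd, hW⟩ := invariant_mask hP (hinvO (pt 4)) (hnone hq)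
  rw [ha.2 (self_mem_orbF _ _)] at hW
  have hcd := hdvd (pt 4)
  rw [hW, card_toSet] at hcd
  cases d <;> simp only [Bool.false_eq_true, ↓reduceIte, Nat.or_zero] at hW hcd
  · -- the orbit avoids the outside points
    cases c <;> cases b <;> simp only [Bool.false_eq_true, ↓reduceIte, Nat.or_zero] at hW hcd
    · -- the point `q` is fixed
      have hfixq : ∀ k ∈ stab0 H, k (pt 4) = pt 4 := fixes_of_card_one (by
        rw [hW, card_toSet]; decide +kernel)
      rcases Decidable.em (7 ∣ Nat.card (stab0 H)) with h7 | h7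
      · exfalso
        refine false_of_two_fixed hM htr hq hfixq (fun x hx => ?_) h7
        by_contra hne
        have moved : ∀ {u v : ℕ}, (u, v) ∈ twoFixWords.map (fun e => (e.1, e.2.1)) →
            pt u ≠ pt v → (pt u ≠ x ∨ False) := by
          intro u v h huv
          refine Or.inl fun e => ?_
          obtain ⟨g, hg, hg0, hguv⟩ := twoGroup_fix_orbit h
          rw [e, hx g (mem_stab0.2 ⟨hP hg, hg0⟩)] at hguv
          exact huv (e.trans hguv)
        have cases24 : ∀ x : GolayPt, x = none ∨ x = pt 4 ∨ ∃ e ∈ twoFixWords,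
            pt e.1 ≠ pt e.2.1 ∧ (pt e.1 = x ∨ pt e.2.1 = x) := by decide +kernel
        rcases cases24 x with h | h | ⟨e, he, hne', h⟩
        · exact hne (Or.inl h)
        · exact hne (Or.inr h)
        rcases h with h | h
        · exact ((moved (List.mem_map_of_mem he) hne').resolve_right id) h
        · obtain ⟨g, hg, hg0, hguv⟩ := twoGroup_fix_orbit
            (List.mem_map_of_mem (f := fun e => (e.1, e.2.1)) he)
          refine hne' (g.injective ?_)
          rw [hguv, h, hx g (mem_stab0.2 ⟨hP hg, hg0⟩)]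
      · have hK1 : Nat.card (stab0 H) = 5760 := by
          rcases hcard with e | e | e <;> omega
        have h0 : pt 0 ≠ none := by decide +kernel
        obtain ⟨a', b', c', d', ha', hb', hc', hd', hW'⟩ :=
          invariant_mask hP (hinvO (pt 0)) (hnone h0)
        have ha0 : a' = false := by
          rw [Bool.eq_false_iff]
          intro h
          obtain ⟨g, hg, e⟩ := mem_orbF.1 (ha'.1 h)
          exact absurd (g.injective (e.trans (hfixq g hg).symm)) (by decide +kernel)
        rw [ha0, hb'.2 (self_mem_orbF _ _)] at hW'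
        have hcd' := hdvd (pt 0)
        rw [hW', card_toSet, hK1] at hcd'
        cases d' <;> cases c' <;>
          simp only [Bool.false_eq_true, ↓reduceIte, Nat.or_zero, Nat.zero_or] at hW' hcd'
        · refine viaSext fun k hk => ?_
          have h := hfixset (F := orbF (stab0 H) (pt 4) ∪ orbF (stab0 H) (pt 0)) (16 ||| 33)
            (by rw [hW, hW', toSet_union]) (fun k hk x => by
              simp only [Finset.mem_union, hinvO _ k hk x]) k hk
          simpa using h
        · refine absurd (fun k hk => ?_) viaOct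
          have h := hfixset (F := orbF (stab0 H) (pt 4) ∪ orbF (stab0 H) (pt 0))
            (16 ||| (33 ||| 3140)) (by rw [hW, hW', toSet_union]) (fun k hk x => by
              simp only [Finset.mem_union, hinvO _ k hk x]) k hk
          exact fix_octad_of_five (hM (mem_stab0.1 hk).1)
            (by decide +kernel) (by rw [card_toSet]; decide +kernel) h
        · refine absurd (fun k hk => ?_) viaOct
          have hB : ∀ x : GolayPt, x ∈ toSet 3140 ↔
              x ≠ none ∧ x ∉ toSet 16 ∧ x ∉ toSet (33 ||| 8385418) := by decide +kernel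
          have h := hfixset (F := orbF (stab0 H) (pt 4) ∪ toSet 3140)
            (16 ||| 3140) (by rw [hW, toSet_union]) (fun k hk x => by
              rw [Finset.mem_union, Finset.mem_union, hinvO _ k hk x]
              refine or_congr_right ?_
              have hk0 := (mem_stab0.1 hk).2
              simp only [hB, ← hW, ← hW', hinvO _ k hk x, ne_eq,
                show k x = none ↔ x = none from
                  ⟨fun e => k.injective (e.trans hk0.symm), fun e => by rw [e, hk0]⟩]) k hk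
          exact fix_octad_of_five (hM (mem_stab0.1 hk).1)
            (by decide +kernel) (by rw [card_toSet]; decide +kernel) h
        · exact absurd hcd' (by decide +kernel)
    · -- orbit {q} ∪ A
      refine viaSext fun k hk => ?_
      have h := hfixset _ hW (hinvO (pt 4)) k hk
      simpa using h
    · -- orbit {q} ∪ B
      refine absurd (fun k hk => ?_) viaOct
      exact fix_octad_of_five (hM (mem_stab0.1 hk).1)
        (by decide +kernel) (by rw [card_toSet]; decide +kernel)
        (hfixset _ hW (hinvO (pt 4)) k hk)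
    · -- orbit {q} ∪ A ∪ B
      refine absurd (fun k hk => ?_) viaOct
      exact fix_octad_of_five (hM (mem_stab0.1 hk).1)
        (by decide +kernel) (by rw [card_toSet]; decide +kernel)
        (hfixset _ hW (hinvO (pt 4)) k hk)
  · have hKc : Nat.card (stab0 H) = 40320 ∨ Nat.card (stab0 H) = 13440 ∨
        Nat.card (stab0 H) = 5760 := by
      rcases hcard with e | e | e <;> omega
    cases c <;> cases b <;> simp only [Bool.false_eq_true, ↓reduceIte, Nat.or_zero] at hW hcd
    · exfalso; rcases hKc with e | e | e <;> rw [e] at hcd <;> revert hcd <;> decide +kernel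
    · exfalso; rcases hKc with e | e | e <;> rw [e] at hcd <;> revert hcd <;> decide +kernel
    · -- an orbit of 21 points
      exfalso
      refine false_of_triple hM htr (T := toSet 8388641) (by decide +kernel)
        (by rw [card_toSet]; decide +kernel) (fun k hk => ?_) (fun y hy => ?_)
        (by rcases hKc with e | e | e <;> rw [e] <;> norm_num)
      · refine Finset.eq_of_subset_of_card_le (fun y hy => ?_) (by rw [Finset.card_smul_finset])
        obtain ⟨x, hx, rfl⟩ := Finset.mem_smul_finset.1 hy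
        have hT : ∀ x : GolayPt, x ∈ toSet 8388641 ↔ x ∉ toSet (16 ||| 3140 ||| 8385418) := by
          decide +kernel
        rw [hT, ← hW] at hx ⊢
        exact fun h => hx ((hinvO _ k hk x).1 h)
      · have hT : ∀ x : GolayPt, x ∉ toSet 8388641 → x ∈ toSet (16 ||| 3140 ||| 8385418) := by
          decide +kernel
        have hyW : y ∈ orbF (stab0 H) (pt 4) := hW ▸ hT y hy
        obtain ⟨g, hg, hgy⟩ := mem_orbF.1 hyW
        have he : MulAction.orbit (stab0 H) y = MulAction.orbit (stab0 H) (pt 4) :=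
          MulAction.orbit_eq_iff.2 (mem_orbit_sub.2 ⟨g, hg, hgy⟩)
        have hs : MulAction.orbit (stab0 H) (pt 4) = ↑(orbF (stab0 H) (pt 4)) := by
          ext z; rw [Finset.mem_coe, mem_orbF, mem_orbit_sub]; rfl
        rw [he, hs, Set.ncard_coe_finset, hW, card_toSet]
        decide +kernel
    · exfalso; rcases hKc with e | e | e <;> rw [e] at hcd <;> revert hcd <;> decide +kernel

/-- A subgroup containing the 2-group, of one of the three orders. -/
theorem over_twoGroup (hM : H ≤ Cfsg.M24) (hP : twoGroup ≤ H)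
    (hcard : Nat.card H = 967680 ∨ Nat.card H = 322560 ∨ Nat.card H = 138240) :
    (Nat.card H = 322560 ∧ ∀ h ∈ H, h • toSet twoOctad = toSet twoOctad) ∨
      (Nat.card H = 138240 ∧ ∀ h ∈ H, h • toFam twoSextet = toFam twoSextet) := by
  rcases orbit_facts hP with htr | hO
  · have h := transitive_case hM hP htr hcard
    have hd := Subgroup.card_dvd_of_le (show H ≤ Cfsg.M24 ⊓
      MulAction.stabilizer (Equiv.Perm GolayPt) (toFam twoSextet) from fun g hg => ⟨hM hg, h g hg⟩)
    rw [card_sextet_fix] at hd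
    rcases hcard with e | e | e
    · rw [e] at hd; norm_num at hd
    · rw [e] at hd; norm_num at hd
    · exact Or.inr ⟨e, h⟩
  · have hd := Subgroup.card_dvd_of_le (show H ≤ Cfsg.M24 ⊓
      MulAction.stabilizer (Equiv.Perm GolayPt) (toSet twoOctad) from fun g hg => ⟨hM hg, hO g hg⟩)
    rw [card_octad_fix] at hd
    rcases hcard with e | e | e
    · rw [e] at hd; norm_num at hd
    · exact Or.inl ⟨e, hO⟩
    · rw [e] at hd; norm_num at hd

/-- A point moved by an element of prime order has a long orbit. -/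
theorem exists_long_orbit {K : Subgroup (Equiv.Perm GolayPt)} {g : Equiv.Perm GolayPt}
    (hg : g ∈ K) (ho : orderOf g = 11) (hc : (fixedPts g).card < 24) :
    ∃ p, g p ≠ p ∧ 11 ≤ (orbF K p).card := by
  have : Fact (Nat.Prime 11) := ⟨by norm_num⟩
  obtain ⟨p, -, hp⟩ := Finset.exists_mem_notMem_of_card_lt_card
    (show (fixedPts g).card < (Finset.univ : Finset GolayPt).card by
      rwa [Finset.card_univ, card_golayPt])
  rw [mem_fixedPts] at hp
  refine ⟨p, hp, ?_⟩
  have hmod := card_modEq_fixed (p := 11) (by rw [← ho, pow_orderOf_eq_one]) (S := orbF K p)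
    (fun q => orbF_invariant hg q)
  have hlt : ((orbF K p).filter fun q => g q = q).card < (orbF K p).card :=
    Finset.card_lt_card (Finset.filter_ssubset.2 ⟨p, self_mem_orbF K p, hp⟩)
  by_contra h
  unfold Nat.ModEq at hmod
  omega

/-- A subgroup of index 276 fixes a pair. -/
theorem fixes_pair (hM : H ≤ Cfsg.M24) (hcard : Nat.card H = 887040) :
    ∃ s : Finset GolayPt, s.card = 2 ∧ ∀ h ∈ H, h • s = s := by
  have : Fact (Nat.Prime 11) := ⟨by norm_num⟩
  have : Fact (Nat.Prime 7) := ⟨by norm_num⟩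
  have hH0 : H ≤ fixUpTo Cfsg.M24 0 := hM
  have b0 : ∀ p : GolayPt, p ∉ baseSet 0 := fun p => by simp [mem_baseSet]
  have size : ∀ p, (orbF H p).card = 1 ∨ (orbF H p).card = 2 ∨ (orbF H p).card = 22 ∨
      (orbF H p).card = 24 := by
    intro p
    have hle := card_orbF_le (by norm_num) hH0 (b0 p)
    have hpos : 0 < (orbF H p).card := Finset.card_pos.2 ⟨_, self_mem_orbF H p⟩
    have h11 := orbF_mod (i := 0) (by norm_num) hH0 (p := 11) (by rw [hcard]; norm_num) 2
      (fun g hg => card_fixedPts_eleven hg) (by norm_num) (b0 p)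
    have h7 := orbF_mod (i := 0) (by norm_num) hH0 (p := 7) (by rw [hcard]; norm_num) 3
      (fun g hg => card_fixedPts_seven hg) (by norm_num) (b0 p)
    have h23 : (orbF H p).card ≠ 23 := fun e => by
      have hm := card_eq_orbF_mul H p
      rw [hcard, e] at hm
      omega
    omega
  obtain ⟨⟨x, hx⟩, hxo⟩ := exists_prime_orderOf_dvd_card' 11
    (show 11 ∣ Nat.card H by rw [hcard]; norm_num)
  rw [Subgroup.orderOf_mk] at hxo
  obtain ⟨p, -, hp⟩ := exists_long_orbit hx hxo (by
    rw [card_fixedPts_eleven (hM hx) hxo]; norm_num)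
  rcases size p with e | e | e | e
  · omega
  · omega
  · refine ⟨(orbF H p)ᶜ, by rw [Finset.card_compl, card_golayPt, e], fun h hh => ?_⟩
    refine Finset.eq_of_subset_of_card_le (fun y hy => ?_) (by rw [Finset.card_smul_finset])
    obtain ⟨z, hz, rfl⟩ := Finset.mem_smul_finset.1 hy
    rw [Finset.mem_compl] at hz ⊢
    exact fun hmem => hz ((orbF_invariant hh z).1 hmem)
  exfalso
  have huniv : orbF H p = Finset.univ :=
    Finset.eq_univ_of_card _ (by rw [e, card_golayPt])
  have htr : ∀ y, ∃ h ∈ H, h none = y := by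
    intro y
    obtain ⟨a, ha, hap⟩ := mem_orbF.1 (huniv ▸ Finset.mem_univ (none : GolayPt) : none ∈ orbF H p)
    obtain ⟨b, hb, hby⟩ := mem_orbF.1 (huniv ▸ Finset.mem_univ y : y ∈ orbF H p)
    refine ⟨b * a⁻¹, mul_mem hb (inv_mem ha), ?_⟩
    rw [Equiv.Perm.mul_apply, ← hap, Equiv.Perm.coe_inv, Equiv.symm_apply_apply, hby]
  have hK := card_of_transitive htr
  have hKc : Nat.card (stab0 H) = 36960 := by omega
  have hK1 : stab0 H ≤ fixUpTo Cfsg.M24 1 := fun g hg => ⟨hM hg.1, hg.2⟩
  have b1 : ∀ q : GolayPt, q ∉ baseSet 1 ↔ q ≠ none := by decide +kernel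
  have size1 : ∀ q, q ≠ none → (orbF (stab0 H) q).card = 1 ∨ (orbF (stab0 H) q).card = 22 := by
    intro q hq
    have hq' := (b1 q).2 hq
    have hle := card_orbF_le (by norm_num) hK1 hq'
    have hpos : 0 < (orbF (stab0 H) q).card := Finset.card_pos.2 ⟨_, self_mem_orbF _ q⟩
    have h11 := orbF_mod (i := 1) (by norm_num) hK1 (p := 11) (by rw [hKc]; norm_num) 2
      (fun g hg => card_fixedPts_eleven hg) (by norm_num) hq'
    have h7 := orbF_mod (i := 1) (by norm_num) hK1 (p := 7) (by rw [hKc]; norm_num) 3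
      (fun g hg => card_fixedPts_seven hg) (by norm_num) hq'
    have h23 : (orbF (stab0 H) q).card ≠ 23 := fun e => by
      have hm := card_eq_orbF_mul (stab0 H) q
      rw [hKc, e] at hm
      omega
    omega
  obtain ⟨⟨y, hy⟩, hyo⟩ := exists_prime_orderOf_dvd_card' 11
    (show 11 ∣ Nat.card (stab0 H) by rw [hKc]; norm_num)
  rw [Subgroup.orderOf_mk] at hyo
  obtain ⟨r, hry, hr⟩ := exists_long_orbit hy hyo (by
    rw [card_fixedPts_eleven (hM hy.1) hyo]; norm_num)
  have hrn : r ≠ none := fun h => hry (by rw [h]; exact hy.2)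
  have hr22 : (orbF (stab0 H) r).card = 22 := (size1 r hrn).resolve_left (by omega)
  obtain ⟨q, hq, hqc⟩ := exists_second_orbit (by norm_num) hK1 ((b1 r).2 hrn) (by omega)
  have hqpos : 0 < (orbF (stab0 H) q).card := Finset.card_pos.2 ⟨_, self_mem_orbF _ q⟩
  refine false_of_two_fixed hM htr ((b1 q).1 hq) (fixes_of_card_one (by omega)) (fun z hz => ?_)
    (by rw [hKc]; norm_num)
  by_contra hne
  push Not at hne
  have hq_not : q ∉ orbF (stab0 H) r := fun h => by
    obtain ⟨a, ha, rfl⟩ := mem_orbF.1 h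
    have he : orbF (stab0 H) (a r) = orbF (stab0 H) r := by
      ext w
      simp only [mem_orbF]
      exact ⟨fun ⟨b, hb, e⟩ => ⟨b * a, mul_mem hb ha, e⟩,
        fun ⟨b, hb, e⟩ => ⟨b * a⁻¹, mul_mem hb (inv_mem ha), by simp [Equiv.Perm.mul_apply, e]⟩⟩
    rw [he] at hqc
    omega
  have hall : insert none (insert q (orbF (stab0 H) r)) = Finset.univ := by
    apply Finset.eq_univ_of_card
    rw [Finset.card_insert_of_notMem, Finset.card_insert_of_notMem hq_not, hr22, card_golayPt]
    rw [Finset.mem_insert, not_or]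
    refine ⟨((b1 q).1 hq).symm, fun h => ?_⟩
    obtain ⟨a, ha, e⟩ := mem_orbF.1 h
    exact hrn (a.injective (e.trans (mem_stab0.1 ha).2.symm))
  have hzr : z ∈ orbF (stab0 H) r := by
    have := Finset.mem_univ z
    rw [← hall, Finset.mem_insert, Finset.mem_insert] at this
    tauto
  obtain ⟨a, ha, e⟩ := mem_orbF.1 hzr
  have hra : r = z := by
    have := hz a ha
    exact a.injective (e.trans this.symm)
  exact hry (hra ▸ hz y hy)

/-- Up to conjugation a subgroup of odd index contains the 2-group. -/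
theorem exists_conj_twoGroup (H : Subgroup Cfsg.M24) (hodd : ¬ 2 ∣ H.index) :
    ∃ c : Cfsg.M24, twoGroup ≤ (H.map (MulAut.conj c).toMonoidHom).map Cfsg.M24.subtype := by
  have : Fact (Nat.Prime 2) := ⟨by norm_num⟩
  have hP : IsPGroup 2 (twoGroup.subgroupOf Cfsg.M24) :=
    (isPGroup_twoSub 10 le_rfl).comap_of_injective _ Subtype.coe_injective
  obtain ⟨S, hS⟩ := hP.exists_le_sylow
  obtain ⟨Q⟩ : Nonempty (Sylow 2 H) := inferInstance
  have hidx : ¬ 2 ∣ ((Q : Subgroup H).map H.subtype).index := by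
    rw [Subgroup.index_map_of_injective _ H.subtype_injective, Subgroup.range_subtype,
      Nat.prime_two.dvd_mul, not_or]
    exact ⟨Q.not_dvd_index, hodd⟩
  let Q' : Sylow 2 Cfsg.M24 := (Q.isPGroup'.map H.subtype).toSylow hidx
  obtain ⟨c, hc⟩ := MulAction.exists_smul_eq Cfsg.M24 Q' S
  refine ⟨c, fun g hg => ⟨⟨g, twoGroup_le hg⟩, ?_, rfl⟩⟩
  have hgS : (⟨g, twoGroup_le hg⟩ : Cfsg.M24) ∈ (S : Subgroup Cfsg.M24) := hS hg
  rw [← hc, Sylow.coe_subgroup_smul] at hgS
  obtain ⟨u, hu, hu'⟩ := hgS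
  refine ⟨u, ?_, hu'⟩
  obtain ⟨v, -, rfl⟩ := hu
  exact v.2

/-- A subgroup with a stabiliser's index inside it is that stabiliser. -/
theorem eq_stabilizer {Y : Type*} [MulAction Cfsg.M24 Y] {H : Subgroup Cfsg.M24} {y : Y}
    (c : Cfsg.M24) (hle : ∀ g ∈ H, (c * g * c⁻¹) • y = y) (n : ℕ) (hn : H.index = n)
    (hy : (MulAction.stabilizer Cfsg.M24 (c⁻¹ • y)).index = n) :
    H = MulAction.stabilizer Cfsg.M24 (c⁻¹ • y) := by
  have hle' : H ≤ MulAction.stabilizer Cfsg.M24 (c⁻¹ • y) := fun g hg => by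
    have := hle g hg
    rw [mul_smul, mul_smul] at this
    rw [MulAction.mem_stabilizer_iff, eq_inv_smul_iff]
    exact this
  have h1 := H.card_mul_index
  have h2 := (MulAction.stabilizer Cfsg.M24 (c⁻¹ • y)).card_mul_index
  rw [hn] at h1
  rw [hy, ← h1] at h2
  refine Subgroup.eq_of_le_of_card_ge hle' (le_of_eq ?_)
  refine Nat.eq_of_mul_eq_mul_right ?_ h2
  rw [← hn]
  exact Nat.pos_of_ne_zero Subgroup.index_ne_zero_of_finite

theorem small_index : (∀ H : Subgroup Cfsg.M24, H.index = 759 →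
      ∃ o ∈ octads, H = MulAction.stabilizer Cfsg.M24 o) ∧
    (∀ H : Subgroup Cfsg.M24, H.index = 276 →
      ∃ s : Finset GolayPt, s.card = 2 ∧ H = MulAction.stabilizer Cfsg.M24 s) ∧
    (∀ H : Subgroup Cfsg.M24, H.index = 1771 →
      ∃ S ∈ sextets, H = MulAction.stabilizer Cfsg.M24 S) ∧
    ∀ H : Subgroup Cfsg.M24, H.index ≠ 253 := by
  have cardM : Nat.card Cfsg.M24 = 244823040 := card_M24
  have cards : ∀ (H : Subgroup Cfsg.M24) (c : Cfsg.M24),
      Nat.card ↥((H.map (MulAut.conj c).toMonoidHom).map Cfsg.M24.subtype) * H.index =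
        244823040 := by
    intro H c
    rw [Subgroup.card_map_of_injective Subtype.coe_injective,
      Subgroup.card_map_of_injective (MulAut.conj c).injective, H.card_mul_index, cardM]
  have main : ∀ (H : Subgroup Cfsg.M24), ¬ 2 ∣ H.index →
      (H.index = 253 ∨ H.index = 759 ∨ H.index = 1771) → ∃ c : Cfsg.M24,
      (H.index = 759 ∧ ∀ g ∈ H, (c * g * c⁻¹) • toSet twoOctad = toSet twoOctad) ∨
      (H.index = 1771 ∧ ∀ g ∈ H, (c * g * c⁻¹) • toFam twoSextet = toFam twoSextet) := by
    intro H hodd hidx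
    obtain ⟨c, hc⟩ := exists_conj_twoGroup H hodd
    have hcc := cards H c
    have hmem : ∀ g ∈ H, ((c * g * c⁻¹ : Cfsg.M24) : Equiv.Perm GolayPt) ∈
        (H.map (MulAut.conj c).toMonoidHom).map Cfsg.M24.subtype :=
      fun g hg => ⟨_, ⟨g, hg, rfl⟩, rfl⟩
    refine ⟨c, ?_⟩
    rcases over_twoGroup (Subgroup.map_subtype_le _) hc (by
      rcases hidx with e | e | e <;> rw [e] at hcc <;> omega) with ⟨e, h⟩ | ⟨e, h⟩
    · exact Or.inl ⟨by rw [e] at hcc; omega, fun g hg => h _ (hmem g hg)⟩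
    · exact Or.inr ⟨by rw [e] at hcc; omega, fun g hg => h _ (hmem g hg)⟩
  have idxOf : ∀ {Y : Type} [MulAction Cfsg.M24 Y] (y : Y) (n : ℕ) (S : Set Y),
      MulAction.orbit Cfsg.M24 y = S → S.ncard = n →
      (MulAction.stabilizer Cfsg.M24 y).index = n := by
    intro Y _ y n S h1 h2
    rw [MulAction.index_stabilizer, h1, h2]
  refine ⟨fun H hH => ?_, fun H hH => ?_, fun H hH => ?_, fun H hH => ?_⟩
  · obtain ⟨c, ⟨-, h⟩ | ⟨e, -⟩⟩ := main H (by rw [hH]; norm_num) (by omega)
    swap; · omega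
    have ho : c⁻¹ • toSet twoOctad ∈ octads :=
      smul_mem_octads (c⁻¹).2 toSet_twoOctad_mem
    refine ⟨_, ho, eq_stabilizer c h 759 hH ?_⟩
    refine idxOf _ _ octads (Set.ext fun o => ⟨?_, fun h => ?_⟩) ncard_octads
    · rintro ⟨g, rfl⟩; exact smul_mem_octads g.2 ho
    · obtain ⟨g, hg, hgo⟩ := octad_transitive ho h
      exact ⟨⟨g, hg⟩, hgo⟩
  · obtain ⟨s, hs, hfix⟩ := fixes_pair (H := H.map Cfsg.M24.subtype) (Subgroup.map_subtype_le _)
      (by
        rw [Subgroup.card_map_of_injective Subtype.coe_injective]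
        have := H.card_mul_index
        rw [hH, cardM] at this
        omega)
    refine ⟨s, hs, ?_⟩
    have := eq_stabilizer (y := s) 1 (fun g hg => ?_) 276 hH ?_
    · simpa using this
    · simp only [one_mul, inv_one, mul_one]
      exact hfix _ ⟨g, hg, rfl⟩
    · rw [inv_one, one_smul]
      refine idxOf _ _ ((Finset.univ.powersetCard 2 : Finset (Finset GolayPt)) : Set _)
        (Set.ext fun t => ⟨?_, fun ht => ?_⟩) (by
          rw [Set.ncard_coe_finset, Finset.card_powersetCard, Finset.card_univ, card_golayPt]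
          rfl)
      · rintro ⟨g, rfl⟩
        simp only [Finset.mem_coe, Finset.mem_powersetCard, Finset.subset_univ, true_and]
        rw [Finset.card_smul_finset, hs]
      · simp only [Finset.mem_coe, Finset.mem_powersetCard, Finset.subset_univ, true_and] at ht
        obtain ⟨g, hg, hgL⟩ := exists_map_list s.nodup_toList t.nodup_toList
          (by rw [Finset.length_toList, Finset.length_toList, hs, ht])
          (by rw [Finset.length_toList, hs]; norm_num)
        refine ⟨⟨g, hg⟩, Finset.eq_of_subset_of_card_le ?_ ?_⟩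
        · intro x hx
          obtain ⟨z, hz, rfl⟩ := Finset.mem_smul_finset.1 hx
          rw [← Finset.mem_toList, ← hgL]
          exact List.mem_map.2 ⟨z, Finset.mem_toList.2 hz, rfl⟩
        · rw [Finset.card_smul_finset, hs, ht]
  · obtain ⟨c, ⟨e, -⟩ | ⟨-, h⟩⟩ := main H (by rw [hH]; norm_num) (by omega)
    · omega
    have hS : c⁻¹ • toFam twoSextet ∈ sextets := smul_mem_sextets (c⁻¹).2 twoSextet_mem
    refine ⟨_, hS, eq_stabilizer c h 1771 hH ?_⟩
    refine idxOf _ _ sextets (Set.ext fun T => ⟨?_, fun hT => ?_⟩) Sporadic96.ncard_sextets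
    · rintro ⟨g, rfl⟩; exact smul_mem_sextets g.2 hS
    · obtain ⟨g, hg, hgT⟩ := exists_map_sextet hS hT
      exact ⟨⟨g, hg⟩, hgT⟩
  · obtain ⟨c, ⟨e, -⟩ | ⟨e, -⟩⟩ := main H (by rw [hH]; norm_num) (by omega) <;> omega

end Cfsg.Agent.SporStruct.M24
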