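import Mathlib

/-!
Finite sets as bit masks, for kernel computations.
-/

set_option autoImplicit false

namespace Cfsg.Agent.SporStruct

variable {α : Type*} [Fintype α] [DecidableEq α] {n : ℕ}

/-- Bit mask of a finite set, along an enumeration. -/
def mask (e : α ≃ Fin n) (s : Finset α) : ℕ := ∑ a ∈ s, 2 ^ (e a : ℕ)

/-- Finite set of a bit mask. -/
def unmask (e : α ≃ Fin n) (m : ℕ) : Finset α := Finset.univ.filter fun a => m.testBit (e a : ℕ)

/-- Number of set bits below `n`. -/
def popN (n m : ℕ) : ℕ := ((List.range n).filter fun i => m.testBit i).length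

theorem bitIndices_mask (e : α ≃ Fin n) (s : Finset α) :
    (mask e s).bitIndices.toFinset = s.image fun a => (e a : ℕ) := by
  have : mask e s = ∑ i ∈ s.image (fun a => (e a : ℕ)), 2 ^ i := by
    rw [Finset.sum_image]
    · rfl
    · intro a _ b _ hab; exact e.injective (Fin.ext hab)
  rw [this, Finset.toFinset_bitIndices_sum_two_pow]

theorem testBit_mask (e : α ≃ Fin n) (s : Finset α) (a : α) :
    (mask e s).testBit (e a : ℕ) = true ↔ a ∈ s := by
  rw [← Nat.mem_bitIndices, ← List.mem_toFinset, bitIndices_mask, Finset.mem_image]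
  constructor
  · rintro ⟨b, hb, hba⟩; rwa [← e.injective (Fin.ext hba)]
  · intro ha; exact ⟨a, ha, rfl⟩

theorem testBit_mask_nat (e : α ≃ Fin n) (s : Finset α) {i : ℕ}
    (h : (mask e s).testBit i = true) : i < n := by
  rw [← Nat.mem_bitIndices, ← List.mem_toFinset, bitIndices_mask, Finset.mem_image] at h
  obtain ⟨b, _, rfl⟩ := h
  exact (e b).2

theorem mask_lt (e : α ≃ Fin n) (s : Finset α) : mask e s < 2 ^ n := by
  refine Nat.lt_pow_two_of_testBit _ fun i hi => ?_
  by_contra h
  exact absurd (testBit_mask_nat e s (Bool.not_eq_false _ ▸ h)) (by omega)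

theorem unmask_mask (e : α ≃ Fin n) (s : Finset α) : unmask e (mask e s) = s := by
  ext a; simp [unmask, testBit_mask]

theorem mask_injective (e : α ≃ Fin n) : Function.Injective (mask e) :=
  Function.LeftInverse.injective (unmask_mask e)

theorem mem_unmask (e : α ≃ Fin n) (m : ℕ) (a : α) :
    a ∈ unmask e m ↔ m.testBit (e a : ℕ) = true := by simp [unmask]

theorem mask_unmask (e : α ≃ Fin n) {m : ℕ} (hm : m < 2 ^ n) : mask e (unmask e m) = m := by
  refine Nat.eq_of_testBit_eq fun i => ?_
  by_cases hi : i < n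
  · have h := testBit_mask e (unmask e m) (e.symm ⟨i, hi⟩)
    rw [mem_unmask] at h
    simp only [Equiv.apply_symm_apply] at h
    exact Bool.eq_iff_iff.mpr h
  · have h1 : m.testBit i = false :=
      Nat.testBit_eq_false_of_lt (lt_of_lt_of_le hm (Nat.pow_le_pow_right (by norm_num) (by omega)))
    rw [h1]
    exact Bool.eq_false_iff.mpr fun h => hi (testBit_mask_nat e _ h)

theorem subset_iff_land (e : α ≃ Fin n) (s t : Finset α) :
    s ⊆ t ↔ mask e s &&& mask e t = mask e s := by
  constructor
  · intro h
    refine Nat.eq_of_testBit_eq fun i => ?_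
    rw [Nat.testBit_and]
    by_cases hs : (mask e s).testBit i = true
    · have hi := testBit_mask_nat e s hs
      have h' := testBit_mask e s (e.symm ⟨i, hi⟩)
      have h'' := testBit_mask e t (e.symm ⟨i, hi⟩)
      simp only [Equiv.apply_symm_apply] at h' h''
      rw [hs, h''.mpr (h (h'.mp hs))]; rfl
    · rw [Bool.not_eq_true] at hs; rw [hs]; rfl
  · intro h a ha
    have h1 := (testBit_mask e s a).mpr ha
    rw [← h, Nat.testBit_and, Bool.and_eq_true] at h1
    exact (testBit_mask e t a).mp h1.2

theorem mask_inter (e : α ≃ Fin n) (s t : Finset α) :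
    mask e (s ∩ t) = mask e s &&& mask e t := by
  refine Nat.eq_of_testBit_eq fun i => ?_
  rw [Nat.testBit_and]
  by_cases hi : i < n
  · have h1 := testBit_mask e s (e.symm ⟨i, hi⟩)
    have h2 := testBit_mask e t (e.symm ⟨i, hi⟩)
    have h3 := testBit_mask e (s ∩ t) (e.symm ⟨i, hi⟩)
    simp only [Equiv.apply_symm_apply, Finset.mem_inter] at h1 h2 h3
    exact Bool.eq_iff_iff.mpr (by rw [Bool.and_eq_true, h3, h1, h2])
  · have hf : ∀ u : Finset α, (mask e u).testBit i = false := fun u =>
      Bool.eq_false_iff.mpr fun h => hi (testBit_mask_nat e u h)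
    rw [hf, hf, hf]; rfl

theorem popN_mask (e : α ≃ Fin n) (s : Finset α) : popN n (mask e s) = s.card := by
  rw [popN, ← List.toFinset_card_of_nodup (List.nodup_range.filter _)]
  have : ((List.range n).filter fun i => (mask e s).testBit i).toFinset
      = s.image fun a => (e a : ℕ) := by
    ext i
    simp only [List.mem_toFinset, List.mem_filter, List.mem_range, Finset.mem_image]
    constructor
    · rintro ⟨hi, hb⟩
      refine ⟨e.symm ⟨i, hi⟩, (testBit_mask e s _).mp (by simpa using hb), by simp⟩
    · rintro ⟨a, ha, rfl⟩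
      exact ⟨(e a).2, (testBit_mask e s a).mpr ha⟩
  rw [this, Finset.card_image_of_injective _ fun a b h => e.injective (Fin.ext h)]

theorem card_unmask (e : α ≃ Fin n) {m : ℕ} (hm : m < 2 ^ n) :
    (unmask e m).card = popN n m := by
  rw [← popN_mask e, mask_unmask e hm]

/-- All numbers in `[b, b + 2 ^ k)` satisfy `p`, checked by binary splitting. -/
def allBlock : ℕ → ℕ → (ℕ → Bool) → Bool
  | 0, b, p => p b
  | k + 1, b, p => allBlock k b p && allBlock k (b + 2 ^ k) p

theorem allBlock_spec : ∀ (k b : ℕ) (p : ℕ → Bool), allBlock k b p = true →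
    ∀ m, b ≤ m → m < b + 2 ^ k → p m = true
  | 0, b, p, h, m, h1, h2 => by
    have : m = b := by rw [pow_zero] at h2; omega
    rw [this]; exact h
  | k + 1, b, p, h, m, h1, h2 => by
    rw [allBlock, Bool.and_eq_true] at h
    by_cases hm : m < b + 2 ^ k
    · exact allBlock_spec k b p h.1 m h1 hm
    · exact allBlock_spec k (b + 2 ^ k) p h.2 m (by omega) (by rw [pow_succ] at h2; omega)

/-- Check a statement for all `m < 2 ^ k` by binary splitting. -/
theorem forall_lt_two_pow (k : ℕ) (P : ℕ → Prop) [DecidablePred P]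
    (h : allBlock k 0 (fun m => decide (P m)) = true) : ∀ m < 2 ^ k, P m := fun m hm =>
  of_decide_eq_true (allBlock_spec k 0 _ h m (Nat.zero_le m) (by omega))

end Cfsg.Agent.SporStruct
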