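import Cfsg.Prelude.Def_SporadicCombinatorics
import Cfsg.Agent.SporStruct.Bits

/-!
The ternary code of length 12 in coordinates.
-/

set_option autoImplicit false

namespace Cfsg.Agent.SporStruct.Ternary

open Cfsg

/-- Enumeration of the twelve positions: `(i, r) ↦ 3 i + r`. -/
def ptEquiv : ArrayPt ≃ Fin 12 := (finProdFinEquiv : Fin 4 × Fin 3 ≃ Fin 12)

/-- A basis of the code. -/
def basisTable : Fin 6 → Fin 12 → ZMod 3 :=
  ![![1, 0, 0, 0, 0, 1, 0, 0, 1, 1, 1, 2],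
    ![0, 1, 0, 0, 0, 1, 0, 2, 2, 2, 0, 2],
    ![0, 0, 1, 0, 0, 1, 0, 1, 0, 2, 1, 1],
    ![0, 0, 0, 1, 0, 2, 0, 2, 1, 2, 1, 0],
    ![0, 0, 0, 0, 1, 2, 0, 1, 2, 0, 1, 2],
    ![0, 0, 0, 0, 0, 0, 1, 1, 1, 2, 2, 2]]

/-- A basis word. -/
def basisWord (k : Fin 6) : ArrayPt → ZMod 3 := fun p => basisTable k (ptEquiv p)

/-- The code word with given information digits. -/
def encode (a : Fin 6 → ZMod 3) : ArrayPt → ZMod 3 := fun p =>
  a 0 * basisWord 0 p + a 1 * basisWord 1 p + a 2 * basisWord 2 p + a 3 * basisWord 3 p +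
    a 4 * basisWord 4 p + a 5 * basisWord 5 p

/-- The information positions. -/
def infoPt : Fin 6 → ArrayPt := ![(0, 0), (0, 1), (0, 2), (1, 0), (1, 1), (2, 0)]

theorem encode_eq_sum (a : Fin 6 → ZMod 3) : encode a = ∑ k, a k • basisWord k := by
  funext p; simp [encode, Fin.sum_univ_six]

theorem encode_info : ∀ a : Fin 6 → ZMod 3, ∀ k, encode a (infoPt k) = a k := by decide +kernel

theorem encode_injective : Function.Injective encode := fun a b h =>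
  funext fun k => by rw [← encode_info a k, ← encode_info b k, h]

theorem mem_tetracode_iff (t : Fin 4 → ZMod 3) :
    t ∈ tetracode ↔ ∃ a b : ZMod 3, ![b, a, a + b, a + 2 * b] = t := by
  rw [tetracode, Submodule.mem_span_pair]
  refine exists_congr fun a => exists_congr fun b => ?_
  constructor <;> intro h <;> rw [← h] <;> funext i <;> fin_cases i <;> simp [mul_comm]

theorem isWord_iff (x : ArrayPt → ZMod 3) : x ∈ ternaryGolayCode ↔ ∃ s : ZMod 3,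
    (∀ i : Fin 4, ∑ r : ZMod 3, x (i, r) = -s) ∧
    ∀ a b : ZMod 3, ∑ i : Fin 4, x (i, ![b, a, a + b, a + 2 * b] i) = s := by
  refine exists_congr fun s => and_congr Iff.rfl ⟨fun h a b => h _ ?_, fun h t ht => ?_⟩
  · exact (mem_tetracode_iff _).mpr ⟨a, b, rfl⟩
  · obtain ⟨a, b, rfl⟩ := (mem_tetracode_iff t).mp ht
    exact h a b

theorem basisWord_cond : ∀ k : Fin 6, ∃ s : ZMod 3,
    (∀ i : Fin 4, ∑ r : ZMod 3, basisWord k (i, r) = -s) ∧
    ∀ c d : ZMod 3, ∑ i : Fin 4, basisWord k (i, ![d, c, c + d, c + 2 * d] i) = s := by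
  decide +kernel

theorem basisWord_mem (k : Fin 6) : basisWord k ∈ ternaryGolayCode :=
  (isWord_iff _).mpr (basisWord_cond k)

theorem encode_mem (a : Fin 6 → ZMod 3) : encode a ∈ ternaryGolayCode := by
  rw [encode_eq_sum]
  exact sum_mem fun k _ => Submodule.smul_mem _ _ (basisWord_mem k)

/-- A word supported outside the information positions. -/
def outWord (y : Fin 6 → ZMod 3) : ArrayPt → ZMod 3 := fun p =>
  ![0, 0, 0, 0, 0, y 0, 0, y 1, y 2, y 3, y 4, y 5] (ptEquiv p)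

theorem outWord_cond : ∀ y : Fin 6 → ZMod 3, ∀ s : ZMod 3,
    (∀ i : Fin 4, ∑ r : ZMod 3, outWord y (i, r) = -s) →
    (∀ a b : ZMod 3, ∑ i : Fin 4, outWord y (i, ![b, a, a + b, a + 2 * b] i) = s) → y = 0 := by
  decide +kernel

theorem mem_code_iff (x : ArrayPt → ZMod 3) :
    x ∈ ternaryGolayCode ↔ ∃ a, encode a = x := by
  refine ⟨fun hx => ?_, fun ⟨a, ha⟩ => ha ▸ encode_mem a⟩
  set a : Fin 6 → ZMod 3 := fun k => x (infoPt k) with ha
  refine ⟨a, ?_⟩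
  have hz : x - encode a ∈ ternaryGolayCode := sub_mem hx (encode_mem a)
  obtain ⟨s, h1, h2⟩ := (isWord_iff _).mp hz
  set z := x - encode a with hzdef
  have h0 : ∀ k, z (infoPt k) = 0 := fun k => by simp [hzdef, encode_info, ha]
  set y : Fin 6 → ZMod 3 :=
    ![z (1, 2), z (2, 1), z (2, 2), z (3, 0), z (3, 1), z (3, 2)] with hy
  have hzy : z = outWord y := by
    funext p
    obtain ⟨i, r⟩ := p
    fin_cases i <;> fin_cases r <;>
      first | rfl | exact h0 0 | exact h0 1 | exact h0 2 | exact h0 3 | exact h0 4 | exact h0 5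
  have := outWord_cond y s (fun i => by rw [← hzy]; exact h1 i)
    (fun a b => by rw [← hzy]; exact h2 a b)
  have hz0 : z = 0 := by
    rw [hzy, this]; funext p
    obtain ⟨i, r⟩ := p
    fin_cases i <;> fin_cases r <;> rfl
  exact (sub_eq_zero.mp hz0).symm

/-- The code in coordinates. -/
noncomputable def codeEquiv : (Fin 6 → ZMod 3) ≃ ternaryGolayCode :=
  Equiv.ofBijective (fun a => ⟨encode a, encode_mem a⟩)
    ⟨fun _ _ h => encode_injective (congrArg Subtype.val h),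
      fun x => by
        obtain ⟨a, ha⟩ := (mem_code_iff x.1).mp x.2
        exact ⟨a, Subtype.ext ha⟩⟩

theorem encode_weights : ∀ a : Fin 6 → ZMod 3, a ≠ 0 →
    (ternarySupport (encode a)).card = 6 ∨ (ternarySupport (encode a)).card = 9 ∨
      (ternarySupport (encode a)).card = 12 := by
  decide +kernel

theorem ncard_weight (n : ℕ) :
    {x : ArrayPt → ZMod 3 | x ∈ ternaryGolayCode ∧ (ternarySupport x).card = n}.ncard =
      (Finset.univ.filter fun a : Fin 6 → ZMod 3 => (ternarySupport (encode a)).card = n).card := by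
  rw [← Finset.card_image_of_injective _ encode_injective, ← Set.ncard_coe_finset]
  congr 1
  ext x
  simp only [Set.mem_ofPred_eq, Finset.coe_image, Finset.coe_filter, Finset.mem_univ, true_and,
    Set.mem_image, mem_code_iff]
  constructor
  · rintro ⟨⟨a, rfl⟩, h⟩; exact ⟨a, h, rfl⟩
  · rintro ⟨a, h, rfl⟩; exact ⟨⟨a, rfl⟩, h⟩

/-- The hexads as bit masks. -/
def hexList : List ℕ := [
  63, 222, 237, 243, 347, 366, 373, 413, 427, 438, 455,
  504, 591, 630, 633, 667, 679, 700, 725, 746, 791, 813,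
  826, 860, 867, 910, 945, 969, 978, 996, 1117, 1127, 1146,
  1175, 1198, 1209, 1227, 1268, 1295, 1331, 1340, 1366, 1385, 1434,
  1445, 1484, 1489, 1506, 1566, 1579, 1589, 1619, 1644, 1677, 1714,
  1734, 1752, 1761, 1817, 1830, 1861, 1866, 1904, 1923, 1940, 1960,
  2135, 2155, 2172, 2191, 2229, 2234, 2265, 2278, 2334, 2343, 2361,
  2381, 2418, 2451, 2476, 2506, 2516, 2529, 2589, 2606, 2611, 2650,
  2661, 2710, 2729, 2755, 2764, 2800, 2827, 2868, 2886, 2897, 2920,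
  2949, 2968, 2978, 3099, 3117, 3126, 3150, 3185, 3228, 3235, 3269,
  3282, 3304, 3349, 3370, 3395, 3416, 3428, 3462, 3465, 3504, 3591,
  3640, 3657, 3668, 3682, 3722, 3729, 3748, 3852, 3858, 3873, 4032]

/-- The hexads. -/
def hexads : Set (Finset ArrayPt) :=
  {h | ∃ x ∈ ternaryGolayCode, ternarySupport x = h ∧ h.card = 6}

theorem hexList_lt : ∀ m ∈ hexList, m < 2 ^ 12 := by decide +kernel

theorem hexList_of_word : ∀ a : Fin 6 → ZMod 3, (ternarySupport (encode a)).card = 6 →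
    mask ptEquiv (ternarySupport (encode a)) ∈ hexList := by
  decide +kernel

/-- Witness words for the hexads. -/
def hexWitness : List (Fin 6 → ZMod 3) := [
  ![1, 1, 1, 2, 2, 0], ![0, 1, 2, 1, 2, 2], ![1, 0, 2, 1, 0, 1], ![1, 2, 0, 0, 1, 2],
  ![1, 2, 0, 1, 2, 1], ![0, 1, 2, 2, 0, 1], ![1, 0, 2, 0, 2, 2], ![1, 0, 2, 2, 1, 0],
  ![1, 2, 0, 2, 0, 0], ![0, 1, 2, 0, 1, 0], ![1, 1, 1, 0, 0, 2], ![0, 0, 0, 1, 1, 2],
  ![1, 2, 2, 2, 0, 2], ![0, 1, 1, 0, 1, 2], ![1, 0, 0, 2, 1, 1], ![1, 1, 0, 1, 1, 0],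
  ![1, 1, 2, 0, 0, 0], ![0, 0, 1, 1, 1, 0], ![1, 0, 1, 0, 2, 1], ![0, 1, 0, 2, 0, 2],
  ![1, 2, 1, 0, 1, 0], ![1, 0, 1, 1, 0, 0], ![0, 1, 0, 1, 2, 0], ![0, 0, 1, 2, 2, 2],
  ![1, 1, 0, 0, 0, 1], ![0, 1, 1, 2, 0, 0], ![1, 0, 0, 0, 2, 0], ![1, 0, 0, 1, 0, 2],
  ![0, 1, 0, 0, 1, 1], ![0, 0, 1, 0, 0, 1], ![1, 0, 1, 1, 1, 2], ![1, 2, 1, 0, 0, 1],
  ![0, 1, 0, 1, 1, 1], ![1, 2, 2, 0, 2, 0], ![0, 1, 1, 1, 0, 0], ![1, 0, 0, 1, 2, 0],
  ![1, 1, 0, 2, 0, 1], ![0, 0, 1, 0, 2, 2], ![1, 1, 2, 1, 0, 0], ![1, 1, 0, 0, 1, 0],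
  ![0, 0, 1, 2, 1, 0], ![0, 1, 1, 0, 2, 1], ![1, 0, 0, 2, 0, 2], ![0, 1, 0, 2, 2, 0],
  ![1, 0, 1, 0, 0, 0], ![0, 0, 1, 1, 0, 1], ![1, 0, 0, 0, 1, 1], ![0, 1, 0, 0, 0, 2],
  ![0, 1, 2, 2, 1, 0], ![1, 2, 0, 1, 0, 0], ![1, 0, 2, 0, 1, 0], ![1, 1, 0, 0, 2, 2],
  ![0, 0, 1, 2, 0, 1], ![1, 0, 1, 2, 0, 0], ![0, 1, 0, 0, 2, 0], ![0, 1, 2, 0, 0, 1],
  ![0, 0, 0, 1, 2, 1], ![1, 0, 0, 0, 0, 2], ![1, 0, 0, 2, 2, 0], ![0, 1, 1, 0, 0, 0],
  ![1, 0, 2, 0, 0, 1], ![0, 1, 0, 1, 0, 2], ![0, 0, 0, 0, 1, 2], ![1, 2, 0, 0, 0, 0],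
  ![0, 0, 1, 0, 1, 0], ![0, 0, 0, 1, 0, 0], ![1, 1, 2, 0, 1, 1], ![1, 1, 0, 1, 0, 2],
  ![0, 0, 1, 1, 2, 1], ![1, 2, 1, 1, 0, 0], ![1, 0, 1, 0, 1, 0], ![0, 1, 0, 2, 1, 0],
  ![1, 0, 0, 2, 2, 2], ![0, 1, 1, 0, 0, 1], ![0, 1, 1, 1, 1, 0], ![1, 2, 2, 0, 0, 0],
  ![1, 0, 0, 1, 1, 0], ![1, 0, 1, 2, 0, 1], ![0, 1, 0, 0, 2, 2], ![1, 1, 0, 0, 2, 0],
  ![0, 0, 1, 2, 0, 0], ![0, 1, 0, 1, 0, 1], ![0, 0, 1, 0, 1, 2], ![1, 0, 0, 0, 0, 1],
  ![1, 0, 2, 1, 2, 0], ![0, 1, 2, 1, 0, 0], ![1, 2, 0, 0, 2, 0], ![0, 1, 0, 2, 2, 1],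
  ![1, 0, 1, 0, 0, 2], ![0, 1, 1, 0, 2, 0], ![1, 0, 0, 2, 0, 0], ![1, 2, 0, 0, 0, 1],
  ![0, 0, 1, 1, 0, 2], ![0, 0, 0, 0, 1, 1], ![1, 1, 0, 2, 0, 0], ![0, 0, 1, 0, 2, 0],
  ![0, 1, 2, 0, 0, 2], ![1, 0, 0, 0, 1, 2], ![0, 0, 0, 1, 0, 1], ![1, 0, 2, 0, 0, 0],
  ![0, 0, 0, 1, 2, 0], ![0, 1, 0, 0, 0, 0], ![1, 2, 0, 2, 1, 0], ![1, 0, 2, 2, 0, 0],
  ![0, 1, 2, 0, 2, 0], ![0, 1, 1, 2, 0, 2], ![1, 0, 0, 0, 2, 1], ![0, 0, 1, 2, 2, 0],
  ![1, 1, 0, 0, 0, 0], ![1, 0, 2, 0, 0, 2], ![0, 1, 0, 0, 1, 2], ![0, 0, 0, 1, 0, 2],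
  ![1, 0, 1, 0, 2, 0], ![0, 1, 0, 2, 0, 0], ![1, 2, 0, 0, 0, 2], ![0, 0, 0, 1, 2, 2],
  ![0, 0, 1, 0, 0, 2], ![0, 1, 2, 0, 0, 0], ![1, 0, 0, 1, 0, 0], ![0, 0, 0, 0, 1, 0],
  ![1, 1, 1, 0, 0, 0], ![0, 0, 0, 1, 1, 0], ![1, 0, 0, 1, 0, 1], ![0, 0, 1, 0, 1, 1],
  ![0, 1, 0, 0, 0, 1], ![0, 1, 0, 1, 0, 0], ![1, 0, 0, 0, 1, 0], ![0, 0, 1, 0, 0, 0],
  ![0, 0, 1, 1, 0, 0], ![0, 1, 0, 0, 1, 0], ![1, 0, 0, 0, 0, 0], ![0, 0, 0, 0, 0, 1]]

theorem hexList_witness : hexList = hexWitness.map fun a => mask ptEquiv (ternarySupport (encode a)) := by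
  decide +kernel

theorem hexList_pop : ∀ m ∈ hexList, popN 12 m = 6 := by decide +kernel

theorem mem_hexads_iff (h : Finset ArrayPt) : h ∈ hexads ↔ mask ptEquiv h ∈ hexList := by
  constructor
  · rintro ⟨x, hx, rfl, hcard⟩
    obtain ⟨a, rfl⟩ := (mem_code_iff x).mp hx
    exact hexList_of_word a hcard
  · intro hm
    have hpop := hexList_pop _ hm
    rw [popN_mask] at hpop
    rw [hexList_witness, List.mem_map] at hm
    obtain ⟨a, _, ha⟩ := hm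
    exact ⟨encode a, encode_mem a, mask_injective ptEquiv ha, hpop⟩

theorem ncard_hexads : hexads.ncard = 132 := by
  have h : hexads = ↑(hexList.map (unmask ptEquiv)).toFinset := by
    ext h
    rw [mem_hexads_iff, Finset.mem_coe, List.mem_toFinset, List.mem_map]
    constructor
    · intro hm; exact ⟨_, hm, unmask_mask _ _⟩
    · rintro ⟨m, hm, rfl⟩; rw [mask_unmask _ (hexList_lt m hm)]; exact hm
  rw [h, Set.ncard_coe_finset, List.toFinset_card_of_nodup, List.length_map]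
  · rfl
  · refine List.Nodup.map_on (fun a ha b hb hab => ?_) (by decide +kernel)
    have := congrArg (mask ptEquiv) hab
    rwa [mask_unmask _ (hexList_lt a ha), mask_unmask _ (hexList_lt b hb)] at this

theorem hexList_steiner : ∀ m < 2 ^ 12, popN 12 m = 5 →
    (hexList.filter fun c => m &&& c == m).length = 1 :=
  forall_lt_two_pow 12 _ (by decide +kernel)

theorem hexads_steiner : IsSteinerSystem 5 6 hexads := by
  refine ⟨fun b hb => ?_, fun s hs => ?_⟩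
  · obtain ⟨_, _, _, h⟩ := hb; exact h
  · have h := hexList_steiner (mask ptEquiv s) (mask_lt _ s) (by rw [popN_mask]; exact hs)
    obtain ⟨c, hc⟩ := List.length_eq_one_iff.mp h
    have hmem : c ∈ hexList.filter fun c => mask ptEquiv s &&& c == mask ptEquiv s := by
      rw [hc]; exact List.mem_singleton_self c
    rw [List.mem_filter, beq_iff_eq] at hmem
    refine ⟨unmask ptEquiv c, ⟨?_, ?_⟩, fun b hb => ?_⟩
    · rw [mem_hexads_iff, mask_unmask _ (hexList_lt c hmem.1)]; exact hmem.1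
    · rw [subset_iff_land ptEquiv, mask_unmask _ (hexList_lt c hmem.1)]; exact hmem.2
    · have : mask ptEquiv b ∈ hexList.filter fun c => mask ptEquiv s &&& c == mask ptEquiv s := by
        rw [List.mem_filter, beq_iff_eq]
        exact ⟨(mem_hexads_iff b).mp hb.1, (subset_iff_land _ _ _).mp hb.2⟩
      rw [hc, List.mem_singleton] at this
      rw [← this, unmask_mask]

/-- Sign of a bit. -/
def signBit (m : ℕ) (p : ArrayPt) : ZMod 3 := if m.testBit (ptEquiv p : ℕ) then -1 else 1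

theorem sign_rigid : ∀ m < 2 ^ 12, (∀ k : Fin 6, ∃ s : ZMod 3,
    (∀ i : Fin 4, ∑ r : ZMod 3, signBit m (i, r) * basisWord k (i, r) = -s) ∧
    ∀ a b : ZMod 3, ∑ i : Fin 4, signBit m (i, ![b, a, a + b, a + 2 * b] i) *
      basisWord k (i, ![b, a, a + b, a + 2 * b] i) = s) → m = 0 ∨ m = 4095 :=
  forall_lt_two_pow 12 _ (by decide +kernel)

theorem sign_rigid' (c : ArrayPt → (ZMod 3)ˣ)
    (h : ∀ x ∈ ternaryGolayCode, monomialMap 1 c x ∈ ternaryGolayCode) :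
    (∀ p, c p = 1) ∨ ∀ p, c p = -1 := by
  have hu : ∀ u : (ZMod 3)ˣ, u = 1 ∨ u = -1 := by decide
  set m := mask ptEquiv (Finset.univ.filter fun p => c p = -1) with hm
  have hval : ∀ p, (c p : ZMod 3) = signBit m p := by
    intro p
    rw [signBit, hm]
    rcases hu (c p) with e | e
    · rw [if_neg, e, Units.val_one]
      simp only [testBit_mask, Finset.mem_filter, Finset.mem_univ, true_and, e]
      decide
    · rw [if_pos, e, Units.val_neg, Units.val_one]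
      simp [testBit_mask, e]
  have hb : ∀ k, basisWord k ∈ ternaryGolayCode := basisWord_mem
  rcases sign_rigid m (mask_lt _ _) (fun k => by
      have := (isWord_iff _).mp (h _ (hb k))
      simpa [monomialMap, hval, Equiv.Perm.one_symm] using this) with e | e
  · left; intro p; apply Units.ext; rw [hval, e]; simp [signBit]
  · right; intro p; apply Units.ext; rw [hval, e]
    have : (4095 : ℕ).testBit (ptEquiv p : ℕ) = true := by
      have : ∀ i : Fin 12, (4095 : ℕ).testBit (i : ℕ) = true := by decide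
      exact this _
    simp [signBit, this]

end Cfsg.Agent.SporStruct.Ternary
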