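import Cfsg.Agent.SporStruct.Ternary
import Cfsg.Agent.Lib.Steiner.AutSmall

/-!
The monomial automorphisms of the ternary code.
-/

set_option autoImplicit false

namespace Cfsg.Agent.SporStruct.Ternary

open Cfsg

/-- Transversal elements: level, target, table, inverse table, signs. -/
def monoTabs : List (ℕ × ℕ × List ℕ × List ℕ × ℕ) :=
  [(0, 0, [0, 1, 2, 3, 4, 5, 6, 7, 8, 9, 10, 11], [0, 1, 2, 3, 4, 5, 6, 7, 8, 9, 10, 11], 0),
    (0, 1, [1, 0, 2, 3, 4, 5, 11, 9, 10, 7, 8, 6], [1, 0, 2, 3, 4, 5, 11, 9, 10, 7, 8, 6], 0),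
    (0, 2, [2, 0, 1, 3, 4, 5, 8, 6, 7, 10, 11, 9], [1, 2, 0, 3, 4, 5, 7, 8, 6, 11, 9, 10], 0),
    (0, 3, [3, 0, 1, 2, 4, 5, 10, 7, 6, 8, 9, 11], [1, 2, 3, 0, 4, 5, 8, 7, 9, 10, 6, 11], 1331),
    (0, 4, [4, 0, 1, 2, 3, 5, 6, 9, 10, 11, 7, 8], [1, 2, 3, 4, 0, 5, 6, 10, 11, 7, 8, 9], 1940),
    (0, 5, [5, 0, 1, 2, 3, 4, 9, 6, 8, 7, 11, 10], [1, 2, 3, 4, 5, 0, 7, 9, 8, 6, 11, 10], 667),
    (0, 6, [6, 0, 1, 2, 3, 9, 5, 4, 7, 10, 8, 11], [1, 2, 3, 4, 7, 6, 0, 8, 10, 5, 9, 11], 1581),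
    (0, 7, [7, 0, 1, 2, 3, 11, 10, 8, 9, 4, 5, 6], [1, 2, 3, 4, 9, 10, 11, 0, 7, 8, 6, 5], 993),
    (0, 8, [8, 0, 1, 2, 3, 10, 7, 11, 4, 6, 9, 5], [1, 2, 3, 4, 8, 11, 9, 6, 0, 10, 5, 7], 1224),
    (0, 9, [9, 0, 1, 2, 3, 6, 4, 5, 11, 8, 10, 7], [1, 2, 3, 4, 6, 7, 5, 11, 9, 0, 10, 8], 349),
    (0, 10, [10, 0, 1, 2, 3, 8, 11, 7, 5, 9, 6, 4], [1, 2, 3, 4, 11, 8, 10, 7, 5, 9, 0, 6], 1271),
    (0, 11, [11, 0, 1, 2, 3, 7, 8, 10, 6, 5, 4, 9], [1, 2, 3, 4, 10, 9, 8, 5, 6, 11, 7, 0], 430),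
    (1, 1, [0, 1, 2, 3, 4, 5, 6, 7, 8, 9, 10, 11], [0, 1, 2, 3, 4, 5, 6, 7, 8, 9, 10, 11], 0),
    (1, 2, [0, 2, 1, 3, 4, 5, 9, 10, 11, 6, 7, 8], [0, 2, 1, 3, 4, 5, 9, 10, 11, 6, 7, 8], 0),
    (1, 3, [0, 3, 1, 2, 4, 5, 11, 8, 9, 7, 6, 10], [0, 2, 3, 1, 4, 5, 10, 9, 7, 8, 11, 6], 1331),
    (1, 4, [0, 4, 1, 2, 3, 5, 8, 11, 7, 9, 10, 6], [0, 2, 3, 4, 1, 5, 11, 8, 6, 9, 10, 7], 1940),
    (1, 5, [0, 5, 1, 2, 3, 4, 10, 7, 11, 6, 8, 9], [0, 2, 3, 4, 5, 1, 9, 7, 10, 11, 6, 8], 667),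
    (1, 6, [0, 6, 1, 2, 3, 9, 11, 10, 8, 4, 7, 5], [0, 2, 3, 4, 9, 11, 1, 10, 8, 5, 7, 6], 1581),
    (1, 7, [0, 7, 1, 2, 3, 11, 6, 4, 5, 8, 9, 10], [0, 2, 3, 4, 7, 8, 6, 1, 9, 10, 11, 5], 993),
    (1, 8, [0, 8, 1, 2, 3, 10, 5, 6, 9, 11, 4, 7], [0, 2, 3, 4, 10, 6, 7, 11, 1, 8, 5, 9], 1224),
    (1, 9, [0, 9, 1, 2, 3, 6, 7, 8, 10, 5, 11, 4], [0, 2, 3, 4, 11, 9, 5, 6, 7, 1, 8, 10], 349),
    (1, 10, [0, 10, 1, 2, 3, 8, 4, 9, 6, 7, 5, 11], [0, 2, 3, 4, 6, 10, 8, 9, 5, 7, 1, 11], 1271),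
    (1, 11, [0, 11, 1, 2, 3, 7, 9, 5, 4, 10, 6, 8], [0, 2, 3, 4, 8, 7, 10, 5, 11, 6, 9, 1], 430),
    (2, 2, [0, 1, 2, 3, 4, 5, 6, 7, 8, 9, 10, 11], [0, 1, 2, 3, 4, 5, 6, 7, 8, 9, 10, 11], 0),
    (2, 3, [0, 1, 3, 2, 4, 5, 7, 6, 10, 11, 8, 9], [0, 1, 3, 2, 4, 5, 7, 6, 10, 11, 8, 9], 1331),
    (2, 4, [0, 1, 4, 2, 3, 5, 9, 10, 6, 8, 11, 7], [0, 1, 3, 4, 2, 5, 8, 11, 9, 6, 7, 10], 1940),
    (2, 5, [0, 1, 5, 2, 3, 4, 6, 8, 9, 10, 7, 11], [0, 1, 3, 4, 5, 2, 6, 10, 7, 8, 9, 11], 667),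
    (2, 6, [0, 1, 6, 2, 3, 9, 4, 7, 5, 11, 10, 8], [0, 1, 3, 4, 6, 8, 2, 7, 11, 5, 10, 9], 1581),
    (2, 7, [0, 1, 7, 2, 3, 11, 8, 9, 10, 6, 4, 5], [0, 1, 3, 4, 10, 11, 9, 2, 6, 7, 8, 5], 993),
    (2, 8, [0, 1, 8, 2, 3, 10, 11, 4, 7, 5, 6, 9], [0, 1, 3, 4, 7, 9, 10, 8, 2, 11, 5, 6], 1224),
    (2, 9, [0, 1, 9, 2, 3, 6, 5, 11, 4, 7, 8, 10], [0, 1, 3, 4, 8, 6, 5, 9, 10, 2, 11, 7], 349),
    (2, 10, [0, 1, 10, 2, 3, 8, 7, 5, 11, 4, 9, 6], [0, 1, 3, 4, 9, 7, 11, 6, 5, 10, 2, 8], 1271),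
    (2, 11, [0, 1, 11, 2, 3, 7, 10, 6, 8, 9, 5, 4], [0, 1, 3, 4, 11, 10, 7, 5, 8, 9, 6, 2], 430),
    (3, 3, [0, 1, 2, 3, 4, 5, 6, 7, 8, 9, 10, 11], [0, 1, 2, 3, 4, 5, 6, 7, 8, 9, 10, 11], 0),
    (3, 4, [0, 1, 2, 4, 3, 5, 10, 9, 11, 7, 6, 8], [0, 1, 2, 4, 3, 5, 10, 9, 11, 7, 6, 8], 0),
    (3, 5, [0, 1, 2, 5, 3, 4, 8, 6, 7, 11, 9, 10], [0, 1, 2, 4, 5, 3, 7, 8, 6, 10, 11, 9], 0),
    (3, 6, [0, 1, 2, 6, 3, 9, 7, 4, 10, 8, 5, 11], [0, 1, 2, 4, 7, 10, 3, 6, 9, 5, 8, 11], 6),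
    (3, 7, [0, 1, 2, 7, 3, 11, 9, 8, 4, 5, 10, 6], [0, 1, 2, 4, 8, 9, 11, 3, 7, 6, 10, 5], 5),
    (3, 8, [0, 1, 2, 8, 3, 10, 4, 11, 6, 9, 7, 5], [0, 1, 2, 4, 6, 11, 8, 10, 3, 9, 5, 7], 3),
    (3, 9, [0, 1, 2, 9, 3, 6, 11, 5, 8, 10, 4, 7], [0, 1, 2, 4, 10, 7, 5, 11, 8, 3, 9, 6], 6),
    (3, 10, [0, 1, 2, 10, 3, 8, 5, 7, 9, 6, 11, 4], [0, 1, 2, 4, 11, 6, 9, 7, 5, 8, 3, 10], 3),
    (3, 11, [0, 1, 2, 11, 3, 7, 6, 10, 5, 4, 8, 9], [0, 1, 2, 4, 9, 8, 6, 5, 10, 11, 7, 3], 5),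
    (4, 4, [0, 1, 2, 3, 4, 5, 6, 7, 8, 9, 10, 11], [0, 1, 2, 3, 4, 5, 6, 7, 8, 9, 10, 11], 0),
    (4, 5, [0, 1, 2, 3, 5, 4, 9, 11, 10, 6, 8, 7], [0, 1, 2, 3, 5, 4, 9, 11, 10, 6, 8, 7], 0),
    (4, 6, [0, 1, 2, 3, 6, 9, 5, 8, 11, 4, 7, 10], [0, 1, 2, 3, 9, 6, 4, 10, 7, 5, 11, 8], 6),
    (4, 7, [0, 1, 2, 3, 7, 11, 10, 5, 6, 8, 9, 4], [0, 1, 2, 3, 11, 7, 8, 4, 9, 10, 6, 5], 5),
    (4, 8, [0, 1, 2, 3, 8, 10, 7, 9, 5, 11, 4, 6], [0, 1, 2, 3, 10, 8, 11, 6, 4, 7, 5, 9], 3),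
    (4, 9, [0, 1, 2, 3, 9, 6, 4, 10, 7, 5, 11, 8], [0, 1, 2, 3, 6, 9, 5, 8, 11, 4, 7, 10], 6),
    (4, 10, [0, 1, 2, 3, 10, 8, 11, 6, 4, 7, 5, 9], [0, 1, 2, 3, 8, 10, 7, 9, 5, 11, 4, 6], 3),
    (4, 11, [0, 1, 2, 3, 11, 7, 8, 4, 9, 10, 6, 5], [0, 1, 2, 3, 7, 11, 10, 5, 6, 8, 9, 4], 5)]

/-- The table with its signs preserves the code and fixes the points below its level. -/
def MonoTabOK (e : ℕ × ℕ × List ℕ × List ℕ × ℕ) : Prop :=
  Steiner.isPerm 12 e.2.2.1 = true ∧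
    (∀ q : Fin 12, e.2.2.1.getD (e.2.2.2.1.getD q 0) 0 = q.val ∧ e.2.2.2.1.getD q 0 < 12) ∧
    (∀ q : Fin 12, (q.val < e.1 → e.2.2.1.getD q 0 = q.val) ∧ (q.val = e.1 → e.2.2.1.getD q 0 = e.2.1)) ∧
    ∀ k : Fin 6, ∃ s : ZMod 3,
      (∀ i : Fin 4, ∑ r : ZMod 3, signBit e.2.2.2.2 (i, r) *
        basisTable k (Fin.ofNat 12 (e.2.2.2.1.getD (ptEquiv (i, r)).val 0)) = -s) ∧
      ∀ a b : ZMod 3, ∑ i : Fin 4, signBit e.2.2.2.2 (i, ![b, a, a + b, a + 2 * b] i) *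
        basisTable k (Fin.ofNat 12
          (e.2.2.2.1.getD (ptEquiv (i, ![b, a, a + b, a + 2 * b] i)).val 0)) = s

theorem monoTabs_complete : ∀ i : Fin 5, ∀ j : Fin 12, i.val ≤ j.val →
    ∃ e ∈ monoTabs, e.1 = i.val ∧ e.2.1 = j.val := by
  decide +kernel

/-- The permutations of positions of the monomial automorphisms. -/
def IsMono (σ : Equiv.Perm ArrayPt) (c : ArrayPt → (ZMod 3)ˣ) : Prop :=
  ∀ x ∈ ternaryGolayCode, monomialMap σ c x ∈ ternaryGolayCode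

theorem isMono_of_basis {σ : Equiv.Perm ArrayPt} {c : ArrayPt → (ZMod 3)ˣ}
    (h : ∀ k, monomialMap σ c (basisWord k) ∈ ternaryGolayCode) : IsMono σ c := by
  intro x hx
  obtain ⟨a, rfl⟩ : ∃ a, encode a = x := by
    obtain ⟨a, ha⟩ := codeEquiv.surjective ⟨x, hx⟩
    exact ⟨a, congrArg Subtype.val ha⟩
  have e : monomialMap σ c (encode a) = ∑ k, a k • monomialMap σ c (basisWord k) := by
    funext p
    simp only [monomialMap, encode_eq_sum, Finset.sum_apply, Pi.smul_apply, smul_eq_mul,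
      Finset.mul_sum]
    exact Finset.sum_congr rfl fun k _ => by ring
  rw [e]
  exact sum_mem fun k _ => Submodule.smul_mem _ _ (h k)

/-- Signs from a mask. -/
def signUnit (m : ℕ) (p : ArrayPt) : (ZMod 3)ˣ := if m.testBit (ptEquiv p : ℕ) then -1 else 1

theorem coe_signUnit (m : ℕ) (p : ArrayPt) : (signUnit m p : ZMod 3) = signBit m p := by
  unfold signUnit signBit
  split_ifs <;> simp

theorem monoTabs_ok : ∀ e ∈ monoTabs, MonoTabOK e := by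
  unfold MonoTabOK
  decide +kernel

theorem exists_mono_tab {i : ℕ} (hi : i < 5) {j : Fin 12} (hij : i ≤ j.val) :
    ∃ σ : Equiv.Perm ArrayPt, (∃ c, IsMono σ c) ∧
      ∀ p, ((ptEquiv p).val < i → σ p = p) ∧ ((ptEquiv p).val = i → ptEquiv (σ p) = j) := by
  obtain ⟨e, he, h1, h2⟩ := monoTabs_complete ⟨i, hi⟩ j hij
  obtain ⟨hp, hinv, hfix, hcode⟩ := monoTabs_ok e he
  obtain ⟨s, hs, -⟩ := Steiner.exists_perm_of_isPerm hp
  let σ : Equiv.Perm ArrayPt := (ptEquiv.trans s).trans ptEquiv.symm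
  have hval : ∀ p, (ptEquiv (σ p)).val = e.2.2.1.getD (ptEquiv p).val 0 := fun p => by
    simp [σ, hs]
  have hsymm : ∀ p, (ptEquiv (σ.symm p)).val = e.2.2.2.1.getD (ptEquiv p).val 0 := fun p => by
    obtain ⟨h3, h4⟩ := hinv (ptEquiv p)
    have : σ (ptEquiv.symm ⟨_, h4⟩) = p := by
      apply ptEquiv.injective
      apply Fin.ext
      rw [hval, Equiv.apply_symm_apply]
      exact h3
    rw [← this, Equiv.symm_apply_apply, Equiv.apply_symm_apply, this]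
  refine ⟨σ, ⟨signUnit e.2.2.2.2, isMono_of_basis fun k => ?_⟩, fun p => ⟨fun h => ?_, fun h => ?_⟩⟩
  · rw [isWord_iff]
    obtain ⟨u, hu1, hu2⟩ := hcode k
    have key : ∀ p, monomialMap σ (signUnit e.2.2.2.2) (basisWord k) p = signBit e.2.2.2.2 p *
        basisTable k (Fin.ofNat 12 (e.2.2.2.1.getD (ptEquiv p).val 0)) := fun p => by
      rw [monomialMap, coe_signUnit, basisWord]
      congr 2
      apply Fin.ext
      rw [hsymm, Fin.val_ofNat, Nat.mod_eq_of_lt (hinv _).2]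
    exact ⟨u, fun a => by simp only [key]; exact hu1 a, fun a b => by simp only [key]; exact hu2 a b⟩
  · apply ptEquiv.injective
    apply Fin.ext
    rw [hval]
    exact (hfix _).1 (h1 ▸ h)
  · apply Fin.ext
    rw [hval, (hfix _).2 (h.trans h1.symm), h2]

theorem monomialMap_comp (σ τ : Equiv.Perm ArrayPt) (c d : ArrayPt → (ZMod 3)ˣ)
    (x : ArrayPt → ZMod 3) : monomialMap σ c (monomialMap τ d x) =
      monomialMap (σ * τ) (fun p => c p * d (σ.symm p)) x := by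
  funext p
  simp [monomialMap, mul_assoc, Equiv.Perm.mul_def]

/-- The group of permutations of monomial automorphisms. -/
def monoGroup : Subgroup (Equiv.Perm ArrayPt) where
  carrier := {σ | ∃ c, IsMono σ c}
  one_mem' := ⟨fun _ => 1, fun x hx => by
    have : monomialMap (1 : Equiv.Perm ArrayPt) (fun _ => (1 : (ZMod 3)ˣ)) x = x := by
      funext p; simp [monomialMap, Equiv.Perm.one_symm]
    rwa [this]⟩
  mul_mem' := by
    rintro σ τ ⟨c, hc⟩ ⟨d, hd⟩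
    exact ⟨_, fun x hx => monomialMap_comp σ τ c d x ▸ hc _ (hd x hx)⟩
  inv_mem' := by
    rintro σ ⟨c, hc⟩
    refine ⟨fun p => (c (σ p))⁻¹, fun x hx => ?_⟩
    let f : ternaryGolayCode → ternaryGolayCode := fun y => ⟨_, hc y y.2⟩
    have hf : Function.Injective f := fun y z h => by
      apply Subtype.ext
      funext p
      have := congrFun (congrArg Subtype.val h) (σ p)
      simpa [f, monomialMap, Units.mul_right_inj] using this
    have : Finite ternaryGolayCode := Finite.of_equiv _ codeEquiv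
    obtain ⟨⟨y, hy⟩, hy'⟩ := (Finite.injective_iff_surjective.1 hf) ⟨x, hx⟩
    have hyx : monomialMap σ c y = x := congrArg Subtype.val hy'
    have : monomialMap σ⁻¹ (fun p => (c (σ p))⁻¹) x = y := by
      rw [← hyx]
      funext p
      show ((c (σ p))⁻¹ : (ZMod 3)ˣ).val * ((c (σ p)).val * y (σ.symm (σ p))) = y p
      rw [Equiv.symm_apply_apply, ← mul_assoc, Units.inv_mul, one_mul]
    rw [this]
    exact hy

theorem monoGroup_le : monoGroup ≤ setSystemAut hexads := by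
  rintro σ ⟨c, hc⟩
  rw [Steiner.mem_setSystemAut]
  refine Set.eq_of_subset_of_ncard_le ?_ ?_ (Set.toFinite _)
  · rintro _ ⟨h, ⟨x, hx, hxh, hh⟩, rfl⟩
    refine ⟨_, hc x hx, ?_, by rw [Finset.card_image_of_injective _ σ.injective, hh]⟩
    rw [← hxh]
    ext p
    simp only [ternarySupport, monomialMap, Finset.mem_filter, Finset.mem_univ, true_and,
      Finset.mem_image, ne_eq, mul_eq_zero, Units.ne_zero, false_or]
    exact ⟨fun h => ⟨_, h, σ.apply_symm_apply p⟩, fun ⟨q, hq, e⟩ => by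
      rw [← e, Equiv.symm_apply_apply]; exact hq⟩
  · rw [Set.ncard_image_of_injective _ (Finset.image_injective σ.injective)]

theorem aut_facts :
    Nat.card (setSystemAut hexads) = 95040 ∧ ∀ g ∈ setSystemAut hexads,
      (∀ p, (ptEquiv p).val < 5 → g p = p) → g = 1 := by
  obtain ⟨h12, -, hsharp⟩ := Steiner.aut12_facts (α := ArrayPt) (by simp [ArrayPt]) hexads_steiner
  refine ⟨h12.2, fun g hg hfix => ?_⟩
  let x : Fin 5 ↪ ArrayPt :=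
    ⟨fun i => ptEquiv.symm ⟨i.val, by omega⟩, fun i j h => by
      simpa [Fin.ext_iff] using ptEquiv.symm.injective h⟩
  have hx : (⟨g, hg⟩ : setSystemAut hexads) ∈ MulAction.stabilizer (setSystemAut hexads) x := by
    rw [MulAction.mem_stabilizer_iff]
    refine DFunLike.ext _ _ fun i => ?_
    show g (x i) = x i
    refine hfix _ ?_
    show (ptEquiv (ptEquiv.symm ⟨i.val, _⟩)).val < 5
    rw [Equiv.apply_symm_apply]
    exact i.2
  rw [hsharp x, Subgroup.mem_bot] at hx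
  exact congrArg Subtype.val hx

theorem aut_le_monoGroup : setSystemAut hexads ≤ monoGroup := by
  suffices h : ∀ n i, i + n = 5 → ∀ g ∈ setSystemAut hexads,
      (∀ p, (ptEquiv p).val < i → g p = p) → g ∈ monoGroup from
    fun g hg => h 5 0 rfl g hg fun p hp => absurd hp (Nat.not_lt_zero _)
  intro n
  induction n with
  | zero =>
    intro i hi g hg hfix
    rw [aut_facts.2 g hg (fun p hp => hfix p (by omega))]
    exact one_mem _
  | succ n ih =>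
    intro i hi g hg hfix
    set q := ptEquiv.symm ⟨i, by omega⟩ with hq
    have hqi : (ptEquiv q).val = i := by rw [hq, Equiv.apply_symm_apply]
    have hij : i ≤ (ptEquiv (g q)).val := by
      by_contra h
      have := g.injective (hfix _ (not_le.1 h))
      rw [this, hqi] at h
      exact h le_rfl
    obtain ⟨t, ht, htp⟩ := exists_mono_tab (i := i) (by omega) hij
    have htq : t q = g q := ptEquiv.injective ((htp q).2 hqi)
    have hmem : t⁻¹ * g ∈ monoGroup := by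
      refine ih (i + 1) (by omega) _ ((setSystemAut hexads).mul_mem
        ((setSystemAut hexads).inv_mem (monoGroup_le ht)) hg) fun p hp => ?_
      rw [Equiv.Perm.mul_apply, Equiv.Perm.inv_eq_iff_eq]
      rcases lt_or_eq_of_le (Nat.lt_succ_iff.1 hp) with h | h
      · rw [hfix p h, (htp p).1 h]
      · have : p = q := ptEquiv.injective (Fin.ext (h.trans hqi.symm))
        rw [this, htq]
    simpa using monoGroup.mul_mem ht hmem

theorem monoGroup_eq : monoGroup = setSystemAut hexads :=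
  le_antisymm monoGroup_le aut_le_monoGroup

theorem card_mono :
    Nat.card {f : Equiv.Perm ArrayPt × (ArrayPt → (ZMod 3)ˣ) // IsMono f.1 f.2} = 190080 := by
  classical
  choose c hc using fun σ : monoGroup => σ.2
  let F : monoGroup × (ZMod 3)ˣ →
      {f : Equiv.Perm ArrayPt × (ArrayPt → (ZMod 3)ˣ) // IsMono f.1 f.2} := fun x =>
    ⟨(x.1.1, fun p => x.2 * c x.1 p), fun w hw => by
      have e : monomialMap x.1.1 (fun p => x.2 * c x.1 p) w =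
          (x.2 : ZMod 3) • monomialMap x.1.1 (c x.1) w := by
        funext p; simp [monomialMap, mul_assoc]
      exact e ▸ ternaryGolayCode.smul_mem _ (hc x.1 w hw)⟩
  have hF : Function.Bijective F := by
    constructor
    · intro x y h
      have h' := congrArg Subtype.val h
      have h1 : x.1 = y.1 := Subtype.ext (congrArg Prod.fst h')
      have h2 := congrFun (congrArg Prod.snd h') ((0, 0) : ArrayPt)
      simp only [F, h1, mul_left_inj] at h2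
      exact Prod.ext h1 h2
    · rintro ⟨⟨σ, d⟩, hd⟩
      set s : monoGroup := ⟨σ, d, hd⟩
      obtain ⟨e, he⟩ := monoGroup.inv_mem s.2
      have hone : IsMono 1 (fun p => d p / c s p) := by
        intro x hx
        let f : ternaryGolayCode → ternaryGolayCode := fun y => ⟨_, hc s y y.2⟩
        have hf : Function.Injective f := fun y z h => by
          apply Subtype.ext
          funext p
          have := congrFun (congrArg Subtype.val h) (σ p)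
          simpa [f, monomialMap, s] using this
        have : Finite ternaryGolayCode := Finite.of_equiv _ codeEquiv
        obtain ⟨⟨y, hy⟩, hy'⟩ := (Finite.injective_iff_surjective.1 hf) ⟨x, hx⟩
        have hyx : monomialMap σ (c s) y = x := congrArg Subtype.val hy'
        have : monomialMap 1 (fun p => d p / c s p) x = monomialMap σ d y := by
          rw [← hyx]
          funext p
          show (d p / c s p : (ZMod 3)ˣ).val * ((c s p).val * y (σ.symm p)) = (d p).val * y (σ.symm p)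
          rw [← mul_assoc, ← Units.val_mul, div_mul_cancel]
        rw [this]
        exact hd y hy
      rcases sign_rigid' _ hone with h | h
      · refine ⟨(s, 1), Subtype.ext (Prod.ext rfl (funext fun p => ?_))⟩
        simpa [F] using (div_eq_one.1 (h p)).symm
      · refine ⟨(s, -1), Subtype.ext (Prod.ext rfl (funext fun p => ?_))⟩
        show -1 * c s p = d p
        rw [← h p, div_mul_cancel]
  rw [← Nat.card_congr (Equiv.ofBijective F hF), Nat.card_prod, monoGroup_eq, aut_facts.1,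
    show Nat.card (ZMod 3)ˣ = 2 by rw [Nat.card_eq_fintype_card]; decide]

end Cfsg.Agent.SporStruct.Ternary
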