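import Cfsg.Agent.SporStruct.LeechHS
import Cfsg.Agent.SporStruct.OctadPick

/-!
The McLaughlin configuration in the Leech lattice, in standard position.
-/

set_option autoImplicit false

namespace Cfsg.Agent.SporStruct

open Cfsg Cfsg.Agent.Leech
open scoped Pointwise

theorem four_inj_right {j k : GolayPt} (hj : j ≠ none) (hk : k ≠ none)
    (h : four none j 4 4 = four none k 4 4) : j = k := by
  by_contra hne
  have h1 := congrFun h j
  simp [four, hj, hne] at h1

theorem threeVec_injective (p : GolayPt) : Function.Injective fun D => threeVec D p := fun D E h => by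
  ext i
  have h1 := congrFun h i
  by_cases a : i ∈ D <;> by_cases b : i ∈ E <;> simp [threeVec, bit, a, b] at h1 ⊢

theorem threeVec_none {o : Finset GolayPt} (h : none ∈ o) : threeVec o none none = 3 := by
  simp [threeVec, bit, h]

theorem threeVec_of_mem {o : Finset GolayPt} {p i : GolayPt} (h : i ∈ o) (hp : i ≠ p) :
    threeVec o p i = -1 := by
  simp [threeVec, bit, h, hp]

theorem threeVec_of_notMem {o : Finset GolayPt} {p i : GolayPt} (h : i ∉ o) (hp : i ≠ p) :
    threeVec o p i = 1 := by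
  simp [threeVec, bit, h, hp]

theorem twos_of_mem {o : Finset GolayPt} {i : GolayPt} (h : i ∈ o) : twos o i = 2 := by
  simp [twos, bit, h]

theorem twos_of_notMem {o : Finset GolayPt} {i : GolayPt} (h : i ∉ o) : twos o i = 0 := by
  simp [twos, bit, h]

theorem dotInt_threeVec_left (o : Finset GolayPt) (p : GolayPt) (x : GolayPt → ℤ) :
    dotInt (threeVec o p) x = (∑ i, x i) - dotInt (twos o) x + 4 * x p := by
  have e : ∀ i, threeVec o p i * x i = x i - twos o i * x i + if i = p then 4 * x p else 0 := by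
    intro i
    simp only [threeVec, twos]
    split_ifs with h
    · subst h; ring
    · ring
  simp only [dotInt, Finset.sum_congr rfl fun i _ => e i, Finset.sum_add_distrib,
    Finset.sum_sub_distrib, sum_single_if]

/-- The minimal vector (4, 0, 4, 0, ...). -/
def mcPoint : leechLattice := ⟨four none (some 1) 4 4,
  (four_spec (by simp) (Or.inl rfl) (Or.inl rfl)).1⟩

theorem coe_mcPoint : (mcPoint : GolayPt → ℤ) = four none (some 1) 4 4 := rfl

theorem sqNorm_mcPoint : sqNorm (mcPoint : GolayPt → ℤ) = 32 :=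
  (four_spec (by simp) (Or.inl rfl) (Or.inl rfl)).2

/-- The shapes of the configuration. -/
theorem mc_cases {x : GolayPt → ℤ} (hx : x ∈ leechLattice) (hn : sqNorm x = 32)
    (h48 : dotInt x (std48 : GolayPt → ℤ) = 24) (h32 : dotInt x (std32 : GolayPt → ℤ) = 16) :
    (∃ j : GolayPt, j ≠ none ∧ j ≠ some 0 ∧ x = four none j 4 4) ∨
      (∃ o ∈ octads, none ∈ o ∧ some 0 ∈ o ∧ x = twos o) ∨
      ∃ o ∈ octads, none ∈ o ∧ some 0 ∉ o ∧ x = threeVec o none := by
  rw [dot_std48'] at h48
  rw [dotInt_comm, coe_std32, dotInt_four] at h32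
  rcases shape32 hx hn with ⟨a, b, hab, hxa, hxb, h0⟩ | ⟨o, ho, h2, h0⟩ | ⟨a, hxa, h1⟩
  · left
    have vals : ∀ p, x p = 0 ∨ x p = 4 ∨ x p = -4 := fun p => by
      by_cases e1 : p = a
      · subst e1; omega
      · by_cases e2 : p = b
        · subst e2; omega
        · exact Or.inl (h0 p e1 e2)
    have hsum : ∑ i, x i = x a + x b := Finset.sum_eq_add_of_mem a b (Finset.mem_univ a)
      (Finset.mem_univ b) hab fun i _ hi => h0 i hi.1 hi.2
    have hvn := vals none
    have hv0 := vals (some 0)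
    have hn4 : x none = 4 := by omega
    obtain ⟨j, hj, hxj, hx4⟩ := coord_four_any hx hn (p := none) (Or.inl hn4)
    rw [hn4] at hx4
    have hall : ∑ i, x i = 4 + x j := by
      conv_lhs => rw [hx4]
      exact sum_four _ _ _ _
    have hj4 : x j = 4 := by omega
    rw [hj4] at hx4
    exact ⟨j, hj, fun e => by subst e; omega, hx4⟩
  · right; left
    obtain ⟨hle, heq⟩ := sum_neg_bound h2 h0
    rw [ho.2] at hle heq
    have vals : ∀ p, x p = 0 ∨ x p = 2 ∨ x p = -2 := fun p => by
      by_cases e : p ∈ o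
      · have := h2 p e; omega
      · exact Or.inl (h0 p e)
    have hvn := vals none
    have hv0 := vals (some 0)
    have hno : (none : GolayPt) ∈ o := by_contra fun e => by have := h0 _ e; omega
    have h0o : (some 0 : GolayPt) ∈ o := by_contra fun e => by have := h0 _ e; omega
    exact ⟨o, ho, hno, h0o, heq (by push_cast; omega)⟩
  · right; right
    obtain ⟨N, hN, hval, hiff⟩ := shape3_data hx hxa h1
    have hsum := sum_shape3 hval
    have hw := code_weights N hN
    simp only [List.mem_cons, List.not_mem_nil, or_false] at hw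
    have vals : ∀ p, x p = 1 ∨ x p = -1 ∨ x p = 3 ∨ x p = -3 := fun p => by
      by_cases e : p = a
      · subst e; omega
      · have := h1 p e; omega
    have hvn := vals none
    have hv0 := vals (some 0)
    rcases (by omega : (x none = 3 ∧ x (some 0) = 1) ∨ (x none = 1 ∧ x (some 0) = 3)) with
      ⟨e1, e2⟩ | ⟨e1, e2⟩
    · have hna : a = none := by_contra fun e => by have := h1 none (Ne.symm e); omega
      subst hna
      have hmem : (none : GolayPt) ∈ N := hiff.2 e1
      have hpos : 0 < N.card := Finset.card_pos.2 ⟨_, hmem⟩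
      simp only [bit, hmem, if_true] at hsum
      have h8 : N.card = 8 := by omega
      refine ⟨N, ⟨hN, h8⟩, hmem, fun e => ?_, funext fun i => ?_⟩
      · have := hval (some 0) (by simp)
        simp only [bit, e, if_true] at this
        omega
      · by_cases hi : i = none
        · subst hi; rw [threeVec_none hmem, e1]
        · simp [threeVec, hi, hval i hi]
    · exfalso
      have hna : a = some 0 := by_contra fun e => by have := h1 (some 0) (Ne.symm e); omega
      subst hna
      have hmem : (some 0 : GolayPt) ∈ N := hiff.2 e2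
      have hpos : 0 < N.card := Finset.card_pos.2 ⟨_, hmem⟩
      simp only [bit, hmem, if_true] at hsum
      omega

theorem mc_point_dots {j : GolayPt} (hjn : j ≠ none) (hj0 : j ≠ some 0) :
    dotInt (four none j 4 4) (std48 : GolayPt → ℤ) = 24 ∧
      dotInt (four none j 4 4) (std32 : GolayPt → ℤ) = 16 := by
  rw [dot_std48', sum_four, coe_std32, dotInt_four]
  simp [four, hjn, hjn.symm, hj0]

theorem mc_hexad_dots {o : Finset GolayPt} (ho : o ∈ octads) (hn : none ∈ o) (h0 : some 0 ∈ o) :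
    dotInt (twos o) (std48 : GolayPt → ℤ) = 24 ∧ dotInt (twos o) (std32 : GolayPt → ℤ) = 16 := by
  rw [dot_std48', sum_twos, ho.2, twos_of_mem hn, dotInt_comm, coe_std32, dotInt_four,
    twos_of_mem hn, twos_of_mem h0]
  norm_num

theorem mc_octad_dots {o : Finset GolayPt} (ho : o ∈ octads) (hn : none ∈ o) (h0 : some 0 ∉ o) :
    dotInt (threeVec o none) (std48 : GolayPt → ℤ) = 24 ∧
      dotInt (threeVec o none) (std32 : GolayPt → ℤ) = 16 := by
  rw [dot_std48', sum_threeVec, ho.2, threeVec_none hn, dotInt_comm, coe_std32, dotInt_four,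
    threeVec_none hn, threeVec_of_notMem h0 (by simp)]
  norm_num

theorem dot_std48_twosNeg {D : Finset GolayPt} (hD : D ∈ octads) {k : GolayPt} (hn : none ∈ D)
    (hkn : k ≠ none) : dotInt (twosNeg D (some 0) k) (std48 : GolayPt → ℤ) = 16 := by
  rw [dot_std48', sum_twosNeg, hD.2]
  simp [twosNeg, four, twos_of_mem hn, hkn.symm]

theorem dot_std32_twosNeg {D : Finset GolayPt} {k : GolayPt} (hn : none ∈ D) (h0 : some 0 ∈ D)
    (hkn : k ≠ none) (hk0 : k ≠ some 0) :
    dotInt (twosNeg D (some 0) k) (std32 : GolayPt → ℤ) = 0 := by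
  rw [dotInt_comm, coe_std32, dotInt_four]
  simp [twosNeg, four, twos_of_mem hn, twos_of_mem h0, hkn.symm, hk0.symm]

theorem dot_mcPoint_twosNeg {D : Finset GolayPt} {k : GolayPt} (hn : none ∈ D) (h1 : some 1 ∈ D)
    (hkn : k ≠ none) (hk1 : k ≠ some 1) :
    dotInt (twosNeg D (some 0) k) (mcPoint : GolayPt → ℤ) = 16 := by
  rw [dotInt_comm, coe_mcPoint, dotInt_four]
  have h01 : (some 1 : GolayPt) ≠ some 0 := by decide
  simp [twosNeg, four, twos_of_mem hn, twos_of_mem h1, hkn.symm, hk1.symm, h01]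

theorem dotInt_twosNeg (D : Finset GolayPt) (p q : GolayPt) (x : GolayPt → ℤ) :
    dotInt (twosNeg D p q) x = dotInt (twos D) x - (4 * x p + 4 * x q) := by
  rw [twosNeg, dotInt_sub_left', dotInt_four]

/-- The three a-vectors for `(1, -1, 3)`. -/
theorem threeVec_dots {D : Finset GolayPt} (hD : D ∈ octads) (hn : none ∉ D) (h0 : some 0 ∈ D)
    (h1 : some 1 ∈ D) :
    dotInt (threeVec D (some 1)) (std32 : GolayPt → ℤ) = 0 ∧
    dotInt (threeVec D (some 1)) (std48 : GolayPt → ℤ) = 16 ∧
    dotInt (threeVec D (some 1)) (mcPoint : GolayPt → ℤ) = 16 := by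
  have hne : (some 0 : GolayPt) ≠ some 1 := by decide
  refine ⟨?_, ?_, ?_⟩
  · rw [dotInt_comm, coe_std32, dotInt_four, threeVec_of_notMem hn (by simp),
      threeVec_of_mem h0 hne]
    norm_num
  · rw [dot_std48', sum_threeVec, hD.2, threeVec_of_notMem hn (by simp)]; norm_num
  · rw [dotInt_comm, coe_mcPoint, dotInt_four, threeVec_of_notMem hn (by simp)]
    simp [threeVec, bit, h1]

theorem dot_threeVec_three {o D : Finset GolayPt} (ho : o ∈ octads) (hD : D ∈ octads)
    (hn : none ∉ D) (h1 : some 1 ∉ o) (h4 : (o ∩ D).card = 4) :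
    dotInt (threeVec o none) (threeVec D (some 1)) = 16 := by
  rw [dotInt_threeVec_left, sum_threeVec, dotInt_twos_threeVec, hD.2, ho.2, if_neg h1, h4,
    threeVec_of_notMem hn (by simp)]
  norm_num

/-- Every vertex has a companion of the frame. -/
theorem exists_flag {x : GolayPt → ℤ} (hx : x ∈ leechLattice) (hn : sqNorm x = 32)
    (h48 : dotInt x (std48 : GolayPt → ℤ) = 24) (h32 : dotInt x (std32 : GolayPt → ℤ) = 16) :
    ∃ a : leechLattice, sqNorm (a : GolayPt → ℤ) = 32 ∧
      dotInt (a : GolayPt → ℤ) (std32 : GolayPt → ℤ) = 0 ∧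
      dotInt (a : GolayPt → ℤ) (std48 : GolayPt → ℤ) = 16 ∧
      dotInt (a : GolayPt → ℤ) x = 16 := by
  rcases mc_cases hx hn h48 h32 with ⟨j, hjn, hj0, rfl⟩ | ⟨o, ho, hno, h0o, rfl⟩ |
    ⟨o, ho, hno, h0o, rfl⟩
  · refine ⟨std32', sqNorm_std32', ?_, ?_, ?_⟩
    · rw [dotInt_comm, hs_std32.2]
    · rw [dot_std48', coe_std32', sum_four]; simp [four]
    · rw [coe_std32', dotInt_four]; simp [four, hjn.symm, hj0.symm]
  · obtain ⟨D, hD, h4, hnD, h0D⟩ := M24.exists_inter_four ho hno h0o
    refine ⟨⟨twos D, (twos_mem hD).1⟩, (twos_mem hD).2, ?_, ?_, ?_⟩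
    · show dotInt (twos D) _ = _
      rw [dotInt_comm, coe_std32, dotInt_four, twos_of_notMem hnD, twos_of_notMem h0D]; rfl
    · show dotInt (twos D) _ = _
      rw [dot_std48', sum_twos, hD.2, twos_of_notMem hnD]; norm_num
    · rw [dotInt_twos_twos, Finset.inter_comm, h4]; norm_num
  · obtain ⟨D, hD, hd, h0D⟩ := M24.exists_disjoint ho h0o
    have hnD : (none : GolayPt) ∉ D := fun e => Finset.disjoint_left.1 hd hno e
    refine ⟨⟨twos D, (twos_mem hD).1⟩, (twos_mem hD).2, ?_, ?_, ?_⟩
    · show dotInt (twos D) _ = _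
      rw [dotInt_comm, coe_std32, dotInt_four, twos_of_notMem hnD, twos_of_notMem h0D]; rfl
    · show dotInt (twos D) _ = _
      rw [dot_std48', sum_twos, hD.2, twos_of_notMem hnD]; norm_num
    · rw [dotInt_twos_threeVec, if_neg hnD, Finset.disjoint_iff_inter_eq_empty.1 hd.symm, hD.2]
      norm_num

/-- A frame change fixing the two vectors. -/
theorem exists_mc_move (hu : CodeUnique) {a : leechLattice} (ha : sqNorm (a : GolayPt → ℤ) = 32)
    (h32 : dotInt (a : GolayPt → ℤ) (std32 : GolayPt → ℤ) = 0)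
    (h48 : dotInt (a : GolayPt → ℤ) (std48 : GolayPt → ℤ) = 16) :
    ∃ h : Co0, h • std48 = std48 ∧ h • std32 = std32 ∧ ∀ y : leechLattice,
      8 * ((h • y : leechLattice) : GolayPt → ℤ) none =
        dotInt (a : GolayPt → ℤ) (y : GolayPt → ℤ) +
          dotInt (std32 : GolayPt → ℤ) (y : GolayPt → ℤ) := by
  obtain ⟨h, h1, h2, h3⟩ := exists_smul_triple hu sqNorm_std48 ha sqNorm_std32 h32
    (by rw [dotInt_comm, h48]) (by rw [dotInt_comm, hs_std32.1])
  refine ⟨h, h1, h3, fun y => ?_⟩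
  have hf : h • (a + std32) = frame none := by rw [smul_add', h2, h3, std32'_add_std32]
  rw [coord_none hf y, AddSubgroup.coe_add, dotInt_add_left']

/-- The configuration in standard position. -/
def mcStd : Set leechLattice :=
  {x | sqNorm (x : GolayPt → ℤ) = 32 ∧ dotInt (x : GolayPt → ℤ) (std48 : GolayPt → ℤ) = 24 ∧
    dotInt (x : GolayPt → ℤ) (std32 : GolayPt → ℤ) = 16}

theorem smul_mem_mcStd {g : Co0} (h1 : g • std48 = std48) (h2 : g • std32 = std32)
    {x : leechLattice} (hx : x ∈ mcStd) : g • x ∈ mcStd := by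
  obtain ⟨a, b, c⟩ := hx
  refine ⟨(sqNorm_smul g x).trans a, ?_, ?_⟩
  · rw [← h1, dotInt_smul, b]
  · rw [← h2, dotInt_smul, c]

/-- A vertex whose first coordinate is 4. -/
theorem mc_four {x : leechLattice} (hx : x ∈ mcStd) (h : (x : GolayPt → ℤ) none = 4) :
    ∃ j : GolayPt, j ≠ none ∧ j ≠ some 0 ∧ (x : GolayPt → ℤ) = four none j 4 4 := by
  rcases mc_cases x.2 hx.1 hx.2.1 hx.2.2 with h' | ⟨o, ho, hn, h0, e⟩ | ⟨o, ho, hn, h0, e⟩
  · exact h'
  · rw [e, twos_of_mem hn] at h; omega
  · rw [e, threeVec_none hn] at h; omega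

theorem permElt_fix {σ : M24} (h1 : σ.1 none = none) (h2 : σ.1 (some 0) = some 0) :
    permElt σ • std48 = std48 ∧ permElt σ • std32 = std32 :=
  ⟨permElt_std48 h1, (permElt_std32 h1 h2).1⟩

/-- Every vertex goes to `(4, 0, 4, 0, ...)`. -/
theorem exists_smul_mcPoint (hu : CodeUnique) {x : leechLattice} (hx : x ∈ mcStd) :
    ∃ g : Co0, g • std48 = std48 ∧ g • std32 = std32 ∧ g • x = mcPoint := by
  obtain ⟨a, ha, a32, a48, ax⟩ := exists_flag x.2 hx.1 hx.2.1 hx.2.2
  obtain ⟨h, h1, h2, hc⟩ := exists_mc_move hu ha a32 a48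
  have hcx := hc x
  rw [ax, dotInt_comm (std32 : GolayPt → ℤ), hx.2.2] at hcx
  obtain ⟨j, hjn, hj0, hxj⟩ := mc_four (smul_mem_mcStd h1 h2 hx) (by omega)
  obtain ⟨σ, hσ, hmap⟩ := M24.exists_map_list (A := [none, some 0, j])
    (A' := [none, some 0, some 1]) (by simp [hjn.symm, hj0.symm]) (by decide) rfl (by simp)
  simp only [List.map_cons, List.map_nil, List.cons.injEq, and_true] at hmap
  obtain ⟨p1, p2⟩ := permElt_fix (σ := ⟨σ, hσ⟩) hmap.1 hmap.2.1
  refine ⟨permElt ⟨σ, hσ⟩ * h, by rw [mul_smul, h1, p1], by rw [mul_smul, h2, p2],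
    Subtype.ext ?_⟩
  rw [mul_smul, permElt_four none j 4 4 hxj, coe_mcPoint, hmap.1, hmap.2.2]

/-- The minimal vector (4, 0, 0, 4, 0, ...). -/
def mcPoint₂ : leechLattice := ⟨four none (some 2) 4 4,
  (four_spec (by simp) (Or.inl rfl) (Or.inl rfl)).1⟩

/-- The second point is reached from every vertex with product 16 with the first. -/
theorem exists_smul_sixteen (hu : CodeUnique) {y : leechLattice} (hy : y ∈ mcStd)
    (hne : y ≠ mcPoint) (hd : dotInt (mcPoint : GolayPt → ℤ) (y : GolayPt → ℤ) = 16) :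
    ∃ g : Co0, g • std48 = std48 ∧ g • std32 = std32 ∧ g • mcPoint = mcPoint ∧
      g • y = mcPoint₂ := by
  have h01 : (some 0 : GolayPt) ≠ some 1 := by decide
  obtain ⟨a, ha, a32, a48, aq, ay⟩ : ∃ a : leechLattice, sqNorm (a : GolayPt → ℤ) = 32 ∧
      dotInt (a : GolayPt → ℤ) (std32 : GolayPt → ℤ) = 0 ∧
      dotInt (a : GolayPt → ℤ) (std48 : GolayPt → ℤ) = 16 ∧
      dotInt (a : GolayPt → ℤ) (mcPoint : GolayPt → ℤ) = 16 ∧
      dotInt (a : GolayPt → ℤ) (y : GolayPt → ℤ) = 16 := by
    rcases mc_cases y.2 hy.1 hy.2.1 hy.2.2 with ⟨j, hjn, hj0, e⟩ | ⟨o, ho, hno, h0o, e⟩ |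
      ⟨o, ho, hno, h0o, e⟩
    · refine ⟨std32', sqNorm_std32', ?_, ?_, ?_, ?_⟩
      · rw [dotInt_comm, hs_std32.2]
      · rw [dot_std48', coe_std32', sum_four]; simp [four]
      · rw [coe_std32', coe_mcPoint, dotInt_four]; simp [four, (by decide : (some 0 : GolayPt) ≠ some 1)]
      · rw [e, coe_std32', dotInt_four]; simp [four, hjn.symm, hj0.symm]
    · rw [e, coe_mcPoint, dotInt_four, twos_of_mem hno] at hd
      have h1o : (some 1 : GolayPt) ∈ o := by_contra fun h => by
        rw [twos_of_notMem h] at hd; omega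
      obtain ⟨k, hk, hk'⟩ : ∃ k ∈ o, k ∉ ({none, some 0, some 1} : Finset GolayPt) := by
        by_contra hc
        push Not at hc
        have h3 := Finset.card_le_card (fun x hx => hc x hx :
          o ⊆ ({none, some 0, some 1} : Finset GolayPt))
        have := Finset.card_le_three (a := (none : GolayPt)) (b := some 0) (c := some 1)
        rw [ho.2] at h3
        omega
      simp only [Finset.mem_insert, Finset.mem_singleton, not_or] at hk'
      refine ⟨⟨_, (twosNeg_mem ho h0o hk (Ne.symm hk'.2.1)).1⟩,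
        (twosNeg_mem ho h0o hk (Ne.symm hk'.2.1)).2,
        dot_std32_twosNeg hno h0o hk'.1 hk'.2.1, dot_std48_twosNeg ho hno hk'.1,
        dot_mcPoint_twosNeg hno h1o hk'.1 hk'.2.2, ?_⟩
      rw [e, dotInt_twosNeg, dotInt_twos_twos, Finset.inter_self, ho.2, twos_of_mem h0o,
        twos_of_mem hk]
      norm_num
    · rw [e, coe_mcPoint, dotInt_four, threeVec_none hno] at hd
      have h1o : (some 1 : GolayPt) ∉ o := fun h => by
        rw [threeVec_of_mem h (by simp)] at hd; omega
      obtain ⟨D, hD, h4, hnD, h0D, h1D⟩ := M24.exists_through_two ho hno h0o h1o h01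
      obtain ⟨d32, d48, dq⟩ := threeVec_dots hD hnD h0D h1D
      refine ⟨⟨_, (threeVec_mem hD h1D).1⟩, (threeVec_mem hD h1D).2, d32, d48, dq, ?_⟩
      rw [e, dotInt_comm, dot_threeVec_three ho hD hnD h1o h4]
  obtain ⟨h, h1, h2, hc⟩ := exists_mc_move hu ha a32 a48
  have hcq := hc mcPoint
  have hqs : dotInt (std32 : GolayPt → ℤ) (mcPoint : GolayPt → ℤ) = 16 := by
    rw [coe_std32, coe_mcPoint, dotInt_four]; simp [four, (by decide : (some 0 : GolayPt) ≠ some 1)]
  rw [aq, hqs] at hcq
  have hcy := hc y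
  rw [ay, dotInt_comm (std32 : GolayPt → ℤ), hy.2.2] at hcy
  have hq : mcPoint ∈ mcStd :=
    ⟨sqNorm_mcPoint, mc_point_dots (j := some 1) (by simp) (by decide)⟩
  obtain ⟨j, hjn, hj0, hqj⟩ := mc_four (smul_mem_mcStd h1 h2 hq) (by omega)
  obtain ⟨k, hkn, hk0, hyk⟩ := mc_four (smul_mem_mcStd h1 h2 hy) (by omega)
  have hjk : j ≠ k := fun e => by
    subst e
    exact hne (smul_left_cancel h (Subtype.ext (hyk.trans hqj.symm)))
  obtain ⟨σ, hσ, hmap⟩ := M24.exists_map_list (A := [none, some 0, j, k])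
    (A' := [none, some 0, some 1, some 2])
    (by simp [hjn.symm, hj0.symm, hkn.symm, hk0.symm, hjk]) (by decide) rfl (by simp)
  simp only [List.map_cons, List.map_nil, List.cons.injEq, and_true] at hmap
  obtain ⟨p1, p2⟩ := permElt_fix (σ := ⟨σ, hσ⟩) hmap.1 hmap.2.1
  refine ⟨permElt ⟨σ, hσ⟩ * h, by rw [mul_smul, h1, p1], by rw [mul_smul, h2, p2],
    Subtype.ext ?_, Subtype.ext ?_⟩
  · rw [mul_smul, permElt_four none j 4 4 hqj, coe_mcPoint, hmap.1, hmap.2.2.1]
  · rw [mul_smul, permElt_four none k 4 4 hyk, hmap.1, hmap.2.2.2]; rfl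

/-- A hexad away from the first point is reached from every vertex with product 8 with it. -/
theorem exists_smul_eight (hu : CodeUnique) {y : leechLattice} (hy : y ∈ mcStd)
    (hd : dotInt (mcPoint : GolayPt → ℤ) (y : GolayPt → ℤ) = 8) :
    ∃ (g : Co0) (o : Finset GolayPt), g • std48 = std48 ∧ g • std32 = std32 ∧
      g • mcPoint = mcPoint ∧ o ∈ octads ∧ none ∈ o ∧ some 0 ∈ o ∧ some 1 ∉ o ∧
      ((g • y : leechLattice) : GolayPt → ℤ) = twos o := by
  obtain ⟨a, ha, a32, a48, aq, ay⟩ : ∃ a : leechLattice, sqNorm (a : GolayPt → ℤ) = 32 ∧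
      dotInt (a : GolayPt → ℤ) (std32 : GolayPt → ℤ) = 0 ∧
      dotInt (a : GolayPt → ℤ) (std48 : GolayPt → ℤ) = 16 ∧
      dotInt (a : GolayPt → ℤ) (mcPoint : GolayPt → ℤ) = 16 ∧
      dotInt (a : GolayPt → ℤ) (y : GolayPt → ℤ) = 0 := by
    rcases mc_cases y.2 hy.1 hy.2.1 hy.2.2 with ⟨j, hjn, hj0, e⟩ | ⟨o, ho, hno, h0o, e⟩ |
      ⟨o, ho, hno, h0o, e⟩
    · exfalso
      rw [e, coe_mcPoint, dotInt_four, four_apply_left hjn.symm] at hd
      have : four none j 4 4 (some 1) = 0 ∨ four none j 4 4 (some 1) = 4 := by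
        by_cases hj1 : j = some 1
        · right; rw [hj1]; exact four_apply_right (by simp) _ _
        · left; simp [four, Ne.symm hj1]
      omega
    · refine ⟨std32', sqNorm_std32', ?_, ?_, ?_, ?_⟩
      · rw [dotInt_comm, hs_std32.2]
      · rw [dot_std48', coe_std32', sum_four]; simp [four]
      · rw [coe_std32', coe_mcPoint, dotInt_four]; simp [four, (by decide : (some 0 : GolayPt) ≠ some 1)]
      · rw [e, coe_std32', dotInt_four, twos_of_mem hno, twos_of_mem h0o]; norm_num
    · rw [e, coe_mcPoint, dotInt_four, threeVec_none hno] at hd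
      have h1o : (some 1 : GolayPt) ∈ o := by_contra fun h => by
        rw [threeVec_of_notMem h (by simp)] at hd; omega
      obtain ⟨D, hD, h4, hnD, h1D, h0D, k, hk, hko, hk0⟩ :=
        M24.exists_through_three ho hno h1o (by simp) h0o
      have hkn : k ≠ none := fun h => hko (h ▸ hno)
      have hk1 : k ≠ some 1 := fun h => hko (h ▸ h1o)
      refine ⟨⟨_, (twosNeg_mem hD h0D hk hk0.symm).1⟩, (twosNeg_mem hD h0D hk hk0.symm).2,
        dot_std32_twosNeg hnD h0D hkn hk0, dot_std48_twosNeg hD hnD hkn,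
        dot_mcPoint_twosNeg hnD h1D hkn hk1, ?_⟩
      rw [e, dotInt_twosNeg, dotInt_twos_threeVec, if_pos hnD, Finset.inter_comm, h4, hD.2,
        threeVec_of_notMem h0o (by simp), threeVec_of_notMem hko hkn]
      norm_num
  obtain ⟨h, h1, h2, hc⟩ := exists_mc_move hu ha a32 a48
  have hcq := hc mcPoint
  have hqs : dotInt (std32 : GolayPt → ℤ) (mcPoint : GolayPt → ℤ) = 16 := by
    rw [coe_std32, coe_mcPoint, dotInt_four]; simp [four, (by decide : (some 0 : GolayPt) ≠ some 1)]
  rw [aq, hqs] at hcq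
  have hcy := hc y
  rw [ay, dotInt_comm (std32 : GolayPt → ℤ), hy.2.2] at hcy
  have hq : mcPoint ∈ mcStd :=
    ⟨sqNorm_mcPoint, mc_point_dots (j := some 1) (by simp) (by decide)⟩
  obtain ⟨j, hjn, hj0, hqj⟩ := mc_four (smul_mem_mcStd h1 h2 hq) (by omega)
  obtain ⟨σ, hσ, hmap⟩ := M24.exists_map_list (A := [none, some 0, j])
    (A' := [none, some 0, some 1]) (by simp [hjn.symm, hj0.symm]) (by decide) rfl (by simp)
  simp only [List.map_cons, List.map_nil, List.cons.injEq, and_true] at hmap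
  obtain ⟨p1, p2⟩ := permElt_fix (σ := ⟨σ, hσ⟩) hmap.1 hmap.2.1
  set g := permElt ⟨σ, hσ⟩ * h with hg
  have g1 : g • std48 = std48 := by rw [hg, mul_smul, h1, p1]
  have g2 : g • std32 = std32 := by rw [hg, mul_smul, h2, p2]
  have g3 : g • mcPoint = mcPoint := by
    apply Subtype.ext
    rw [hg, mul_smul, permElt_four none j 4 4 hqj, coe_mcPoint, hmap.1, hmap.2.2]
  have hy' := smul_mem_mcStd g1 g2 hy
  have hnone : ((g • y : leechLattice) : GolayPt → ℤ) none = 2 := by
    have : σ.symm none = none := by rw [Equiv.symm_apply_eq, hmap.1]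
    rw [hg, mul_smul, coe_permElt_smul, this]
    omega
  have hd' : dotInt (mcPoint : GolayPt → ℤ) ((g • y : leechLattice) : GolayPt → ℤ) = 8 := by
    rw [← g3, dotInt_smul, hd]
  rcases mc_cases (g • y).2 hy'.1 hy'.2.1 hy'.2.2 with ⟨i, hin, hi0, e⟩ | ⟨o, ho, hno, h0o, e⟩ |
    ⟨o, ho, hno, h0o, e⟩
  · rw [e, four_apply_left hin.symm] at hnone; omega
  · refine ⟨g, o, g1, g2, g3, ho, hno, h0o, fun h1o => ?_, e⟩
    rw [e, coe_mcPoint, dotInt_four, twos_of_mem hno, twos_of_mem h1o] at hd'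
    omega
  · rw [e, threeVec_none hno] at hnone; omega

/-- The hexads away from the first point form one orbit. -/
theorem exists_smul_hexads {o o' : Finset GolayPt} {y y' : leechLattice}
    (ho : o ∈ octads) (ho' : o' ∈ octads) (hn : none ∈ o) (h0 : some 0 ∈ o) (h1 : some 1 ∉ o)
    (hn' : none ∈ o') (h0' : some 0 ∈ o') (h1' : some 1 ∉ o')
    (hy : (y : GolayPt → ℤ) = twos o) (hy' : (y' : GolayPt → ℤ) = twos o') :
    ∃ g : Co0, g • std48 = std48 ∧ g • std32 = std32 ∧ g • mcPoint = mcPoint ∧ g • y = y' := by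
  have pick : ∀ u : Finset GolayPt, u ∈ octads → none ∈ u → some 0 ∈ u → some 1 ∉ u →
      ∃ L : List GolayPt, L.length = 3 ∧ (∀ p ∈ L, p ∈ u) ∧
        (none :: some 0 :: some 1 :: L).Nodup ∧
        (¬ ∃ w ∈ octads, ∀ p ∈ (none :: some 0 :: some 1 :: L), p ∈ w) := by
    intro u hu hun hu0 hu1
    obtain ⟨t, ht, htc⟩ := Finset.exists_subset_card_eq (s := u \ {none, some 0}) (n := 3)
      (by rw [Finset.card_sdiff_of_subset (by simp [Finset.insert_subset_iff, hun, hu0]), hu.2,
        Finset.card_pair (by simp)]; norm_num)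
    have ht' : ∀ p ∈ t, p ∈ u ∧ p ≠ none ∧ p ≠ some 0 := fun p hp => by
      have := ht hp
      simp only [Finset.mem_sdiff, Finset.mem_insert, Finset.mem_singleton, not_or] at this
      exact this
    refine ⟨t.toList, by simp [htc], fun p hp => (ht' p (Finset.mem_toList.1 hp)).1, ?_, ?_⟩
    · simp only [List.nodup_cons, List.mem_cons, Finset.mem_toList, Finset.nodup_toList, and_true,
        not_or]
      exact ⟨⟨by simp, by simp, fun h => (ht' _ h).2.1 rfl⟩,
        ⟨by decide, fun h => (ht' _ h).2.2 rfl⟩, fun h => hu1 (ht' _ h).1⟩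
    · rintro ⟨w, hw, hsub⟩
      have hins : (insert none (insert (some 0) t)).card = 5 := by
        rw [Finset.card_insert_of_notMem, Finset.card_insert_of_notMem, htc]
        · exact fun h => (ht' _ h).2.2 rfl
        · simp only [Finset.mem_insert, not_or]
          exact ⟨by simp, fun h => (ht' _ h).2.1 rfl⟩
      have e := Golay.octad_unique hw hu hins.ge (fun p hp => hsub p (by
          simp only [Finset.mem_insert] at hp
          simp only [List.mem_cons, Finset.mem_toList]
          tauto)) (fun p hp => by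
          simp only [Finset.mem_insert] at hp
          rcases hp with rfl | rfl | hp
          exacts [hun, hu0, (ht' p hp).1])
      exact hu1 (e ▸ hsub (some 1) (by simp))
  obtain ⟨L, hL, hLo, hnd, hout⟩ := pick o ho hn h0 h1
  obtain ⟨L', hL', hLo', hnd', hout'⟩ := pick o' ho' hn' h0' h1'
  obtain ⟨σ, hσ, hmap⟩ := M24.exists_map_list_six_out hnd hnd' (by simp [hL]) (by simp [hL'])
    hout hout'
  simp only [List.map_cons, List.cons.injEq] at hmap
  obtain ⟨m1, m2, m3, m4⟩ := hmap
  have hso : σ • o = o' := by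
    refine Golay.octad_unique (Golay.smul_mem_octads hσ ho) ho'
      (s := insert none (insert (some 0) L'.toFinset)) ?_ (fun p hp => ?_) (fun p hp => ?_)
    · simp only [List.nodup_cons, List.mem_cons, not_or] at hnd'
      rw [Finset.card_insert_of_notMem, Finset.card_insert_of_notMem,
        List.toFinset_card_of_nodup hnd'.2.2.2, hL']
      · simpa using hnd'.2.1.2
      · simp only [Finset.mem_insert, List.mem_toFinset, not_or]
        exact ⟨hnd'.1.1, hnd'.1.2.2⟩
    · simp only [Finset.mem_insert, List.mem_toFinset] at hp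
      rcases hp with rfl | rfl | hp
      · rw [← m1]; exact Finset.smul_mem_smul_finset hn
      · rw [← m2]; exact Finset.smul_mem_smul_finset h0
      · rw [← m4, List.mem_map] at hp
        obtain ⟨q, hq, rfl⟩ := hp
        exact Finset.smul_mem_smul_finset (hLo q hq)
    · simp only [Finset.mem_insert, List.mem_toFinset] at hp
      rcases hp with rfl | rfl | hp
      exacts [hn', h0', hLo' p hp]
  obtain ⟨p1, p2⟩ := permElt_fix (σ := ⟨σ, hσ⟩) m1 m2
  refine ⟨permElt ⟨σ, hσ⟩, p1, p2, Subtype.ext ?_, Subtype.ext (funext fun i => ?_)⟩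
  · rw [permElt_four none (some 1) 4 4 coe_mcPoint, coe_mcPoint, m1, m3]
  · rw [coe_permElt_smul, hy, hy', ← hso]
    simp only [twos, bit, M24.mem_smul_iff, Equiv.Perm.coe_inv]

end Cfsg.Agent.SporStruct
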