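import Cfsg.Agent.SporStruct.LeechHSMain
import Cfsg.Agent.SporStruct.LeechMcL
import Cfsg.Agent.Lib.Leech.Pairs48
import Cfsg.Agent.Lib.Leech.CodeUnique

/-!
The 352 minimal vectors of products 16 and -24 with a Higman-Sims pair.
-/

set_option autoImplicit false

namespace Cfsg.Agent.SporStruct

open Cfsg Cfsg.Agent.Leech
open scoped Pointwise

/-- Minimal vectors of products 16 and -24 with a pair. -/
def hs352 (v w : leechLattice) : Set leechLattice :=
  {x | sqNorm (x : GolayPt → ℤ) = 32 ∧ dotInt (v : GolayPt → ℤ) (x : GolayPt → ℤ) = 16 ∧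
    dotInt (w : GolayPt → ℤ) (x : GolayPt → ℤ) = -24}

theorem mem_hs352_iff {v w x : leechLattice} : x ∈ hs352 v w ↔
    sqNorm (x : GolayPt → ℤ) = 32 ∧ dotInt (v : GolayPt → ℤ) (x : GolayPt → ℤ) = 16 ∧
      dotInt ((v + w : leechLattice) : GolayPt → ℤ) (x : GolayPt → ℤ) = -8 := by
  simp only [hs352, Set.mem_ofPred_eq, AddSubgroup.coe_add, dotInt_add_left']
  constructor <;> rintro ⟨h1, h2, h3⟩ <;> exact ⟨h1, h2, by omega⟩

theorem smul_mem_hs352 (g : Co0) {v w x : leechLattice} :
    g • x ∈ hs352 (g • v) (g • w) ↔ x ∈ hs352 v w := by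
  simp only [hs352, Set.mem_ofPred_eq, sqNorm_smul, dotInt_smul]

theorem std_pair352 : sqNorm ((std32' - std48 : leechLattice) : GolayPt → ℤ) = 48 ∧
    dotInt (std48 : GolayPt → ℤ) ((std32' - std48 : leechLattice) : GolayPt → ℤ) = -32 := by
  decide +kernel

theorem cases352 {x : GolayPt → ℤ} (hx : x ∈ leechLattice) (hn : sqNorm x = 32)
    (h48 : dotInt x (std48 : GolayPt → ℤ) = 16) (ha : dotInt x (std32' : GolayPt → ℤ) = -8) :
    ∃ o ∈ octads, none ∉ o ∧ some 0 ∈ o ∧ (x = twos o ∨ x = threeVec o (some 0)) := by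
  rw [dot_std48'] at h48
  rw [dotInt_comm, coe_std32', dotInt_four] at ha
  rcases shape32 hx hn with ⟨a, b, hab, hxa, hxb, h0⟩ | ⟨o, ho, h2, h0⟩ | ⟨a, hxa, h1⟩
  · exfalso
    have val : ∀ i, x i = 4 ∨ x i = -4 ∨ x i = 0 := fun i => by
      by_cases h : i = a
      · subst h; omega
      · by_cases h' : i = b
        · subst h'; omega
        · exact Or.inr (Or.inr (h0 i h h'))
    have := val none; have := val (some 0); omega
  · obtain ⟨hle, heq'⟩ := sum_neg_bound h2 h0
    rw [ho.2] at hle heq'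
    push_cast at hle heq'
    have hn' : x none = 0 := by
      by_cases h : (none : GolayPt) ∈ o
      · have := h2 none h
        by_cases h' : (some 0 : GolayPt) ∈ o
        · have := h2 _ h'; omega
        · have := h0 _ h'; omega
      · exact h0 _ h
    have hno : (none : GolayPt) ∉ o := fun h => by have := h2 none h; omega
    have h0o : (some 0 : GolayPt) ∈ o := by_contra fun h => by have := h0 _ h; omega
    exact ⟨o, ho, hno, h0o, Or.inl (heq' (by omega))⟩
  · obtain ⟨N, hN, hval, hiff⟩ := shape3_data hx hxa h1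
    have hsum := sum_shape3 hval
    have hw := code_weights N hN
    simp only [List.mem_cons, List.not_mem_nil, or_false] at hw
    by_cases hna : (none : GolayPt) = a
    · exfalso
      subst hna
      have h10 := h1 (some 0) (by simp)
      have e0 := hval (some 0) (by simp)
      have hm : (none : GolayPt) ∉ N := fun h => by have := hiff.1 h; omega
      have h0N : (some 0 : GolayPt) ∈ N := by_contra fun h => by simp [bit, h] at e0; omega
      have hcpos : 0 < N.card := Finset.card_pos.2 ⟨_, h0N⟩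
      simp only [bit, hm, if_false] at hsum
      omega
    · have hn1 := h1 none hna
      have en := hval none hna
      by_cases h0a : (some 0 : GolayPt) = a
      · subst h0a
        have hnN : (none : GolayPt) ∉ N := fun h => by simp [bit, h] at en; omega
        have h0N : (some 0 : GolayPt) ∈ N := hiff.2 (by omega)
        simp only [bit, h0N, if_true] at hsum
        refine ⟨N, (show N ∈ octads from ⟨hN, by omega⟩), hnN, h0N, Or.inr (funext fun i => ?_)⟩
        by_cases hi : i = some 0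
        · subst hi
          have := hiff.1 h0N
          simp [threeVec, bit, h0N, this]
        · simp [threeVec, hi, hval i hi, bit]
      · exfalso
        have h00 := h1 _ h0a
        have e0 := hval _ h0a
        have hnN : (none : GolayPt) ∈ N := by_contra fun h => by simp [bit, h] at en; omega
        have hcpos : 0 < N.card := Finset.card_pos.2 ⟨_, hnN⟩
        by_cases haN : a ∈ N
        · have := hiff.1 haN
          simp only [bit, haN, if_true] at hsum
          omega
        · have : x a = -3 := by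
            rcases hxa with e | e
            · exact absurd (hiff.2 e) haN
            · exact e
          simp only [bit, haN, if_false] at hsum
          omega

/-- The octads through one of the two points. -/
noncomputable def octOne : Finset (Finset GolayPt) :=
  blocksThrough octads {some 0} \ blocksThrough octads {none, some 0}

theorem mem_octOne {o : Finset GolayPt} : o ∈ octOne ↔ o ∈ octads ∧ none ∉ o ∧ some 0 ∈ o := by
  simp [octOne, mem_blocksThrough, Finset.insert_subset_iff]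
  tauto

theorem card_octOne : octOne.card = 176 := by
  have h1 := M24.card_octadsThrough_mul (s := ({some 0} : Finset GolayPt)) (by simp)
  rw [Finset.card_singleton] at h1
  norm_num [Nat.choose] at h1
  have h2 := card_octPair
  rw [octPair] at h2
  rw [octOne, Finset.card_sdiff_of_subset (fun o ho => ?_)]
  · omega
  · simp only [mem_blocksThrough, Finset.insert_subset_iff] at ho ⊢
    exact ⟨ho.1, ho.2.2⟩

theorem dots352 {o : Finset GolayPt} (ho : o ∈ octads) (hn : none ∉ o) (h0 : some 0 ∈ o) :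
    (dotInt (twos o) (std48 : GolayPt → ℤ) = 16 ∧ dotInt (twos o) (std32' : GolayPt → ℤ) = -8 ∧
      dotInt (std32 : GolayPt → ℤ) (twos o) = 8) ∧
    (dotInt (threeVec o (some 0)) (std48 : GolayPt → ℤ) = 16 ∧
      dotInt (threeVec o (some 0)) (std32' : GolayPt → ℤ) = -8 ∧
      dotInt (std32 : GolayPt → ℤ) (threeVec o (some 0)) = 16) := by
  refine ⟨⟨?_, ?_, ?_⟩, ⟨?_, ?_, ?_⟩⟩
  · rw [dot_std48', sum_twos, ho.2]; simp [twos, bit, hn]
  · rw [dotInt_comm, coe_std32', dotInt_four]; simp [twos, bit, hn, h0]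
  · rw [coe_std32, dotInt_four]; simp [twos, bit, hn, h0]
  · rw [dot_std48', sum_threeVec, ho.2]; simp [threeVec, bit, hn]
  · rw [dotInt_comm, coe_std32', dotInt_four]; simp [threeVec, bit, hn, h0]
  · rw [coe_std32, dotInt_four]; simp [threeVec, bit, hn, h0]

theorem mem_std352 {x : leechLattice} :
    x ∈ hs352 std48 (std32' - std48) ↔
      ∃ o ∈ octOne, (x : GolayPt → ℤ) = twos o ∨ (x : GolayPt → ℤ) = threeVec o (some 0) := by
  rw [mem_hs352_iff, add_sub_cancel, dotInt_comm (std48 : GolayPt → ℤ),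
    dotInt_comm (std32' : GolayPt → ℤ)]
  constructor
  · rintro ⟨hn, h1, h2⟩
    obtain ⟨o, ho, a, b, h⟩ := cases352 x.2 hn h1 h2
    exact ⟨o, mem_octOne.2 ⟨ho, a, b⟩, h⟩
  · rintro ⟨o, ho, h⟩
    obtain ⟨ho, hn, h0⟩ := mem_octOne.1 ho
    obtain ⟨⟨a1, a2, -⟩, b1, b2, -⟩ := dots352 ho hn h0
    rcases h with h | h <;> rw [h]
    · exact ⟨(twos_mem ho).2, a1, a2⟩
    · exact ⟨(threeVec_mem ho h0).2, b1, b2⟩

theorem ncard_std352 : (hs352 std48 (std32' - std48)).ncard = 352 := by
  set A : Finset (GolayPt → ℤ) :=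
    octOne.image twos ∪ octOne.image (fun o => threeVec o (some 0)) with hA
  have hd : Disjoint (octOne.image twos) (octOne.image (fun o => threeVec o (some 0))) := by
    refine Finset.disjoint_left.2 fun x hx hy => ?_
    obtain ⟨o, ho, rfl⟩ := Finset.mem_image.1 hx
    obtain ⟨p, hp, e⟩ := Finset.mem_image.1 hy
    obtain ⟨ho, hn, h0⟩ := mem_octOne.1 ho
    obtain ⟨hp, hpn, hp0⟩ := mem_octOne.1 hp
    have := congrFun e none
    simp [twos, threeVec, bit, hn, hpn] at this
  have hc : A.card = 352 := by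
    rw [hA, Finset.card_union_of_disjoint hd, Finset.card_image_of_injective _ twos_injective,
      Finset.card_image_of_injective _ (threeVec_injective _), card_octOne]
  rw [← hc, ← Set.ncard_coe_finset]
  refine Set.ncard_congr (fun x _ => (x : GolayPt → ℤ)) (fun x hx => ?_)
    (fun x y _ _ h => Subtype.ext h) (fun y hy => ?_)
  · obtain ⟨o, ho, h⟩ := mem_std352.1 hx
    simp only [hA, Finset.coe_union, Finset.coe_image, Set.mem_union, Set.mem_image, Finset.mem_coe]
    rcases h with h | h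
    · exact Or.inl ⟨o, ho, h.symm⟩
    · exact Or.inr ⟨o, ho, h.symm⟩
  · simp only [hA, Finset.coe_union, Finset.coe_image, Set.mem_union, Set.mem_image,
      Finset.mem_coe] at hy
    rcases hy with ⟨o, ho, rfl⟩ | ⟨o, ho, rfl⟩
    · exact ⟨⟨_, (twos_mem (mem_octOne.1 ho).1).1⟩, mem_std352.2 ⟨o, ho, Or.inl rfl⟩, rfl⟩
    · exact ⟨⟨_, (threeVec_mem (mem_octOne.1 ho).1 (mem_octOne.1 ho).2.2).1⟩,
        mem_std352.2 ⟨o, ho, Or.inr rfl⟩, rfl⟩

theorem exists_perm352 {o p : Finset GolayPt} (ho : o ∈ octOne) (hp : p ∈ octOne) :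
    ∃ σ : M24, σ.1 none = none ∧ σ.1 (some 0) = some 0 ∧ σ.1 • o = p := by
  obtain ⟨ho, hn, h0⟩ := mem_octOne.1 ho
  obtain ⟨hp, hpn, hp0⟩ := mem_octOne.1 hp
  have pick : ∀ q : Finset GolayPt, q ∈ octads → some 0 ∈ q → none ∉ q →
      ∃ s : List GolayPt, s.length = 4 ∧ (∀ a ∈ s, a ∈ q) ∧
        (none :: some 0 :: s).Nodup ∧ ¬ ∃ r ∈ octads, ∀ a ∈ none :: some 0 :: s, a ∈ r := by
    intro q hq h0 hn
    obtain ⟨t, ht, htc⟩ := Finset.exists_subset_card_eq (s := q.erase (some 0)) (n := 4)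
      (by rw [Finset.card_erase_of_mem h0, hq.2]; norm_num)
    have hsub : ∀ a ∈ t.toList, a ∈ q := fun a ha =>
      (Finset.mem_erase.1 (ht (Finset.mem_toList.1 ha))).2
    refine ⟨t.toList, by simp [htc], hsub, ?_, ?_⟩
    · simp only [List.nodup_cons, List.mem_cons, Finset.mem_toList, Finset.nodup_toList, and_true,
        not_or]
      exact ⟨⟨by simp, fun h => hn (hsub _ (Finset.mem_toList.2 h))⟩,
        fun h => (Finset.mem_erase.1 (ht h)).1 rfl⟩
    · rintro ⟨r, hr, hall⟩
      have e : q = r := by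
        refine Golay.octad_unique hq hr (s := insert (some 0) t) ?_ ?_ ?_
        · rw [Finset.card_insert_of_notMem fun h => (Finset.mem_erase.1 (ht h)).1 rfl, htc]
        · exact Finset.insert_subset_iff.2 ⟨h0, fun a ha => hsub a (Finset.mem_toList.2 ha)⟩
        · exact Finset.insert_subset_iff.2 ⟨hall _ (by simp), fun a ha => hall _ (by simp [ha])⟩
      exact hn (e ▸ hall none (by simp))
  obtain ⟨s, sl, so, snd, sout⟩ := pick o ho h0 hn
  obtain ⟨t, tl, tp, tnd, tout⟩ := pick p hp hp0 hpn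
  obtain ⟨g, hg, hmap⟩ := M24.exists_map_list_six_out snd tnd (by simp [sl]) (by simp [tl]) sout tout
  simp only [List.map_cons, List.cons.injEq] at hmap
  obtain ⟨e1, e2, e3⟩ := hmap
  refine ⟨⟨g, hg⟩, e1, e2, ?_⟩
  have hsc : (insert (some 0) t.toFinset).card = 5 := by
    have h' := (List.nodup_cons.1 tnd).2
    rw [← List.toFinset_cons, List.toFinset_card_of_nodup h']
    simp [tl]
  refine Golay.octad_unique (Golay.smul_mem_octads hg ho) hp (s := insert (some 0) t.toFinset)
    hsc.ge ?_ ?_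
  · refine Finset.insert_subset_iff.2 ⟨?_, fun a ha => ?_⟩
    · rw [← e2]; exact Finset.smul_mem_smul_finset h0
    · rw [List.mem_toFinset, ← e3, List.mem_map] at ha
      obtain ⟨b, hb, rfl⟩ := ha
      exact Finset.smul_mem_smul_finset (so b hb)
  · exact Finset.insert_subset_iff.2 ⟨hp0, fun a ha => tp a (List.mem_toFinset.1 ha)⟩

theorem class352_transitive {x y : leechLattice} {o p : Finset GolayPt} (ho : o ∈ octOne)
    (hp : p ∈ octOne)
    (h : ((x : GolayPt → ℤ) = twos o ∧ (y : GolayPt → ℤ) = twos p) ∨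
      ((x : GolayPt → ℤ) = threeVec o (some 0) ∧ (y : GolayPt → ℤ) = threeVec p (some 0))) :
    ∃ g : Co0, g • std48 = std48 ∧ g • std32' = std32' ∧ g • x = y := by
  obtain ⟨σ, hn, h0, hop⟩ := exists_perm352 ho hp
  refine ⟨permElt σ, permElt_std48 hn, (permElt_std32 hn h0).2, Subtype.ext (funext fun i => ?_)⟩
  rw [coe_permElt_smul]
  have hb : bit o (σ.1.symm i) = bit p i := by
    have : σ.1.symm i ∈ o ↔ i ∈ p := by rw [← hop, M24.mem_smul_iff, Equiv.Perm.coe_inv]
    simp only [bit, this]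
  rcases h with ⟨ex, ey⟩ | ⟨ex, ey⟩
  · rw [ex, ey]; simp only [twos, hb]
  · rw [ex, ey]
    have : σ.1.symm i = some 0 ↔ i = some 0 := by rw [Equiv.symm_apply_eq, h0]
    simp only [threeVec, hb, this]

/-- The stabiliser of the standard pair is transitive on the 352 vectors. -/
theorem std352_transitive (hu : CodeUnique) {x y : leechLattice}
    (hx : x ∈ hs352 std48 (std32' - std48)) (hy : y ∈ hs352 std48 (std32' - std48)) :
    ∃ g : Co0, g • std48 = std48 ∧ g • std32' = std32' ∧ g • x = y := by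
  obtain ⟨o₀, ho₀⟩ : octOne.Nonempty := Finset.card_pos.1 (by rw [card_octOne]; norm_num)
  obtain ⟨ho, hn, h0⟩ := mem_octOne.1 ho₀
  have hcard : o₀.card = 8 := ho.2
  obtain ⟨j, hjn, hj0, hjo⟩ : ∃ j, j ≠ none ∧ j ≠ some 0 ∧ j ∉ o₀ := by
    obtain ⟨j, hj⟩ : ((insert (none : GolayPt) (insert (some 0) o₀))ᶜ).Nonempty := by
      rw [← Finset.card_pos, Finset.card_compl, card_pt]
      have := Finset.card_insert_le (none : GolayPt) (insert (some 0) o₀)
      have := Finset.card_insert_le (some 0 : GolayPt) o₀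
      omega
    simp only [Finset.mem_compl, Finset.mem_insert, not_or] at hj
    exact ⟨j, hj⟩
  set t : leechLattice := ⟨twos o₀, (twos_mem ho).1⟩ with ht
  set yv : leechLattice := ⟨neg3 j, (neg3_mem j).1⟩ with hyv
  have hyc : yv ∈ hsConfig std48 (std32' - std48) := mem_std_config.2 (by
    simp only [Finset.coe_insert, Finset.coe_union, Set.mem_insert_iff, Set.mem_union,
      Finset.mem_coe]
    exact Or.inr (Or.inr (mem_hsPoints.2 ⟨j, hjn, hj0, rfl⟩)))
  have hsc : std32 ∈ hsConfig std48 (std32' - std48) := mem_std_config.2 (by simp)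
  obtain ⟨g, g1, g2, g3⟩ := hsConfig_transitive hu sqNorm_std48 std_pair352.1 std_pair352.2 hyc hsc
  have g2' : g • std32' = std32' := by
    rw [smul_sub', g1] at g2; exact sub_left_inj.1 g2
  have hgt : g • t ∈ hs352 std48 (std32' - std48) := by
    have h := (smul_mem_hs352 g).2 (mem_std352.2 ⟨o₀, ho₀, Or.inl rfl⟩ : t ∈ hs352 std48 (std32' - std48))
    rwa [g1, g2] at h
  have hd : dotInt (std32 : GolayPt → ℤ) ((g • t : leechLattice) : GolayPt → ℤ) = 16 := by
    rw [← g3, dotInt_smul, hyv, ht, dotInt_comm, dotInt_twos]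
    rw [Finset.sum_congr rfl (g := fun _ => (1 : ℤ)) fun i hi => by
      simp [neg3, show i ≠ j from fun e => hjo (e ▸ hi)]]
    simp [hcard]
  obtain ⟨p, hp, hpe⟩ := mem_std352.1 hgt
  have hp3 : ((g • t : leechLattice) : GolayPt → ℤ) = threeVec p (some 0) := by
    refine hpe.resolve_left fun e => ?_
    rw [e, (dots352 (mem_octOne.1 hp).1 (mem_octOne.1 hp).2.1 (mem_octOne.1 hp).2.2).1.2.2] at hd
    norm_num at hd
  have toT : ∀ x ∈ hs352 std48 (std32' - std48),
      ∃ h : Co0, h • std48 = std48 ∧ h • std32' = std32' ∧ h • x = t := by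
    intro x hx
    obtain ⟨q, hq, hqe | hqe⟩ := mem_std352.1 hx
    · exact class352_transitive hq ho₀ (Or.inl ⟨hqe, rfl⟩)
    · obtain ⟨h, a1, a2, a3⟩ := class352_transitive hq hp (Or.inr ⟨hqe, hp3⟩)
      refine ⟨g⁻¹ * h, ?_, ?_, ?_⟩
      · rw [mul_smul, a1, inv_smul_eq_iff, g1]
      · rw [mul_smul, a2, inv_smul_eq_iff, g2']
      · rw [mul_smul, a3, inv_smul_smul]
  obtain ⟨h, a1, a2, a3⟩ := toT x hx
  obtain ⟨k, b1, b2, b3⟩ := toT y hy
  refine ⟨k⁻¹ * h, ?_, ?_, ?_⟩
  · rw [mul_smul, a1, inv_smul_eq_iff, b1]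
  · rw [mul_smul, a2, inv_smul_eq_iff, b2]
  · rw [mul_smul, a3, ← b3, inv_smul_smul]

variable {v w : leechLattice}

theorem hs352_ncard (hu : CodeUnique) (hv : sqNorm (v : GolayPt → ℤ) = 48)
    (hw : sqNorm (w : GolayPt → ℤ) = 48)
    (hvw : dotInt (v : GolayPt → ℤ) (w : GolayPt → ℤ) = -32) : (hs352 v w).ncard = 352 := by
  obtain ⟨g, hg1, hg2⟩ := exists_smul_hs hu hv hw hvw
  rw [← ncard_std352]
  refine Set.ncard_congr (fun x _ => g • x) (fun x hx => ?_) (fun x y _ _ h => smul_left_cancel g h)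
    (fun y hy => ⟨g⁻¹ • y, ?_, smul_inv_smul g y⟩)
  · have := (smul_mem_hs352 g).2 hx
    rwa [hg1, hg2] at this
  · rw [← smul_mem_hs352 g, hg1, hg2, smul_inv_smul]
    exact hy

theorem hs352_transitive (hu : CodeUnique) (hv : sqNorm (v : GolayPt → ℤ) = 48)
    (hw : sqNorm (w : GolayPt → ℤ) = 48)
    (hvw : dotInt (v : GolayPt → ℤ) (w : GolayPt → ℤ) = -32) {x x' : leechLattice}
    (hx : x ∈ hs352 v w) (hx' : x' ∈ hs352 v w) :
    ∃ g : Co0, g • v = v ∧ g • w = w ∧ g • x = x' := by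
  obtain ⟨g, hg1, hg2⟩ := exists_smul_hs hu hv hw hvw
  have mv : ∀ z ∈ hs352 v w, g • z ∈ hs352 std48 (std32' - std48) := fun z hz => by
    have := (smul_mem_hs352 g).2 hz
    rwa [hg1, hg2] at this
  obtain ⟨h, h1, h2, h3⟩ := std352_transitive hu (mv x hx) (mv x' hx')
  refine ⟨g⁻¹ * h * g, ?_, ?_, ?_⟩
  · rw [mul_smul, mul_smul, hg1, h1, inv_smul_eq_iff, hg1]
  · rw [mul_smul, mul_smul, hg2, smul_sub', h1, h2, inv_smul_eq_iff, hg2]
  · rw [mul_smul, mul_smul, h3, inv_smul_smul]

theorem neg_sub_mem_hs352 (hw : sqNorm (w : GolayPt → ℤ) = 48)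
    (hvw : dotInt (v : GolayPt → ℤ) (w : GolayPt → ℤ) = -32) {x : leechLattice}
    (hx : x ∈ hs352 v w) : -w - x ∈ hs352 v w := by
  obtain ⟨h1, h2, h3⟩ := hx
  have e : ((-w - x : leechLattice) : GolayPt → ℤ) = -((w : GolayPt → ℤ) + (x : GolayPt → ℤ)) := by
    rw [AddSubgroup.coe_sub, AddSubgroup.coe_neg]; abel
  refine ⟨?_, ?_, ?_⟩
  · rw [e, sqNorm_neg, sqNorm_add, hw, h1, h3]; norm_num
  · rw [e, dotInt_comm, dotInt_neg_left', dotInt_add_left', dotInt_comm, hvw, dotInt_comm, h2]; norm_num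
  · rw [e, dotInt_comm, dotInt_neg_left', dotInt_add_left', dotInt_self, hw, dotInt_comm, h3]; norm_num

theorem card_stab352 (hu : CodeUnique) (hv : sqNorm (v : GolayPt → ℤ) = 48)
    (hw : sqNorm (w : GolayPt → ℤ) = 48)
    (hvw : dotInt (v : GolayPt → ℤ) (w : GolayPt → ℤ) = -32) {x : leechLattice}
    (hx : x ∈ hs352 v w) :
    Nat.card ↥(MulAction.stabilizer Co0 v ⊓ MulAction.stabilizer Co0 w ⊓
      MulAction.stabilizer Co0 x) = 126000 := by
  set H := MulAction.stabilizer Co0 v ⊓ MulAction.stabilizer Co0 w with hH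
  have ho : MulAction.orbit H x = hs352 v w := by
    ext y
    constructor
    · rintro ⟨g, rfl⟩
      have h := (smul_mem_hs352 (g : Co0)).2 hx
      rwa [(g.2.1 : (g : Co0) • v = v), (g.2.2 : (g : Co0) • w = w)] at h
    · intro hy
      obtain ⟨g, g1, g2, g3⟩ := hs352_transitive hu hv hw hvw hx hy
      exact ⟨⟨g, g1, g2⟩, g3⟩
  have h := Subgroup.card_mul_index (MulAction.stabilizer H x)
  rw [MulAction.index_stabilizer, ho, hs352_ncard hu hv hw hvw, hH, card_stab_hs hu hv hw hvw] at h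
  rw [Nat.card_congr
    ({ toFun := fun g => ⟨⟨g.1, g.2.1⟩, g.2.2⟩
       invFun := fun g => ⟨g.1.1, g.1.2, g.2⟩
       left_inv := fun g => rfl
       right_inv := fun g => rfl } :
      ↥(H ⊓ MulAction.stabilizer Co0 x) ≃ MulAction.stabilizer H x)]
  exact Nat.eq_of_mul_eq_mul_right (by norm_num : 0 < 352) (h.trans (by norm_num))

end Cfsg.Agent.SporStruct
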