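import Cfsg.Agent.SporStruct.HSU35Checks
import Cfsg.Agent.SporStruct.LeechHS352
import Cfsg.Agent.PSU35.Cosets

/-!
The stabiliser of a vector among the 352 in the Higman-Sims group is `PSU₃(5)`.
-/

set_option autoImplicit false

namespace Cfsg.Agent.SporStruct.HSU35

open Cfsg Cfsg.Agent.Leech CoMatrix
open Cfsg.Agent.Golay (pt idx idx_lt pt_idx idx_pt)

/-- The vector. -/
def base : leechLattice :=
  ⟨vecP baseL, (inLB_vecL _).1 (by rw [vecL_vecP vert_check.2.1]; exact vert_check.2.2.2)⟩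

theorem vecL_base : vecL (base : GolayPt → ℤ) = baseL := vecL_vecP vert_check.2.1

theorem getD_mem (j : Fin 50) : vertL.getD j.val [] ∈ vertL := by
  rw [List.getD_eq_getElem _ _ (by rw [vert_check.1]; exact j.isLt)]
  exact List.getElem_mem _

/-- The vertices. -/
def vert (j : Fin 50) : leechLattice :=
  ⟨vecP (vertL.getD j.val []), (inLB_vecL _).1 (by
    rw [vecL_vecP (vert_check.2.2.1 _ (getD_mem j)).1]
    exact (vert_check.2.2.1 _ (getD_mem j)).2)⟩

theorem vecL_vert (j : Fin 50) : vecL (vert j : GolayPt → ℤ) = vertL.getD j.val [] :=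
  vecL_vecP (vert_check.2.2.1 _ (getD_mem j)).1

theorem vert_injective : Function.Injective vert := by
  intro a b h
  have e := congrArg (fun v : leechLattice => vecL (v : GolayPt → ℤ)) h
  simp only [vecL_vert] at e
  rw [List.getD_eq_getElem _ _ (by rw [vert_check.1]; exact a.isLt),
    List.getD_eq_getElem _ _ (by rw [vert_check.1]; exact b.isLt)] at e
  exact Fin.ext (vert_nodup.getElem_inj_iff.1 e)

theorem base_mem : base ∈ hs352 std48 (std32' - std48) := by
  rw [mem_hs352_iff, add_sub_cancel]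
  show sqNorm (vecP baseL) = 32 ∧ dotInt (std48 : GolayPt → ℤ) (vecP baseL) = 16 ∧
    dotInt (std32' : GolayPt → ℤ) (vecP baseL) = -8
  decide +kernel

/-- The standard stabiliser. -/
def stab0 : Subgroup Co0 :=
  MulAction.stabilizer Co0 std48 ⊓ MulAction.stabilizer Co0 (std32' - std48) ⊓
    MulAction.stabilizer Co0 base

theorem exists_gen (i : Fin 6) : ∃ g : Co0, g ∈ stab0 ∧
    ∀ j, g • vert j = vert (PSU35.Cosets.permE i j) := by
  obtain ⟨g, -, hg⟩ := exists_elem_fix (tab_check i).1 (tab_check i).2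
  have hfix : ∀ v : leechLattice, vecL (v : GolayPt → ℤ) ∈ fixL → g • v = v := fun v hv =>
    hg v v (fix_check i _ hv)
  have h1 : g • std48 = std48 := hfix _ (by rw [vecL_fix]; simp)
  have h2 : g • std32' = std32' := hfix _ (by rw [vecL_fix]; simp)
  have h3 : g • base = base := hfix _ (by rw [vecL_fix, vecL_base]; simp)
  refine ⟨g, ⟨⟨h1, ?_⟩, h3⟩, fun j => hg _ _ ?_⟩
  · show g • (std32' - std48) = _
    rw [smul_sub', h1, h2]
  · rw [vecL_vert, vecL_vert]
    exact vert_img_check i j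

theorem exists_iso_std {F : Type} [Field F] [Fintype F] (hF : Fintype.card F = 5 ^ 2) :
    Nonempty (↥stab0 ≃* Cfsg.PSU 3 F 5) := by
  classical
  obtain ⟨hG, ψ, hψi, hψr⟩ := PSU35.Cosets.exists_perm_hom (F := F) hF
  choose g hgs hgv using exists_gen
  have hS : Nat.card stab0 = 126000 :=
    card_stab352 codeUnique sqNorm_std48 std_pair352.1 std_pair352.2 base_mem
  set K : Subgroup Co0 := Subgroup.closure (Set.range g) with hK
  have hKS : K ≤ stab0 := (Subgroup.closure_le _).2 (by rintro _ ⟨i, rfl⟩; exact hgs i)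
  have hperm : ∀ x ∈ K, ∃ p : Equiv.Perm (Fin 50), ∀ j, x • vert j = vert (p j) := by
    intro x hx
    induction hx using Subgroup.closure_induction'' with
    | mem x hx => obtain ⟨i, rfl⟩ := hx; exact ⟨_, hgv i⟩
    | inv_mem x hx =>
      obtain ⟨i, rfl⟩ := hx
      exact ⟨(PSU35.Cosets.permE i).symm, fun j => by
        rw [inv_smul_eq_iff, hgv, Equiv.apply_symm_apply]⟩
    | one => exact ⟨1, fun j => one_smul _ _⟩
    | mul x y _ _ hx hy =>
      obtain ⟨p, hp⟩ := hx
      obtain ⟨q, hq⟩ := hy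
      exact ⟨p * q, fun j => by rw [mul_smul, hq, hp]; rfl⟩
  choose p hp using hperm
  let χ : K →* Equiv.Perm (Fin 50) :=
    MonoidHom.mk' (fun x => p x.1 x.2) fun x y => Equiv.ext fun j => vert_injective (by
      rw [← hp _ (x * y).2, Equiv.Perm.mul_apply, ← hp _ x.2, ← hp _ y.2, ← mul_smul]
      rfl)
  have hχ : ∀ i, χ ⟨g i, Subgroup.subset_closure ⟨i, rfl⟩⟩ = PSU35.Cosets.permE i := fun i =>
    Equiv.ext fun j => vert_injective (by
      show vert (p _ _ j) = _
      rw [← hp, hgv])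
  have hle : Subgroup.closure (Set.range PSU35.Cosets.permE) ≤ χ.range := by
    rw [Subgroup.closure_le]
    rintro _ ⟨i, rfl⟩
    exact ⟨_, hχ i⟩
  have hc : Nat.card ψ.range = 126000 := by
    rw [Nat.card_congr (MonoidHom.ofInjective hψi).symm.toEquiv, hG]
  have hKfin : Finite K := by
    have : Finite stab0 := Nat.finite_of_card_ne_zero (by rw [hS]; norm_num)
    exact Finite.of_injective (Subgroup.inclusion hKS) (Subgroup.inclusion_injective hKS)
  have hSfin : Finite stab0 := Nat.finite_of_card_ne_zero (by rw [hS]; norm_num)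
  have h1 : 126000 ≤ Nat.card χ.range := hc ▸ Subgroup.card_le_of_le (hψr ▸ hle)
  have h2 : Nat.card χ.range ≤ Nat.card K :=
    Nat.card_le_card_of_surjective χ.rangeRestrict χ.rangeRestrict_surjective
  have h3 : Nat.card K ≤ 126000 := hS ▸ Subgroup.card_le_of_le hKS
  have hKeq : K = stab0 := Subgroup.eq_of_le_of_card_ge hKS (by omega)
  have hχb : Function.Bijective χ.rangeRestrict := by
    rw [Nat.bijective_iff_surjective_and_card]
    exact ⟨χ.rangeRestrict_surjective, by omega⟩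
  have hreq : ψ.range = χ.range := Subgroup.eq_of_le_of_card_ge (hψr ▸ hle) (by omega)
  exact ⟨(MulEquiv.subgroupCongr hKeq.symm).trans <| (MulEquiv.ofBijective _ hχb).trans <|
    (MulEquiv.subgroupCongr hreq.symm).trans (MonoidHom.ofInjective hψi).symm⟩

theorem exists_iso {v w x : leechLattice} (hv : sqNorm (v : GolayPt → ℤ) = 48)
    (hw : sqNorm (w : GolayPt → ℤ) = 48)
    (hvw : dotInt (v : GolayPt → ℤ) (w : GolayPt → ℤ) = -32) (hx : x ∈ hs352 v w)
    {F : Type} [Field F] [Fintype F] (hF : Fintype.card F = 5 ^ 2) :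
    Nonempty (↥(MulAction.stabilizer Co0 v ⊓ MulAction.stabilizer Co0 w ⊓
      MulAction.stabilizer Co0 x) ≃* Cfsg.PSU 3 F 5) := by
  obtain ⟨g, g1, g2⟩ := exists_smul_hs codeUnique hv hw hvw
  have hgx : g • x ∈ hs352 std48 (std32' - std48) := by
    have h := (smul_mem_hs352 g).2 hx
    rwa [g1, g2] at h
  obtain ⟨k, k1, k2, k3⟩ := std352_transitive codeUnique hgx base_mem
  obtain ⟨e⟩ := exists_iso_std (F := F) hF
  set c := k * g with hc
  have c1 : c • v = std48 := by rw [hc, mul_smul, g1, k1]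
  have c2 : c • w = std32' - std48 := by rw [hc, mul_smul, g2, smul_sub', k1, k2]
  have c3 : c • x = base := by rw [hc, mul_smul, k3]
  have hmap : (MulAction.stabilizer Co0 v ⊓ MulAction.stabilizer Co0 w ⊓
      MulAction.stabilizer Co0 x).map (MulAut.conj c).toMonoidHom = stab0 := by
    ext y
    simp only [Subgroup.mem_map, MulEquiv.coe_toMonoidHom, MulAut.conj_apply, stab0,
      Subgroup.mem_inf, MulAction.mem_stabilizer_iff]
    constructor
    · rintro ⟨z, ⟨⟨z1, z2⟩, z3⟩, rfl⟩
      refine ⟨⟨?_, ?_⟩, ?_⟩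
      · rw [← c1, mul_smul, mul_smul, inv_smul_smul, z1]
      · rw [← c2, mul_smul, mul_smul, inv_smul_smul, z2]
      · rw [← c3, mul_smul, mul_smul, inv_smul_smul, z3]
    · rintro ⟨⟨y1, y2⟩, y3⟩
      refine ⟨c⁻¹ * y * c, ⟨⟨?_, ?_⟩, ?_⟩, by group⟩
      · rw [mul_smul, mul_smul, c1, y1, inv_smul_eq_iff, c1]
      · rw [mul_smul, mul_smul, c2, y2, inv_smul_eq_iff, c2]
      · rw [mul_smul, mul_smul, c3, y3, inv_smul_eq_iff, c3]
  exact ⟨((Subgroup.equivMapOfInjective _ _ (MulAut.conj c).injective).trans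
    (MulEquiv.subgroupCongr hmap)).trans e⟩

end Cfsg.Agent.SporStruct.HSU35
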