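import Cfsg.Agent.Lib.Golay.Simple

/-!
Tables for generators of HS, McL, Co3 and Co2 inside Co0.
-/

set_option autoImplicit false

namespace Cfsg.Agent.SporStruct.OuterData

/-- The third generator (hs). -/
def hsC : List (List ℤ) := [
    [6, 0, 0, 0, 0, 0, 0, 0, 2, 2, 0, 0, 2, 2, 0, 2, 2, 0, 0, 0, 0, 0, 0, -2],
    [0, -2, 2, 2, 2, 2, 2, -2, 0, 0, -2, -2, 0, 0, 2, 0, 0, -2, 2, 2, 2, 2, -2, 0],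
    [0, 2, -2, 2, 2, 2, 2, 2, 0, 0, 2, -2, 0, 0, -2, 0, 0, 2, 2, 2, -2, -2, -2, 0],
    [2, 0, 0, 0, 0, 0, 0, 0, -2, -2, 0, 0, -2, -2, 0, 6, -2, 0, 0, 0, 0, 0, 0, 2],
    [0, 2, 2, 2, -2, -2, 2, 2, 0, 0, 2, 2, 0, 0, 2, 0, 0, -2, 2, -2, 2, -2, -2, 0],
    [2, 0, 0, 0, 0, 0, 0, 0, -2, 6, 0, 0, -2, -2, 0, -2, -2, 0, 0, 0, 0, 0, 0, 2],
    [0, 2, 2, 2, 2, 2, -2, 2, 0, 0, -2, 2, 0, 0, -2, 0, 0, -2, 2, -2, -2, 2, 2, 0],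
    [2, 0, 0, 0, 0, 0, 0, 0, -2, -2, 0, 0, -2, 6, 0, -2, -2, 0, 0, 0, 0, 0, 0, 2],
    [0, -2, 2, -2, -2, 2, 2, 2, 0, 0, 2, -2, 0, 0, 2, 0, 0, 2, 2, -2, -2, 2, 2, 0],
    [0, -2, -2, -2, 2, -2, 2, 2, 0, 0, 2, 2, 0, 0, -2, 0, 0, -2, 2, 2, 2, 2, 2, 0],
    [2, 0, 0, 0, 0, 0, 0, 0, -2, -2, 0, 0, -2, -2, 0, -2, 6, 0, 0, 0, 0, 0, 0, 2],
    [0, 2, -2, 2, -2, -2, -2, 2, 0, 0, -2, -2, 0, 0, 2, 0, 0, 2, 2, 2, 2, 2, 2, 0],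
    [0, 2, 2, -2, 2, 2, -2, 2, 0, 0, 2, -2, 0, 0, 2, 0, 0, -2, -2, 2, 2, -2, 2, 0],
    [0, 2, 2, -2, -2, 2, -2, -2, 0, 0, 2, 2, 0, 0, -2, 0, 0, 2, 2, 2, 2, 2, -2, 0],
    [0, -2, 2, 2, -2, 2, 2, 2, 0, 0, -2, 2, 0, 0, -2, 0, 0, 2, -2, 2, 2, -2, 2, 0],
    [0, 2, 2, -2, 2, -2, 2, -2, 0, 0, -2, 2, 0, 0, 2, 0, 0, 2, 2, 2, -2, -2, 2, 0],
    [0, 2, -2, -2, 2, 2, 2, 2, 0, 0, -2, 2, 0, 0, 2, 0, 0, 2, -2, -2, 2, 2, -2, 0],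
    [0, 2, -2, 2, -2, 2, 2, -2, 0, 0, 2, 2, 0, 0, 2, 0, 0, -2, -2, 2, -2, 2, 2, 0],
    [0, 2, 2, 2, 2, -2, 2, -2, 0, 0, 2, -2, 0, 0, -2, 0, 0, 2, -2, -2, 2, 2, 2, 0],
    [0, -2, -2, 2, 2, 2, -2, -2, 0, 0, 2, 2, 0, 0, 2, 0, 0, 2, 2, -2, 2, -2, 2, 0],
    [2, 0, 0, 0, 0, 0, 0, 0, 6, -2, 0, 0, -2, -2, 0, -2, -2, 0, 0, 0, 0, 0, 0, 2],
    [2, 0, 0, 0, 0, 0, 0, 0, -2, -2, 0, 0, 6, -2, 0, -2, -2, 0, 0, 0, 0, 0, 0, 2],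
    [0, -2, 2, 2, 2, -2, -2, 2, 0, 0, 2, 2, 0, 0, 2, 0, 0, 2, -2, 2, -2, 2, -2, 0],
    [-2, 0, 0, 0, 0, 0, 0, 0, 2, 2, 0, 0, 2, 2, 0, 2, 2, 0, 0, 0, 0, 0, 0, 6]]
/-- The outer element (hs). -/
def hsO : List (List ℤ) := [
    [0, 0, 0, 0, 0, 0, 0, 0, 0, 0, 0, 0, 0, 0, 0, 0, 0, 0, 0, 0, 0, 0, 0, -8],
    [0, 0, 0, 0, 0, 0, 0, 0, 0, 0, 0, 0, 0, 0, 0, 0, 0, 0, 0, 0, 0, 0, -8, 0],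
    [0, 0, 0, 0, 0, 0, 0, 0, 0, 0, 0, -8, 0, 0, 0, 0, 0, 0, 0, 0, 0, 0, 0, 0],
    [0, 0, 0, 0, 0, 0, 0, 0, 0, 0, 0, 0, 0, 0, 0, -8, 0, 0, 0, 0, 0, 0, 0, 0],
    [0, 0, 0, 0, 0, 0, 0, 0, 0, 0, 0, 0, 0, 0, 0, 0, 0, -8, 0, 0, 0, 0, 0, 0],
    [0, 0, 0, 0, 0, 0, 0, 0, 0, -8, 0, 0, 0, 0, 0, 0, 0, 0, 0, 0, 0, 0, 0, 0],
    [0, 0, 0, 0, 0, 0, 0, 0, 0, 0, 0, 0, 0, 0, 0, 0, 0, 0, 0, -8, 0, 0, 0, 0],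
    [0, 0, 0, 0, 0, 0, 0, 0, 0, 0, 0, 0, 0, -8, 0, 0, 0, 0, 0, 0, 0, 0, 0, 0],
    [0, 0, 0, 0, 0, 0, 0, 0, 0, 0, 0, 0, 0, 0, 0, 0, 0, 0, 0, 0, -8, 0, 0, 0],
    [0, 0, 0, 0, 0, -8, 0, 0, 0, 0, 0, 0, 0, 0, 0, 0, 0, 0, 0, 0, 0, 0, 0, 0],
    [0, 0, 0, 0, 0, 0, 0, 0, 0, 0, 0, 0, 0, 0, 0, 0, -8, 0, 0, 0, 0, 0, 0, 0],
    [0, 0, -8, 0, 0, 0, 0, 0, 0, 0, 0, 0, 0, 0, 0, 0, 0, 0, 0, 0, 0, 0, 0, 0],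
    [0, 0, 0, 0, 0, 0, 0, 0, 0, 0, 0, 0, 0, 0, 0, 0, 0, 0, 0, 0, 0, -8, 0, 0],
    [0, 0, 0, 0, 0, 0, 0, -8, 0, 0, 0, 0, 0, 0, 0, 0, 0, 0, 0, 0, 0, 0, 0, 0],
    [0, 0, 0, 0, 0, 0, 0, 0, 0, 0, 0, 0, 0, 0, 0, 0, 0, 0, -8, 0, 0, 0, 0, 0],
    [0, 0, 0, -8, 0, 0, 0, 0, 0, 0, 0, 0, 0, 0, 0, 0, 0, 0, 0, 0, 0, 0, 0, 0],
    [0, 0, 0, 0, 0, 0, 0, 0, 0, 0, -8, 0, 0, 0, 0, 0, 0, 0, 0, 0, 0, 0, 0, 0],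
    [0, 0, 0, 0, -8, 0, 0, 0, 0, 0, 0, 0, 0, 0, 0, 0, 0, 0, 0, 0, 0, 0, 0, 0],
    [0, 0, 0, 0, 0, 0, 0, 0, 0, 0, 0, 0, 0, 0, -8, 0, 0, 0, 0, 0, 0, 0, 0, 0],
    [0, 0, 0, 0, 0, 0, -8, 0, 0, 0, 0, 0, 0, 0, 0, 0, 0, 0, 0, 0, 0, 0, 0, 0],
    [0, 0, 0, 0, 0, 0, 0, 0, -8, 0, 0, 0, 0, 0, 0, 0, 0, 0, 0, 0, 0, 0, 0, 0],
    [0, 0, 0, 0, 0, 0, 0, 0, 0, 0, 0, 0, -8, 0, 0, 0, 0, 0, 0, 0, 0, 0, 0, 0],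
    [0, -8, 0, 0, 0, 0, 0, 0, 0, 0, 0, 0, 0, 0, 0, 0, 0, 0, 0, 0, 0, 0, 0, 0],
    [-8, 0, 0, 0, 0, 0, 0, 0, 0, 0, 0, 0, 0, 0, 0, 0, 0, 0, 0, 0, 0, 0, 0, 0]]
/-- Tables of permutations in terms of the generators (hs). -/
def hsPs : List (List ℕ) := [
    [0, 2, 4, 6, 8, 10, 12, 14, 16, 18, 20, 22, 1, 3, 5, 7, 9, 11, 13, 15, 17, 19, 21, 23],
    [0, 18, 6, 3, 2, 21, 1, 5, 16, 12, 7, 19, 8, 9, 17, 15, 13, 11, 4, 22, 10, 20, 14, 23],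
    [0, 9, 15, 11, 12, 22, 21, 7, 5, 20, 1, 3, 19, 13, 4, 2, 8, 18, 6, 14, 10, 17, 16, 23],
    [0, 16, 17, 12, 3, 18, 21, 1, 7, 19, 11, 6, 13, 4, 22, 9, 10, 14, 5, 20, 2, 8, 15, 23]]
/-- Their words (hs). -/
def hsWs : List (List ℕ) := [
    [0],
    [1],
    [2, 2, 2, 2, 2, 2, 2, 2, 0, 2, 0, 2, 2, 2],
    [2, 2, 2, 2, 2, 2, 2, 2, 2, 2, 2, 2, 0, 2, 0, 1, 1, 0, 2]]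
/-- The word for the second generator of the frame stabiliser (hs). -/
def hsSlp : List ℕ := [2, 3, 1, 2, 0, 1, 3, 0, 1]
/-- Relations (hs). -/
def hsRel : List (List ℕ × ℕ) := [([0, 2], 8), ([0, 0, 2], 10)]
/-- The images of the frame vector under the centraliser (hs). -/
def hsXs : List (List ℤ) := [
    [0, 0, 0, 0, 0, 0, 0, 0, 0, 0, 0, 0, 0, 0, 0, 0, 0, 0, 0, 0, 0, 0, 0, 8],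
    [-2, 0, 0, 0, 0, 0, 0, 0, 2, 2, 0, 0, 2, 2, 0, 2, 2, 0, 0, 0, 0, 0, 0, 6],
    [-3, 1, 1, -3, 1, 1, 1, 1, 1, 1, 1, 1, 1, 1, 1, 1, 1, 1, 1, 1, 1, 1, 1, 5],
    [-3, 1, 1, 1, 1, 1, 1, 1, 1, 1, 1, 1, 1, 1, 1, -3, 1, 1, 1, 1, 1, 1, 1, 5],
    [-2, 0, 0, 2, 0, 2, 0, 2, 0, 0, 2, 0, 0, 0, 0, 0, 0, 0, 0, 0, 2, 2, 0, 6]]
/-- Words with distinct images of the frame vector (hs). -/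
def hsOrb : List (List ℕ) := [
    [],
    [2]]

/-- The third generator (mc). -/
def mcC : List (List ℤ) := [
    [6, 0, 0, 0, 0, 0, 0, 0, -2, -2, 0, 0, -2, -2, 0, 2, -2, 0, 0, 0, 0, 0, 0, 2],
    [0, -2, 2, -2, 2, 2, 2, -2, 0, 0, -2, 2, 0, 0, -2, 0, 0, 2, 2, -2, 2, 2, 2, 0],
    [0, 2, -2, -2, 2, 2, 2, 2, 0, 0, 2, 2, 0, 0, 2, 0, 0, -2, 2, -2, -2, -2, 2, 0],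
    [2, 0, 0, 0, 0, 0, 0, 0, 2, 2, 0, 0, 2, 2, 0, 6, 2, 0, 0, 0, 0, 0, 0, -2],
    [0, 2, 2, -2, -2, -2, 2, 2, 0, 0, 2, -2, 0, 0, -2, 0, 0, 2, 2, 2, 2, -2, 2, 0],
    [-2, 0, 0, 0, 0, 0, 0, 0, -2, 6, 0, 0, -2, -2, 0, 2, -2, 0, 0, 0, 0, 0, 0, 2],
    [0, 2, 2, -2, 2, 2, -2, 2, 0, 0, -2, -2, 0, 0, 2, 0, 0, 2, 2, 2, -2, 2, -2, 0],
    [-2, 0, 0, 0, 0, 0, 0, 0, -2, -2, 0, 0, -2, 6, 0, 2, -2, 0, 0, 0, 0, 0, 0, 2],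
    [0, -2, 2, 2, -2, 2, 2, 2, 0, 0, 2, 2, 0, 0, -2, 0, 0, -2, 2, 2, -2, 2, -2, 0],
    [0, -2, -2, 2, 2, -2, 2, 2, 0, 0, 2, -2, 0, 0, 2, 0, 0, 2, 2, -2, 2, 2, -2, 0],
    [-2, 0, 0, 0, 0, 0, 0, 0, -2, -2, 0, 0, -2, -2, 0, 2, 6, 0, 0, 0, 0, 0, 0, 2],
    [0, -2, 2, 2, 2, 2, 2, -2, 0, 0, 2, -2, 0, 0, 2, 0, 0, 2, -2, 2, -2, -2, 2, 0],
    [0, 2, 2, 2, 2, 2, -2, 2, 0, 0, 2, 2, 0, 0, -2, 0, 0, 2, -2, -2, 2, -2, -2, 0],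
    [0, 2, 2, 2, -2, 2, -2, -2, 0, 0, 2, -2, 0, 0, 2, 0, 0, -2, 2, -2, 2, 2, 2, 0],
    [0, 2, -2, 2, 2, -2, -2, -2, 0, 0, 2, 2, 0, 0, -2, 0, 0, 2, 2, 2, -2, 2, 2, 0],
    [0, -2, -2, -2, -2, 2, -2, 2, 0, 0, 2, 2, 0, 0, 2, 0, 0, 2, -2, 2, 2, 2, 2, 0],
    [0, 2, -2, 2, 2, 2, 2, 2, 0, 0, -2, -2, 0, 0, -2, 0, 0, -2, -2, 2, 2, 2, 2, 0],
    [0, -2, 2, 2, 2, -2, -2, 2, 0, 0, -2, 2, 0, 0, 2, 0, 0, -2, 2, 2, 2, -2, 2, 0],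
    [0, 2, 2, -2, 2, -2, 2, -2, 0, 0, 2, 2, 0, 0, 2, 0, 0, -2, -2, 2, 2, 2, -2, 0],
    [0, 2, 2, 2, -2, -2, 2, 2, 0, 0, -2, 2, 0, 0, 2, 0, 0, 2, -2, -2, -2, 2, 2, 0],
    [-2, 0, 0, 0, 0, 0, 0, 0, 6, -2, 0, 0, -2, -2, 0, 2, -2, 0, 0, 0, 0, 0, 0, 2],
    [-2, 0, 0, 0, 0, 0, 0, 0, -2, -2, 0, 0, 6, -2, 0, 2, -2, 0, 0, 0, 0, 0, 0, 2],
    [0, 2, -2, 2, -2, 2, 2, -2, 0, 0, -2, 2, 0, 0, 2, 0, 0, 2, 2, 2, 2, -2, -2, 0],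
    [2, 0, 0, 0, 0, 0, 0, 0, 2, 2, 0, 0, 2, 2, 0, -2, 2, 0, 0, 0, 0, 0, 0, 6]]
/-- The outer element (mc). -/
def mcO : List (List ℤ) := [
    [-4, 0, 0, 0, 0, 2, 0, 2, 0, 0, 2, 2, 0, 0, 2, 2, 0, 2, 0, 2, 2, 2, 2, -2],
    [0, -4, 0, 0, 0, 2, 0, -2, 0, 0, -2, -2, 0, 0, 2, 2, 0, -2, 0, 2, 2, 2, -2, 2],
    [0, 0, -4, 0, 0, 2, 0, 2, 0, 0, 2, -2, 0, 0, -2, 2, 0, 2, 0, 2, -2, -2, -2, 2],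
    [0, 0, 0, -4, 0, -2, 0, -2, 0, 0, -2, 2, 0, 0, 2, 2, 0, 2, 0, 2, -2, -2, 2, 2],
    [0, 0, 0, 0, -4, -2, 0, 2, 0, 0, 2, 2, 0, 0, 2, 2, 0, -2, 0, -2, 2, -2, -2, 2],
    [2, 2, 2, -2, -2, 4, 2, 0, 2, 2, 0, 0, -2, -2, 0, 0, 2, 0, -2, 0, 0, 0, 0, 0],
    [0, 0, 0, 0, 0, 2, -4, 2, 0, 0, -2, 2, 0, 0, -2, 2, 0, -2, 0, -2, -2, 2, 2, 2],
    [2, -2, 2, -2, 2, 0, 2, 4, 2, -2, 0, 0, 2, 2, 0, 0, -2, 0, -2, 0, 0, 0, 0, 0],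
    [0, 0, 0, 0, 0, 2, 0, 2, -4, 0, -2, -2, 0, 0, 2, -2, 0, 2, 0, -2, 2, -2, 2, 2],
    [0, 0, 0, 0, 0, 2, 0, -2, 0, -4, 2, 2, 0, 0, -2, -2, 0, -2, 0, 2, 2, -2, 2, 2],
    [2, -2, 2, -2, 2, 0, -2, 0, -2, 2, 4, 0, 2, -2, 0, 0, 2, 0, 2, 0, 0, 0, 0, 0],
    [2, -2, -2, 2, 2, 0, 2, 0, -2, 2, 0, 4, -2, 2, 0, 0, 2, 0, -2, 0, 0, 0, 0, 0],
    [0, 0, 0, 0, 0, -2, 0, 2, 0, 0, 2, -2, -4, 0, 2, -2, 0, -2, 0, 2, -2, 2, 2, 2],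
    [0, 0, 0, 0, 0, -2, 0, 2, 0, 0, -2, 2, 0, -4, -2, -2, 0, 2, 0, 2, 2, 2, -2, 2],
    [2, 2, -2, 2, 2, 0, -2, 0, 2, -2, 0, 0, 2, -2, 4, 0, 2, 0, -2, 0, 0, 0, 0, 0],
    [2, 2, 2, 2, 2, 0, 2, 0, -2, -2, 0, 0, -2, -2, 0, 4, -2, 0, 2, 0, 0, 0, 0, 0],
    [0, 0, 0, 0, 0, 2, 0, -2, 0, 0, 2, 2, 0, 0, 2, -2, -4, 2, 0, -2, -2, 2, -2, 2],
    [2, -2, 2, 2, -2, 0, -2, 0, 2, -2, 0, 0, -2, 2, 0, 0, 2, 4, 2, 0, 0, 0, 0, 0],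
    [0, 0, 0, 0, 0, -2, 0, -2, 0, 0, 2, -2, 0, 0, -2, 2, 0, 2, -4, -2, 2, 2, 2, 2],
    [2, 2, 2, 2, -2, 0, -2, 0, -2, 2, 0, 0, 2, 2, 0, 0, -2, 0, -2, 4, 0, 0, 0, 0],
    [2, 2, -2, -2, 2, 0, -2, 0, 2, 2, 0, 0, -2, 2, 0, 0, -2, 0, 2, 0, 4, 0, 0, 0],
    [2, 2, -2, -2, -2, 0, 2, 0, -2, -2, 0, 0, 2, 2, 0, 0, 2, 0, 2, 0, 0, 4, 0, 0],
    [2, -2, -2, 2, -2, 0, 2, 0, 2, 2, 0, 0, 2, -2, 0, 0, -2, 0, 2, 0, 0, 0, 4, 0],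
    [-2, 2, 2, 2, 2, 0, 2, 0, 2, 2, 0, 0, 2, 2, 0, 0, 2, 0, 2, 0, 0, 0, 0, 4]]
/-- Tables of permutations in terms of the generators (mc). -/
def mcPs : List (List ℕ) := [
    [0, 2, 4, 6, 8, 10, 12, 14, 16, 18, 20, 22, 1, 3, 5, 7, 9, 11, 13, 15, 17, 19, 21, 23],
    [0, 18, 6, 3, 2, 21, 1, 5, 16, 12, 7, 19, 8, 9, 17, 15, 13, 11, 4, 22, 10, 20, 14, 23],
    [0, 14, 10, 3, 4, 12, 20, 19, 15, 16, 8, 22, 5, 18, 11, 2, 21, 9, 13, 6, 7, 17, 1, 23],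
    [0, 5, 7, 9, 19, 12, 17, 16, 10, 4, 8, 3, 21, 18, 2, 1, 14, 22, 20, 6, 15, 13, 11, 23]]
/-- Their words (mc). -/
def mcWs : List (List ℕ) := [
    [0],
    [1],
    [2, 2, 2, 2, 0, 0, 0, 0, 0, 0, 0, 0, 0, 0, 2, 2, 2, 2, 0, 2, 0, 2, 1, 0, 0, 2],
    [2, 2, 2, 2, 2, 2, 2, 2, 0, 0, 0, 0, 0, 0, 0, 0, 0, 0, 2, 2, 2, 2, 0, 1, 1, 0, 0, 2, 0, 2]]
/-- The word for the second generator of the frame stabiliser (mc). -/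
def mcSlp : List ℕ := [3, 0, 1, 0, 1, 2, 2, 3, 2, 2]
/-- Relations (mc). -/
def mcRel : List (List ℕ × ℕ) := [([0, 2], 7), ([2, 0], 7), ([0, 1, 2], 9)]
/-- The images of the frame vector under the centraliser (mc). -/
def mcXs : List (List ℤ) := [
    [0, 0, 0, 0, 0, 0, 0, 0, 0, 0, 0, 0, 0, 0, 0, 0, 0, 0, 0, 0, 0, 0, 0, 8],
    [2, 0, 0, 0, 0, 0, 0, 0, 2, 2, 0, 0, 2, 2, 0, -2, 2, 0, 0, 0, 0, 0, 0, 6],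
    [3, 1, 1, 3, 1, 1, 1, 1, 1, 1, 1, -1, 1, 1, -1, -1, 1, -1, 1, -1, 1, 1, -1, 5],
    [3, 1, 1, -1, 1, 1, 1, 1, 1, 1, 1, -1, 1, 1, -1, 3, 1, -1, 1, -1, 1, 1, -1, 5],
    [2, 0, 0, -2, 0, 2, 0, 2, 0, 0, 2, 0, 0, 0, 0, 0, 0, 0, 0, 0, 2, 2, 0, 6]]
/-- Words with distinct images of the frame vector (mc). -/
def mcOrb : List (List ℕ) := [
    [],
    [2],
    [0, 2],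
    [2, 2],
    [0, 0, 2],
    [1, 0, 2],
    [2, 0, 2],
    [0, 2, 2],
    [2, 2, 2],
    [1, 0, 0, 2],
    [2, 0, 0, 2],
    [0, 1, 0, 2],
    [1, 1, 0, 2],
    [2, 1, 0, 2],
    [0, 2, 0, 2],
    [2, 2, 0, 2],
    [0, 0, 2, 2],
    [1, 0, 2, 2],
    [2, 0, 2, 2],
    [0, 2, 2, 2],
    [2, 2, 2, 2],
    [0, 1, 0, 0, 2],
    [2, 1, 0, 0, 2],
    [0, 2, 0, 0, 2],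
    [2, 2, 0, 0, 2],
    [0, 0, 1, 0, 2],
    [2, 0, 1, 0, 2],
    [0, 1, 1, 0, 2],
    [2, 1, 1, 0, 2],
    [0, 2, 1, 0, 2],
    [2, 2, 1, 0, 2],
    [0, 0, 2, 0, 2],
    [1, 0, 2, 0, 2],
    [2, 0, 2, 0, 2],
    [0, 2, 2, 0, 2],
    [2, 2, 2, 0, 2],
    [1, 0, 0, 2, 2],
    [2, 0, 0, 2, 2],
    [0, 1, 0, 2, 2],
    [1, 1, 0, 2, 2],
    [2, 1, 0, 2, 2],
    [0, 2, 0, 2, 2],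
    [2, 2, 0, 2, 2],
    [0, 0, 2, 2, 2],
    [1, 0, 2, 2, 2],
    [2, 0, 2, 2, 2]]

/-- The third generator (co3). -/
def co3C : List (List ℤ) := [
    [-4, 0, 0, 0, 0, 2, 0, 2, 0, 0, 2, 2, 0, 0, 2, 2, 0, 2, 0, 2, 2, 2, 2, -2],
    [0, -4, 0, 0, 0, 2, 0, -2, 0, 0, -2, -2, 0, 0, 2, 2, 0, -2, 0, 2, 2, 2, -2, 2],
    [0, 0, -4, 0, 0, 2, 0, 2, 0, 0, 2, -2, 0, 0, -2, 2, 0, 2, 0, 2, -2, -2, -2, 2],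
    [0, 0, 0, -4, 0, -2, 0, -2, 0, 0, -2, 2, 0, 0, 2, 2, 0, 2, 0, 2, -2, -2, 2, 2],
    [0, 0, 0, 0, -4, -2, 0, 2, 0, 0, 2, 2, 0, 0, 2, 2, 0, -2, 0, -2, 2, -2, -2, 2],
    [2, 2, 2, -2, -2, 4, 2, 0, 2, 2, 0, 0, -2, -2, 0, 0, 2, 0, -2, 0, 0, 0, 0, 0],
    [0, 0, 0, 0, 0, 2, -4, 2, 0, 0, -2, 2, 0, 0, -2, 2, 0, -2, 0, -2, -2, 2, 2, 2],
    [2, -2, 2, -2, 2, 0, 2, 4, 2, -2, 0, 0, 2, 2, 0, 0, -2, 0, -2, 0, 0, 0, 0, 0],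
    [0, 0, 0, 0, 0, 2, 0, 2, -4, 0, -2, -2, 0, 0, 2, -2, 0, 2, 0, -2, 2, -2, 2, 2],
    [0, 0, 0, 0, 0, 2, 0, -2, 0, -4, 2, 2, 0, 0, -2, -2, 0, -2, 0, 2, 2, -2, 2, 2],
    [2, -2, 2, -2, 2, 0, -2, 0, -2, 2, 4, 0, 2, -2, 0, 0, 2, 0, 2, 0, 0, 0, 0, 0],
    [2, -2, -2, 2, 2, 0, 2, 0, -2, 2, 0, 4, -2, 2, 0, 0, 2, 0, -2, 0, 0, 0, 0, 0],
    [0, 0, 0, 0, 0, -2, 0, 2, 0, 0, 2, -2, -4, 0, 2, -2, 0, -2, 0, 2, -2, 2, 2, 2],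
    [0, 0, 0, 0, 0, -2, 0, 2, 0, 0, -2, 2, 0, -4, -2, -2, 0, 2, 0, 2, 2, 2, -2, 2],
    [2, 2, -2, 2, 2, 0, -2, 0, 2, -2, 0, 0, 2, -2, 4, 0, 2, 0, -2, 0, 0, 0, 0, 0],
    [2, 2, 2, 2, 2, 0, 2, 0, -2, -2, 0, 0, -2, -2, 0, 4, -2, 0, 2, 0, 0, 0, 0, 0],
    [0, 0, 0, 0, 0, 2, 0, -2, 0, 0, 2, 2, 0, 0, 2, -2, -4, 2, 0, -2, -2, 2, -2, 2],
    [2, -2, 2, 2, -2, 0, -2, 0, 2, -2, 0, 0, -2, 2, 0, 0, 2, 4, 2, 0, 0, 0, 0, 0],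
    [0, 0, 0, 0, 0, -2, 0, -2, 0, 0, 2, -2, 0, 0, -2, 2, 0, 2, -4, -2, 2, 2, 2, 2],
    [2, 2, 2, 2, -2, 0, -2, 0, -2, 2, 0, 0, 2, 2, 0, 0, -2, 0, -2, 4, 0, 0, 0, 0],
    [2, 2, -2, -2, 2, 0, -2, 0, 2, 2, 0, 0, -2, 2, 0, 0, -2, 0, 2, 0, 4, 0, 0, 0],
    [2, 2, -2, -2, -2, 0, 2, 0, -2, -2, 0, 0, 2, 2, 0, 0, 2, 0, 2, 0, 0, 4, 0, 0],
    [2, -2, -2, 2, -2, 0, 2, 0, 2, 2, 0, 0, 2, -2, 0, 0, -2, 0, 2, 0, 0, 0, 4, 0],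
    [-2, 2, 2, 2, 2, 0, 2, 0, 2, 2, 0, 0, 2, 2, 0, 0, 2, 0, 2, 0, 0, 0, 0, 4]]
/-- Tables of permutations in terms of the generators (co3). -/
def co3Ps : List (List ℕ) := [
    [1, 2, 3, 4, 5, 6, 7, 8, 9, 10, 11, 12, 13, 14, 15, 16, 17, 18, 19, 20, 21, 22, 0, 23],
    [0, 2, 4, 6, 8, 10, 12, 14, 16, 18, 20, 22, 1, 3, 5, 7, 9, 11, 13, 15, 17, 19, 21, 23],
    [18, 7, 12, 3, 17, 2, 19, 4, 20, 10, 6, 5, 16, 13, 14, 0, 11, 21, 8, 22, 15, 1, 9, 23],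
    [0, 12, 1, 13, 2, 14, 3, 15, 4, 16, 5, 17, 6, 18, 7, 19, 8, 20, 9, 21, 10, 22, 11, 23]]
/-- Their words (co3). -/
def co3Ws : List (List ℕ) := [
    [0],
    [1],
    [2, 0, 0, 0, 0, 0, 0, 0, 0, 0, 0, 0, 0, 0, 0, 0, 0, 0, 0, 0, 0, 0, 0, 2, 0, 0, 0, 0, 0, 0, 0, 0, 0, 0, 0, 0, 0, 0, 0, 0, 0, 0, 0, 0, 0, 0, 0, 0, 0, 0, 0, 0, 0, 0, 0, 0, 0, 0, 0, 0, 0, 0, 0, 0, 0, 0, 0, 0, 2, 0, 2, 1, 0, 0, 2, 0, 0, 0, 2, 0, 2],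
    [2, 0, 0, 0, 0, 0, 0, 0, 0, 0, 0, 0, 0, 0, 0, 0, 0, 0, 0, 0, 0, 0, 0, 0, 0, 0, 0, 0, 0, 0, 0, 0, 0, 0, 0, 0, 0, 0, 0, 0, 0, 0, 0, 0, 0, 1, 1, 1, 1, 1, 1, 1, 1, 1, 1, 1, 1, 1, 1, 1, 1, 1, 1, 1, 1, 1, 1, 1, 1, 1, 1, 1, 1, 1, 1, 0, 0, 1, 0, 1, 0, 0, 0, 2]]
/-- The word for the second generator of the frame stabiliser (co3). -/
def co3Slp : List ℕ := [3, 2, 2, 2, 1, 0, 1, 2, 1, 2, 2, 0]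
/-- Relations (co3). -/
def co3Rel : List (List ℕ × ℕ) := [([0, 1, 2], 20)]
/-- The images of the frame vector under the centraliser (co3). -/
def co3Xs : List (List ℤ) := [
    [0, 0, 0, 0, 0, 0, 0, 0, 0, 0, 0, 0, 0, 0, 0, 0, 0, 0, 0, 0, 0, 0, 0, 8],
    [-2, 2, 2, 2, 2, 0, 2, 0, 2, 2, 0, 0, 2, 2, 0, 0, 2, 0, 2, 0, 0, 0, 0, 4]]
/-- Words with distinct images of the frame vector (co3). -/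
def co3Orb : List (List ℕ) := [
    [],
    [2],
    [0, 2],
    [0, 0, 2],
    [2, 0, 2],
    [0, 0, 0, 2],
    [1, 0, 0, 2],
    [2, 0, 0, 2],
    [0, 2, 0, 2],
    [1, 0, 0, 0, 2],
    [2, 0, 0, 0, 2],
    [0, 1, 0, 0, 2],
    [1, 1, 0, 0, 2],
    [2, 1, 0, 0, 2],
    [0, 2, 0, 0, 2],
    [0, 0, 2, 0, 2],
    [1, 0, 2, 0, 2],
    [2, 0, 2, 0, 2],
    [0, 1, 0, 0, 0, 2],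
    [1, 1, 0, 0, 0, 2],
    [2, 1, 0, 0, 0, 2],
    [0, 2, 0, 0, 0, 2],
    [1, 0, 1, 0, 0, 2],
    [2, 0, 1, 0, 0, 2],
    [0, 1, 1, 0, 0, 2]]

/-- The third generator (co2). -/
def co2C : List (List ℤ) := [
    [-2, 2, 2, 2, 2, 0, 2, 0, 2, 2, 0, 0, 2, 2, 0, 0, 2, 0, 2, 0, 0, 0, 0, 4],
    [2, -2, -2, 2, -2, 0, 2, 0, 2, 2, 0, 0, 2, -2, 0, 0, -2, 0, 2, 0, 0, 0, 4, 0],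
    [2, -2, -2, 2, 2, 0, 2, 0, -2, 2, 0, 4, -2, 2, 0, 0, 2, 0, -2, 0, 0, 0, 0, 0],
    [2, 2, 2, 2, 2, 0, 2, 0, -2, -2, 0, 0, -2, -2, 0, 4, -2, 0, 2, 0, 0, 0, 0, 0],
    [2, -2, 2, 2, -2, 0, -2, 0, 2, -2, 0, 0, -2, 2, 0, 0, 2, 4, 2, 0, 0, 0, 0, 0],
    [0, 0, 0, 0, 0, -2, 0, 2, 0, 4, -2, -2, 0, 0, 2, 2, 0, 2, 0, -2, -2, 2, -2, -2],
    [2, 2, 2, 2, -2, 0, -2, 0, -2, 2, 0, 0, 2, 2, 0, 0, -2, 0, -2, 4, 0, 0, 0, 0],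
    [0, 0, 0, 0, 0, 2, 0, -2, 0, 0, 2, -2, 0, 4, 2, 2, 0, -2, 0, -2, -2, -2, 2, -2],
    [2, 2, -2, -2, 2, 0, -2, 0, 2, 2, 0, 0, -2, 2, 0, 0, -2, 0, 2, 0, 4, 0, 0, 0],
    [2, 2, 2, -2, -2, 4, 2, 0, 2, 2, 0, 0, -2, -2, 0, 0, 2, 0, -2, 0, 0, 0, 0, 0],
    [0, 0, 0, 0, 0, -2, 0, 2, 0, 0, -2, -2, 0, 0, -2, 2, 4, -2, 0, 2, 2, -2, 2, -2],
    [0, 0, 4, 0, 0, -2, 0, -2, 0, 0, -2, 2, 0, 0, 2, -2, 0, -2, 0, -2, 2, 2, 2, -2],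
    [2, 2, -2, -2, -2, 0, 2, 0, -2, -2, 0, 0, 2, 2, 0, 0, 2, 0, 2, 0, 0, 4, 0, 0],
    [2, -2, 2, -2, 2, 0, 2, 4, 2, -2, 0, 0, 2, 2, 0, 0, -2, 0, -2, 0, 0, 0, 0, 0],
    [0, 0, 0, 0, 0, 2, 0, 2, 0, 0, -2, 2, 0, 0, 2, -2, 0, -2, 4, 2, -2, -2, -2, -2],
    [0, 0, 0, 4, 0, 2, 0, 2, 0, 0, 2, -2, 0, 0, -2, -2, 0, -2, 0, -2, 2, 2, -2, -2],
    [2, -2, 2, -2, 2, 0, -2, 0, -2, 2, 4, 0, 2, -2, 0, 0, 2, 0, 2, 0, 0, 0, 0, 0],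
    [0, 0, 0, 0, 4, 2, 0, -2, 0, 0, -2, -2, 0, 0, -2, -2, 0, 2, 0, 2, -2, 2, 2, -2],
    [2, 2, -2, 2, 2, 0, -2, 0, 2, -2, 0, 0, 2, -2, 4, 0, 2, 0, -2, 0, 0, 0, 0, 0],
    [0, 0, 0, 0, 0, -2, 4, -2, 0, 0, 2, -2, 0, 0, 2, -2, 0, 2, 0, 2, 2, -2, -2, -2],
    [0, 0, 0, 0, 0, -2, 0, -2, 4, 0, 2, 2, 0, 0, -2, 2, 0, -2, 0, 2, -2, 2, -2, -2],
    [0, 0, 0, 0, 0, 2, 0, -2, 0, 0, -2, 2, 4, 0, -2, 2, 0, 2, 0, -2, 2, -2, -2, -2],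
    [0, 4, 0, 0, 0, -2, 0, 2, 0, 0, 2, 2, 0, 0, -2, -2, 0, 2, 0, -2, -2, -2, 2, -2],
    [4, 0, 0, 0, 0, -2, 0, -2, 0, 0, -2, -2, 0, 0, -2, -2, 0, -2, 0, -2, -2, -2, -2, 2]]
/-- Tables of permutations in terms of the generators (co2). -/
def co2Ps : List (List ℕ) := [
    [1, 2, 3, 4, 5, 6, 7, 8, 9, 10, 11, 12, 13, 14, 15, 16, 17, 18, 19, 20, 21, 22, 0, 23],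
    [0, 2, 4, 6, 8, 10, 12, 14, 16, 18, 20, 22, 1, 3, 5, 7, 9, 11, 13, 15, 17, 19, 21, 23],
    [8, 20, 11, 9, 5, 0, 3, 13, 19, 4, 16, 22, 17, 10, 7, 2, 1, 6, 18, 21, 15, 12, 14, 23],
    [8, 17, 20, 10, 11, 7, 9, 2, 5, 1, 0, 6, 3, 18, 13, 21, 19, 15, 4, 12, 16, 14, 22, 23]]
/-- Their words (co2). -/
def co2Ws : List (List ℕ) := [
    [0],
    [1],
    [2, 0, 0, 0, 0, 0, 0, 0, 0, 0, 0, 0, 0, 0, 0, 0, 0, 0, 0, 0, 0, 0, 0, 0, 0, 0, 0, 0, 0, 0, 0, 0, 0, 0, 0, 0, 0, 0, 0, 0, 0, 0, 0, 0, 0, 1, 1, 1, 1, 1, 1, 1, 1, 1, 1, 0, 0, 0, 0, 0, 0, 0, 0, 0, 0, 0, 0, 0, 0, 0, 0, 0, 0, 0, 0, 0, 0, 2, 0, 0, 2, 0, 1, 0, 0, 0, 2, 0, 0, 2],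
    [2, 0, 0, 0, 0, 0, 0, 0, 0, 0, 0, 0, 0, 0, 0, 0, 0, 0, 0, 0, 0, 0, 0, 0, 0, 0, 0, 0, 0, 0, 0, 0, 0, 0, 0, 0, 0, 0, 0, 0, 0, 0, 0, 0, 0, 1, 1, 1, 1, 1, 1, 1, 1, 1, 1, 0, 0, 0, 0, 0, 0, 0, 0, 0, 0, 0, 0, 0, 0, 0, 0, 0, 0, 0, 0, 0, 0, 1, 1, 1, 1, 1, 1, 1, 1, 1, 1, 2, 0, 1, 2, 0, 1, 1, 0, 2, 0, 2]]
/-- The word for the second generator of the frame stabiliser (co2). -/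
def co2Slp : List ℕ := [0, 1, 0, 1, 1, 0, 3, 2, 2, 0, 1, 1]
/-- Relations (co2). -/
def co2Rel : List (List ℕ × ℕ) := [([0, 2], 15), ([0, 0, 2, 0, 2, 0, 1], 8)]
/-- Words with distinct images of the frame vector (co2). -/
def co2Orb : List (List ℕ) := [
    [],
    [2],
    [0, 2],
    [0, 0, 2],
    [2, 0, 2],
    [0, 0, 0, 2],
    [1, 0, 0, 2],
    [2, 0, 0, 2],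
    [0, 2, 0, 2],
    [1, 2, 0, 2],
    [1, 0, 0, 0, 2],
    [2, 0, 0, 0, 2],
    [0, 1, 0, 0, 2],
    [1, 1, 0, 0, 2],
    [2, 1, 0, 0, 2],
    [0, 2, 0, 0, 2],
    [0, 0, 2, 0, 2],
    [1, 0, 2, 0, 2],
    [2, 0, 2, 0, 2],
    [0, 1, 2, 0, 2],
    [1, 1, 2, 0, 2],
    [2, 1, 2, 0, 2],
    [0, 1, 0, 0, 0, 2],
    [0, 2, 0, 0, 0, 2],
    [1, 2, 0, 0, 0, 2]]

/-- A word of order 9. -/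
def co2Nine : List ℕ := [0, 1, 1, 2, 0, 2, 1, 1]
/-- Commuting permutations of order 3. -/
def threeA : List ℕ := [0, 19, 2, 10, 13, 18, 6, 1, 17, 12, 14, 9, 11, 20, 3, 15, 5, 22, 16, 7, 4, 21, 8, 23]
/-- Commuting permutations of order 3. -/
def threeB : List ℕ := [0, 8, 2, 14, 13, 7, 15, 22, 18, 9, 3, 11, 12, 20, 10, 21, 19, 16, 1, 17, 4, 6, 5, 23]

end Cfsg.Agent.SporStruct.OuterData
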