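import Cfsg.Agent.SporStruct.CoCheck
import Cfsg.Agent.SporStruct.OuterRigid
import Cfsg.Agent.SporStruct.OuterData
import Cfsg.Agent.Lib.Leech.CodeUnique
import Cfsg.Agent.Lib.Leech.Decomp
import Cfsg.Agent.Lib.Leech.Pairs48

/-!
Subgroups of Co0 given as images: stabilisers of the frame vector, generation, and transfer of
automorphisms.
-/

set_option autoImplicit false

namespace Cfsg.Agent.SporStruct.OuterCommon

open Cfsg Cfsg.Agent.Leech CoMatrix
open Cfsg.Agent.Golay (pt idx idx_lt pt_idx idx_pt Tab)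

variable {G : Type*} [Group G] {ι : G →* Co0}

theorem finiteOfInj (hι : Function.Injective ι) : Finite G :=
  haveI := finite_Co0 codeUnique
  Finite.of_injective ι hι

theorem eq_of_gens {α β : MulAut G} {L : List G}
    (hgen : Subgroup.closure {x | x ∈ L} = ⊤) (h : ∀ x ∈ L, α x = β x) : α = β := by
  have := MonoidHom.eq_of_eqOn_dense hgen (f := α.toMonoidHom) (g := β.toMonoidHom) h
  exact MulEquiv.ext fun x => DFunLike.congr_fun this x

theorem inn_conj (h : G) : MulAut.conj h ∈ Inn G := ⟨h, rfl⟩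

theorem inn_of_conj_mul {α : MulAut G} {h : G} (e : MulAut.conj h * α = 1) : α ∈ Inn G := by
  rw [← inv_eq_iff_mul_eq_one.2 e]
  exact (Inn G).inv_mem (inn_conj h)

theorem bp_zero : Golay.bp 0 = none := by decide +kernel

theorem bp_one : Golay.bp 1 = some 0 := by decide +kernel

theorem mem_M22 {σ : Equiv.Perm GolayPt} :
    σ ∈ Spor.M22 ↔ σ ∈ M24 ∧ σ none = none ∧ σ (some 0) = some 0 := by
  rw [Golay.M22_eq, Golay.mem_fixUpTo]
  constructor
  · rintro ⟨h, h'⟩
    exact ⟨h, bp_zero ▸ h' 0 (by norm_num), bp_one ▸ h' 1 (by norm_num)⟩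
  · rintro ⟨h, h0, h1⟩
    refine ⟨h, fun j hj => ?_⟩
    interval_cases j
    exacts [bp_zero.symm ▸ h0, bp_one.symm ▸ h1]

theorem mem_M23 {σ : Equiv.Perm GolayPt} : σ ∈ Spor.M23 ↔ σ ∈ M24 ∧ σ none = none := by
  rw [Golay.M23_eq, Golay.mem_fixUpTo]
  constructor
  · rintro ⟨h, h'⟩
    exact ⟨h, bp_zero ▸ h' 0 (by norm_num)⟩
  · rintro ⟨h, h0⟩
    refine ⟨h, fun j hj => ?_⟩
    interval_cases j
    exact bp_zero.symm ▸ h0

section

variable [MulAction G leechLattice]

/-- The stabiliser of the frame vector is a group of permutations. -/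
theorem card_stab_frame (hι : Function.Injective ι)
    (hact : ∀ (g : G) (v : leechLattice), g • v = ι g • v) {S : Subgroup (Equiv.Perm GolayPt)}
    (hS : S ≤ M24) (hin : ∀ σ, ∀ h : σ ∈ S, ∃ g : G, ι g = permHom ⟨σ, hS h⟩)
    (hfix : ∀ σ ∈ S, σ none = none)
    (hout : ∀ g : G, g • frame none = frame none → ∃ σ : M24, σ.1 ∈ S ∧ ι g = permHom σ) :
    Nat.card (MulAction.stabilizer G (frame none)) = Nat.card S := by
  choose f hf using hin
  refine (Nat.card_eq_of_bijective (fun σ : S => (⟨f σ.1 σ.2, ?_⟩ :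
    MulAction.stabilizer G (frame none))) ⟨fun σ τ e => ?_, fun g => ?_⟩).symm
  · rw [MulAction.mem_stabilizer_iff, hact, hf]
    apply Subtype.ext
    funext p
    rw [coe_permHom_smul]
    show (Pi.single none (8 : ℤ) : GolayPt → ℤ) _ = (Pi.single none (8 : ℤ) : GolayPt → ℤ) p
    simp only [Pi.single_apply]
    exact if_congr (by rw [Equiv.symm_apply_eq, hfix _ σ.2]) rfl rfl
  · have e' : f σ.1 σ.2 = f τ.1 τ.2 := congrArg Subtype.val e
    have := congrArg ι e'
    rw [hf, hf] at this
    exact Subtype.ext (congrArg (fun z : M24 => z.1) (permHom_injective this) :)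
  · obtain ⟨σ, hσ, e⟩ := hout g.1 g.2
    exact ⟨⟨σ.1, hσ⟩, Subtype.ext (hι (by rw [hf, e]))⟩

/-- A subgroup containing two generators of the permutation part contains the point stabiliser. -/
theorem stab_le (hι : Function.Injective ι) {S : Subgroup (Equiv.Perm GolayPt)}
    {s t : Equiv.Perm GolayPt} (hgen : Subgroup.closure {s, t} = S)
    (hout : ∀ g : G, g • frame none = frame none → ∃ σ : M24, σ.1 ∈ S ∧ ι g = permHom σ)
    {K : Subgroup G} (hs : ∃ (h : s ∈ M24) (x : G), x ∈ K ∧ ι x = permHom ⟨s, h⟩)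
    (ht : ∃ (h : t ∈ M24) (x : G), x ∈ K ∧ ι x = permHom ⟨t, h⟩) :
    MulAction.stabilizer G (frame none) ≤ K := by
  set A := ((K.map ι).comap permHom).map M24.subtype with hA
  have hmem : ∀ u, (∃ (h : u ∈ M24) (x : G), x ∈ K ∧ ι x = permHom ⟨u, h⟩) → u ∈ A := by
    rintro u ⟨h, x, hx, e⟩
    exact ⟨⟨u, h⟩, ⟨x, hx, e⟩, rfl⟩
  have hle : S ≤ A := by
    rw [← hgen, Subgroup.closure_le]
    rintro u (rfl | rfl)
    exacts [hmem _ hs, hmem _ ht]
  intro g hg
  obtain ⟨σ, hσ, e⟩ := hout g hg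
  obtain ⟨τ, ⟨x, hx, ex⟩, hτ⟩ := hle hσ
  have : τ = σ := Subtype.ext hτ
  subst this
  rwa [hι (e.trans ex.symm)]

theorem index_stab (hc : Nat.card (MulAction.stabilizer G (frame none)) ≠ 0) {N : ℕ}
    (h : Nat.card (MulAction.stabilizer G (frame none)) * N = Nat.card G) :
    (MulAction.stabilizer G (frame none)).index = N := by
  refine mul_left_cancel₀ hc ?_
  rw [Subgroup.card_mul_index, h]

end

/-- An element of Co0 of a given table fixing given vectors. -/
theorem exists_elem_fix {T : List (List ℤ)} (h : checkMap T = true)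
    (h' : checkMap (transpL T) = true) : ∃ g : Co0, rows g = T ∧
      ∀ v w : leechLattice, mapV T (vecL (v : GolayPt → ℤ)) = vecL (w : GolayPt → ℤ) → g • v = w := by
  obtain ⟨g, hg⟩ := exists_elem h h'
  refine ⟨g, hg, fun v w e => Subtype.ext (vecL_inj ?_)⟩
  rw [← mapV_rows, hg, e]

/-- The automorphism induced by an involution of Co0 normalising the image. -/
theorem exists_aut (hι : Function.Injective ι) {o : Co0} (ho : o * o = 1)
    (hnorm : ∀ g : G, ∃ g' : G, ι g' = o * ι g * o) :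
    ∃ O : MulAut G, ∀ g, ι (O g) = o * ι g * o := by
  choose f hf using hnorm
  have hinv : ∀ g, f (f g) = g := fun g => hι (by
    rw [hf, hf, ← mul_assoc, ← mul_assoc, ho, one_mul, mul_assoc, ho, mul_one])
  refine ⟨{ toFun := f, invFun := f, left_inv := hinv, right_inv := hinv,
            map_mul' := fun x y => hι ?_ }, hf⟩
  rw [map_mul, hf, hf, hf, map_mul]
  calc o * (ι x * ι y) * o = o * ι x * 1 * ι y * o := by group
    _ = o * ι x * o * (o * ι y * o) := by rw [← ho]; group

theorem rel_facts {T : List (List (List ℤ))} {L : List G} (hι : Function.Injective ι)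
    (hT : (L.map ι).map rows = T) {u v : List ℕ} (h : evalP T u = evalP T v) :
    word L u = word L v :=
  hι (rows_injective (by rw [rows_word_packed hT, rows_word_packed hT, h]))

end Cfsg.Agent.SporStruct.OuterCommon
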