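import Cfsg.Agent.SporStruct.OuterRigid
import Cfsg.Agent.SporStruct.OuterCommon

/-!
The groups PSL(2,23) and 23:11 are maximal in M24 and M23.
-/

set_option autoImplicit false

namespace Cfsg.Agent.SporStruct.PSL23Max

open Cfsg Cfsg.Agent.Golay
open scoped Pointwise

/-- A relation on permutations from a check on tables. -/
theorem eq_of_tabs {σ τ : Equiv.Perm GolayPt} {l m : List ℕ} (hσ : Tab σ l) (hτ : Tab τ m)
    (h : l = m) : σ = τ := tab_unique hσ (h ▸ hτ)

theorem tab_double : Tab double doubleTab := tab_permOf _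

theorem double_mem' : double ∈ M24 := Leech.g11_mem

theorem double_pt (p : GolayPt) : double p = p ↔ p = none ∨ p = some 0 := by
  cases p with
  | none => simp [Leech.g11_none]
  | some t =>
    rw [Leech.g11_some]
    have h : ∀ t : ZMod 23, 2 * t = t ↔ t = 0 := by decide +kernel
    simp only [Option.some.injEq, h, reduceCtorEq, false_or]

/-- Tables for the relations. -/
theorem rel_facts : comp cubeTwistTab doubleTab = comp (powTab doubleTab 3) cubeTwistTab ∧
    comp projInvTab doubleTab = comp (powTab doubleTab 10) projInvTab ∧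
    powTab cubeTwistTab 5 = idTab ∧ powTab projInvTab 2 = idTab ∧
    comp doubleTab shiftTab = comp (powTab shiftTab 2) doubleTab ∧
    (∀ k : Fin 23, k.val ≠ 0 → ∃ j : Fin 11,
      comp projInvTab (comp (powTab shiftTab k.val) projInvTab) =
        comp (comp (comp (powTab shiftTab ((23 - k.val ^ 21 % 23) % 23)) (powTab doubleTab j.val))
          projInvTab) (powTab shiftTab ((23 - k.val ^ 21 % 23) % 23))) := by
  decide +kernel

theorem double_cube : cubeTwist * double = double ^ 3 * cubeTwist :=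
  eq_of_tabs (tab_cubeTwist.mul tab_double) ((tab_double.pow 3).mul tab_cubeTwist) rel_facts.1

theorem double_proj : projInv * double = double ^ 10 * projInv :=
  eq_of_tabs (tab_projInv.mul tab_double) ((tab_double.pow 10).mul tab_projInv) rel_facts.2.1

theorem cube_five : cubeTwist ^ 5 = 1 :=
  eq_of_tabs (tab_cubeTwist.pow 5) tab_one rel_facts.2.2.1

theorem proj_two : projInv ^ 2 = 1 :=
  eq_of_tabs (tab_projInv.pow 2) tab_one rel_facts.2.2.2.1

theorem shift_double : double * shift = shift ^ 2 * double :=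
  eq_of_tabs (tab_double.mul tab_shift) ((tab_shift.pow 2).mul tab_double) rel_facts.2.2.2.2.1

theorem double_pow : double ^ 11 = 1 := orderOf_gens.2.2.1 ▸ pow_orderOf_eq_one double

theorem shift_pow : shift ^ 23 = 1 := orderOf_gens.1 ▸ pow_orderOf_eq_one shift

theorem proj_pts : projInv none = some 0 ∧ projInv (some 0) = none := by
  refine ⟨?_, ?_⟩ <;> rw [tab_projInv.apply] <;> decide +kernel

theorem cube_pts : cubeTwist none = none ∧ cubeTwist (some 0) = some 0 := by
  refine ⟨?_, ?_⟩ <;> rw [tab_cubeTwist.apply] <;> decide +kernel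

/-- The translations by shift and multiplications by double. -/
def borel : Set (Equiv.Perm GolayPt) :=
  {x | ∃ i j : ℕ, x = shift ^ i * double ^ j}

theorem double_shift_pow : ∀ j i : ℕ, double ^ j * shift ^ i = shift ^ (i * 2 ^ j) * double ^ j := by
  have one : ∀ i : ℕ, double * shift ^ i = shift ^ (i * 2) * double := by
    intro i
    induction i with
    | zero => simp
    | succ i ih => rw [pow_succ, ← mul_assoc, ih, mul_assoc, shift_double, ← mul_assoc, ← pow_add,
        Nat.succ_mul]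
  intro j
  induction j with
  | zero => intro i; simp
  | succ j ih =>
    intro i
    rw [pow_succ', mul_assoc, ih, ← mul_assoc, one, mul_assoc, pow_succ 2 j, mul_assoc i]

theorem borel_mul {x y : Equiv.Perm GolayPt} (hx : x ∈ borel) (hy : y ∈ borel) : x * y ∈ borel := by
  obtain ⟨i, j, rfl⟩ := hx
  obtain ⟨k, l, rfl⟩ := hy
  exact ⟨i + k * 2 ^ j, j + l, by
    rw [mul_assoc, ← mul_assoc (double ^ j), double_shift_pow, pow_add, pow_add]; group⟩

theorem card_borel_le : borel.ncard ≤ 253 := by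
  have hsub : borel ⊆ (fun q : ℕ × ℕ => shift ^ q.1 * double ^ q.2) ''
      ↑(Finset.range 23 ×ˢ Finset.range 11) := by
    rintro _ ⟨i, j, rfl⟩
    refine ⟨(i % 23, j % 11), by simp [Nat.mod_lt], ?_⟩
    show shift ^ (i % 23) * double ^ (j % 11) = _
    rw [← pow_eq_pow_mod i shift_pow, ← pow_eq_pow_mod j double_pow]
  refine (Set.ncard_le_ncard hsub ((Finset.finite_toSet _).image _)).trans ?_
  refine (Set.ncard_image_le (Finset.finite_toSet _)).trans ?_
  rw [Set.ncard_coe_finset]
  simp

/-- The two sets of generators. -/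
abbrev squares : Set (Equiv.Perm GolayPt) :=
  {g : Equiv.Perm Cfsg.GolayPt | ∃ u : (ZMod 23)ˣ, IsSquare u ∧
    g = Equiv.optionCongr (Units.mulLeft u)}

/-- The group 23:11. -/
noncomputable abbrev H23 : Subgroup (Equiv.Perm GolayPt) :=
  Subgroup.closure ({Equiv.optionCongr (Equiv.addRight (1 : ZMod 23))} ∪ squares)

/-- The group PSL(2,23). -/
noncomputable abbrev P23 : Subgroup (Equiv.Perm GolayPt) :=
  Subgroup.closure ({Equiv.optionCongr (Equiv.addRight (1 : ZMod 23)), Cfsg.projInv} ∪ squares)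

theorem squares_double (g : Equiv.Perm GolayPt) (h : g ∈ squares) : ∃ j, g = double ^ j := by
  obtain ⟨u, ⟨r, rfl⟩, rfl⟩ := h
  have key : ∀ x : ZMod 23, x ≠ 0 → ∃ j : Fin 11, x * x = 2 ^ j.val := by decide +kernel
  have : Fact (1 < 23) := ⟨by norm_num⟩
  obtain ⟨j, hj⟩ := key r r.ne_zero
  refine ⟨j, Equiv.ext ?_⟩
  rintro (_ | t)
  · exact (Equiv.Perm.pow_apply_eq_self_of_apply_eq_self Leech.g11_none _).symm
  · rw [Leech.g11_pow_some, ← hj]
    rfl

theorem double_mem_squares : double ∈ squares := by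
  have h2 : (2 : ZMod 23) = 5 * 5 := by decide +kernel
  set r : (ZMod 23)ˣ := Units.mk (5 : ZMod 23) 14 (by decide +kernel) (by decide +kernel)
  refine ⟨r * r, ⟨r, rfl⟩, Equiv.ext ?_⟩
  rintro (_ | t)
  · exact Leech.g11_none
  · rw [Leech.g11_some, h2]
    rfl

theorem H23_eq : (H23 : Set (Equiv.Perm GolayPt)) = borel := by
  refine Set.Subset.antisymm (fun x hx => ?_) ?_
  · induction hx using Subgroup.closure_induction with
    | mem x hx =>
      rcases hx with rfl | hx
      · exact ⟨1, 0, by rw [pow_zero, mul_one, pow_one]; rfl⟩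
      · obtain ⟨j, rfl⟩ := squares_double x hx
        exact ⟨0, j, by simp⟩
    | one => exact ⟨0, 0, by simp⟩
    | mul x y _ _ hx hy => exact borel_mul hx hy
    | inv x _ hx =>
      obtain ⟨i, j, rfl⟩ := hx
      have hfin : ∀ n, ((shift ^ i * double ^ j) ^ n) ∈ borel := fun n => by
        induction n with
        | zero => exact ⟨0, 0, by simp⟩
        | succ n ih => rw [pow_succ]; exact borel_mul ih ⟨i, j, rfl⟩
      obtain ⟨n, hn⟩ : ∃ n : ℕ, (shift ^ i * double ^ j)⁻¹ = (shift ^ i * double ^ j) ^ n :=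
        ⟨orderOf (shift ^ i * double ^ j) - 1, inv_eq_of_mul_eq_one_right (by
          rw [← pow_succ', Nat.sub_add_cancel (orderOf_pos _)]; exact pow_orderOf_eq_one _)⟩
      rw [hn]; exact hfin n
  · rintro _ ⟨i, j, rfl⟩
    exact H23.mul_mem (H23.pow_mem (Subgroup.subset_closure (Or.inl rfl)) i)
      (H23.pow_mem (Subgroup.subset_closure (Or.inr double_mem_squares)) j)

theorem shift_H23 : shift ∈ H23 := Subgroup.subset_closure (Or.inl rfl)

theorem double_H23 : double ∈ H23 := Subgroup.subset_closure (Or.inr double_mem_squares)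

theorem H23_le : H23 ≤ M24 ⊓ MulAction.stabilizer (Equiv.Perm GolayPt) (none : GolayPt) := by
  intro x hx
  rw [← SetLike.mem_coe, H23_eq] at hx
  obtain ⟨i, j, rfl⟩ := hx
  refine ⟨M24.mul_mem (M24.pow_mem shift_mem i) (M24.pow_mem double_mem' j), ?_⟩
  exact Subgroup.mul_mem _ (Subgroup.pow_mem _ Leech.shift_none i)
    (Subgroup.pow_mem _ Leech.g11_none j)

theorem card_H23 : Nat.card H23 = 253 := by
  refine le_antisymm ?_ (Nat.le_of_dvd Nat.card_pos ?_)
  · rw [← SetLike.coe_sort_coe, Nat.card_coe_set_eq, H23_eq]; exact card_borel_le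
  · refine (show Nat.Coprime 23 11 by norm_num).mul_dvd_of_dvd_of_dvd ?_ ?_
    · rw [← orderOf_gens.1]; exact Subgroup.orderOf_dvd_natCard H23 shift_H23
    · rw [← orderOf_gens.2.2.1]; exact Subgroup.orderOf_dvd_natCard H23 double_H23

/-- The second double coset. -/
def bigCell : Set (Equiv.Perm GolayPt) := {x | ∃ b ∈ borel, ∃ k : ℕ, x = b * projInv * shift ^ k}

theorem proj_double_pow (j : ℕ) : projInv * double ^ j = double ^ (10 * j) * projInv := by
  induction j with
  | zero => simp
  | succ j ih => rw [pow_succ, ← mul_assoc, ih, mul_assoc, double_proj, ← mul_assoc, ← pow_add,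
      Nat.mul_succ]

theorem bigCell_eq {b : Equiv.Perm GolayPt} (hb : b ∈ borel) {i j : ℕ} :
    b * projInv * (shift ^ i * double ^ j) ∈ bigCell := by
  have h11 : double ^ (11 * j) = 1 := by rw [pow_mul, double_pow, one_pow]
  -- move the multiplication to the left
  have e : shift ^ i * double ^ j = double ^ j * shift ^ (i * 2 ^ (10 * j)) := by
    rw [double_shift_pow, mul_assoc i, ← pow_add, ← Nat.succ_mul]
    congr 1
    have h2 : shift ^ (2 ^ (11 * j)) = shift := by
      rw [pow_eq_pow_mod _ shift_pow, pow_mul, Nat.pow_mod, show 2 ^ 11 % 23 = 1 from rfl, one_pow]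
      rfl
    rw [mul_comm i, pow_mul, h2]
  refine ⟨b * double ^ (10 * j), borel_mul hb ⟨0, 10 * j, by simp⟩, i * 2 ^ (10 * j), ?_⟩
  rw [e, ← mul_assoc, mul_assoc b, proj_double_pow]
  group

theorem P23_sub : (P23 : Set (Equiv.Perm GolayPt)) ⊆ borel ∪ bigCell := by
  have hb1 : (1 : Equiv.Perm GolayPt) ∈ borel := ⟨0, 0, by simp⟩
  have hstable : ∀ z ∈ borel ∪ bigCell, ∀ g ∈ ({shift, projInv, double} : Set (Equiv.Perm GolayPt)),
      z * g ∈ borel ∪ bigCell := by
    rintro z hz g hg
    rcases hg with rfl | rfl | rfl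
    · rcases hz with hz | ⟨b, hb, k, rfl⟩
      · exact Or.inl (borel_mul hz ⟨1, 0, by simp⟩)
      · exact Or.inr ⟨b, hb, k + 1, by rw [pow_succ, mul_assoc]⟩
    · rcases hz with hz | ⟨b, hb, k, rfl⟩
      · exact Or.inr ⟨z, hz, 0, by simp⟩
      · rw [pow_eq_pow_mod k shift_pow]
        rcases eq_or_ne (k % 23) 0 with e | e
        · left
          rw [e, pow_zero, mul_one, mul_assoc, ← pow_two, proj_two, mul_one]
          exact hb
        · right
          obtain ⟨j, hj⟩ := rel_facts.2.2.2.2.2 ⟨k % 23, Nat.mod_lt _ (by norm_num)⟩ e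
          have e' := eq_of_tabs
            (tab_projInv.mul ((tab_shift.pow (k % 23)).mul tab_projInv))
            ((((tab_shift.pow ((23 - (k % 23) ^ 21 % 23) % 23)).mul (tab_double.pow j.val)).mul
              tab_projInv).mul (tab_shift.pow ((23 - (k % 23) ^ 21 % 23) % 23))) hj
          refine ⟨_, borel_mul hb ⟨(23 - (k % 23) ^ 21 % 23) % 23, j, rfl⟩,
            (23 - (k % 23) ^ 21 % 23) % 23, ?_⟩
          rw [mul_assoc (b * projInv), mul_assoc b, e']
          group
    · rcases hz with hz | ⟨b, hb, k, rfl⟩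
      · exact Or.inl (borel_mul hz ⟨0, 1, by simp⟩)
      · have := bigCell_eq hb (i := k) (j := 1)
        rw [pow_one, ← mul_assoc] at this
        exact Or.inr this
  have hgen : ∀ g ∈ ({Equiv.optionCongr (Equiv.addRight (1 : ZMod 23)), Cfsg.projInv} ∪ squares :
      Set (Equiv.Perm GolayPt)), ∀ z ∈ borel ∪ bigCell, z * g ∈ borel ∪ bigCell := by
    rintro g ((rfl | rfl) | hg) z hz
    · exact hstable z hz shift (by simp)
    · exact hstable z hz projInv (by simp)
    · obtain ⟨j, rfl⟩ := squares_double g hg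
      clear hg
      induction j with
      | zero => simpa using hz
      | succ j ih => rw [pow_succ, ← mul_assoc]; exact hstable _ ih double (by simp)
  intro x hx
  rw [SetLike.mem_coe, ← Subgroup.mem_toSubmonoid, Subgroup.closure_toSubmonoid_of_finite] at hx
  suffices h : ∀ z ∈ borel ∪ bigCell, z * x ∈ borel ∪ bigCell by simpa using h 1 (Or.inl hb1)
  induction hx using Submonoid.closure_induction with
  | mem g hg => exact hgen g hg
  | one => intro z hz; rwa [mul_one]
  | mul g g' _ _ h h' => intro z hz; rw [← mul_assoc]; exact h' _ (h z hz)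

theorem H23_le_P23 : H23 ≤ P23 :=
  Subgroup.closure_mono (Set.union_subset_union_left _ (by simp))

theorem P23_le : P23 ≤ M24 := by
  rw [Subgroup.closure_le]
  rintro g ((rfl | rfl) | ⟨u, hu, rfl⟩)
  exacts [shift_mem, projInv_mem, mulSquare_mem u hu]

theorem card_P23 : Nat.card P23 = 6072 := by
  classical
  refine le_antisymm ?_ ?_
  · rw [← SetLike.coe_sort_coe, Nat.card_coe_set_eq]
    refine (Set.ncard_le_ncard P23_sub (Set.toFinite _)).trans ((Set.ncard_union_le _ _).trans ?_)
    have : bigCell.ncard ≤ 253 * 23 := by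
      have hsub : bigCell ⊆ (fun q : Equiv.Perm GolayPt × ℕ => q.1 * projInv * shift ^ q.2) ''
          (borel ×ˢ ↑(Finset.range 23)) := by
        rintro _ ⟨b, hb, k, rfl⟩
        exact ⟨(b, k % 23), ⟨hb, by simp [Nat.mod_lt]⟩, by simp only [← pow_eq_pow_mod k shift_pow]⟩
      refine (Set.ncard_le_ncard hsub (Set.toFinite _)).trans
        ((Set.ncard_image_le (Set.toFinite _)).trans ?_)
      rw [Set.ncard_prod, Set.ncard_coe_finset, Finset.card_range]
      exact Nat.mul_le_mul_right _ card_borel_le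
    have := card_borel_le
    omega
  · have h := CrossMax.card_eq_orbit_mul P23 (none : GolayPt)
    have hproj : projInv ∈ P23 := Subgroup.subset_closure (Or.inl (Or.inr rfl))
    have horb : MulAction.orbit P23 (none : GolayPt) = Set.univ := by
      refine Set.eq_univ_of_forall fun p => ?_
      rcases p with _ | t
      · exact MulAction.mem_orbit_self _
      · refine ⟨⟨shift ^ t.val * projInv,
          P23.mul_mem (P23.pow_mem (H23_le_P23 shift_H23) _) hproj⟩, ?_⟩
        show (shift ^ t.val * projInv) none = some t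
        rw [Equiv.Perm.mul_apply, proj_pts.1, Leech.shift_pow_some, zero_add,
          ZMod.natCast_zmod_val]
    have hle : Nat.card H23 ≤
        Nat.card (P23 ⊓ MulAction.stabilizer (Equiv.Perm GolayPt) (none : GolayPt) : Subgroup _) :=
      Subgroup.card_le_of_le (le_inf H23_le_P23 fun x hx => (H23_le hx).2)
    rw [card_H23] at hle
    rw [h, horb, Set.ncard_univ, Nat.card_eq_fintype_card, card_golayPt]
    omega

theorem covers11 : OuterRigid.PowCovers 11 3 55 := by
  unfold OuterRigid.PowCovers; decide +kernel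

/-- An element of M24 normalising the group of order 11 and fixing two points. -/
theorem normal_form {σ : M24} (h0 : σ.1 none = none) (h1 : σ.1 (some 0) = some 0) {k : ℕ}
    (hrel : σ.1 * double * σ.1⁻¹ = double ^ k) :
    ∃ i j : ℕ, σ.1 = cubeTwist ^ j * double ^ i := by
  set a : M24 := ⟨double, Leech.g11_mem⟩ with ha
  set b : M24 := ⟨cubeTwist, cubeTwist_mem⟩ with hb
  have hrel' : σ * a * σ⁻¹ = a ^ k := Subtype.ext hrel
  have hz : Leech.permHom σ * Leech.g11 * (Leech.permHom σ)⁻¹ ∈ Subgroup.zpowers Leech.g11 := by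
    rw [Leech.g11, ← map_inv, ← map_mul, ← map_mul, hrel', map_pow]
    exact Subgroup.pow_mem _ (Subgroup.mem_zpowers _) k
  obtain ⟨h55, -⟩ := Leech.perm_normalise_11 h0 h1 hz
  have hσ55 : σ ^ 55 = 1 := Leech.permHom_injective (by rw [map_pow, h55, map_one])
  have hao : orderOf a = 11 := by rw [ha, Subgroup.orderOf_mk]; exact orderOf_gens.2.2.1
  have hk55 : a ^ (1 * k ^ 55) = a ^ 1 := by
    rw [← OuterRigid.conj_pow_rel' hrel' 55 1, hσ55, pow_one]; simp
  rw [one_mul, ← pow_mod_orderOf a (k ^ 55), hao] at hk55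
  have hk' : k ^ 55 % 11 = 1 := pow_injOn_Iio_orderOf
    (Set.mem_Iio.2 (hao.symm ▸ Nat.mod_lt _ (by norm_num))) (Set.mem_Iio.2 (hao.symm ▸ by norm_num))
    hk55
  obtain ⟨j, hj⟩ := covers11 ⟨k % 11, Nat.mod_lt _ (by norm_num)⟩ (by rw [← Nat.pow_mod]; exact hk')
  have hb3 : b * a * b⁻¹ = a ^ 3 := by
    rw [mul_inv_eq_iff_eq_mul]; exact Subtype.ext double_cube
  have e := OuterRigid.conj_pow_rel' hb3 j.val 1
  rw [one_mul, pow_one, ← pow_mod_orderOf a (3 ^ j.val), hao, hj] at e
  simp only [] at e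
  rw [show (k % 11) = k % orderOf a by rw [hao], pow_mod_orderOf] at e
  set τ := (b ^ j.val)⁻¹ * σ with hτ
  have hτc : τ * a = a * τ := by
    calc τ * a = (b ^ j.val)⁻¹ * (σ * a * σ⁻¹) * σ := by rw [hτ]; group
      _ = (b ^ j.val)⁻¹ * (b ^ j.val * a * (b ^ j.val)⁻¹) * σ := by rw [hrel', e]
      _ = a * τ := by rw [hτ]; group
  have hbfix : ∀ p, cubeTwist p = p → ((cubeTwist ^ j.val)⁻¹) p = p := fun p hp => by
    rw [Equiv.Perm.coe_inv, Equiv.symm_apply_eq, Equiv.Perm.pow_apply_eq_self_of_apply_eq_self hp]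
  have t0 : τ.1 none = none := by
    show ((cubeTwist ^ j.val)⁻¹ * σ.1) none = none
    rw [Equiv.Perm.mul_apply, h0]; exact hbfix _ cube_pts.1
  have t1 : τ.1 (some 0) = some 0 := by
    show ((cubeTwist ^ j.val)⁻¹ * σ.1) (some 0) = some 0
    rw [Equiv.Perm.mul_apply, h1]; exact hbfix _ cube_pts.2
  have := Leech.perm_centralise_11 t0 t1 (by rw [Leech.g11, ← map_mul, ← map_mul, hτc])
  obtain ⟨i, hi⟩ := (IsOfFinOrder.mem_powers_iff_mem_zpowers (isOfFinOrder_of_finite a)).2
    (show τ ∈ Subgroup.zpowers a by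
      rw [Leech.g11, ← MonoidHom.map_zpowers] at this
      obtain ⟨z, hz', ez⟩ := this
      rwa [← Leech.permHom_injective ez])
  refine ⟨i, j, ?_⟩
  have : σ = b ^ j.val * a ^ i := by
    rw [show a ^ i = τ from hi, hτ, mul_inv_cancel_left]
  rw [this]
  rfl

/-- The index of a subgroup containing a group of prime order is congruent to the index of its part
of the normaliser. -/
theorem index_mod_relIndex {G : Type*} [Group G] [Finite G] {p : ℕ} [Fact p.Prime] {g : G}
    (hg : orderOf g = p) (hp2 : ¬ p ^ 2 ∣ Nat.card G) {K : Subgroup G} (hgK : g ∈ K) :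
    K.index % p =
      K.relIndex (Subgroup.normalizer (Subgroup.zpowers g : Set G)) % p := by
  set P := Subgroup.zpowers g with hP
  set N := Subgroup.normalizer (P : Set G) with hNdef
  have hc : Nat.card P = p := (Nat.card_zpowers g).trans hg
  have hi : ¬ p ∣ P.index := fun h => hp2 (by
    rw [← P.card_mul_index, hc, pow_two]; exact mul_dvd_mul_left p h)
  have hPK : P ≤ K := Subgroup.zpowers_le.2 hgK
  have hPp : IsPGroup p P := IsPGroup.of_card (n := 1) (by rw [hc, pow_one])
  have hPp' : IsPGroup p (P.subgroupOf K) := IsPGroup.of_card (n := 1) (by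
    rw [Nat.card_congr (Subgroup.subgroupOfEquivOfLe hPK).toEquiv, hc, pow_one])
  have hi' : ¬ p ∣ (P.subgroupOf K).index := fun h => hi (by
    rw [← Subgroup.relIndex_mul_index hPK]; exact Dvd.dvd.mul_right h _)
  have h1 := card_sylow_modEq_one p G
  have h2 := card_sylow_modEq_one p K
  rw [(hPp.toSylow hi).card_eq_index_normalizer] at h1
  rw [(hPp'.toSylow hi').card_eq_index_normalizer] at h2
  simp only [IsPGroup.toSylow_coe, ← Sylow.coe_coe] at h1 h2
  rw [← Subgroup.subgroupOf_normalizer_eq hPK] at h2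
  have h2' : N.relIndex K ≡ 1 [MOD p] := h2
  have e1 := Subgroup.relIndex_mul_index (inf_le_right : N ⊓ K ≤ K)
  have e2 := Subgroup.relIndex_mul_index (inf_le_left : N ⊓ K ≤ N)
  rw [Subgroup.inf_relIndex_right] at e1
  rw [Subgroup.inf_relIndex_left] at e2
  show K.index ≡ K.relIndex N [MOD p]
  calc K.index = 1 * K.index := (one_mul _).symm
    _ ≡ N.relIndex K * K.index [MOD p] := (h2'.symm.mul_right _)
    _ = K.relIndex N * N.index := by rw [e1, e2]
    _ ≡ K.relIndex N * 1 [MOD p] := (h1.mul_left _)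
    _ = K.relIndex N := mul_one _

/-- A maximality criterion by congruences of the index at two primes. -/
theorem coatom_of_congr {G : Type*} [Group G] [Finite G] {p q : ℕ} [Fact p.Prime] [Fact q.Prime]
    {g a : G} (hg : orderOf g = p) (ha : orderOf a = q) (hp : ¬ p ^ 2 ∣ Nat.card G)
    (hq : ¬ q ^ 2 ∣ Nat.card G) {H : Subgroup G} (hne : H ≠ ⊤)
    (hN : ∀ y, y * g * y⁻¹ ∈ Subgroup.zpowers g → y ∈ H) {r : ℕ}
    (haH : a ∈ H) (hr0 : r ≠ 0)
    (hrel : H.relIndex (Subgroup.normalizer (Subgroup.zpowers a : Set G)) ∣ r)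
    (hnum : ∀ m ∈ H.index.divisors, m % p = 1 → (∃ d ∈ r.divisors, m % q = d % q) →
      m = 1 ∨ m = H.index) : IsCoatom H := by
  refine ⟨hne, fun K hK => ?_⟩
  have h1 := CrossMax.index_mod_of_normalizer_le hg hp (K := K) fun y hy =>
    hK.le (hN y ((Subgroup.mem_normalizer_iff.1 hy g).1 (Subgroup.mem_zpowers g)))
  set N := Subgroup.normalizer (Subgroup.zpowers a : Set G) with hNdef
  have h2 : K.index % q = K.relIndex N % q := index_mod_relIndex ha hq (hK.le haH)
  have hd : K.relIndex N ∣ r := (Subgroup.relIndex_dvd_of_le_left N hK.le).trans hrel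
  rcases hnum _ (Nat.mem_divisors.2 ⟨Subgroup.index_dvd_of_le hK.le, Subgroup.index_ne_zero_of_finite⟩)
    h1 ⟨_, Nat.mem_divisors.2 ⟨hd, hr0⟩, h2⟩ with e | e
  · exact Subgroup.index_eq_one.1 e
  · exfalso
    refine hK.ne (Subgroup.eq_of_le_of_card_ge hK.le (le_of_eq ?_))
    have e1 := H.card_mul_index
    have e2 := K.card_mul_index
    rw [e] at e2
    exact Nat.eq_of_mul_eq_mul_right (Nat.pos_of_ne_zero Subgroup.index_ne_zero_of_finite)
      (e2.trans e1.symm)

theorem exists_pow_of_mem {G : Type*} [Group G] [Finite G] {g : G} {x : G}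
    (h : x ∈ Subgroup.zpowers g) : ∃ k : ℕ, x = g ^ k := by
  obtain ⟨k, hk⟩ := (IsOfFinOrder.mem_powers_iff_mem_zpowers (isOfFinOrder_of_finite g)).2 h
  exact ⟨k, hk.symm⟩

theorem fixed_none {σ : Equiv.Perm GolayPt} {k : ℕ} (h : σ * shift * σ⁻¹ = shift ^ k) :
    σ none = none := by
  have e : (shift ^ k) (σ none) = σ none := by
    rw [← h, Equiv.Perm.mul_apply, Equiv.Perm.mul_apply, Equiv.Perm.coe_inv, Equiv.symm_apply_apply,
      Leech.shift_none]
  rcases hu : σ none with _ | u
  · rfl
  exfalso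
  rw [hu, Leech.shift_pow_some, Option.some.injEq, add_eq_left, ZMod.natCast_eq_zero_iff] at e
  obtain ⟨t, rfl⟩ := e
  rw [pow_mul, shift_pow, one_pow, mul_inv_eq_one] at h
  have h1 : shift = 1 := mul_left_cancel (h.trans (mul_one σ).symm)
  have := orderOf_gens.1
  rw [h1, orderOf_one] at this
  norm_num at this

theorem pow_double_fix {k : ℕ} (hk : ¬ 11 ∣ k) {p : GolayPt} (h : (double ^ k) p = p) :
    p = none ∨ p = some 0 := by
  rcases p with _ | u
  · exact Or.inl rfl
  right
  rw [Leech.g11_pow_some, Option.some.injEq] at h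
  have key : ∀ k : Fin 11, k.val ≠ 0 → ∀ u : ZMod 23, 2 ^ k.val * u = u → u = 0 := by decide +kernel
  have h2 : (2 : ZMod 23) ^ k = 2 ^ (k % 11) :=
    pow_eq_pow_mod k (by decide +kernel : (2 : ZMod 23) ^ 11 = 1)
  rw [h2] at h
  rw [key ⟨k % 11, Nat.mod_lt _ (by norm_num)⟩ (by simp; omega) u h]

theorem double_pts {σ : Equiv.Perm GolayPt} {k : ℕ} (h : σ * double * σ⁻¹ = double ^ k) {p : GolayPt}
    (hp : double p = p) : σ p = none ∨ σ p = some 0 := by
  have hk : ¬ 11 ∣ k := by
    rintro ⟨t, rfl⟩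
    rw [pow_mul, double_pow, one_pow, mul_inv_eq_one] at h
    have h1 : double = 1 := mul_left_cancel (h.trans (mul_one σ).symm)
    have := orderOf_gens.2.2.1
    rw [h1, orderOf_one] at this
    norm_num at this
  refine pow_double_fix hk ?_
  rw [← h, Equiv.Perm.mul_apply, Equiv.Perm.mul_apply, Equiv.Perm.coe_inv, Equiv.symm_apply_apply,
    hp]

theorem mem_H23_of_normalise {σ : M24} {k : ℕ} (h : σ.1 * shift * σ.1⁻¹ = shift ^ k) :
    σ.1 ∈ H23 := by
  have : Fact (Nat.Prime 23) := ⟨by norm_num⟩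
  set g : M24 := ⟨shift, shift_mem⟩ with hg
  set a : M24 := ⟨double, Leech.g11_mem⟩ with ha
  have hgo : orderOf g = 23 := by rw [hg, Subgroup.orderOf_mk]; exact orderOf_gens.1
  have hrel : a * g * a⁻¹ = g ^ 2 := by
    rw [mul_inv_eq_iff_eq_mul]; exact Subtype.ext shift_double
  have toP : ∀ {τ : M24} {k : ℕ}, τ * g * τ⁻¹ = g ^ k →
      Leech.permHom τ * Leech.g23 * (Leech.permHom τ)⁻¹ ∈ Subgroup.zpowers Leech.g23 := by
    intro τ k e
    rw [Leech.g23, ← map_inv, ← map_mul, ← map_mul, e, map_pow]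
    exact Subgroup.pow_mem _ (Subgroup.mem_zpowers _) k
  have hσg : σ * g * σ⁻¹ = g ^ k := Subtype.ext h
  have hcov : OuterRigid.PowCovers 23 2 253 := by unfold OuterRigid.PowCovers; decide +kernel
  refine OuterRigid.mem_of_normalise (K := H23.subgroupOf M24) (N := 253) hgo hrel shift_H23
    double_H23 (by rw [hσg]; exact Subgroup.pow_mem _ (Subgroup.mem_zpowers _) k)
    (Leech.permHom_injective (by
      rw [map_pow, (Leech.perm_normalise_23 (fixed_none h) (toP hσg)).1, map_one])) hcov ?_
  intro y hy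
  have hy' : y.1 * shift * y.1⁻¹ = shift ^ 1 := by
    rw [pow_one, mul_inv_eq_iff_eq_mul]; exact congrArg Subtype.val hy
  have := (Leech.perm_normalise_23 (fixed_none hy') (toP (k := 1) (Subtype.ext hy'))).2
    (by rw [Leech.g23, ← map_mul, ← map_mul, hy])
  rw [Leech.g23, ← MonoidHom.map_zpowers] at this
  obtain ⟨z, hz, ez⟩ := this
  rwa [← Leech.permHom_injective ez]

theorem num_facts : ∀ a ∈ Nat.divisors 128, ∀ b ∈ Nat.divisors 315, a * b % 23 = 1 →
    (a * b % 11 = 1 ∨ a * b % 11 = 5) → a * b = 1 ∨ a * b = 40320 := by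
  decide +kernel

theorem num {m : ℕ} (hm : m ∣ 40320) (h1 : m % 23 = 1) (h2 : ∃ d ∈ Nat.divisors 5, m % 11 = d % 11) :
    m = 1 ∨ m = 40320 := by
  have h2' : m % 11 = 1 ∨ m % 11 = 5 := by
    obtain ⟨d, hd, e⟩ := h2
    rw [show Nat.divisors 5 = {1, 5} by decide] at hd
    simp only [Finset.mem_insert, Finset.mem_singleton] at hd
    rcases hd with rfl | rfl <;> omega
  have hm' : m ∣ 128 * 315 := by norm_num; exact hm
  obtain ⟨a, b, ha, hb, rfl⟩ := Nat.dvd_mul.1 hm'
  exact num_facts a (Nat.mem_divisors.2 ⟨ha, by norm_num⟩) b (Nat.mem_divisors.2 ⟨hb, by norm_num⟩)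
    h1 h2'

theorem relIndex_dvd {G : Type*} [Group G] [Finite G] (H N : Subgroup G) {c h : ℕ}
    (hc : Nat.card N ∣ c * h) (hh : 0 < h) (hdiv : h ∣ Nat.card (H.subgroupOf N)) :
    H.relIndex N ∣ c := by
  obtain ⟨t, ht⟩ := hdiv
  have e := (H.subgroupOf N).card_mul_index
  rw [ht] at e
  have h1 : h * H.relIndex N ∣ c * h :=
    (dvd_mul_left (h * H.relIndex N) t).trans (by
      rw [show t * (h * H.relIndex N) = h * t * (H.subgroupOf N).index by
        rw [Subgroup.relIndex]; ring, e]
      exact hc)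
  rw [mul_comm c] at h1
  exact Nat.dvd_of_mul_dvd_mul_left hh h1

theorem orders : orderOf cubeTwist = 5 ∧ orderOf projInv = 2 := by
  have : Fact (Nat.Prime 5) := ⟨by norm_num⟩
  refine ⟨orderOf_eq_prime cube_five fun e => ?_, orderOf_eq_prime proj_two fun e => ?_⟩
  · have h := double_cube
    rw [e, one_mul, mul_one] at h
    have : double ^ 2 = 1 := by
      calc double ^ 2 = double ^ 3 * double⁻¹ := by group
        _ = 1 := by rw [← h, mul_inv_cancel]
    have := orderOf_dvd_of_pow_eq_one this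
    rw [orderOf_gens.2.2.1] at this
    norm_num at this
  · have h := proj_pts.1
    rw [e] at h
    simp at h

theorem coatom24 : IsCoatom (P23.subgroupOf M24) := by
  haveI : Fact (Nat.Prime 23) := ⟨by norm_num⟩
  haveI : Fact (Nat.Prime 11) := ⟨by norm_num⟩
  set g : M24 := ⟨shift, shift_mem⟩ with hg
  set a : M24 := ⟨double, Leech.g11_mem⟩ with ha
  set d : M24 := ⟨projInv, projInv_mem⟩ with hd
  set b : M24 := ⟨cubeTwist, cubeTwist_mem⟩ with hb
  have hgo : orderOf g = 23 := by rw [hg, Subgroup.orderOf_mk]; exact orderOf_gens.1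
  have hao : orderOf a = 11 := by rw [ha, Subgroup.orderOf_mk]; exact orderOf_gens.2.2.1
  have hG : Nat.card M24 = 244823040 := card_M24
  have hH : Nat.card (P23.subgroupOf M24) = 6072 := by
    rw [Nat.card_congr (Subgroup.subgroupOfEquivOfLe P23_le).toEquiv, card_P23]
  have hidx : (P23.subgroupOf M24).index = 40320 := by
    have := (P23.subgroupOf M24).card_mul_index
    rw [hH, hG] at this
    omega
  set N := Subgroup.normalizer (Subgroup.zpowers a : Set M24) with hNdef
  have hmemN : ∀ y : M24, y * a * y⁻¹ ∈ Subgroup.zpowers a → y ∈ N := fun y hy => by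
    obtain ⟨k, hk⟩ := exists_pow_of_mem hy
    refine Subgroup.mem_normalizer_iff.2 fun x => ⟨fun hx => ?_, fun hx => ?_⟩
    · obtain ⟨i, rfl⟩ := exists_pow_of_mem hx
      rw [← conj_pow, hk]; exact Subgroup.pow_mem _ (Subgroup.pow_mem _ (Subgroup.mem_zpowers _) _) _
    · have hle : (Subgroup.zpowers a).map (MulAut.conj y).toMonoidHom ≤ Subgroup.zpowers a := by
        rw [MonoidHom.map_zpowers, Subgroup.zpowers_le]
        exact hy
      have heq := Subgroup.eq_of_le_of_card_ge hle (le_of_eq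
        (Nat.card_congr (Subgroup.equivMapOfInjective _ _ (MulAut.conj y).injective).toEquiv))
      rw [← heq] at hx
      obtain ⟨z, hz, ez⟩ := hx
      have : z = x := (MulAut.conj y).injective ez
      rwa [← this]
  have haN : a ∈ N := hmemN a (by rw [mul_inv_cancel_right]; exact Subgroup.mem_zpowers a)
  have hdN : d ∈ N := hmemN d (by
    have : d * a * d⁻¹ = a ^ 10 := by rw [mul_inv_eq_iff_eq_mul]; exact Subtype.ext double_proj
    rw [this]; exact Subgroup.pow_mem _ (Subgroup.mem_zpowers _) _)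
  have hbN : b ∈ N := hmemN b (by
    have : b * a * b⁻¹ = a ^ 3 := by rw [mul_inv_eq_iff_eq_mul]; exact Subtype.ext double_cube
    rw [this]; exact Subgroup.pow_mem _ (Subgroup.mem_zpowers _) _)
  have hNsub : (N : Set M24) ⊆ (fun q : Fin 2 × Fin 5 × Fin 11 =>
      d ^ q.1.val * (b ^ q.2.1.val * a ^ q.2.2.val)) '' Set.univ := by
    intro y hy
    obtain ⟨k, hk⟩ := exists_pow_of_mem ((Subgroup.mem_normalizer_iff.1 hy a).1 (Subgroup.mem_zpowers a))
    have hk' : y.1 * double * y.1⁻¹ = double ^ k := congrArg Subtype.val hk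
    have finish : ∀ z : M24, z.1 none = none → ∀ m : ℕ, z.1 * double * z.1⁻¹ = double ^ m →
        ∃ q : Fin 5 × Fin 11, z = b ^ q.1.val * a ^ q.2.val := by
      intro z h0 m hm
      have h1 : z.1 (some 0) = some 0 := by
        rcases double_pts hm ((double_pt _).2 (Or.inr rfl)) with e | e
        · exact absurd (z.1.injective (e.trans h0.symm)) (by simp)
        · exact e
      obtain ⟨i, j, e⟩ := normal_form h0 h1 hm
      refine ⟨(⟨j % 5, Nat.mod_lt _ (by norm_num)⟩, ⟨i % 11, Nat.mod_lt _ (by norm_num)⟩), ?_⟩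
      apply Subtype.ext
      show z.1 = cubeTwist ^ (j % 5) * double ^ (i % 11)
      rw [e, ← pow_eq_pow_mod j cube_five, ← pow_eq_pow_mod i double_pow]
    rcases double_pts hk' ((double_pt _).2 (Or.inl rfl)) with h0 | h0
    · obtain ⟨q, hq⟩ := finish y h0 k hk'
      exact ⟨(0, q), trivial, by simp [hq]⟩
    · obtain ⟨q, hq⟩ := finish (d * y) (by
        show (projInv * y.1) none = none
        rw [Equiv.Perm.mul_apply, h0, proj_pts.2]) (10 * k) (by
        show projInv * y.1 * double * (projInv * y.1)⁻¹ = double ^ (10 * k)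
        calc projInv * y.1 * double * (projInv * y.1)⁻¹
            = projInv * (y.1 * double * y.1⁻¹) * projInv⁻¹ := by group
          _ = projInv * double ^ k * projInv⁻¹ := by rw [hk']
          _ = double ^ (10 * k) := by rw [proj_double_pow, mul_inv_cancel_right])
      refine ⟨(1, q), trivial, ?_⟩
      have hdd : d * d = 1 := Subtype.ext ((pow_two projInv).symm.trans proj_two)
      simp only [Fin.val_one, pow_one, ← hq, ← mul_assoc, hdd, one_mul]
  have hNle : Nat.card N ≤ 110 := by
    rw [← SetLike.coe_sort_coe, Nat.card_coe_set_eq]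
    refine (Set.ncard_le_ncard hNsub (Set.toFinite _)).trans
      ((Set.ncard_image_le (Set.toFinite _)).trans ?_)
    rw [Set.ncard_univ, Nat.card_eq_fintype_card]
    simp
  have hdvd : 110 ∣ Nat.card N := by
    have e11 := Subgroup.orderOf_dvd_natCard N haN
    have e2 := Subgroup.orderOf_dvd_natCard N hdN
    have e5 := Subgroup.orderOf_dvd_natCard N hbN
    rw [hao] at e11
    rw [hd, Subgroup.orderOf_mk, orders.2] at e2
    rw [hb, Subgroup.orderOf_mk, orders.1] at e5
    have := (show Nat.Coprime 22 5 by norm_num).mul_dvd_of_dvd_of_dvd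
      ((show Nat.Coprime 11 2 by norm_num).mul_dvd_of_dvd_of_dvd e11 e2) e5
    simpa using this
  have hNcard : Nat.card N = 110 := le_antisymm hNle (Nat.le_of_dvd Nat.card_pos hdvd)
  refine coatom_of_congr (p := 23) (q := 11) hgo hao (by rw [hG]; norm_num) (by rw [hG]; norm_num)
    (fun e => by rw [e, Subgroup.index_top] at hidx; norm_num at hidx) (fun y hy => ?_) (r := 5)
    (H23_le_P23 double_H23) (by norm_num) (relIndex_dvd _ _ (c := 5) (h := 22)
      (by rw [hNcard]) (by norm_num) ?_) (fun m hm h1 h2 => ?_)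
  · obtain ⟨k, hk⟩ := exists_pow_of_mem hy
    exact H23_le_P23 (mem_H23_of_normalise (congrArg Subtype.val hk))
  · have e11 := Subgroup.orderOf_dvd_natCard ((P23.subgroupOf M24).subgroupOf N)
      (x := ⟨a, haN⟩) (H23_le_P23 double_H23)
    have e2 := Subgroup.orderOf_dvd_natCard ((P23.subgroupOf M24).subgroupOf N)
      (x := ⟨d, hdN⟩) (Subgroup.subset_closure (Or.inl (Or.inr rfl)))
    rw [Subgroup.orderOf_mk, hao] at e11
    rw [Subgroup.orderOf_mk, hd, Subgroup.orderOf_mk, orders.2] at e2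
    simpa using (show Nat.Coprime 11 2 by norm_num).mul_dvd_of_dvd_of_dvd e11 e2
  · rw [hidx] at hm ⊢
    exact num (Nat.dvd_of_mem_divisors hm) h1 h2

theorem coatom23 : IsCoatom
    ((H23.subgroupOf M24).subgroupOf (MulAction.stabilizer M24 (none : GolayPt))) := by
  haveI : Fact (Nat.Prime 23) := ⟨by norm_num⟩
  haveI : Fact (Nat.Prime 11) := ⟨by norm_num⟩
  set G := MulAction.stabilizer M24 (none : GolayPt) with hGdef
  have hHle : H23.subgroupOf M24 ≤ G := fun x hx => (H23_le hx).2
  set g : G := ⟨⟨shift, shift_mem⟩, Leech.shift_none⟩ with hg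
  set a : G := ⟨⟨double, Leech.g11_mem⟩, Leech.g11_none⟩ with ha
  set b : G := ⟨⟨cubeTwist, cubeTwist_mem⟩, cube_pts.1⟩ with hb
  set H := (H23.subgroupOf M24).subgroupOf G with hHdef
  have hgo : orderOf g = 23 := by
    rw [← orderOf_injective G.subtype Subtype.val_injective g,
      ← orderOf_injective M24.subtype Subtype.val_injective]
    exact orderOf_gens.1
  have hao : orderOf a = 11 := by
    rw [← orderOf_injective G.subtype Subtype.val_injective a,
      ← orderOf_injective M24.subtype Subtype.val_injective]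
    exact orderOf_gens.2.2.1
  have hG : Nat.card G = 10200960 := by
    rw [← card_M23]
    exact Nat.card_congr
      { toFun := fun x => ⟨x.1.1, OuterCommon.mem_M23.2 ⟨x.1.2, x.2⟩⟩
        invFun := fun x => ⟨⟨x.1, (OuterCommon.mem_M23.1 x.2).1⟩, (OuterCommon.mem_M23.1 x.2).2⟩
        left_inv := fun _ => rfl
        right_inv := fun _ => rfl }
  have hH : Nat.card H = 253 := by
    rw [Nat.card_congr (Subgroup.subgroupOfEquivOfLe hHle).toEquiv,
      Nat.card_congr (Subgroup.subgroupOfEquivOfLe (fun x hx => (H23_le hx).1)).toEquiv, card_H23]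
  have hidx : H.index = 40320 := by
    have := H.card_mul_index
    rw [hH, hG] at this
    omega
  set N := Subgroup.normalizer (Subgroup.zpowers a : Set G) with hNdef
  have hNsub : (N : Set G) ⊆ (fun q : Fin 5 × Fin 11 => b ^ q.1.val * a ^ q.2.val) '' Set.univ := by
    intro y hy
    obtain ⟨k, hk⟩ := exists_pow_of_mem ((Subgroup.mem_normalizer_iff.1 hy a).1 (Subgroup.mem_zpowers a))
    have hk' : y.1.1 * double * y.1.1⁻¹ = double ^ k :=
      congrArg (fun z : G => z.1.1) hk
    have h1 : y.1.1 (some 0) = some 0 := by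
      rcases double_pts hk' ((double_pt _).2 (Or.inr rfl)) with e | e
      · exact absurd (y.1.1.injective (e.trans (y.2 : y.1.1 none = none).symm)) (by simp)
      · exact e
    obtain ⟨i, j, e⟩ := normal_form (σ := y.1) y.2 h1 hk'
    refine ⟨(⟨j % 5, Nat.mod_lt _ (by norm_num)⟩, ⟨i % 11, Nat.mod_lt _ (by norm_num)⟩), trivial, ?_⟩
    apply Subtype.ext; apply Subtype.ext
    show cubeTwist ^ (j % 5) * double ^ (i % 11) = y.1.1
    rw [e, ← pow_eq_pow_mod j cube_five, ← pow_eq_pow_mod i double_pow]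
  have hNle : Nat.card N ≤ 55 := by
    rw [← SetLike.coe_sort_coe, Nat.card_coe_set_eq]
    refine (Set.ncard_le_ncard hNsub (Set.toFinite _)).trans
      ((Set.ncard_image_le (Set.toFinite _)).trans ?_)
    rw [Set.ncard_univ, Nat.card_eq_fintype_card]
    simp
  have haN : a ∈ N := Subgroup.le_normalizer (Subgroup.mem_zpowers a)
  have h55 : Nat.card N ∣ 55 := by
    have e11 := Subgroup.orderOf_dvd_natCard N haN
    have hG' : Nat.card N ∣ 10200960 := hG ▸ Subgroup.card_subgroup_dvd_card N
    rw [hao] at e11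
    obtain ⟨t, ht⟩ := e11
    rw [ht] at hNle hG' ⊢
    have ht5 : t ≤ 5 := by omega
    have ht0 : t ≠ 0 := by rintro rfl; exact Nat.card_pos.ne' (ht.trans (by norm_num))
    have e5 := Subgroup.orderOf_dvd_natCard N (x := b) ?_
    · rw [← orderOf_injective G.subtype Subtype.val_injective b,
        ← orderOf_injective M24.subtype Subtype.val_injective] at e5
      change orderOf cubeTwist ∣ _ at e5
      rw [orders.1, ht] at e5
      interval_cases t <;> first | omega | (norm_num at e5; done) | norm_num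
    · refine Subgroup.mem_normalizer_iff.2 fun x => ⟨fun hx => ?_, fun hx => ?_⟩
      · obtain ⟨i, rfl⟩ := exists_pow_of_mem hx
        have : b * a * b⁻¹ = a ^ 3 := by
          rw [mul_inv_eq_iff_eq_mul]; exact Subtype.ext (Subtype.ext double_cube)
        rw [← conj_pow, this]
        exact Subgroup.pow_mem _ (Subgroup.pow_mem _ (Subgroup.mem_zpowers _) _) _
      · obtain ⟨i, hi⟩ := exists_pow_of_mem hx
        have h4 : b⁻¹ * a * b = a ^ 4 := by
          have : a * b = b * a ^ 4 := Subtype.ext (Subtype.ext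
            (eq_of_tabs (tab_double.mul tab_cubeTwist) (tab_cubeTwist.mul (tab_double.pow 4))
              (by decide +kernel)))
          rw [mul_assoc, this, inv_mul_cancel_left]
        have : x = (b⁻¹ * a * b) ^ i := by
          calc x = b⁻¹ * (b * x * b⁻¹) * b := by group
            _ = b⁻¹ * a ^ i * b⁻¹⁻¹ := by rw [hi, inv_inv]
            _ = _ := by rw [← conj_pow, inv_inv]
        rw [this, h4]
        exact Subgroup.pow_mem _ (Subgroup.pow_mem _ (Subgroup.mem_zpowers _) _) _
  refine coatom_of_congr (p := 23) (q := 11) hgo hao (by rw [hG]; norm_num) (by rw [hG]; norm_num)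
    (fun e => by rw [e, Subgroup.index_top] at hidx; norm_num at hidx) (fun y hy => ?_) (r := 5)
    double_H23 (by norm_num) (relIndex_dvd _ _ (c := 5) (h := 11) (by simpa using h55) (by norm_num) ?_)
    (fun m hm h1 h2 => ?_)
  · obtain ⟨k, hk⟩ := exists_pow_of_mem hy
    exact mem_H23_of_normalise (σ := y.1) (congrArg (fun z : G => z.1.1) hk)
  · have e11 := Subgroup.orderOf_dvd_natCard (H.subgroupOf N) (x := ⟨a, haN⟩) double_H23
    rwa [Subgroup.orderOf_mk, hao] at e11
  · rw [hidx] at hm ⊢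
    exact num (Nat.dvd_of_mem_divisors hm) h1 h2

theorem s1643 : (P23 ≤ M24 ∧ Nat.card P23 = 6072 ∧ IsCoatom (P23.subgroupOf M24)) ∧
    (H23 ≤ M24 ⊓ MulAction.stabilizer (Equiv.Perm GolayPt) (none : GolayPt) ∧ Nat.card H23 = 253 ∧
      IsCoatom ((H23.subgroupOf M24).subgroupOf (MulAction.stabilizer M24 (none : GolayPt)))) :=
  ⟨⟨P23_le, card_P23, coatom24⟩, H23_le, card_H23, coatom23⟩

end Cfsg.Agent.SporStruct.PSL23Max
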