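import Cfsg.Agent.SporStruct.Co2MultCheck
import Cfsg.Agent.SporStruct.OutCo1Mono

/-!
Elements of Co2 from tables.
-/

set_option autoImplicit false

namespace Cfsg.Agent.SporStruct.Co2MultCheck

open Cfsg Cfsg.Agent.Leech CoMatrix
open Cfsg.Agent.Golay (Tab)
open OutCo1 (sMat)

/-- The check of a signed permutation. -/
noncomputable def monoOK (q : List ℕ × ℕ) : Bool :=
  Golay.isPermTab q.1 && Golay.checkAut q.1 && Golay.inCode q.2 &&
    decide (mapP (packT (sMat q)) vUL = vUL)

/-- The check that a table fixes the vector. -/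
noncomputable def fixOK (T : List (List ℤ)) : Bool := decide (mapP (packT T) vUL = vUL)

theorem exists_of_fix {y : Co0} {T : List (List ℤ)} (hy : rows y = T)
    (h : mapP (packT T) vUL = vUL) : ∃ g, rows (ι g) = T := by
  obtain ⟨g, hg⟩ := exists_ι (y := y) (Subtype.ext (vecL_inj (by
    rw [← mapP_rows y Spor.leechU (sqNorm_leechU.le.trans (by norm_num)), hy, vecL_leechU, h])))
  exact ⟨g, by rw [hg, hy]⟩

theorem exists_of_mono {q : List ℕ × ℕ} (h : monoOK q = true) : ∃ g, rows (ι g) = sMat q := by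
  simp only [monoOK, Bool.and_eq_true, decide_eq_true_eq] at h
  obtain ⟨⟨⟨hp, ha⟩, hc⟩, hf⟩ := h
  exact exists_of_fix
    (OutCo1.rows_mono (σ := ⟨_, (Golay.tab_permOf hp).mem_M24 ha⟩) (Golay.tab_permOf hp)
      (OutCo1.toSet_mem_code hc)) hf

theorem exists_of_table {T : List (List ℤ)} (h : checkMap T = true)
    (h' : checkMap (transpL T) = true) (hf : fixOK T = true) : ∃ g, rows (ι g) = T := by
  obtain ⟨y, hy⟩ := exists_elem h h'
  exact exists_of_fix hy (by simpa [fixOK] using hf)

theorem exists_list : ∀ {T : List (List (List ℤ))}, (∀ M ∈ T, ∃ g, rows (ι g) = M) →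
    ∃ L : List Spor.Co2, (L.map fun g => packT (rows (ι g))) = T.map packT
  | [], _ => ⟨[], rfl⟩
  | M :: T, h => by
    obtain ⟨g, hg⟩ := h M List.mem_cons_self
    obtain ⟨L, hL⟩ := exists_list fun N hN => h N (List.mem_cons_of_mem _ hN)
    exact ⟨g :: L, by simp [hg, hL]⟩

end Cfsg.Agent.SporStruct.Co2MultCheck
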