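import Cfsg.Agent.SporStruct.Co2Sylow3
import Cfsg.Agent.SporStruct.Co2Elems

/-!
The part at 3 of the Schur multiplier of Co2 is trivial.
-/

set_option autoImplicit false
set_option maxRecDepth 100000
set_option maxHeartbeats 2000000

namespace Cfsg.Agent.SporStruct.Co2Mult3

open Cfsg Cfsg.Agent.Leech CoMatrix PCCert Co2MultCheck Co2Sylow3

theorem packs_eq : packs = others.map packT := by decide +kernel

theorem tab0_ok : ∃ g, rows (ι g) = tab0 :=
  exists_of_table (by decide +kernel) (by decide +kernel) (by decide +kernel)

theorem tab1_ok : ∃ g, rows (ι g) = tab1 :=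
  exists_of_table (by decide +kernel) (by decide +kernel) (by decide +kernel)

theorem tab2_ok : ∃ g, rows (ι g) = tab2 :=
  exists_of_table (by decide +kernel) (by decide +kernel) (by decide +kernel)

theorem tab3_ok : ∃ g, rows (ι g) = tab3 :=
  exists_of_table (by decide +kernel) (by decide +kernel) (by decide +kernel)

theorem tab4_ok : ∃ g, rows (ι g) = tab4 :=
  exists_of_table (by decide +kernel) (by decide +kernel) (by decide +kernel)

theorem tab5_ok : ∃ g, rows (ι g) = tab5 :=
  exists_of_table (by decide +kernel) (by decide +kernel) (by decide +kernel)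

theorem tab6_ok : ∃ g, rows (ι g) = tab6 :=
  exists_of_table (by decide +kernel) (by decide +kernel) (by decide +kernel)

theorem tab7_ok : ∃ g, rows (ι g) = tab7 :=
  exists_of_table (by decide +kernel) (by decide +kernel) (by decide +kernel)

theorem tab8_ok : ∃ g, rows (ι g) = tab8 :=
  exists_of_table (by decide +kernel) (by decide +kernel) (by decide +kernel)

theorem tab9_ok : ∃ g, rows (ι g) = tab9 :=
  exists_of_table (by decide +kernel) (by decide +kernel) (by decide +kernel)

theorem shape_ok : shapeOK pres = true := by decide +kernel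

theorem comb_ok : combOK pres (listOps 3 36) cert = true := by decide +kernel

theorem conj_ok : conjOK pres packs (cert.specs.flatMap Spec.pairs) = true := by decide +kernel

theorem rel0 : relAt pres packs 0 = true := by decide +kernel

theorem sep0 : sepAt pres.n packs (sepW.getD 0 []) 0 = true := by decide +kernel

theorem rel1 : relAt pres packs 1 = true := by decide +kernel

theorem sep1 : sepAt pres.n packs (sepW.getD 1 []) 1 = true := by decide +kernel

theorem rel2 : relAt pres packs 2 = true := by decide +kernel

theorem sep2 : sepAt pres.n packs (sepW.getD 2 []) 2 = true := by decide +kernel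

theorem rel3 : relAt pres packs 3 = true := by decide +kernel

theorem sep3 : sepAt pres.n packs (sepW.getD 3 []) 3 = true := by decide +kernel

theorem rel4 : relAt pres packs 4 = true := by decide +kernel

theorem sep4 : sepAt pres.n packs (sepW.getD 4 []) 4 = true := by decide +kernel

theorem rel5 : relAt pres packs 5 = true := by decide +kernel

theorem sep5 : sepAt pres.n packs (sepW.getD 5 []) 5 = true := by decide +kernel

theorem exists_local {Γ : Type} [Group Γ] [Finite Γ] (σ : Γ →* Spor.Co2)
    (hσ : Function.Surjective σ) (hc : σ.ker ≤ Subgroup.center Γ) (hexp : ∀ z ∈ σ.ker, z ^ 3 = 1) :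
    ∃ S : Subgroup Spor.Co2, ¬ 3 ∣ S.index ∧ σ.ker ⊓ ⁅S.comap σ, S.comap σ⁆ = ⊥ := by
  have hT : ∀ M ∈ others, ∃ g, rows (ι g) = M := by
    intro M hM
    simp only [others, List.mem_cons, List.not_mem_nil, or_false] at hM
    rcases hM with rfl | rfl | rfl | rfl | rfl | rfl | rfl | rfl | rfl | rfl
    · exact tab0_ok
    · exact tab1_ok
    · exact tab2_ok
    · exact tab3_ok
    · exact tab4_ok
    · exact tab5_ok
    · exact tab6_ok
    · exact tab7_ok
    · exact tab8_ok
    · exact tab9_ok
  obtain ⟨L, hL⟩ := exists_list hT
  rw [← packs_eq] at hL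
  refine local_of_checks pres (listOps 3 36) cert sepW hL ?_ ?_ shape_ok comb_ok (fun k hk => ?_) conj_ok
    (fun k hk => ?_) ?_ σ hσ hc hexp (fun C hc hp hN => exists_realised_list hc hp hN)
  · show Nat.Prime 3
    norm_num
  · decide
  · have hk' : k < 6 := hk
    interval_cases k
    · exact rel0
    · exact rel1
    · exact rel2
    · exact rel3
    · exact rel4
    · exact rel5
  · have hk' : k < 6 := hk
    interval_cases k
    · exact sep0
    · exact sep1
    · exact sep2
    · exact sep3
    · exact sep4
    · exact sep5
  · intro m hm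
    show ¬ 3 ∣ m
    have hm' : 3 ^ 6 * m = 42305421312000 := hm
    omega

end Cfsg.Agent.SporStruct.Co2Mult3
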