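import Cfsg.Agent.SporStruct.Co2Mult2
import Cfsg.Agent.SporStruct.Co2Mult3
import Cfsg.Agent.SporStruct.Co2Mult5
import Cfsg.Agent.Lib.Schur.Basic
import Cfsg.Agent.Lib.Golay.Mult.Tables

/-!
The Schur multiplier of Co2 is trivial.
-/

set_option autoImplicit false

namespace Cfsg.Agent.SporStruct.Co2Mult

open Cfsg Subgroup Co2MultCheck

theorem exists_local_prime (ℓ : ℕ) (hℓ : ℓ.Prime) (Δ : Type) [Group Δ] [Finite Δ]
    (τ : Δ →* Spor.Co2) (hs : Function.Surjective τ) (hc : τ.ker ≤ center Δ)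
    (hexp : ∀ k ∈ τ.ker, k ^ ℓ = 1) :
    ∃ S : Subgroup Spor.Co2, ¬ ℓ ∣ S.index ∧ τ.ker ⊓ ⁅S.comap τ, S.comap τ⁆ = ⊥ := by
  by_cases h2 : ℓ = 2
  · subst h2; exact Co2Mult2.exists_local τ hs hc hexp
  by_cases h3 : ℓ = 3
  · subst h3; exact Co2Mult3.exists_local τ hs hc hexp
  by_cases h5 : ℓ = 5
  · subst h5; exact Co2Mult5.exists_local τ hs hc hexp
  refine Golay.Mult.exists_local_of_sq_not_dvd τ hs hc hℓ fun hsq => ?_
  rw [card_Co2] at hsq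
  have hd : ℓ ∣ 2 ^ 18 * (3 ^ 6 * (5 ^ 3 * (7 * (11 * 23)))) := by
    have := (dvd_pow_self ℓ two_ne_zero).trans hsq
    norm_num
    exact this
  have hp : ∀ q : ℕ, q.Prime → ℓ ∣ q → ℓ = q := fun q hq h => (Nat.prime_dvd_prime_iff_eq hℓ hq).1 h
  rcases hℓ.dvd_mul.1 hd with h | h
  · exact h2 (hp 2 Nat.prime_two (hℓ.dvd_of_dvd_pow h))
  rcases hℓ.dvd_mul.1 h with h | h
  · exact h3 (hp 3 Nat.prime_three (hℓ.dvd_of_dvd_pow h))
  rcases hℓ.dvd_mul.1 h with h | h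
  · exact h5 (hp 5 (by norm_num) (hℓ.dvd_of_dvd_pow h))
  rcases hℓ.dvd_mul.1 h with h | h
  · obtain rfl := hp 7 (by norm_num) h
    norm_num at hsq
  rcases hℓ.dvd_mul.1 h with h | h
  · obtain rfl := hp 11 (by norm_num) h
    norm_num at hsq
  · obtain rfl := hp 23 (by norm_num) h
    norm_num at hsq

/-- The Schur multiplier of Co2 is trivial. -/
theorem hasCyclicSchurMultiplier_Co2 : Cfsg.HasCyclicSchurMultiplier Spor.Co2 1 :=
  Cfsg.Agent.Schur.hasCyclicSchurMultiplier_one_of_forall fun _ _ _ σ hσ =>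
    PCCert.ker_eq_bot_of_exp exists_local_prime σ hσ

end Cfsg.Agent.SporStruct.Co2Mult
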