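import Cfsg.Agent.SporStruct.OuterBigCheck

/-!
Co2 has no outer automorphism.
-/

set_option autoImplicit false

namespace Cfsg.Agent.SporStruct.OuterCo2

open Cfsg Cfsg.Agent.Leech CoMatrix OuterBig OuterData

theorem sqNorm_two : sqNorm (Spor.leechU : GolayPt → ℤ) = 32 ∧
    sqNorm (vecA : GolayPt → ℤ) = 32 := by
  refine ⟨by show sqNorm Spor.vecU = 32; decide +kernel, ?_⟩
  rw [← dotInt_self, dotInt_sum]
  simp only [coe_vecA]
  decide +kernel

theorem exists_emb : ∃ emb : Spor.Co2 →* Co0, Function.Injective emb ∧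
    ∀ y : Co0, (∃ g, emb g = y) ↔ y • vecA = vecA := by
  obtain ⟨h, hh⟩ := transitive_32 codeUnique sqNorm_two.1 sqNorm_two.2
  have hh' : h • Spor.leechU = vecA := hh
  refine ⟨(MulAut.conj h).toMonoidHom.comp (Subgroup.inclusion inf_le_left),
    (MulAut.conj h).injective.comp (Subgroup.inclusion_injective _), fun y => ?_⟩
  constructor
  · rintro ⟨g, rfl⟩
    show (h * Subgroup.inclusion inf_le_left g * h⁻¹) • vecA = vecA
    rw [← hh', mul_smul, mul_smul, inv_smul_smul,
      show (Subgroup.inclusion (inf_le_left : Spor.Co2 ≤ Co0) g) • Spor.leechU = Spor.leechU from g.2.2]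
  · intro hy
    have hy' : (h⁻¹ * y * h) • Spor.leechU = Spor.leechU := by
      rw [mul_smul, mul_smul, hh', hy, ← hh', inv_smul_smul]
    refine ⟨⟨(h⁻¹ * y * h).1, (h⁻¹ * y * h).2, hy'⟩, ?_⟩
    show h * (h⁻¹ * y * h) * h⁻¹ = y
    group

theorem div_facts : ∀ a ∈ Nat.divisors 2048, ∀ b ∈ Nat.divisors 2025,
    a * b % 23 = 1 → a * b % 11 = 1 →
      a * b = 1 ∨ 4147200 / (a * b) < co2Orb.length ∨ a * b ∈ [2025] := by
  decide +kernel

theorem co2_div (m : ℕ) (hm : m ∈ Nat.divisors 4147200) (h1 : m % 23 = 1) (h2 : m % 11 = 1) :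
    m = 1 ∨ 4147200 / m < co2Orb.length ∨ m ∈ [2025] := by
  have hd : m ∣ 2048 * 2025 := by
    rw [show (2048 * 2025 : ℕ) = 4147200 by norm_num]; exact Nat.dvd_of_mem_divisors hm
  obtain ⟨a, b, ha, hb, rfl⟩ := (Nat.dvd_mul).1 hd
  exact div_facts a (Nat.mem_divisors.2 ⟨ha, by norm_num⟩) b (Nat.mem_divisors.2 ⟨hb, by norm_num⟩)
    h1 h2

theorem card_out : Nat.card (Out Spor.Co2) = 1 := by
  haveI : Fact (Nat.Prime 3) := ⟨by norm_num⟩
  obtain ⟨emb, hemb, hr⟩ := exists_emb
  haveI := OuterCommon.finiteOfInj hemb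
  have hcard : Nat.card Spor.Co2 = 10200960 * 4147200 := by
    rw [show (10200960 * 4147200 : ℕ) = 42305421312000 by norm_num,
      ← card_stab32 codeUnique sqNorm_two.2]
    refine Nat.card_congr ((MonoidHom.ofInjective hemb).toEquiv.trans ?_)
    refine Equiv.subtypeEquivRight fun y => ?_
    rw [MonoidHom.mem_range, hr]
    rfl
  obtain ⟨g, a, c, hT, hgo, hao, hcc, hcne, hperm, hgen, hcac, hnorm, hα⟩ := big_main hemb
    (Or.inr ⟨rfl, rfl⟩) hr hcard (by norm_num) co2_gen co2_words.1 co2_words.2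
    co2_orbit co2_div (by norm_num) co2_enum
  have hcac' : c * a * c = a ^ 10 := by
    refine hcac.resolve_left fun e => co2_rel.2.1 ?_
    rw [← rows_word_packed hT, ← rows_word_packed hT]
    simp [word, ← mul_assoc, e]
  have hgen' : Subgroup.closure {x | x ∈ [g, a, c]} = ⊤ := by
    refine hgen.resolve_right fun hbad => ?_
    set K := Subgroup.closure {x | x ∈ [g, a, c]} with hK
    obtain ⟨-, -, h9, h3⟩ := co2_rel
    obtain ⟨hA, hB, hAm, hBm, hA0, hB0, hAB, hA3, hB3, hind⟩ := three_facts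
    set σA : M24 := ⟨Golay.permOf threeA hA, (Golay.tab_permOf hA).mem_M24 hAm⟩
    set σB : M24 := ⟨Golay.permOf threeB hB, (Golay.tab_permOf hB).mem_M24 hBm⟩
    have hA0' : σA.1 none = none := by
      show Golay.permOf threeA hA none = none
      rw [(Golay.tab_permOf hA).apply, show Golay.idx none = 23 from rfl, hA0]; rfl
    have hB0' : σB.1 none = none := by
      show Golay.permOf threeB hB none = none
      rw [(Golay.tab_permOf hB).apply, show Golay.idx none = 23 from rfl, hB0]; rfl
    obtain ⟨x, hxK, hx⟩ := hperm σA hA0'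
    obtain ⟨y, hyK, hy⟩ := hperm σB hB0'
    have hrx : rows (emb x) = permMat threeA := by rw [hx, rows_permHom (Golay.tab_permOf hA)]
    have hry : rows (emb y) = permMat threeB := by rw [hy, rows_permHom (Golay.tab_permOf hB)]
    have hxy : Commute x y := hemb (rows_injective (by
      rw [map_mul, map_mul, rows_mul, rows_mul, hrx, hry, hAB]))
    have hx3 : x ^ 3 = 1 := hemb (rows_injective (by
      rw [map_pow, rows_pow, hrx, hA3, map_one, rows_one]))
    have hy3 : y ^ 3 = 1 := hemb (rows_injective (by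
      rw [map_pow, rows_pow, hry, hB3, map_one, rows_one]))
    have key : ∀ i j : Fin 3, x ^ i.val * y ^ j.val = 1 → i = 0 ∧ j = 0 := fun i j e => hind i j (by
      rw [← hrx, ← hry, ← rows_pow, ← rows_pow, ← map_pow, ← map_pow, ← rows_mul, ← map_mul, e,
        map_one, rows_one])
    let f : (Subgroup.zpowers x) × (Subgroup.zpowers y) →* Spor.Co2 :=
      MonoidHom.noncommCoprod (Subgroup.zpowers x).subtype (Subgroup.zpowers y).subtype (by
        rintro ⟨u, hu⟩ ⟨v, hv⟩
        obtain ⟨i, rfl⟩ := Subgroup.mem_zpowers_iff.1 hu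
        obtain ⟨j, rfl⟩ := Subgroup.mem_zpowers_iff.1 hv
        exact hxy.zpow_zpow i j)
    have hpow : ∀ (z : Spor.Co2), z ^ 3 = 1 → ∀ u ∈ Subgroup.zpowers z, ∃ i : Fin 3, u = z ^ i.val := by
      intro z hz u hu
      obtain ⟨m, rfl⟩ := Subgroup.mem_zpowers_iff.1 hu
      refine ⟨⟨(m % 3).toNat, by omega⟩, ?_⟩
      rw [← zpow_natCast, Int.toNat_of_nonneg (by omega)]
      exact zpow_eq_zpow_emod' m hz
    have hf : Function.Injective f := by
      rw [injective_iff_map_eq_one]
      rintro ⟨⟨u, hu⟩, ⟨v, hv⟩⟩ e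
      obtain ⟨i, rfl⟩ := hpow x hx3 u hu
      obtain ⟨j, rfl⟩ := hpow y hy3 v hv
      obtain ⟨rfl, rfl⟩ := key i j e
      simp
    have hox : orderOf x = 3 := orderOf_eq_prime hx3 fun e => by
      have := (key 1 0 (by simp [e])).1
      exact absurd this (by decide)
    have hoy : orderOf y = 3 := orderOf_eq_prime hy3 fun e => by
      have := (key 0 1 (by simp [e])).2
      exact absurd this (by decide)
    have hwK : word [g, a, c] co2Nine ∈ K := word_mem (fun z hz => Subgroup.subset_closure hz) _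
    refine OuterRigid.no_cyclic_square (q := 3) (K := K) (P := f.range) ?_ ?_ ?_ ?_ hwK ?_
    · have := K.card_mul_index
      rw [List.mem_singleton.1 hbad, hcard] at this
      intro hd
      have h27 := Nat.mul_dvd_mul_right hd 2025
      rw [this] at h27
      norm_num at h27
    · rintro _ ⟨⟨⟨u, hu⟩, ⟨v, hv⟩⟩, rfl⟩
      exact K.mul_mem (Subgroup.zpowers_le.2 hxK hu) (Subgroup.zpowers_le.2 hyK hv)
    · rw [← Nat.card_congr (MonoidHom.ofInjective hf).toEquiv, Nat.card_prod, Nat.card_zpowers,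
        Nat.card_zpowers, hox, hoy]
      norm_num
    · rintro _ ⟨⟨⟨u, hu⟩, ⟨v, hv⟩⟩, rfl⟩
      obtain ⟨i, rfl⟩ := hpow x hx3 u hu
      obtain ⟨j, rfl⟩ := hpow y hy3 v hv
      show (x ^ i.val * y ^ j.val) ^ 3 = 1
      rw [(hxy.pow_pow _ _).mul_pow, pow_right_comm x, pow_right_comm y, hx3, hy3, one_pow, one_pow,
        one_mul]
    · refine orderOf_eq_prime_pow (p := 3) (n := 1) ?_ (word_pow_eq_one hemb hT h9)
      intro e
      refine h3 ?_
      rw [← rows_word_packed hT, powP_rows, ← map_pow]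
      rw [show (3 : ℕ) = 3 ^ 1 from rfl, e, map_one, rows_one]
  refine OuterRigid.card_out_eq_one fun α => ?_
  obtain ⟨h, e, he, hβa, hβg⟩ := hα α
  set β := MulAut.conj h * α with hβ
  obtain ⟨i, hi, hβc⟩ : ∃ i < 11, β c = c * a ^ i := by
    have hci : c⁻¹ = c := inv_eq_of_mul_eq_one_right hcc
    have hcon : β c * a * (β c)⁻¹ = a ^ 10 := by
      have e1 : β (c * a * c⁻¹) = β (a ^ 10) := by rw [hci, hcac']
      rwa [map_mul, map_mul, map_inv, map_pow, hβa] at e1
    obtain ⟨i, hi, e' | e'⟩ := hnorm (β c) 10 (Or.inr rfl) hcon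
    · exfalso
      rw [e', ← pow_succ, ← div_eq_mul_inv] at hcon
      have h1 : a = a ^ 10 := by
        rw [pow_succ', mul_div_assoc, div_self', mul_one] at hcon
        exact hcon
      have := pow_injOn_Iio_orderOf (x := a) (Set.mem_Iio.2 (by rw [hao]; norm_num : 1 < orderOf a))
        (Set.mem_Iio.2 (by rw [hao]; norm_num : 10 < orderOf a)) ((pow_one a).trans h1)
      omega
    · exact ⟨i, hi, e'⟩
  obtain ⟨he1, hi0⟩ : e = 1 ∧ i = 0 := by
    by_contra hne
    have hcov := co2_cover
    simp only [coverOK, List.all_eq_true, List.mem_range, Bool.or_eq_true, decide_eq_true_eq,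
      List.any_eq_true] at hcov
    rcases hcov e (by rcases he with rfl | rfl <;> simp) i hi with h' | ⟨r, hr, hk⟩
    · exact hne h'
    have hsub : ∀ k < [g, a, c].length,
        β.toMonoidHom ([g, a, c].getD k 1) = word [g, a, c] ((subst e i).getD k []) := by
      intro k hk3
      simp only [List.length_cons, List.length_nil] at hk3
      interval_cases k
      · show β g = word [g, a, c] (List.replicate e 0)
        rw [word, List.map_replicate, List.prod_replicate]
        exact hβg
      · show β a = word [g, a, c] [1]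
        rw [word_singleton]; exact hβa
      · show β c = word [g, a, c] (2 :: List.replicate i 1)
        rw [word, List.map_cons, List.prod_cons, List.map_replicate, List.prod_replicate]
        exact hβc
    rcases hk with hk | hk
    · exact kill hemb hT β.toMonoidHom hsub (co2_rel.1 r hr) (by norm_num) hk
    · exact kill hemb hT β.toMonoidHom hsub (co2_rel.1 r hr) (by norm_num) hk
  refine OuterCommon.inn_of_conj_mul (h := h) (OuterCommon.eq_of_gens hgen' fun x hx => ?_)
  simp only [List.mem_cons, List.not_mem_nil, or_false] at hx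
  rcases hx with rfl | rfl | rfl
  · rw [hβg, he1, pow_one]; rfl
  · exact hβa
  · rw [hβc, hi0, pow_zero, mul_one]; rfl

end Cfsg.Agent.SporStruct.OuterCo2
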