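import Cfsg.Agent.SporStruct.OuterHSCheck

/-!
The outer automorphism group of HS has order 2.
-/

set_option autoImplicit false

namespace Cfsg.Agent.SporStruct.OuterHS

open Cfsg Cfsg.Agent.Leech CoMatrix OuterTwo OuterData

/-- The embedding in Co0. -/
def emb : Spor.HS →* Co0 := Subgroup.inclusion (inf_le_left.trans inf_le_left)

theorem emb_injective : Function.Injective emb := Subgroup.inclusion_injective _

theorem range_iff (y : Co0) :
    (∃ g, emb g = y) ↔ y • std48 = std48 ∧ y • Spor.leechU' = Spor.leechU' := by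
  constructor
  · rintro ⟨g, rfl⟩
    refine ⟨?_, g.2.2⟩
    show emb g • -Spor.leechV = -Spor.leechV
    rw [smul_neg', show emb g • Spor.leechV = Spor.leechV from g.2.1.2]
  · rintro ⟨h48, hU⟩
    refine ⟨⟨y.1, ⟨y.2, ?_⟩, hU⟩, rfl⟩
    have h : y • -Spor.leechV = -Spor.leechV := h48
    rw [smul_neg', neg_inj] at h
    exact h

theorem card_HS : Nat.card Spor.HS = 443520 * 100 := by
  have hn : sqNorm ((Spor.leechU' - std48 : leechLattice) : GolayPt → ℤ) = 48 ∧
      dotInt (std48 : GolayPt → ℤ) ((Spor.leechU' - std48 : leechLattice) : GolayPt → ℤ) = -32 := by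
    rw [AddSubgroup.coe_sub, ← dotInt_self, dotInt_sum, dotInt_sum]
    simp only [Pi.sub_apply, coe_std48]
    show (∑ i, (Spor.vecU' i - _) * (Spor.vecU' i - _)) = _ ∧ (∑ i, _ * (Spor.vecU' i - _)) = _
    decide +kernel
  rw [show (443520 * 100 : ℕ) = 44352000 by norm_num,
    ← card_stab_hs codeUnique sqNorm_std48 hn.1 hn.2]
  refine Nat.card_congr ((MonoidHom.ofInjective emb_injective).toEquiv.trans ?_)
  refine Equiv.subtypeEquivRight fun y => ?_
  rw [MonoidHom.mem_range, range_iff]
  constructor
  · rintro ⟨h1, h2⟩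
    exact ⟨h1, by show y • (Spor.leechU' - std48) = _; rw [smul_sub', h1, h2]⟩
  · rintro ⟨h1, h2⟩
    have h2' : y • (Spor.leechU' - std48) = Spor.leechU' - std48 := h2
    have h1' : y • std48 = std48 := h1
    rw [smul_sub', h1', sub_left_inj] at h2'
    exact ⟨h1', h2'⟩

theorem card_out : Nat.card (Out Spor.HS) = 2 := by
  obtain ⟨a, b, c, hT, hgen, hao, hab, h55, -, hα⟩ := two_main emb_injective
    (Or.inr ⟨rfl, rfl⟩) range_iff card_HS (by norm_num) check_gen check_enum check_words.1
    check_words.2 check_orbit.1 check_orbit.2 check_rel check_cover.1 check_cover.2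
  obtain ⟨ho1, ho2, hoo, hos, hoU, hoa, hob⟩ := check_outer
  obtain ⟨o, ho⟩ := exists_elem ho1 ho2
  have hoo' : o * o = 1 := rows_injective (by rw [rows_mul, ho, hoo, rows_one])
  have hoU' : o • Spor.leechU' = Spor.leechU' :=
    Subtype.ext (vecL_inj (by rw [← mapV_rows, ho, vecL_two.2, hoU]))
  have hos' : o • std48 = Spor.leechU' - std48 := Subtype.ext (vecL_inj (by
    rw [← mapV_rows, ho, vecL_std48, hos, swapL, ← vecL_two.2, ← vecL_std48, AddSubgroup.coe_sub,
      vecL, vecL, vecL, List.zipWith_map, List.zipWith_self]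
    rfl))
  obtain ⟨O, hO⟩ := OuterCommon.exists_aut emb_injective hoo' (fun g => by
    obtain ⟨g48, gU⟩ := (range_iff _).1 ⟨g, rfl⟩
    refine (range_iff _).2 ⟨?_, by rw [mul_smul, mul_smul, hoU', gU, hoU']⟩
    rw [mul_smul, mul_smul, hos', smul_sub', gU, g48, ← hos', ← mul_smul, hoo', one_smul])
  have hg := rows_getD hT
  have hOa : O a = a ^ 10 := emb_injective (rows_injective (by
    rw [hO, map_pow, rows_mul, rows_mul, rows_pow, ho]
    rw [show rows (emb a) = permMat Golay.doubleTab from hg 0]
    exact hoa))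
  have hOb : O b = b := emb_injective (rows_injective (by
    rw [hO, rows_mul, rows_mul, ho]
    rw [show rows (emb b) = permMat Golay.cubeTwistTab from hg 1]
    exact hob))
  have ha10 : a ^ 10 = a⁻¹ := eq_inv_of_mul_eq_one_left (by
    rw [← pow_succ]; exact orderOf_dvd_iff_pow_eq_one.1 (by rw [hao]))
  have ha100 : (a ^ 10) ^ 10 = a := by
    rw [← pow_mul, ← pow_mod_orderOf, hao]; exact pow_one a
  have fixed : ∀ γ : MulAut Spor.HS, γ a = a → γ b = b → γ ∈ Inn Spor.HS := by
    intro γ ga gb
    obtain ⟨h, e, j, i, hall, hb', ha', hc'⟩ := hα γ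
    set γ' := MulAut.conj h * γ with hγ
    have hha : h * a * h⁻¹ = a ^ e := by
      have := ha'
      rw [hγ, MulAut.mul_apply, ga, MulAut.conj_apply] at this
      exact this
    simp only [allowed, List.mem_cons, List.mem_map, List.mem_range, Prod.mk.injEq] at hall
    rcases hall with ⟨rfl, rfl, rfl⟩ | ⟨n, -, he, -⟩
    · refine OuterCommon.inn_of_conj_mul (h := h) (OuterCommon.eq_of_gens hgen fun x hx => ?_)
      simp only [List.mem_cons, List.not_mem_nil, or_false] at hx
      rcases hx with rfl | rfl | rfl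
      · exact ha'.trans (pow_one _)
      · exact hb'
      · exact hc'.trans (by simp [word])
    · exfalso
      subst he
      rw [ha10] at hha
      exact OuterRigid.not_inverted hao (by norm_num) (by decide) (h55 h (by
        rw [hha]; exact Subgroup.inv_mem _ (Subgroup.mem_zpowers a))) hha
  refine OuterRigid.card_out_eq_two O (fun hin => ?_) fun α => ?_
  · obtain ⟨h, hh⟩ := hin
    have e : h * a * h⁻¹ = a⁻¹ := by rw [← ha10, ← hOa, ← hh]; rfl
    exact OuterRigid.not_inverted hao (by norm_num) (by decide) (h55 h (by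
      rw [e]; exact Subgroup.inv_mem _ (Subgroup.mem_zpowers a))) e
  · obtain ⟨h, e, j, i, hall, hb', ha', hc'⟩ := hα α
    simp only [allowed, List.mem_cons, List.mem_map, List.mem_range, Prod.mk.injEq] at hall
    rcases hall with ⟨rfl, rfl, rfl⟩ | ⟨n, -, he, -⟩
    · left
      have := (Inn Spor.HS).mul_mem ((Inn Spor.HS).inv_mem (OuterCommon.inn_conj h))
        (fixed _ (ha'.trans (pow_one a)) hb')
      rwa [inv_mul_cancel_left] at this
    · right
      subst he
      have := (Inn Spor.HS).mul_mem ((Inn Spor.HS).inv_mem (OuterCommon.inn_conj h))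
        (fixed (MulAut.conj h * α * O) (by rw [MulAut.mul_apply, hOa, map_pow, ha', ha100])
          (by rw [MulAut.mul_apply, hOb, hb']))
      rwa [mul_assoc, inv_mul_cancel_left] at this

end Cfsg.Agent.SporStruct.OuterHS
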