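import Cfsg.Agent.SporStruct.OctadStab
import Cfsg.Agent.SporB.SL5Transvection
import Cfsg.Agent.Lib.Golay.Involutions
import Cfsg.Agent.Lib.Golay.Fixed

/-!
The centraliser of an involution of M24 fixing an octad is the centraliser of a transvection in
SL(5,2): both are the affine groups of F2^4 whose linear part fixes a vector.
-/

set_option autoImplicit false

namespace Cfsg.Agent.SporStruct.TransvectionCent

open Cfsg Cfsg.Agent.Golay
open Cfsg.Agent.SporStruct.M24 (pointFix setStab mem_pointFix mem_setStab card_setStab)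
open scoped Pointwise

/-- The translations. -/
def kTabs : List (List ℕ) := [
    [0, 1, 2, 3, 4, 5, 6, 7, 8, 9, 10, 11, 12, 13, 14, 15, 16, 17, 18, 19, 20, 21, 22, 23],
    [0, 1, 3, 2, 15, 5, 6, 8, 7, 11, 19, 9, 16, 21, 17, 4, 12, 14, 18, 10, 20, 13, 22, 23],
    [0, 1, 4, 15, 2, 5, 6, 17, 14, 19, 11, 10, 21, 16, 8, 3, 13, 7, 18, 9, 20, 12, 22, 23],
    [0, 1, 15, 4, 3, 5, 6, 14, 17, 10, 9, 19, 13, 12, 7, 2, 21, 8, 18, 11, 20, 16, 22, 23],
    [0, 1, 10, 19, 11, 5, 6, 13, 21, 15, 2, 4, 14, 7, 12, 9, 17, 16, 18, 3, 20, 8, 22, 23],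
    [0, 1, 19, 10, 9, 5, 6, 21, 13, 4, 3, 15, 17, 8, 16, 11, 14, 12, 18, 2, 20, 7, 22, 23],
    [0, 1, 11, 9, 10, 5, 6, 16, 12, 3, 4, 2, 8, 17, 21, 19, 7, 13, 18, 15, 20, 14, 22, 23],
    [0, 1, 9, 11, 19, 5, 6, 12, 16, 2, 15, 3, 7, 14, 13, 10, 8, 21, 18, 4, 20, 17, 22, 23],
    [0, 1, 21, 13, 12, 5, 6, 19, 10, 17, 8, 14, 4, 3, 11, 16, 15, 9, 18, 7, 20, 2, 22, 23],
    [0, 1, 13, 21, 16, 5, 6, 10, 19, 14, 7, 17, 15, 2, 9, 12, 4, 11, 18, 8, 20, 3, 22, 23],
    [0, 1, 12, 16, 21, 5, 6, 9, 11, 7, 14, 8, 2, 15, 10, 13, 3, 19, 18, 17, 20, 4, 22, 23],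
    [0, 1, 16, 12, 13, 5, 6, 11, 9, 8, 17, 7, 3, 4, 19, 21, 2, 10, 18, 14, 20, 15, 22, 23],
    [0, 1, 8, 7, 14, 5, 6, 3, 2, 16, 21, 12, 11, 19, 4, 17, 9, 15, 18, 13, 20, 10, 22, 23],
    [0, 1, 7, 8, 17, 5, 6, 2, 3, 12, 13, 16, 9, 10, 15, 14, 11, 4, 18, 21, 20, 19, 22, 23],
    [0, 1, 14, 17, 8, 5, 6, 15, 4, 13, 12, 21, 10, 9, 2, 7, 19, 3, 18, 16, 20, 11, 22, 23],
    [0, 1, 17, 14, 7, 5, 6, 4, 15, 21, 16, 13, 19, 11, 3, 8, 10, 2, 18, 12, 20, 9, 22, 23]]

/-- The coordinates of the outside points. -/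
def crdTab : List ℕ := [0, 0, 0, 1, 2, 0, 0, 13, 12, 7, 4, 6, 10, 9, 14, 3, 11, 15, 0, 5, 0, 8, 0, 0]

/-- The fixed octad. -/
def octN : ℕ := 13893731

/-- The base point. -/
def baseI : ℕ := 2

/-- The table of a translation. -/
def kT (m : ℕ) : List ℕ := kTabs.getD m []

theorem k_facts : inCode octN = true ∧ popc octN = 8 ∧ octN.testBit baseI = false ∧ baseI < 24 ∧
    (∀ m : Fin 16, isPermTab (kT m.val) = true ∧ checkAut (kT m.val) = true) ∧
    (∀ m : Fin 16, ∀ i : Fin 24, octN.testBit i.val = true → (kT m.val).getD i.val 0 = i.val) ∧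
    (∀ m : Fin 16, crdTab.getD ((kT m.val).getD baseI 0) 0 = m.val) ∧
    (∀ m n : Fin 16, comp (kT m.val) (kT n.val) = kT (m ^^^ n).val) ∧
    kT 0 = idTab ∧
    (∀ i : Fin 24, octN.testBit i.val = false →
      ∃ m : Fin 16, (kT m.val).getD baseI 0 = i.val) ∧
    (∀ i : Fin 24, (kT 1).getD i.val 0 = i.val → octN.testBit i.val = true) ∧
    (∀ i : Fin 24, crdTab.getD i.val 0 < 16) := by
  decide +kernel

/-- The fixed octad. -/
noncomputable def oc : Finset GolayPt := toSet octN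

theorem oc_mem : oc ∈ octads := octad_mem_iff.2 ⟨octN, k_facts.1, k_facts.2.1, rfl⟩

theorem k_perm (m : Fin 16) : isPermTab (kT m.val) = true := (k_facts.2.2.2.2.1 m).1

/-- The translations. -/
noncomputable def kP (m : Fin 16) : M24 :=
  ⟨permOf (kT m.val) (k_perm m), (tab_permOf _).mem_M24 (k_facts.2.2.2.2.1 m).2⟩

theorem tab_kP (m : Fin 16) : Tab (kP m).1 (kT m.val) := tab_permOf (k_perm m)

theorem kP_mul (m n : Fin 16) : kP m * kP n = kP (m ^^^ n) :=
  Subtype.ext (tab_unique ((tab_kP m).mul (tab_kP n))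
    (k_facts.2.2.2.2.2.2.2.1 m n ▸ tab_kP (m ^^^ n)))

theorem kP_zero : kP 0 = 1 :=
  Subtype.ext (tab_unique (tab_kP 0) (k_facts.2.2.2.2.2.2.2.2.1 ▸ tab_one))

theorem kP_fix (m : Fin 16) : (kP m).1 ∈ pointFix oc := by
  refine mem_pointFix.2 ⟨(kP m).2, fun x hx => ?_⟩
  rw [(tab_kP m).apply, k_facts.2.2.2.2.2.1 m ⟨idx x, idx_lt x⟩ (mem_toSet.1 hx), pt_idx]

/-- The base point. -/
noncomputable def base : GolayPt := pt baseI

theorem base_notMem : base ∉ oc := by
  rw [oc, mem_toSet, base, idx_pt k_facts.2.2.2.1, k_facts.2.2.1]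
  exact Bool.false_ne_true

/-- The outside point with given coordinates. -/
noncomputable def q (m : Fin 16) : GolayPt := (kP m).1 base

theorem idx_q (m : Fin 16) : idx (q m) = (kT m.val).getD baseI 0 := by
  rw [q, (tab_kP m).apply, base, idx_pt k_facts.2.2.2.1,
    idx_pt ((tab_kP m).lt k_facts.2.2.2.1)]

/-- The coordinates. -/
noncomputable def crd (x : GolayPt) : Fin 16 :=
  ⟨crdTab.getD (idx x) 0, k_facts.2.2.2.2.2.2.2.2.2.2.2 ⟨idx x, idx_lt x⟩⟩

theorem crd_q (m : Fin 16) : crd (q m) = m := Fin.ext (by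
  show crdTab.getD (idx (q m)) 0 = m.val
  rw [idx_q]
  exact k_facts.2.2.2.2.2.2.1 m)

theorem q_crd {x : GolayPt} (hx : x ∉ oc) : q (crd x) = x := by
  obtain ⟨m, hm⟩ := k_facts.2.2.2.2.2.2.2.2.2.1 ⟨idx x, idx_lt x⟩
    (by simpa [oc, mem_toSet] using hx)
  have e : q m = x := idx_injective (by rw [idx_q]; exact hm)
  rw [← e, crd_q]

/-- The involution. -/
noncomputable def z : M24 := kP 1

theorem z_ne : z ≠ 1 := fun e => by
  have := crd_q 1
  rw [q, show (kP 1).1 = 1 from congrArg Subtype.val e] at this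
  have h0 := crd_q 0
  rw [q, show (kP 0).1 = 1 from congrArg Subtype.val kP_zero, this] at h0
  exact absurd h0 (by decide)

theorem orderOf_z : orderOf z = 2 := by
  have : Fact (Nat.Prime 2) := ⟨Nat.prime_two⟩
  refine orderOf_eq_prime ?_ z_ne
  rw [pow_two, z, kP_mul, show (1 : Fin 16) ^^^ 1 = 0 from rfl, kP_zero]

theorem z_fix {x : GolayPt} : z.1 x = x ↔ x ∈ oc := by
  refine ⟨fun h => ?_, fun h => (mem_pointFix.1 (kP_fix 1)).2 x h⟩
  rw [oc, mem_toSet]
  refine k_facts.2.2.2.2.2.2.2.2.2.2.1 ⟨idx x, idx_lt x⟩ ?_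
  rw [z, (tab_kP 1).apply] at h
  have := congrArg idx h
  rwa [idx_pt ((tab_kP 1).lt (idx_lt x))] at this

theorem filter_z : (Finset.univ.filter fun p => z.1 p = p) = oc := by
  ext x
  simp [z_fix]

/-- A pointwise stabiliser element is a translation. -/
theorem exists_kP {k : Equiv.Perm GolayPt} (hk : k ∈ pointFix oc) :
    k = (kP (crd (k base))).1 := by
  have hx : k base ∉ oc := fun h => base_notMem (by
    have := (mem_pointFix.1 hk).2 _ h
    rw [← k.injective this]; exact h)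
  have := M24.eq_one_of_fix oc_mem (Subgroup.mul_mem _ (Subgroup.inv_mem _ (kP_fix (crd (k base)))) hk)
    base_notMem (by
      rw [Equiv.Perm.mul_apply, Equiv.Perm.coe_inv, Equiv.symm_apply_eq]
      exact (q_crd hx).symm)
  exact (inv_mul_eq_one.1 this).symm

/-- The centraliser. -/
abbrev CM : Subgroup M24 := Subgroup.centralizer ({z} : Set M24)

theorem comm_z {g : M24} (hg : g ∈ CM) : g.1 * z.1 = z.1 * g.1 :=
  congrArg Subtype.val (Subgroup.mem_centralizer_singleton_iff.1 hg)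

theorem smul_oc {g : M24} (hg : g ∈ CM) : g.1 • oc = oc := by
  refine Finset.eq_of_subset_of_card_le (fun p hp => ?_) (by simp)
  obtain ⟨x, hx, rfl⟩ := Finset.mem_smul_finset.1 hp
  rw [← z_fix, Equiv.Perm.smul_def, ← Equiv.Perm.mul_apply, ← comm_z hg, Equiv.Perm.mul_apply,
    z_fix.2 hx]

/-- The induced map on translations. -/
noncomputable def sig (g : M24) (m : Fin 16) : Fin 16 := crd ((g.1 * (kP m).1 * g.1⁻¹) base)

theorem conj_kP {g : M24} (hg : g ∈ CM) (m : Fin 16) :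
    g.1 * (kP m).1 * g.1⁻¹ = (kP (sig g m)).1 := by
  refine exists_kP (mem_pointFix.2 ⟨M24.mul_mem (M24.mul_mem g.2 (kP m).2) (M24.inv_mem g.2), ?_⟩)
  intro x hx
  have hgx : g.1⁻¹ x ∈ oc := by
    have h : x ∈ g.1 • oc := by rwa [smul_oc hg]
    rwa [← Finset.inv_smul_mem_iff] at h
  rw [Equiv.Perm.mul_apply, Equiv.Perm.mul_apply, (mem_pointFix.1 (kP_fix m)).2 _ hgx,
    Equiv.Perm.coe_inv, Equiv.apply_symm_apply]

theorem sig_xor {g : M24} (hg : g ∈ CM) (m n : Fin 16) :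
    sig g (m ^^^ n) = sig g m ^^^ sig g n := by
  have e : (kP (sig g (m ^^^ n))).1 = (kP (sig g m ^^^ sig g n)).1 := by
    rw [← kP_mul, Subgroup.coe_mul, ← conj_kP hg, ← conj_kP hg, ← conj_kP hg, ← kP_mul,
      Subgroup.coe_mul]
    group
  have := congrArg (fun σ : Equiv.Perm GolayPt => crd (σ base)) e
  rwa [← q, ← q, crd_q, crd_q] at this

theorem sig_one {g : M24} (hg : g ∈ CM) : sig g 1 = 1 := by
  have : g.1 * (kP 1).1 * g.1⁻¹ = (kP 1).1 := by
    rw [show (kP 1).1 = z.1 from rfl, comm_z hg, mul_inv_cancel_right]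
  rw [sig, this]
  exact crd_q 1

/-- The translation part. -/
noncomputable def tra (g : M24) : Fin 16 := crd (g.1 base)

theorem apply_q {g : M24} (hg : g ∈ CM) (m : Fin 16) : g.1 (q m) = q (sig g m ^^^ tra g) := by
  have hb : g.1 base ∉ oc := fun h => base_notMem (by
    have h' : g.1 base ∈ g.1 • oc := by rwa [smul_oc hg]
    exact (Finset.smul_mem_smul_finset_iff g.1).1 h')
  calc g.1 (q m) = (g.1 * (kP m).1 * g.1⁻¹) (g.1 base) := by
        rw [q, Equiv.Perm.mul_apply, Equiv.Perm.mul_apply, Equiv.Perm.coe_inv,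
          Equiv.symm_apply_apply]
    _ = (kP (sig g m)).1 (q (tra g)) := by rw [conj_kP hg, tra, q_crd hb]
    _ = _ := by rw [q, q, ← Equiv.Perm.mul_apply, ← Subgroup.coe_mul, kP_mul]

/-- Bits in F2. -/
def bitF (m : Fin 16) (i : ℕ) : ZMod 2 := if m.val.testBit i then 1 else 0

/-- The affine point of given coordinates. -/
def vec (m : Fin 16) : Fin 5 → ZMod 2 := ![bitF m 0, 1, bitF m 1, bitF m 2, bitF m 3]

/-- The vector of given coordinates. -/
def lvec (m : Fin 16) : Fin 5 → ZMod 2 := ![bitF m 0, 0, bitF m 1, bitF m 2, bitF m 3]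

/-- The second basis vector. -/
def e1 : Fin 5 → ZMod 2 := ![0, 1, 0, 0, 0]

theorem vec_facts : (∀ m, vec m = lvec m + e1) ∧
    (∀ m n, lvec (m ^^^ n) = lvec m + lvec n) ∧
    (∀ m n, vec m = vec n → m = n) ∧ (∀ m, vec m 1 = 1) ∧
    (∀ m : Fin 16, m = (if m.val.testBit 0 then 1 else 0) ^^^ (if m.val.testBit 1 then 2 else 0) ^^^
      (if m.val.testBit 2 then 4 else 0) ^^^ (if m.val.testBit 3 then 8 else 0)) := by
  decide +kernel

/-- The matrix of an element. -/
noncomputable def mat (g : M24) : Matrix (Fin 5) (Fin 5) (ZMod 2) :=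
  Matrix.of fun i j => (![lvec (sig g 1), vec (tra g), lvec (sig g 2), lvec (sig g 4), lvec (sig g 8)] j) i

theorem mulVec_basis (M : Matrix (Fin 5) (Fin 5) (ZMod 2)) :
    M.mulVec (lvec 1) = (fun i => M i 0) ∧ M.mulVec e1 = (fun i => M i 1) ∧
    M.mulVec (lvec 2) = (fun i => M i 2) ∧ M.mulVec (lvec 4) = (fun i => M i 3) ∧
    M.mulVec (lvec 8) = (fun i => M i 4) ∧ M.mulVec (lvec 0) = 0 := by
  have e : ∀ j : Fin 5, Pi.single j 1 = ![lvec 1, e1, lvec 2, lvec 4, lvec 8] j := by decide +kernel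
  have h : ∀ j : Fin 5, M.mulVec (![lvec 1, e1, lvec 2, lvec 4, lvec 8] j) = fun i => M i j := fun j => by
    rw [← e, Matrix.mulVec_single_one]
    rfl
  refine ⟨h 0, h 1, h 2, h 3, h 4, ?_⟩
  rw [show lvec 0 = 0 by decide +kernel, Matrix.mulVec_zero]

theorem mulVec_lvec {g : M24} (hg : g ∈ CM) (m : Fin 16) :
    (mat g).mulVec (lvec m) = lvec (sig g m) := by
  obtain ⟨b1, -, b2, b4, b8, b0⟩ := mulVec_basis (mat g)
  have h0 : sig g 0 = 0 := by
    have key : ∀ a : Fin 16, a = a ^^^ a → a = 0 := by decide +kernel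
    have := sig_xor hg 0 0
    rw [show (0 : Fin 16) ^^^ 0 = 0 by decide] at this
    exact key _ this
  have hb : ∀ (t : Bool) (v : Fin 16), v ∈ [1, 2, 4, 8] →
      (mat g).mulVec (lvec (if t then v else 0)) = lvec (sig g (if t then v else 0)) := by
    intro t v hv
    cases t
    · rw [if_neg (by simp), b0, h0, show lvec 0 = 0 by decide +kernel]
    · simp only [List.mem_cons, List.not_mem_nil, or_false] at hv
      rw [if_pos rfl]
      rcases hv with rfl | rfl | rfl | rfl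
      exacts [b1.trans rfl, b2.trans rfl, b4.trans rfl, b8.trans rfl]
  rw [vec_facts.2.2.2.2 m]
  simp only [vec_facts.2.1, sig_xor hg, Matrix.mulVec_add]
  rw [hb _ 1 (by simp), hb _ 2 (by simp), hb _ 4 (by simp), hb _ 8 (by simp)]

theorem mulVec_vec {g : M24} (hg : g ∈ CM) (m : Fin 16) :
    (mat g).mulVec (vec m) = vec (sig g m ^^^ tra g) := by
  obtain ⟨-, b, -⟩ := mulVec_basis (mat g)
  rw [vec_facts.1, Matrix.mulVec_add, mulVec_lvec hg, b, vec_facts.1, vec_facts.2.1, add_assoc,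
    ← vec_facts.1]
  rfl

/-- Matrices agreeing on the affine points agree. -/
theorem ext_vec {A B : Matrix (Fin 5) (Fin 5) (ZMod 2)}
    (h : ∀ m, A.mulVec (vec m) = B.mulVec (vec m)) : A = B := by
  have e : ∀ j : Fin 5, ∃ m, Pi.single j 1 = vec m ∨ Pi.single j 1 = vec m + vec 0 := by
    decide +kernel
  ext i j
  have hj : A.mulVec (Pi.single j 1) = B.mulVec (Pi.single j 1) := by
    obtain ⟨m, hm | hm⟩ := e j
    · rw [hm]; exact h m
    · rw [hm, Matrix.mulVec_add, Matrix.mulVec_add, h m, h 0]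
  rw [Matrix.mulVec_single_one, Matrix.mulVec_single_one] at hj
  exact congrFun hj i

theorem mat_mul {g h : M24} (hg : g ∈ CM) (hh : h ∈ CM) : mat (g * h) = mat g * mat h := by
  refine ext_vec fun m => ?_
  rw [← Matrix.mulVec_mulVec, mulVec_vec hh, mulVec_vec hg, mulVec_vec (CM.mul_mem hg hh)]
  have := apply_q (CM.mul_mem hg hh) m
  rw [Subgroup.coe_mul, Equiv.Perm.mul_apply, apply_q hh, apply_q hg] at this
  have := congrArg crd this
  rw [crd_q, crd_q] at this
  rw [this]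

theorem mat_one : mat 1 = 1 := by
  refine ext_vec fun m => ?_
  rw [mulVec_vec CM.one_mem, Matrix.one_mulVec]
  have := congrArg crd (apply_q CM.one_mem m)
  rw [crd_q] at this
  rw [← this]
  exact congrArg vec (crd_q m)

theorem det_mat {g : M24} (hg : g ∈ CM) : (mat g).det = 1 := by
  have h : (mat g).det * (mat g⁻¹).det = 1 := by
    rw [← Matrix.det_mul, ← mat_mul hg (CM.inv_mem hg), mul_inv_cancel, mat_one, Matrix.det_one]
  have cases2 : ∀ a : ZMod 2, a = 0 ∨ a = 1 := by decide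
  rcases cases2 (mat g).det with e | e
  · rw [e, zero_mul] at h
    exact absurd h zero_ne_one
  · exact e

abbrev SL5 := Matrix.SpecialLinearGroup (Fin 5) (ZMod 2)

theorem card_CM : Nat.card CM = 21504 := by
  have hle : CM.map M24.subtype ≤ setStab oc := by
    rintro _ ⟨g, hg, rfl⟩
    exact mem_setStab.2 ⟨g.2, smul_oc hg⟩
  -- the conjugates of `z` are the translations
  set S := (setStab oc).comap M24.subtype with hS
  have hSc : Nat.card S = 322560 := by
    rw [← card_setStab oc_mem]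
    exact Nat.card_congr
      { toFun := fun g => ⟨g.1.1, g.2⟩
        invFun := fun g => ⟨⟨g.1, (mem_setStab.1 g.2).1⟩, g.2⟩
        left_inv := fun _ => rfl
        right_inv := fun _ => rfl }
  have horb : {y : M24 | ∃ g ∈ S, g * z * g⁻¹ = y} = (fun m => kP m) '' {m | m ≠ 0} := by
    ext y
    constructor
    · rintro ⟨g, hg, rfl⟩
      have hfix : (g * z * g⁻¹).1 ∈ pointFix oc := by
        refine mem_pointFix.2 ⟨(g * z * g⁻¹).2, fun x hx => ?_⟩
        have hgx : g.1⁻¹ x ∈ oc := by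
          have h : x ∈ g.1 • oc := by
            rw [(mem_setStab.1 (show g.1 ∈ setStab oc from hg)).2]; exact hx
          rwa [← Finset.inv_smul_mem_iff] at h
        show (g.1 * z.1 * g.1⁻¹) x = x
        rw [Equiv.Perm.mul_apply, Equiv.Perm.mul_apply, z_fix.2 hgx, Equiv.Perm.coe_inv,
          Equiv.apply_symm_apply]
      refine ⟨_, fun e => z_ne ?_, (Subtype.ext (exists_kP hfix)).symm⟩
      have : g * z * g⁻¹ = 1 := by rw [← kP_zero, ← e]; exact Subtype.ext (exists_kP hfix)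
      rw [mul_inv_eq_one, mul_eq_left] at this
      exact this
    · rintro ⟨m, hm, rfl⟩
      have hne : kP m ≠ 1 := fun e => hm (by
        have h1 := crd_q m
        have h0 := crd_q 0
        rw [q, kP_zero] at h0
        rw [q, e, h0] at h1
        exact h1.symm)
      have hord : orderOf (kP m).1 = 2 := by
        have : Fact (Nat.Prime 2) := ⟨Nat.prime_two⟩
        refine orderOf_eq_prime ?_ (fun e => hne (Subtype.ext e))
        rw [pow_two, ← Subgroup.coe_mul, kP_mul, show m ^^^ m = 0 by revert m; decide +kernel, kP_zero]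
        rfl
      have hfz : (Finset.univ.filter fun p => (kP m).1 p = p) = oc := by
        ext x
        simp only [Finset.mem_filter, Finset.mem_univ, true_and]
        refine ⟨fun h => ?_, fun h => (mem_pointFix.1 (kP_fix m)).2 x h⟩
        by_contra hx
        exact hne (Subtype.ext (M24.eq_one_of_fix oc_mem (kP_fix m) hx h))
      have hzo : orderOf z.1 = 2 := by rw [Subgroup.orderOf_coe, orderOf_z]
      have hoc : ∀ {w : Equiv.Perm GolayPt}, (Finset.univ.filter fun p => w p = p) = oc →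
          ¬ ∀ p, w p ≠ p := fun {w} e hw => by
        obtain ⟨p, hp⟩ := Finset.card_pos.1 (show 0 < oc.card by rw [card_of_mem_octads oc_mem]; norm_num)
        rw [← e] at hp
        exact hw p (Finset.mem_filter.1 hp).2
      obtain ⟨k, hk, e⟩ := involution_classes.2.2.2 z.1 z.2 (kP m).1 (kP m).2 hzo hord
        (iff_of_false (hoc filter_z) (hoc hfz))
      refine ⟨⟨k, hk⟩, mem_setStab.2 ⟨hk, ?_⟩, Subtype.ext e⟩
      refine Finset.eq_of_subset_of_card_le (fun p hp => ?_) (by simp)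
      obtain ⟨x, hx, rfl⟩ := Finset.mem_smul_finset.1 hp
      rw [← hfz, Finset.mem_filter, ← e]
      refine ⟨Finset.mem_univ _, ?_⟩
      show (k * z.1 * k⁻¹) (k x) = k x
      rw [Equiv.Perm.mul_apply, Equiv.Perm.mul_apply, Equiv.Perm.coe_inv, Equiv.symm_apply_apply,
        z_fix.2 hx]
  have hcard15 : ((fun m => kP m) '' {m : Fin 16 | m ≠ 0}).ncard = 15 := by
    rw [Set.ncard_image_of_injective _ (fun a b e => by
      have := congrArg (fun w : M24 => crd (w.1 base)) e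
      rwa [← q, ← q, crd_q, crd_q] at this), Set.ncard_eq_toFinset_card']
    rfl
  let act : MulAction S M24 := MulAction.compHom M24 (ConjAct.toConjAct.toMonoidHom.comp S.subtype)
  have hst : Nat.card (MulAction.stabilizer S z) = Nat.card CM := Nat.card_congr
    { toFun := fun g => ⟨g.1.1, Subgroup.mem_centralizer_singleton_iff.2 (mul_inv_eq_iff_eq_mul.1 g.2)⟩
      invFun := fun g => ⟨⟨g.1, hle ⟨g.1, g.2, rfl⟩⟩,
        mul_inv_eq_iff_eq_mul.2 (Subgroup.mem_centralizer_singleton_iff.1 g.2)⟩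
      left_inv := fun _ => rfl
      right_inv := fun _ => rfl }
  have horb' : MulAction.orbit S z = {y : M24 | ∃ g ∈ S, g * z * g⁻¹ = y} := by
    ext y
    exact ⟨fun ⟨g, e⟩ => ⟨g.1, g.2, e⟩, fun ⟨g, hg, e⟩ => ⟨⟨g, hg⟩, e⟩⟩
  have := (MulAction.stabilizer S z).card_mul_index
  rw [MulAction.index_stabilizer, horb', horb, hcard15, hst, hSc] at this
  omega

theorem s2133 (s : SL5) (hs : (s : Matrix (Fin 5) (Fin 5) (ZMod 2)) = Matrix.transvection 0 1 1) :
    ∃ z : M24, orderOf z = 2 ∧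
      Nonempty (↥(Subgroup.centralizer ({z} : Set M24)) ≃* ↥(Subgroup.centralizer ({s} : Set SL5))) := by
  refine ⟨z, orderOf_z, ?_⟩
  have hmem : ∀ g : CM, (⟨mat g.1, det_mat g.2⟩ : SL5) ∈ SporB.SL5.C s := by
    intro g
    refine (SporB.SL5.mem_iff s hs ⟨mat g.1, det_mat g.2⟩).2 ?_
    have h0 : ∀ i, mat g.1 i 0 = (![1, 0, 0, 0, 0] : Fin 5 → ZMod 2) i := fun i => by
      show lvec (sig g.1 1) i = _
      rw [sig_one g.2]
      revert i; decide +kernel
    have hl : ∀ m, lvec m 1 = 0 := by decide +kernel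
    have h1 : ∀ j, mat g.1 1 j = if j = 1 then 1 else 0 := fun j => by
      fin_cases j
      · exact (h0 1).trans rfl
      · exact (vec_facts.2.2.2.1 (tra g.1)).trans rfl
      · exact hl (sig g.1 2)
      · exact hl (sig g.1 4)
      · exact hl (sig g.1 8)
    refine ⟨fun i hi => ?_, fun j hj => (h1 j).trans (if_neg hj), (h0 0).trans (h1 1).symm⟩
    rw [show (((⟨mat g.1, det_mat g.2⟩ : SL5) : Matrix (Fin 5) (Fin 5) (ZMod 2)) i 0) = mat g.1 i 0
      from rfl, h0]
    revert i; decide +kernel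
  let f : CM →* SporB.SL5.C s :=
    MonoidHom.mk' (fun g => ⟨⟨mat g.1, det_mat g.2⟩, hmem g⟩)
      (fun g h => Subtype.ext (Subtype.ext (mat_mul g.2 h.2)))
  have hinj : Function.Injective f := by
    intro g h e
    have em : mat g.1 = mat h.1 := congrArg (fun w : SporB.SL5.C s => (w.1 : Matrix (Fin 5) (Fin 5) (ZMod 2))) e
    have hq : ∀ m, g.1.1 (q m) = h.1.1 (q m) := fun m => by
      rw [apply_q g.2, apply_q h.2]
      refine congrArg q (vec_facts.2.2.1 _ _ ?_)
      rw [← mulVec_vec g.2, ← mulVec_vec h.2, em]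
    have : h.1.1⁻¹ * g.1.1 = 1 := by
      refine eq_one_of_fixed (M24.mul_mem (M24.inv_mem h.1.2) g.1.2)
        (s := Finset.univ.image q) ?_ fun p hp => ?_
      · rw [Finset.card_image_of_injective _ (fun a b e => by rw [← crd_q a, e, crd_q])]
        simp
      · obtain ⟨m, -, rfl⟩ := Finset.mem_image.1 hp
        rw [Equiv.Perm.mul_apply, hq, Equiv.Perm.coe_inv, Equiv.symm_apply_apply]
    exact Subtype.ext (Subtype.ext (inv_mul_eq_one.1 this).symm)
  exact ⟨MulEquiv.ofBijective f ((Nat.bijective_iff_injective_and_card f).2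
    ⟨hinj, by rw [card_CM, SporB.SL5.card_centralizer s hs]⟩)⟩

end Cfsg.Agent.SporStruct.TransvectionCent
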