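import Cfsg.Agent.SporStruct.Co2Sylow2
import Cfsg.Agent.SporStruct.Co2Elems

/-!
The part at 2 of the Schur multiplier of Co2 is trivial.
-/

set_option autoImplicit false
set_option maxRecDepth 100000
set_option maxHeartbeats 2000000

namespace Cfsg.Agent.SporStruct.Co2Mult2

open Cfsg Cfsg.Agent.Leech CoMatrix PCCert Co2MultCheck Co2Sylow2

theorem monos_ok : monos.all monoOK = true := by decide +kernel

theorem packs_eq : packs = (monos.map OutCo1.sMat ++ others).map packT := by decide +kernel

theorem tab0_ok : ∃ g, rows (ι g) = tab0 :=
  exists_of_table (by decide +kernel) (by decide +kernel) (by decide +kernel)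

theorem shape_ok : shapeOK pres = true := by decide +kernel

theorem comb_ok : combOK pres maskOps cert = true := by decide +kernel

theorem conj_ok : conjOK pres packs (cert.specs.flatMap Spec.pairs) = true := by decide +kernel

theorem rel0 : relAt pres packs 0 = true := by decide +kernel

theorem sep0 : sepAt pres.n packs (sepW.getD 0 []) 0 = true := by decide +kernel

theorem rel1 : relAt pres packs 1 = true := by decide +kernel

theorem sep1 : sepAt pres.n packs (sepW.getD 1 []) 1 = true := by decide +kernel

theorem rel2 : relAt pres packs 2 = true := by decide +kernel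

theorem sep2 : sepAt pres.n packs (sepW.getD 2 []) 2 = true := by decide +kernel

theorem rel3 : relAt pres packs 3 = true := by decide +kernel

theorem sep3 : sepAt pres.n packs (sepW.getD 3 []) 3 = true := by decide +kernel

theorem rel4 : relAt pres packs 4 = true := by decide +kernel

theorem sep4 : sepAt pres.n packs (sepW.getD 4 []) 4 = true := by decide +kernel

theorem rel5 : relAt pres packs 5 = true := by decide +kernel

theorem sep5 : sepAt pres.n packs (sepW.getD 5 []) 5 = true := by decide +kernel

theorem rel6 : relAt pres packs 6 = true := by decide +kernel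

theorem sep6 : sepAt pres.n packs (sepW.getD 6 []) 6 = true := by decide +kernel

theorem rel7 : relAt pres packs 7 = true := by decide +kernel

theorem sep7 : sepAt pres.n packs (sepW.getD 7 []) 7 = true := by decide +kernel

theorem rel8 : relAt pres packs 8 = true := by decide +kernel

theorem sep8 : sepAt pres.n packs (sepW.getD 8 []) 8 = true := by decide +kernel

theorem rel9 : relAt pres packs 9 = true := by decide +kernel

theorem sep9 : sepAt pres.n packs (sepW.getD 9 []) 9 = true := by decide +kernel

theorem rel10 : relAt pres packs 10 = true := by decide +kernel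

theorem sep10 : sepAt pres.n packs (sepW.getD 10 []) 10 = true := by decide +kernel

theorem rel11 : relAt pres packs 11 = true := by decide +kernel

theorem sep11 : sepAt pres.n packs (sepW.getD 11 []) 11 = true := by decide +kernel

theorem rel12 : relAt pres packs 12 = true := by decide +kernel

theorem sep12 : sepAt pres.n packs (sepW.getD 12 []) 12 = true := by decide +kernel

theorem rel13 : relAt pres packs 13 = true := by decide +kernel

theorem sep13 : sepAt pres.n packs (sepW.getD 13 []) 13 = true := by decide +kernel

theorem rel14 : relAt pres packs 14 = true := by decide +kernel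

theorem sep14 : sepAt pres.n packs (sepW.getD 14 []) 14 = true := by decide +kernel

theorem rel15 : relAt pres packs 15 = true := by decide +kernel

theorem sep15 : sepAt pres.n packs (sepW.getD 15 []) 15 = true := by decide +kernel

theorem rel16 : relAt pres packs 16 = true := by decide +kernel

theorem sep16 : sepAt pres.n packs (sepW.getD 16 []) 16 = true := by decide +kernel

theorem rel17 : relAt pres packs 17 = true := by decide +kernel

theorem sep17 : sepAt pres.n packs (sepW.getD 17 []) 17 = true := by decide +kernel

theorem exists_local {Γ : Type} [Group Γ] [Finite Γ] (σ : Γ →* Spor.Co2)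
    (hσ : Function.Surjective σ) (hc : σ.ker ≤ Subgroup.center Γ) (hexp : ∀ z ∈ σ.ker, z ^ 2 = 1) :
    ∃ S : Subgroup Spor.Co2, ¬ 2 ∣ S.index ∧ σ.ker ⊓ ⁅S.comap σ, S.comap σ⁆ = ⊥ := by
  have hT : ∀ M ∈ monos.map OutCo1.sMat ++ others, ∃ g, rows (ι g) = M := by
    intro M hM
    rcases List.mem_append.1 hM with hM | hM
    · obtain ⟨q, hq, rfl⟩ := List.mem_map.1 hM
      exact exists_of_mono (List.all_eq_true.1 monos_ok q hq)
    · simp only [others, List.mem_cons, List.not_mem_nil, or_false] at hM
      rcases hM with rfl
      exact tab0_ok
  obtain ⟨L, hL⟩ := exists_list hT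
  rw [← packs_eq] at hL
  refine local_of_checks pres maskOps cert sepW hL ?_ ?_ shape_ok comb_ok (fun k hk => ?_) conj_ok
    (fun k hk => ?_) ?_ σ hσ hc hexp (fun C hc hp hN => exists_realised_mask hc hp hN)
  · show Nat.Prime 2
    norm_num
  · decide
  · have hk' : k < 18 := hk
    interval_cases k
    · exact rel0
    · exact rel1
    · exact rel2
    · exact rel3
    · exact rel4
    · exact rel5
    · exact rel6
    · exact rel7
    · exact rel8
    · exact rel9
    · exact rel10
    · exact rel11
    · exact rel12
    · exact rel13
    · exact rel14
    · exact rel15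
    · exact rel16
    · exact rel17
  · have hk' : k < 18 := hk
    interval_cases k
    · exact sep0
    · exact sep1
    · exact sep2
    · exact sep3
    · exact sep4
    · exact sep5
    · exact sep6
    · exact sep7
    · exact sep8
    · exact sep9
    · exact sep10
    · exact sep11
    · exact sep12
    · exact sep13
    · exact sep14
    · exact sep15
    · exact sep16
    · exact sep17
  · intro m hm
    show ¬ 2 ∣ m
    have hm' : 2 ^ 18 * m = 42305421312000 := hm
    omega

end Cfsg.Agent.SporStruct.Co2Mult2
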