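import Cfsg.Agent.SporStruct.PCOps
import Cfsg.Agent.SporStruct.OuterCommon
import Cfsg.Agent.SporStruct.CoCheck
import Cfsg.Agent.Lib.Leech.Decomp

/-!
Local conditions for the Schur multiplier of Co2, checked on packed tables.
-/

set_option autoImplicit false

namespace Cfsg.Agent.SporStruct.Co2MultCheck

open Cfsg Cfsg.Agent.Leech CoMatrix PCCert
open Cfsg.Agent.Golay (pt idx idx_lt pt_idx)

/-- The vector fixed by Co2. -/
def vUL : List ℤ := (List.range 24).map fun i => if i = 0 ∨ i = 23 then 4 else 0

theorem vecL_leechU : vecL (Spor.leechU : GolayPt → ℤ) = vUL := by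
  show vecL Spor.vecU = vUL
  decide +kernel

theorem sqNorm_leechU : sqNorm (Spor.leechU : GolayPt → ℤ) = 32 := by
  show sqNorm Spor.vecU = 32
  decide +kernel

/-- The inclusion in Co0. -/
def ι : Spor.Co2 →* Co0 := Subgroup.inclusion inf_le_left

theorem ι_injective : Function.Injective ι := Subgroup.inclusion_injective _

theorem exists_ι {y : Co0} (h : y • Spor.leechU = Spor.leechU) : ∃ g, ι g = y :=
  ⟨⟨y.1, y.2, h⟩, rfl⟩

theorem smul_leechU (g : Spor.Co2) : ι g • Spor.leechU = Spor.leechU := g.2.2

theorem card_Co2 : Nat.card Spor.Co2 = 42305421312000 := by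
  rw [← card_stab32 codeUnique sqNorm_leechU]
  refine Nat.card_congr (Equiv.ofBijective (fun g => ⟨ι g, smul_leechU g⟩) ⟨?_, ?_⟩)
  · exact fun a b e => ι_injective (congrArg Subtype.val e)
  · rintro ⟨y, hy⟩
    obtain ⟨g, hg⟩ := exists_ι hy
    exact ⟨g, Subtype.ext hg⟩

instance : Finite Spor.Co2 := OuterCommon.finiteOfInj ι_injective

/-- The product of a word of packed tables. -/
noncomputable def evalQ (P : List (List ℤ)) (w : List ℕ) : List (List ℤ) :=
  List.rec (motive := fun _ => List (List ℤ)) idMat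
    (fun j _ ih => mulP (P.getD j (packT idMat)) ih) w

theorem evalP_eq (T : List (List (List ℤ))) (w : List ℕ) : evalP T w = evalQ (T.map packT) w := rfl

/-- The relations hold. -/
noncomputable def relAt (D : Data) (P : List (List ℤ)) (k : ℕ) : Bool :=
  (List.range (D.n - k)).all fun r =>
    if r = 0 then decide (evalQ P (List.replicate D.p k) = evalQ P (D.u k k))
    else decide (evalQ P [k + r, k] = evalQ P (k :: D.u k (k + r)))

/-- The conjugations hold. -/
noncomputable def conjOK (D : Data) (P : List (List ℤ)) (qs : List (ℕ × List ℕ × List ℕ)) : Bool :=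
  qs.all fun q => decide (evalQ P ((D.n + q.1) :: q.2.1) = evalQ P (q.2.2 ++ [D.n + q.1]))

/-- A lattice vector of norm at most 64. -/
def vecOK (v : List ℤ) : Bool :=
  decide (v.length = 24) && inLB v && decide ((v.map fun a => a * a).sum ≤ 64)

/-- The image of a tuple. -/
noncomputable def actT (p : List ℤ) (t : List (List ℤ)) : List (List ℤ) := t.map (mapP p)

/-- A generator moves a tuple out of a set stable under the later ones. -/
noncomputable def sepAt (n : ℕ) (P : List (List ℤ)) (W : List (List (List ℤ))) (k : ℕ) : Bool :=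
  match W with
  | [] => false
  | t :: _ =>
    W.all (fun w => w.all vecOK &&
      (List.range (n - (k + 1))).all fun r =>
        decide (actT (P.getD (k + 1 + r) (packT idMat)) w ∈ W)) &&
    !decide (actT (P.getD k (packT idMat)) t ∈ W)

variable {L : List Spor.Co2} {P : List (List ℤ)}

theorem evalQ_word (hP : (L.map fun g => packT (rows (ι g))) = P) (w : List ℕ) :
    rows (ι (word L w)) = evalQ P w := by
  rw [rows_word_packed (T := (L.map ι).map rows) rfl, evalP_eq, ← hP]
  simp [List.map_map, Function.comp_def]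

theorem word_eq (hP : (L.map fun g => packT (rows (ι g))) = P) {a b : List ℕ}
    (h : evalQ P a = evalQ P b) : word L a = word L b :=
  ι_injective (rows_injective (by rw [evalQ_word hP, evalQ_word hP, h]))

theorem ev_eq_word (w : List ℕ) : ev (fun i => L.getD i 1) w = word L w := rfl

theorem getD_packs (hP : (L.map fun g => packT (rows (ι g))) = P) (j : ℕ) :
    P.getD j (packT idMat) = packT (rows (ι (L.getD j 1))) := by
  rw [← hP, ← rows_one, ← map_one ι, List.getD_map]

theorem sqNorm_vecP {v : List ℤ} (hl : v.length = 24) :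
    sqNorm (vecP v) = (v.map fun a => a * a).sum := by
  conv_rhs => rw [← vecL_vecP hl]
  rw [vecL, List.map_map, sum_range_eq, ← dotInt_self, dotInt_sum]
  simp [pt_idx]

theorem mapP_vecOK (g : Spor.Co2) {v : List ℤ} (h : vecOK v = true) :
    ∃ u : leechLattice, vecL (u : GolayPt → ℤ) = v ∧ sqNorm (u : GolayPt → ℤ) ≤ 64 ∧
      mapP (packT (rows (ι g))) v = vecL ((ι g • u : leechLattice) : GolayPt → ℤ) := by
  simp only [vecOK, Bool.and_eq_true, decide_eq_true_eq] at h
  obtain ⟨⟨hl, hL⟩, hn⟩ := h
  rw [← vecL_vecP hl, inLB_vecL] at hL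
  refine ⟨⟨_, hL⟩, vecL_vecP hl, by rw [sqNorm_vecP hl]; exact hn, ?_⟩
  conv_lhs => rw [← vecL_vecP hl]
  exact mapP_rows _ ⟨_, hL⟩ (by rw [sqNorm_vecP hl]; exact hn)

theorem mapP_mul (a b : Spor.Co2) {v : List ℤ} (h : vecOK v = true) :
    mapP (packT (rows (ι (a * b)))) v =
      mapP (packT (rows (ι a))) (mapP (packT (rows (ι b))) v) := by
  obtain ⟨u, hu, hn, hb⟩ := mapP_vecOK b h
  rw [hb, mapP_rows (ι a) _ ((sqNorm_smul _ u).le.trans hn), ← hu,
    mapP_rows (ι (a * b)) u hn, map_mul, mul_smul]

theorem mapP_one {v : List ℤ} (h : vecOK v = true) : mapP (packT (rows (ι 1))) v = v := by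
  obtain ⟨u, hu, -, hb⟩ := mapP_vecOK 1 h
  rw [hb, map_one, one_smul, hu]

theorem not_mem_tail (hP : (L.map fun g => packT (rows (ι g))) = P) {n k : ℕ}
    {W : List (List (List ℤ))} (h : sepAt n P W k = true) :
    L.getD k 1 ∉ tailGrp (fun i => L.getD i 1) n (k + 1) := by
  unfold sepAt at h
  split at h
  · exact absurd h Bool.false_ne_true
  rename_i t rest
  set W := t :: rest with hW
  simp only [Bool.and_eq_true, List.all_eq_true, List.mem_range, decide_eq_true_eq,
    Bool.not_eq_true', decide_eq_false_iff_not] at h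
  obtain ⟨hstab, hne⟩ := h
  intro hmem
  refine hne ?_
  have key : ∀ x ∈ tailGrp (fun i => L.getD i 1) n (k + 1), ∀ w ∈ W,
      actT (packT (rows (ι x))) w ∈ W := by
    intro x hx
    rw [tailGrp, ← Subgroup.mem_toSubmonoid, Subgroup.closure_toSubmonoid_of_finite] at hx
    induction hx using Submonoid.closure_induction with
    | mem x hx =>
      obtain ⟨i, ⟨h1, h2⟩, rfl⟩ := hx
      intro w hw
      have := (hstab w hw).2 (i - (k + 1)) (by omega)
      rwa [Nat.add_sub_cancel' h1, getD_packs hP] at this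
    | one =>
      intro w hw
      rw [actT, List.map_congr_left (f := mapP (packT (rows (ι 1)))) (g := id) fun v hv =>
        mapP_one ((hstab w hw).1 v hv), List.map_id]
      exact hw
    | mul a b _ _ ha hb =>
      intro w hw
      rw [actT, List.map_congr_left (g := fun v =>
        mapP (packT (rows (ι a))) (mapP (packT (rows (ι b))) v))
        fun v hv => mapP_mul a b ((hstab w hw).1 v hv)]
      have := ha _ (hb w hw)
      rwa [actT, actT, List.map_map] at this
  have := key _ hmem t List.mem_cons_self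
  rwa [← getD_packs hP] at this

/-- The local condition from the checks. -/
theorem local_of_checks {V : Type} [DecidableEq V] (D : Data) (O : Ops V) (K : Cert)
    (W : List (List (List (List ℤ)))) (hP : (L.map fun g => packT (rows (ι g))) = P)
    (hp : D.p.Prime) (hd : D.d ≤ D.n) (hshape : shapeOK D = true) (hcomb : combOK D O K = true)
    (hrel : ∀ k < D.n, relAt D P k = true)
    (hconj : conjOK D P (K.specs.flatMap Spec.pairs) = true)
    (hsep : ∀ k < D.n, sepAt D.n P (W.getD k []) k = true)
    (hcard : ∀ m, D.p ^ D.n * m = 42305421312000 → ¬ D.p ∣ m)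
    {Γ : Type} [Group Γ] [Finite Γ] (σ : Γ →* Spor.Co2) (hσ : Function.Surjective σ)
    (hc : σ.ker ≤ Subgroup.center Γ) (hexp : ∀ z ∈ σ.ker, z ^ D.p = 1)
    (hreal : ∀ C : ℕ → Γ, (∀ c x, Commute (C c) x) → (∀ c, C c ^ D.p = 1) →
      (∀ c, D.n * D.n ≤ c → C c = 1) → ∃ φ : V → Γ, Realised O D.p C φ) :
    ∃ S : Subgroup Spor.Co2, ¬ D.p ∣ S.index ∧ σ.ker ⊓ ⁅S.comap σ, S.comap σ⁆ = ⊥ := by
  have hrel' : ∀ k r, k + r < D.n →
      (r = 0 → evalQ P (List.replicate D.p k) = evalQ P (D.u k k)) ∧
      (r ≠ 0 → evalQ P [k + r, k] = evalQ P (k :: D.u k (k + r))) := by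
    intro k r hkr
    have := hrel k (by omega)
    simp only [relAt, List.all_eq_true, List.mem_range] at this
    have := this r (by omega)
    split_ifs at this with h0
    · exact ⟨fun _ => by simpa using this, fun e => absurd h0 e⟩
    · exact ⟨fun e => absurd e h0, fun _ => by simpa using this⟩
  have hrr : ∀ (k : ℕ) (e : ℕ), word L (List.replicate e k) = L.getD k 1 ^ e := fun k e => by
    rw [← ev_eq_word, ev_replicate]
  obtain ⟨hS, hbot⟩ := inf_commutator_eq_bot D O K hp hd hshape hcomb hreal
    (fun i => L.getD i 1) (fun m => L.getD (D.n + m) 1)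
    (fun k hk => by
      rw [← hrr, ev_eq_word]
      exact word_eq hP ((hrel' k 0 hk).1 rfl))
    (fun k j hkj hj => by
      have := word_eq hP ((hrel' k (j - k) (by omega)).2 (by omega))
      rw [Nat.add_sub_cancel' hkj.le] at this
      rw [ev_eq_word]
      simpa [word, mul_assoc] using this)
    (fun q hq => by
      simp only [conjOK, List.all_eq_true, decide_eq_true_eq] at hconj
      have := word_eq hP (hconj q hq)
      rw [word_append] at this
      rw [ev_eq_word, ev_eq_word]
      simpa [word] using this)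
    (fun k hk => not_mem_tail hP (hsep k hk)) σ hσ hc hexp
  refine ⟨_, fun hdvd => hcard _ ?_ hdvd, hbot⟩
  rw [← hS, Subgroup.card_mul_index, card_Co2]

end Cfsg.Agent.SporStruct.Co2MultCheck
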