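import Cfsg.Agent.SporStruct.CoMatrix

/-!
Elements of Co0 from orthogonal tables preserving the lattice.
-/

set_option autoImplicit false

namespace Cfsg.Agent.SporStruct.CoMatrix

open Cfsg Cfsg.Agent.Leech
open Cfsg.Agent.Golay (pt idx idx_lt pt_idx idx_pt)

/-- The entries of a table. -/
def ent (T : List (List ℤ)) (p k : GolayPt) : ℤ := (T.getD (idx p) []).getD (idx k) 0

/-- Eight times the map of a table. -/
def lin (M : GolayPt → GolayPt → ℤ) : (GolayPt → ℤ) →+ (GolayPt → ℤ) where
  toFun x k := ∑ p, x p * M p k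
  map_zero' := by funext k; simp
  map_add' x y := by funext k; simp [add_mul, Finset.sum_add_distrib]

theorem lin_apply (M : GolayPt → GolayPt → ℤ) (x : GolayPt → ℤ) (k : GolayPt) :
    lin M x k = ∑ p, x p * M p k := rfl

/-- The rows are orthogonal of norm 64. -/
def Orth (M : GolayPt → GolayPt → ℤ) : Prop := ∀ p q, ∑ k, M p k * M q k = if p = q then 64 else 0

theorem lin_transpose {M : GolayPt → GolayPt → ℤ} (h : Orth M) (x : GolayPt → ℤ) (i : GolayPt) :
    ∑ k, lin M x k * M i k = 64 * x i := by
  simp only [lin_apply, Finset.sum_mul]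
  rw [Finset.sum_comm]
  simp only [mul_assoc, ← Finset.mul_sum, h _ i, mul_ite, mul_zero, Finset.sum_ite_eq',
    Finset.mem_univ, if_true]
  ring

theorem lin_norm {M : GolayPt → GolayPt → ℤ} (h : Orth M) (x : GolayPt → ℤ) :
    ∑ k, lin M x k * lin M x k = 64 * ∑ p, x p * x p := by
  calc ∑ k, lin M x k * lin M x k = ∑ k, ∑ p, x p * (lin M x k * M p k) := by
        refine Finset.sum_congr rfl fun k _ => ?_
        conv_lhs => arg 2; rw [lin_apply]
        rw [Finset.mul_sum]
        exact Finset.sum_congr rfl fun p _ => by ring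
    _ = _ := by
        rw [Finset.sum_comm, Finset.mul_sum]
        refine Finset.sum_congr rfl fun p _ => ?_
        rw [← Finset.mul_sum, lin_transpose h]
        ring

/-- The vectors which the table sends into the lattice. -/
def goodSub (M : GolayPt → GolayPt → ℤ) : AddSubgroup (GolayPt → ℤ) where
  carrier := {x | ∃ z ∈ leechLattice, lin M x = 8 • z}
  zero_mem' := ⟨0, leechLattice.zero_mem, by simp⟩
  add_mem' := by
    rintro x y ⟨a, ha, e⟩ ⟨b, hb, f⟩
    exact ⟨a + b, leechLattice.add_mem ha hb, by rw [map_add, e, f, smul_add]⟩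
  neg_mem' := by
    rintro x ⟨a, ha, e⟩
    exact ⟨-a, leechLattice.neg_mem ha, by rw [map_neg, e, smul_neg]⟩

theorem ent_table {T : List (List ℤ)} (hl : T.length = 24) (hr : ∀ r ∈ T, r.length = 24) :
    T = (List.range 24).map fun i => vecL (ent T (pt i)) := by
  refine List.ext_getElem (by simp [hl]) fun i h1 h2 => ?_
  have hi : i < 24 := hl ▸ h1
  rw [List.getElem_map, List.getElem_range]
  have e : ent T (pt i) = vecP T[i] := funext fun k => by
    simp only [ent, vecP, idx_pt hi, List.getD_eq_getElem _ _ h1]
  rw [e, vecL_vecP (hr _ (List.getElem_mem h1))]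

theorem checkMap_spec {T : List (List ℤ)} (h : checkMap T = true) :
    T = (List.range 24).map (fun i => vecL (ent T (pt i))) ∧ Orth (ent T) ∧
      leechLattice ≤ goodSub (ent T) := by
  simp only [checkMap, Bool.and_eq_true, decide_eq_true_eq, List.all_eq_true, List.mem_range,
    beq_iff_eq] at h
  obtain ⟨⟨⟨hl, hr⟩, ho⟩, hg⟩ := h
  have hT := ent_table hl hr
  refine ⟨hT, fun p q => ?_, ?_⟩
  · have := ho _ (idx_lt p) _ (idx_lt q)
    conv_lhs at this => rw [hT]
    rw [getD_range_map _ _ (idx_lt p), getD_range_map _ _ (idx_lt q), pt_idx, pt_idx, dotL, vecL,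
      vecL, List.zipWith_map, List.zipWith_self, sum_range_eq] at this
    simp only [pt_idx, Golay.idx_injective.eq_iff] at this
    exact this
  · refine closure_latGens.trans ((AddSubgroup.closure_le _).2 ?_)
    rintro _ ⟨v, hv, rfl⟩
    obtain ⟨h8, hL⟩ := hg v hv
    have hc : combR v T = vecL (lin (ent T) (vecP v)) := by
      conv_lhs => rw [← vecL_vecP (latGens_vec v hv), hT]
      exact combR_vecL _ _
    refine ⟨fun k => lin (ent T) (vecP v) k / 8, ?_, ?_⟩
    · rw [← inLB_vecL]
      rw [mapV, hc, vecL, List.map_map] at hL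
      exact hL
    · funext k
      have := h8 ((vecL (lin (ent T) (vecP v))).getD (idx k) 0)
        (by
          rw [hc, vecL, getD_range_map _ _ (idx_lt k)]
          exact List.mem_map.2 ⟨idx k, List.mem_range.2 (idx_lt k), rfl⟩)
      rw [vecL, getD_range_map _ _ (idx_lt k), pt_idx] at this
      simp only [Pi.smul_apply, nsmul_eq_mul]
      push_cast
      omega

/-- The transpose of a table. -/
def transpL (T : List (List ℤ)) : List (List ℤ) :=
  (List.range 24).map fun i => (List.range 24).map fun k => (T.getD k []).getD i 0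

theorem ent_transpL (T : List (List ℤ)) (p q : GolayPt) : ent (transpL T) p q = ent T q p := by
  simp only [ent, transpL, getD_range_map _ _ (idx_lt p), getD_range_map _ _ (idx_lt q)]

/-- A table with the property that it and its transpose pass the check comes from an element of Co0. -/
theorem exists_elem {T : List (List ℤ)} (h : checkMap T = true)
    (h' : checkMap (transpL T) = true) : ∃ g : Co0, rows g = T := by
  obtain ⟨hT, ho, hg⟩ := checkMap_spec h
  obtain ⟨-, ho', hg'⟩ := checkMap_spec h'
  set M := ent T with hM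
  set N := ent (transpL T) with hN
  have hNM : ∀ p q, N p q = M q p := ent_transpL T
  choose f hfm hfe using fun v : leechLattice => hg v.2
  choose f' hfm' hfe' using fun v : leechLattice => hg' v.2
  have h8 : ∀ a b : GolayPt → ℤ, (8 : ℕ) • a = (8 : ℕ) • b → a = b := fun a b e => funext fun k => by
    have := congrFun e k
    simp only [Pi.smul_apply, nsmul_eq_mul] at this
    push_cast at this
    omega
  have hinv : ∀ (A B : GolayPt → GolayPt → ℤ), Orth A → (∀ p q, B p q = A q p) →
      ∀ x z : GolayPt → ℤ, lin A x = 8 • z → lin B z = 8 • x := by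
    intro A B hA hAB x z e
    funext i
    have h1 := lin_transpose hA x i
    simp only [e, Pi.smul_apply, nsmul_eq_mul] at h1
    push_cast at h1
    simp only [lin_apply, hAB, Pi.smul_apply, nsmul_eq_mul]
    push_cast
    simp only [mul_assoc, ← Finset.mul_sum] at h1
    omega
  let F : Equiv.Perm leechLattice :=
    { toFun := fun v => ⟨f v, hfm v⟩
      invFun := fun v => ⟨f' v, hfm' v⟩
      left_inv := fun v => Subtype.ext (h8 _ _ ((hfe' _).symm.trans
        (hinv M N ho hNM _ _ (hfe v))))
      right_inv := fun v => Subtype.ext (h8 _ _ ((hfe _).symm.trans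
        (hinv N M ho' (fun p q => (hNM q p).symm) _ _ (hfe' v)))) }
  have hadd : ∀ v w : leechLattice, F (v + w) = F v + F w := fun v w => Subtype.ext (h8 _ _ (by
    show (8 : ℕ) • f (v + w) = (8 : ℕ) • (f v + f w)
    rw [← hfe, AddSubgroup.coe_add, map_add, hfe, hfe, smul_add]))
  have hnorm : ∀ v : leechLattice,
      sqNorm ((F v : leechLattice) : GolayPt → ℤ) = sqNorm (v : GolayPt → ℤ) := by
    intro v
    have h1 := lin_norm ho (v : GolayPt → ℤ)
    simp only [hfe v, Pi.smul_apply, nsmul_eq_mul] at h1
    push_cast at h1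
    show sqNorm (f v) = _
    rw [← dotInt_self, ← dotInt_self, dotInt_sum, dotInt_sum]
    rw [show (∑ k, (8 : ℤ) * f v k * (8 * f v k)) = 64 * ∑ k, f v k * f v k by
      rw [Finset.mul_sum]; exact Finset.sum_congr rfl fun k _ => by ring] at h1
    omega
  refine ⟨⟨F, hadd, hnorm⟩, ?_⟩
  rw [hT, rows]
  refine range_map_congr fun i _ => congrArg vecL (funext fun k => ?_)
  have h1 := congrFun (hfe (frame (pt i))) k
  simp only [lin_apply] at h1
  simp only [show ∀ p, ((frame (pt i) : leechLattice) : GolayPt → ℤ) p = if p = pt i then 8 else 0 from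
    fun p => Pi.single_apply .., Pi.smul_apply] at h1
  simp only [ite_mul, zero_mul, Finset.sum_ite_eq',
    Finset.mem_univ, if_true, nsmul_eq_mul] at h1
  push_cast at h1
  show f (frame (pt i)) k = ent T (pt i) k
  rw [hM] at h1
  omega

end Cfsg.Agent.SporStruct.CoMatrix
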