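import Cfsg.Agent.SporStruct.M24FamOrbit

/-!
Induced actions of stabilisers in `Cfsg.M24` on families of point sets.
-/

set_option autoImplicit false

namespace Cfsg.Agent.SporStruct.M24

open Cfsg Cfsg.Agent.Golay
open Cfsg.Agent.Sporadic96 (lane fam mem_fam)
open scoped Pointwise

/-- The action of a subgroup on an invariant finite set. -/
def permOn {G X : Type*} [Group G] [MulAction G X] (H : Subgroup G) (R : Finset X)
    (hR : ∀ g ∈ H, ∀ x, g • x ∈ R ↔ x ∈ R) : H →* Equiv.Perm {x // x ∈ R} where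
  toFun g := (MulAction.toPerm (g : G)).subtypePerm (hR g g.2)
  map_one' := by ext x; simp
  map_mul' g h := by
    apply Equiv.ext
    intro x
    apply Subtype.ext
    show ((g * h : H) : G) • (x : X) = (g : G) • ((h : G) • (x : X))
    rw [Subgroup.coe_mul, mul_smul]

theorem permOn_apply {G X : Type*} [Group G] [MulAction G X] (H : Subgroup G) (R : Finset X)
    (hR : ∀ g ∈ H, ∀ x, g • x ∈ R ↔ x ∈ R) (g : H) (x : {x // x ∈ R}) :
    (permOn H R hR g x : X) = (g : G) • (x : X) := rfl

variable {S : Finset (Finset GolayPt)}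

theorem mem_self_iff (g : Cfsg.M24) (hg : g ∈ MulAction.stabilizer Cfsg.M24 S) (x : Finset GolayPt) :
    g • x ∈ S ↔ x ∈ S := by
  have h : g • S = S := hg
  conv_lhs => rw [← h]
  exact Finset.smul_mem_smul_finset_iff _

/-- The action of the stabiliser of a family on its members. -/
def famHom (S : Finset (Finset GolayPt)) :
    MulAction.stabilizer Cfsg.M24 S →* Equiv.Perm {x // x ∈ S} :=
  permOn _ S mem_self_iff

theorem famHom_apply (g : MulAction.stabilizer Cfsg.M24 S) (t : {x // x ∈ S}) :
    (famHom S g t : Finset GolayPt) =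
      ((g : Cfsg.M24) : Equiv.Perm GolayPt) • (t : Finset GolayPt) := rfl

theorem famHom_eq_one_iff (g : MulAction.stabilizer Cfsg.M24 S) :
    famHom S g = 1 ↔ ∀ t ∈ S, ((g : Cfsg.M24) : Equiv.Perm GolayPt) • t = t := by
  constructor
  · intro h t ht
    rw [← famHom_apply g ⟨t, ht⟩, h]
    rfl
  · exact fun h => Equiv.ext fun t => Subtype.ext ((famHom_apply g t).trans (h t t.2))

/-- A table moving the members of a family as prescribed. -/
def famMoves (l : List ℕ) (n : ℕ) (A : ℕ → ℕ) (τ : ℕ → ℕ) : Bool :=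
  isPermTab l && checkAut l && (List.range n).all fun r =>
    Nat.ble (τ r + 1) n && maps l (A r) (A (τ r))

theorem famMoves_spec {l : List ℕ} {n : ℕ} {A τ : ℕ → ℕ} (h : famMoves l n A τ = true) :
    ∃ σ ∈ Cfsg.M24, Tab σ l ∧ ∀ r < n, τ r < n ∧ σ • toSet (A r) = toSet (A (τ r)) := by
  simp only [famMoves, Bool.and_eq_true, List.all_eq_true, List.mem_range, Nat.ble_eq] at h
  obtain ⟨⟨h1, h2⟩, h3⟩ := h
  exact ⟨permOf l h1, (tab_permOf h1).mem_M24 h2, tab_permOf h1,
    fun r hr => ⟨by have := (h3 r hr).1; omega, (tab_permOf h1).smul_toSet (h3 r hr).2⟩⟩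

theorem tab_ext {σ : Equiv.Perm GolayPt} {l l' : List ℕ} (h : Tab σ l) (h' : Tab σ l')
    (hl : l.length = 24) (hl' : l'.length = 24) :
    l = l' := by
  refine List.ext_getElem (hl.trans hl'.symm) fun i h1 h2 => ?_
  have e := (h i (by omega)).symm.trans (h' i (by omega))
  rwa [List.getD_eq_getElem _ _ h1, List.getD_eq_getElem _ _ h2] at e

/-- Full symmetric image from a list of transpositions. -/
theorem range_eq_top_of_swaps {H α : Type*} [Group H] [DecidableEq α] [Finite α]
    (f : H →* Equiv.Perm α) (h : ∀ a b : α, a ≠ b → ∃ g, f g = Equiv.swap a b) : f.range = ⊤ := by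
  refine eq_top_iff.2 fun σ _ => ?_
  clear * - σ h
  induction σ using Equiv.Perm.swap_induction_on with
  | one => exact one_mem _
  | swap_mul σ a b hab ih =>
    exact f.range.mul_mem (h a b hab) ih

end Cfsg.Agent.SporStruct.M24
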