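import Cfsg.Agent.Lib.Steiner.AutWitt22
import Cfsg.Prelude.Def_Sporadic_a

/-!
Automorphisms of the 100-vertex graph of the model of S(3,6,22).
-/

set_option autoImplicit false

namespace Cfsg.Agent.SporStruct.HSGraph

open Cfsg.Agent.Steiner

/-- Three automorphisms as tables. -/
def graphTabs : List (List ℕ) :=
  [[1, 0, 23, 26, 39, 78, 89, 65, 47, 86, 52, 37, 96, 29, 71, 57, 68, 28, 59, 36, 92, 46, 79, 2, 24, 61, 4, 94, 11, 15, 44, 80, 34, 88, 54, 51, 21, 18, 90, 3, 98, 41, 82, 99, 53, 87, 14, 7, 83, 63, 81, 50, 9, 66, 45, 64, 42, 20, 33, 12, 73, 40, 43, 76, 85, 10, 91, 84, 19, 97, 30, 16, 55, 95, 93, 67, 31, 27, 6, 13, 58, 72, 62, 70, 32, 35, 8, 75, 49, 5, 60, 48, 22, 74, 38, 77, 17, 56, 25, 69],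
    [0, 2, 1, 3, 4, 5, 6, 7, 10, 9, 8, 12, 11, 21, 22, 19, 20, 17, 18, 15, 16, 13, 14, 23, 24, 25, 26, 96, 95, 72, 71, 88, 87, 76, 75, 92, 91, 60, 59, 39, 40, 41, 99, 65, 81, 45, 53, 69, 85, 49, 57, 66, 82, 46, 54, 70, 86, 50, 58, 38, 37, 98, 62, 63, 79, 43, 51, 67, 83, 47, 55, 30, 29, 73, 93, 34, 33, 90, 78, 64, 80, 44, 52, 68, 84, 48, 56, 32, 31, 89, 77, 36, 35, 74, 94, 28, 27, 97, 61, 42],
    [0, 5, 1, 2, 3, 4, 6, 7, 20, 16, 18, 10, 15, 8, 19, 9, 17, 12, 14, 11, 22, 13, 21, 23, 58, 38, 57, 59, 50, 24, 37, 60, 49, 40, 53, 46, 45, 54, 39, 36, 56, 32, 44, 26, 62, 25, 41, 31, 48, 35, 52, 85, 88, 92, 82, 94, 89, 84, 80, 91, 86, 87, 81, 34, 47, 30, 51, 27, 61, 28, 42, 33, 29, 55, 43, 83, 93, 90, 79, 76, 72, 70, 65, 68, 74, 77, 64, 75, 69, 71, 66, 96, 98, 95, 99, 78, 67, 73, 63, 97]]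

/-- A spanning tree of the orbit of the extra vertex: new vertex, parent, table. -/
def graphTree : List ℕ := [
  1000, 2011, 5012, 23020, 78050, 4052, 6780, 79782, 39040, 3042, 89060, 13790,
  64791, 76792, 36392, 26030, 71892, 29130, 21131, 8132, 85640, 47642, 31760, 33761,
  93762, 91361, 45362, 57262, 16710, 30711, 15290, 72291, 24292, 46210, 10081, 20082,
  35850, 48851, 77852, 7470, 69471, 80310, 88311, 60312, 40332, 74930, 95932, 96912,
  87450, 25452, 50571, 84572, 68160, 17162, 44300, 37302, 19151, 9152, 55720, 58242,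
  14460, 53461, 41462, 52100, 18102, 92200, 22202, 51350, 83480, 27770, 90771, 65070,
  97690, 28692, 49880, 73600, 86602, 98400, 56402, 43742, 67962, 75870, 32871, 61250,
  38252, 81500, 12172, 62442, 54372, 11192, 70551, 94552, 66530, 82521, 59180, 63490,
  42560, 99430, 34751]

/-- Adjacency on numbers, for `i ≤ j`. -/
def adjLe (i j : ℕ) : Bool :=
  if i == j then false
  else if i == 0 then Nat.ble j 22
  else if Nat.ble i 22 then Nat.ble 23 j && (autModel22.getD (j - 23) 0).testBit (i - 1)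
  else autModel22.getD (i - 23) 0 &&& autModel22.getD (j - 23) 0 == 0

/-- Adjacency on numbers. -/
def adjB (i j : ℕ) : Bool := if Nat.ble i j then adjLe i j else adjLe j i

/-- The table preserves adjacency. -/
def tabAutCheck (t : List ℕ) : Bool :=
  Steiner.isPerm 100 t && (List.range 100).all fun i => (List.range 100).all fun j =>
    adjB (t.getD i 0) (t.getD j 0) == adjB i j

/-- Walk the tree: every step leaves a vertex already reached. -/
def treeOK : ℕ → List ℕ → Bool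
  | seen, [] => seen == 2 ^ 100 - 1
  | seen, k :: r => seen.testBit (k / 10 % 100) && Nat.ble (k % 10 + 1) 3 &&
      (graphTabs.getD (k % 10) []).getD (k / 10 % 100) 0 == k / 1000 &&
      treeOK (seen ||| 2 ^ (k / 1000)) r

set_option maxRecDepth 20000 in
theorem graphTabs_ok : graphTabs.all tabAutCheck = true := by decide +kernel

set_option maxRecDepth 20000 in
theorem graphTree_ok : treeOK 1 graphTree = true := by decide +kernel

end Cfsg.Agent.SporStruct.HSGraph
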