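import Cfsg.Agent.SporStruct.LeechVec

/-!
A vector of norm 48 with two orthogonal minimal vectors of products 16 and 24 with it.
-/

set_option autoImplicit false

namespace Cfsg.Agent.SporStruct

open Cfsg Cfsg.Agent.Leech
open scoped Pointwise

/-- The minimal vector (4, -4, 0, ...). -/
def std32' : leechLattice := ⟨four none (some 0) 4 (-4),
  (four_spec (by simp) (Or.inl rfl) (Or.inr rfl)).1⟩

theorem coe_std32' : (std32' : GolayPt → ℤ) = four none (some 0) 4 (-4) := rfl

theorem sqNorm_std32' : sqNorm (std32' : GolayPt → ℤ) = 32 :=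
  (four_spec (by simp) (Or.inl rfl) (Or.inr rfl)).2

theorem std32'_add_std32 : std32' + std32 = frame none := by
  apply Subtype.ext
  funext k
  rw [AddSubgroup.coe_add, coe_std32', coe_std32]
  simp only [four, frame, Pi.add_apply, Pi.single_apply]
  split_ifs <;> norm_num

/-- A monomial element fixing the standard vector of norm 48. -/
noncomputable def permElt (σ : M24) : Co0 := mono σ empty_mem_code

theorem coe_permElt_smul (σ : M24) (v : leechLattice) (i : GolayPt) :
    ((permElt σ • v : leechLattice) : GolayPt → ℤ) i = (v : GolayPt → ℤ) (σ.1.symm i) := by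
  rw [permElt, coe_mono_smul]
  simp [signedPerm]

theorem permElt_std48 {σ : M24} (h : σ.1 none = none) : permElt σ • std48 = std48 := by
  apply Subtype.ext
  funext i
  rw [coe_permElt_smul, coe_std48, coe_std48]
  have : σ.1.symm i = none ↔ i = none := by rw [Equiv.symm_apply_eq, h]
  simp only [this]

theorem permElt_four {σ : M24} (i j : GolayPt) (a b : ℤ) {v : leechLattice}
    (hv : (v : GolayPt → ℤ) = four i j a b) :
    ((permElt σ • v : leechLattice) : GolayPt → ℤ) = four (σ.1 i) (σ.1 j) a b := by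
  rw [permElt, coe_mono_smul, hv, signedPerm_four]
  simp

/-- The normal form of such a triple. -/
theorem exists_smul_triple (hu : CodeUnique) {v a x : leechLattice}
    (hv : sqNorm (v : GolayPt → ℤ) = 48) (ha : sqNorm (a : GolayPt → ℤ) = 32)
    (hx : sqNorm (x : GolayPt → ℤ) = 32) (hax : dotInt (a : GolayPt → ℤ) (x : GolayPt → ℤ) = 0)
    (hva : dotInt (v : GolayPt → ℤ) (a : GolayPt → ℤ) = 16)
    (hvx : dotInt (v : GolayPt → ℤ) (x : GolayPt → ℤ) = 24) :
    ∃ g : Co0, g • v = std48 ∧ g • a = std32' ∧ g • x = std32 := by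
  set w := a + x - v with hw
  have hsum : v + w = a + x := by rw [hw]; abel
  have hwn : sqNorm (w : GolayPt → ℤ) = 32 := by
    rw [hw, AddSubgroup.coe_sub, AddSubgroup.coe_add, sqNorm_sub, sqNorm_add, ha, hx, hax, hv,
      dotInt_add_left', dotInt_comm (a : GolayPt → ℤ) (v : GolayPt → ℤ), hva,
      dotInt_comm (x : GolayPt → ℤ) (v : GolayPt → ℤ), hvx]
    norm_num
  have hwv : dotInt (w : GolayPt → ℤ) (v : GolayPt → ℤ) = -8 := by
    rw [hw, AddSubgroup.coe_sub, AddSubgroup.coe_add, dotInt_sub_left', dotInt_add_left',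
      dotInt_self, hv, dotInt_comm (a : GolayPt → ℤ) (v : GolayPt → ℤ), hva,
      dotInt_comm (x : GolayPt → ℤ) (v : GolayPt → ℤ), hvx]
    norm_num
  obtain ⟨g, hgf, hgv⟩ := exists_smul_eq_std48_of hu hv hwn hwv
  rw [hsum] at hgf
  set y := ((g • a : leechLattice) : GolayPt → ℤ) with hy
  have h4 : y none = 4 := by
    have := coord_none hgf a
    rw [AddSubgroup.coe_add, dotInt_add_left', dotInt_self, ha, dotInt_comm, hax, ← hy] at this
    omega
  obtain ⟨j, hj, hyj, hy4⟩ := coord_four_any (g • a).2 ((sqNorm_smul g a).trans ha) (p := none)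
    (Or.inl h4)
  rw [← hy, h4] at hy4
  rw [← hy] at hyj
  have hs : y j = -4 := by
    have h : dotInt (std48 : GolayPt → ℤ) y = 16 := by rw [← hgv, hy, dotInt_smul, hva]
    rw [hy4, dotInt_comm, dotInt_four, coe_std48, coe_std48, if_pos rfl, if_neg hj] at h
    omega
  rw [hs] at hy4
  obtain ⟨σ, hσ, hmap⟩ := M24.exists_map_list (A := [none, j]) (A' := [none, some 0])
    (by simp [hj.symm]) (by simp) rfl (by simp)
  simp only [List.map_cons, List.map_nil, List.cons.injEq, and_true] at hmap
  set τ : M24 := ⟨σ, hσ⟩ with hτ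
  have hfix : permElt τ • frame none = frame none := mono_fix_none (σ := τ) hmap.1
  have hA : (permElt τ * g) • a = std32' := by
    apply Subtype.ext
    rw [mul_smul, permElt_four none j 4 (-4) hy4, coe_std32']
    rw [show τ.1 none = none from hmap.1, show τ.1 j = some 0 from hmap.2]
  refine ⟨permElt τ * g, by rw [mul_smul, hgv, permElt_std48 hmap.1], hA, ?_⟩
  have h := congrArg (fun u => permElt τ • u) hgf
  rw [← mul_smul, smul_add', hA, hfix, ← std32'_add_std32] at h
  exact add_left_cancel h

/-- A code word set from a coordinate sum: an odd minimal vector is a signed `(3, 1^23)`. -/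
theorem dot_sub_std (x : GolayPt → ℤ) :
    dotInt (four none (some 0) 4 4) x = 4 * x none + 4 * x (some 0) ∧
    dotInt (four none (some 0) 4 (-4)) x = 4 * x none - 4 * x (some 0) := by
  constructor <;> rw [dotInt_four] <;> ring

/-- An odd minimal vector: the position of the three and the points congruent to 3 modulo 4. -/
theorem shape3_data {x : GolayPt → ℤ} (hx : x ∈ leechLattice) {a : GolayPt}
    (ha : x a = 3 ∨ x a = -3) (h1 : ∀ i, i ≠ a → x i = 1 ∨ x i = -1) :
    ∃ N : Finset GolayPt, N ∈ code ∧
      (∀ i, i ≠ a → x i = 1 - 2 * bit N i) ∧ (a ∈ N ↔ x a = 3) := by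
  obtain ⟨m, hm, c, hc, h4, -⟩ := exists_normal_form hx
  have hodd : m = 1 := by
    have := h4 a
    simp only [bit] at this
    split_ifs at this <;> omega
  subst hodd
  refine ⟨c, hc, fun i hi => ?_, ?_⟩
  · have := h4 i; have := h1 i hi
    by_cases h : i ∈ c <;> simp [bit, h] at * <;> omega
  · have := h4 a
    by_cases h : a ∈ c <;> simp [bit, h] at * <;> omega

theorem sum_shape3 {x : GolayPt → ℤ} {a : GolayPt} {N : Finset GolayPt}
    (h : ∀ i, i ≠ a → x i = 1 - 2 * bit N i) :
    ∑ i, x i = 23 + x a - 2 * ((N.card : ℤ) - bit N a) := by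
  have e : ∀ i, x i = (1 - 2 * bit N i) + if i = a then x a - 1 + 2 * bit N a else 0 := fun i => by
    by_cases hi : i = a
    · subst hi; simp
    · simp [hi, h i hi]
  rw [Finset.sum_congr rfl fun i _ => e i, Finset.sum_add_distrib, Finset.sum_sub_distrib,
    ← Finset.mul_sum, sum_bit, sum_single_if, Finset.sum_const, Finset.card_univ, card_pt,
    nsmul_eq_mul]
  push_cast
  ring

end Cfsg.Agent.SporStruct
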