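import Cfsg.Agent.SporStruct.CoElement
import Cfsg.Agent.SporStruct.LeechVec
import Cfsg.Agent.SporStruct.LeechTriple
import Cfsg.Agent.SporStruct.HSU35Data
import Cfsg.Agent.PSU35.CosetData

/-!
Kernel checks of the elements of Co0 generating the stabiliser of one of the 352 vectors.
-/

set_option autoImplicit false

namespace Cfsg.Agent.SporStruct.HSU35

open Cfsg Cfsg.Agent.Leech CoMatrix
open Cfsg.Agent.Golay (pt idx idx_lt pt_idx idx_pt)

theorem vert_check : vertL.length = 50 ∧ baseL.length = 24 ∧
    (∀ l ∈ vertL, l.length = 24 ∧ inLB l = true) ∧ inLB baseL = true := by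
  decide +kernel

theorem vert_nodup : vertL.Nodup := by decide +kernel

theorem tab_check : ∀ i : Fin 6, checkMap (tabs.getD i.val []) = true ∧
    checkMap (transpL (tabs.getD i.val [])) = true := by
  decide +kernel

/-- The standard vector of norm 48 and the minimal vector, as lists. -/
def fixL : List (List ℤ) :=
  [(List.range 24).map fun i => if i = 23 then 5 else 1,
   (List.range 24).map fun i => if i = 23 then 4 else if i = 0 then -4 else 0,
   baseL]

theorem fix_check : ∀ i : Fin 6, ∀ l ∈ fixL, mapV (tabs.getD i.val []) l = l := by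
  decide +kernel

theorem vert_img_check : ∀ (i : Fin 6) (j : Fin 50),
    mapV (tabs.getD i.val []) (vertL.getD j.val []) =
      vertL.getD ((PSU35.Cosets.permL.getD i.val []).getD j.val 0) [] := by
  decide +kernel

theorem vecL_fix : fixL = [vecL (std48 : GolayPt → ℤ), vecL (std32' : GolayPt → ℤ), baseL] := by
  decide +kernel

/-- An element of Co0 with a given table, with its action on lists of coordinates. -/
theorem exists_elem_fix {T : List (List ℤ)} (h : checkMap T = true)
    (h' : checkMap (transpL T) = true) : ∃ g : Co0, rows g = T ∧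
      ∀ v w : leechLattice, mapV T (vecL (v : GolayPt → ℤ)) = vecL (w : GolayPt → ℤ) → g • v = w := by
  obtain ⟨g, hg⟩ := exists_elem h h'
  refine ⟨g, hg, fun v w e => Subtype.ext (vecL_inj ?_)⟩
  rw [← mapV_rows, hg, e]

end Cfsg.Agent.SporStruct.HSU35
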