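import Cfsg.Agent.SporStruct.LeechTriple
import Cfsg.Agent.SporStruct.M24Counts

/-!
The Higman-Sims configuration in the Leech lattice.
-/

set_option autoImplicit false

namespace Cfsg.Agent.SporStruct

open Cfsg Cfsg.Agent.Leech
open scoped Pointwise

theorem dot_std48' (x : GolayPt → ℤ) :
    dotInt x (std48 : GolayPt → ℤ) = 4 * x none + ∑ i, x i := by
  rw [dotInt_comm, dotInt_std48]

theorem sum_neg_bound {o : Finset GolayPt} {x : GolayPt → ℤ}
    (h2 : ∀ i ∈ o, x i = 2 ∨ x i = -2) (h0 : ∀ i, i ∉ o → x i = 0) :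
    ∑ i, x i ≤ 2 * (o.card : ℤ) ∧
      (∑ i, x i = 2 * (o.card : ℤ) → x = twos o) := by
  have e : ∀ i, x i ≤ 2 * bit o i := fun i => by
    by_cases h : i ∈ o
    · have := h2 i h; simp [bit, h]; omega
    · simp [bit, h, h0 i h]
  have hs : ∑ i, 2 * bit o i = 2 * (o.card : ℤ) := by rw [← Finset.mul_sum, sum_bit]
  refine ⟨hs ▸ Finset.sum_le_sum fun i _ => e i, fun heq => funext fun i => ?_⟩
  exact (Finset.sum_eq_sum_iff_of_le fun i _ => e i).1 (heq.trans hs.symm) i (Finset.mem_univ i)

/-- Minimal vectors with products 24 and 0 with `(5, 1, ...)` and `(4, -4, 0, ...)`. -/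
theorem hs_cases {x : GolayPt → ℤ} (hx : x ∈ leechLattice) (hn : sqNorm x = 32)
    (h48 : dotInt x (std48 : GolayPt → ℤ) = 24) (ha : dotInt x (std32' : GolayPt → ℤ) = 0) :
    x = four none (some 0) 4 4 ∨
      (∃ o ∈ octads, none ∈ o ∧ some 0 ∈ o ∧ x = twos o) ∨
      ∃ j : GolayPt, j ≠ none ∧ j ≠ some 0 ∧ x = neg3 j := by
  rw [dot_std48'] at h48
  rw [dotInt_comm, coe_std32', dotInt_four] at ha
  have heq : x none = x (some 0) := by omega
  rcases shape32 hx hn with ⟨a, b, hab, hxa, hxb, h0⟩ | ⟨o, ho, h2, h0⟩ | ⟨a, hxa, h1⟩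
  · left
    have hsum : ∑ i, x i = x a + x b := Finset.sum_eq_add_of_mem a b (Finset.mem_univ a)
      (Finset.mem_univ b) hab fun i _ hi => h0 i hi.1 hi.2
    have hnz : x none ≠ 0 := by omega
    have vals : x none = 4 ∨ x none = -4 := by
      by_cases h1 : none = a
      · subst h1; omega
      · by_cases h2 : none = b
        · subst h2; omega
        · exact absurd (h0 none h1 h2) hnz
    obtain ⟨j, hj, -, hx4⟩ := coord_four_any hx hn vals
    have hj0 : j = some 0 := by
      by_contra hne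
      have h' := congrFun hx4 (some 0)
      simp [four, Ne.symm hne] at h'
      omega
    subst hj0
    have hall : ∑ i, x i = x none + x (some 0) := by
      conv_lhs => rw [hx4]
      exact sum_four _ _ _ _
    have e1 : x none = 4 := by omega
    have e2 : x (some 0) = 4 := by omega
    rw [hx4, e1, e2]
  · right; left
    have hb := sum_neg_bound h2 h0
    rw [ho.2] at hb
    obtain ⟨hle, heq'⟩ := hb
    have hn2 : x none = 2 := by
      by_cases h : (none : GolayPt) ∈ o
      · have := h2 none h; omega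
      · have := h0 none h; omega
    have hno : (none : GolayPt) ∈ o := by_contra fun h => by have := h0 none h; omega
    have h0o : (some 0 : GolayPt) ∈ o := by_contra fun h => by have := h0 _ h; omega
    exact ⟨o, ho, hno, h0o, heq' (by push_cast; omega)⟩
  · right; right
    obtain ⟨N, hN, hval, hiff⟩ := shape3_data hx hxa h1
    have hsum := sum_shape3 hval
    have hna : (none : GolayPt) ≠ a := fun e => by
      subst e
      have := h1 (some 0) (by simp)
      omega
    have h0a : (some 0 : GolayPt) ≠ a := fun e => by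
      subst e
      have := h1 none (by simp)
      omega
    have hw := code_weights N hN
    simp only [List.mem_cons, List.not_mem_nil, or_false] at hw
    have hn1 := h1 none hna
    refine ⟨a, Ne.symm hna, Ne.symm h0a, ?_⟩
    by_cases haN : a ∈ N
    · have := hiff.1 haN
      have hcpos : 0 < N.card := Finset.card_pos.2 ⟨a, haN⟩
      simp only [bit, haN, if_true, if_false] at hsum
      omega
    · have hx3 : x a = -3 := by
        rcases hxa with e | e
        · exact absurd (hiff.2 e) haN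
        · exact e
      simp only [bit, haN, if_true, if_false] at hsum
      have hN0 : N = ∅ := Finset.card_eq_zero.1 (by omega)
      funext i
      by_cases hi : i = a
      · subst hi; simp [neg3, hx3]
      · simp [neg3, hi, hval i hi, hN0, bit]

theorem hs_std32 : dotInt (std32 : GolayPt → ℤ) (std48 : GolayPt → ℤ) = 24 ∧
    dotInt (std32 : GolayPt → ℤ) (std32' : GolayPt → ℤ) = 0 := by
  rw [dot_std48', coe_std32, coe_std32', dotInt_four, sum_four]
  simp [four]

theorem hs_twos {o : Finset GolayPt} (ho : o ∈ octads) (hn : none ∈ o) (h0 : some 0 ∈ o) :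
    dotInt (twos o) (std48 : GolayPt → ℤ) = 24 ∧ dotInt (twos o) (std32' : GolayPt → ℤ) = 0 := by
  constructor
  · rw [dot_std48', sum_twos, ho.2]; simp [twos, bit, hn]
  · rw [dotInt_comm, coe_std32', dotInt_four]; simp [twos, bit, hn, h0]

theorem hs_neg3 {j : GolayPt} (hjn : j ≠ none) (hj0 : j ≠ some 0) :
    dotInt (neg3 j) (std48 : GolayPt → ℤ) = 24 ∧ dotInt (neg3 j) (std32' : GolayPt → ℤ) = 0 := by
  constructor
  · rw [dot_std48', sum_neg3]; simp [neg3, hjn.symm]
  · rw [dotInt_comm, coe_std32', dotInt_four]; simp [neg3, hjn.symm, hj0.symm]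

/-- The octads through the first two points. -/
noncomputable def octPair : Finset (Finset GolayPt) := blocksThrough octads {none, some 0}

theorem mem_octPair {o : Finset GolayPt} :
    o ∈ octPair ↔ o ∈ octads ∧ none ∈ o ∧ some 0 ∈ o := by
  simp [octPair, mem_blocksThrough, Finset.insert_subset_iff]

theorem card_octPair : octPair.card = 77 := by
  have h2 : ({none, some 0} : Finset GolayPt).card = 2 := Finset.card_pair (by simp)
  have := M24.card_octadsThrough_mul (s := {none, some 0}) (by rw [h2]; norm_num)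
  rw [h2] at this
  norm_num [Nat.choose] at this
  rw [octPair]
  omega

theorem twos_injective : Function.Injective twos := fun D E h => by
  ext i
  have := congrFun h i
  by_cases a : i ∈ D <;> by_cases b : i ∈ E <;> simp [twos, bit, a, b] at this ⊢

theorem neg3_injective : Function.Injective neg3 := fun a b h => by
  by_contra hne
  have := congrFun h a
  simp [neg3, hne] at this

/-- The hexad vertices. -/
noncomputable def hsHexads : Finset (GolayPt → ℤ) := octPair.image twos

/-- The point vertices. -/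
def hsPoints : Finset (GolayPt → ℤ) :=
  (({none, some 0} : Finset GolayPt)ᶜ).image neg3

theorem card_hsPoints : hsPoints.card = 22 := by
  rw [hsPoints, Finset.card_image_of_injective _ neg3_injective, Finset.card_compl,
    Finset.card_pair (by simp), Golay.card_golayPt]

theorem card_hsHexads : hsHexads.card = 77 := by
  rw [hsHexads, Finset.card_image_of_injective _ twos_injective, card_octPair]

theorem mem_hsPoints {x : GolayPt → ℤ} :
    x ∈ hsPoints ↔ ∃ j : GolayPt, j ≠ none ∧ j ≠ some 0 ∧ x = neg3 j := by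
  simp only [hsPoints, Finset.mem_image, Finset.mem_compl, Finset.mem_insert, Finset.mem_singleton,
    not_or]
  exact ⟨fun ⟨j, h, e⟩ => ⟨j, h.1, h.2, e.symm⟩, fun ⟨j, h1, h2, e⟩ => ⟨j, ⟨h1, h2⟩, e.symm⟩⟩

theorem mem_hsHexads {x : GolayPt → ℤ} :
    x ∈ hsHexads ↔ ∃ o ∈ octads, none ∈ o ∧ some 0 ∈ o ∧ x = twos o := by
  simp only [hsHexads, Finset.mem_image, mem_octPair]
  exact ⟨fun ⟨o, h, e⟩ => ⟨o, h.1, h.2.1, h.2.2, e.symm⟩,
    fun ⟨o, h1, h2, h3, e⟩ => ⟨o, ⟨h1, h2, h3⟩, e.symm⟩⟩

theorem dot_std32_point {j : GolayPt} (hjn : j ≠ none) (hj0 : j ≠ some 0) :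
    dotInt (std32 : GolayPt → ℤ) (neg3 j) = 8 := by
  rw [coe_std32, dotInt_four]; simp [neg3, hjn.symm, hj0.symm]

theorem dot_std32_hexad {o : Finset GolayPt} (hn : none ∈ o) (h0 : some 0 ∈ o) :
    dotInt (std32 : GolayPt → ℤ) (twos o) = 16 := by
  rw [coe_std32, dotInt_four]; simp [twos, bit, hn, h0]

/-- The configuration in normal form. -/
theorem hs_set : {x : GolayPt → ℤ | x ∈ leechLattice ∧ sqNorm x = 32 ∧
      dotInt x (std48 : GolayPt → ℤ) = 24 ∧ dotInt x (std32' : GolayPt → ℤ) = 0} =
    ↑(insert (std32 : GolayPt → ℤ) (hsHexads ∪ hsPoints)) := by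
  ext x
  simp only [Set.mem_ofPred_eq, Finset.coe_insert, Finset.coe_union, Set.mem_insert_iff,
    Set.mem_union, Finset.mem_coe, mem_hsHexads, mem_hsPoints]
  constructor
  · rintro ⟨hx, hn, h1, h2⟩
    rw [coe_std32]
    exact hs_cases hx hn h1 h2
  · rintro (rfl | ⟨o, ho, hn, h0, rfl⟩ | ⟨j, hjn, hj0, rfl⟩)
    · exact ⟨std32.2, sqNorm_std32, hs_std32⟩
    · exact ⟨(twos_mem ho).1, (twos_mem ho).2, hs_twos ho hn h0⟩
    · exact ⟨(neg3_mem j).1, (neg3_mem j).2, hs_neg3 hjn hj0⟩

theorem hs_split : (std32 : GolayPt → ℤ) ∉ hsHexads ∧ (std32 : GolayPt → ℤ) ∉ hsPoints ∧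
    Disjoint hsHexads hsPoints := by
  refine ⟨fun h => ?_, fun h => ?_, Finset.disjoint_left.2 fun x h h' => ?_⟩
  · obtain ⟨o, ho, hn, h0, e⟩ := mem_hsHexads.1 h
    have := dot_std32_hexad hn h0
    rw [← e, dotInt_self, sqNorm_std32] at this
    norm_num at this
  · obtain ⟨j, hjn, hj0, e⟩ := mem_hsPoints.1 h
    have := dot_std32_point hjn hj0
    rw [← e, dotInt_self, sqNorm_std32] at this
    norm_num at this
  · obtain ⟨o, ho, hn, h0, rfl⟩ := mem_hsHexads.1 h
    obtain ⟨j, hjn, hj0, e⟩ := mem_hsPoints.1 h'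
    have h1 := dot_std32_hexad hn h0
    rw [e, dot_std32_point hjn hj0] at h1
    norm_num at h1

theorem card_hs_set : (insert (std32 : GolayPt → ℤ) (hsHexads ∪ hsPoints)).card = 100 := by
  obtain ⟨h1, h2, h3⟩ := hs_split
  rw [Finset.card_insert_of_notMem (by simp [h1, h2]), Finset.card_union_of_disjoint h3,
    card_hsHexads, card_hsPoints]

theorem permElt_std32 {σ : M24} (h1 : σ.1 none = none) (h2 : σ.1 (some 0) = some 0) :
    permElt σ • std32 = std32 ∧ permElt σ • std32' = std32' := by
  constructor <;> apply Subtype.ext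
  · rw [permElt_four none (some 0) 4 4 coe_std32, h1, h2, coe_std32]
  · rw [permElt_four none (some 0) 4 (-4) coe_std32', h1, h2, coe_std32']

/-- The stabiliser of the configuration and its first vertex on the points and on the hexads. -/
theorem hs_class_transitive {x y : leechLattice}
    (h : ((x : GolayPt → ℤ) ∈ hsPoints ∧ (y : GolayPt → ℤ) ∈ hsPoints) ∨
      ((x : GolayPt → ℤ) ∈ hsHexads ∧ (y : GolayPt → ℤ) ∈ hsHexads)) :
    ∃ g : Co0, g • std48 = std48 ∧ g • std32' = std32' ∧ g • std32 = std32 ∧ g • x = y := by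
  rcases h with ⟨hx, hy⟩ | ⟨hx, hy⟩
  · obtain ⟨j, hjn, hj0, ex⟩ := mem_hsPoints.1 hx
    obtain ⟨k, hkn, hk0, ey⟩ := mem_hsPoints.1 hy
    obtain ⟨σ, hσ, hmap⟩ := M24.exists_map_list (A := [none, some 0, j])
      (A' := [none, some 0, k]) (by simp [hjn.symm, hj0.symm]) (by simp [hkn.symm, hk0.symm]) rfl
      (by simp)
    simp only [List.map_cons, List.map_nil, List.cons.injEq, and_true] at hmap
    refine ⟨permElt ⟨σ, hσ⟩, permElt_std48 hmap.1,
      (permElt_std32 (σ := ⟨σ, hσ⟩) hmap.1 hmap.2.1).2,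
      (permElt_std32 (σ := ⟨σ, hσ⟩) hmap.1 hmap.2.1).1, Subtype.ext (funext fun i => ?_)⟩
    rw [coe_permElt_smul, ex, ey]
    have : σ.symm i = j ↔ i = k := by rw [Equiv.symm_apply_eq, hmap.2.2]
    simp only [neg3, this]
  · obtain ⟨o, ho, hn, h0, ex⟩ := mem_hsHexads.1 hx
    obtain ⟨p, hp, hpn, hp0, ey⟩ := mem_hsHexads.1 hy
    obtain ⟨s, hs, hsc⟩ := Finset.exists_subset_card_eq (s := o \ {none, some 0}) (n := 4)
      (by rw [Finset.card_sdiff_of_subset (by simp [Finset.insert_subset_iff, hn, h0]), ho.2,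
        Finset.card_pair (by simp)]; norm_num)
    obtain ⟨t, ht, htc⟩ := Finset.exists_subset_card_eq (s := p \ {none, some 0}) (n := 4)
      (by rw [Finset.card_sdiff_of_subset (by simp [Finset.insert_subset_iff, hpn, hp0]), hp.2,
        Finset.card_pair (by simp)]; norm_num)
    have nd : ∀ (o s : Finset GolayPt), s ⊆ o \ {none, some 0} →
        (none :: some 0 :: s.toList).Nodup := fun o s hs => by
      simp only [List.nodup_cons, List.mem_cons, Finset.mem_toList, Finset.nodup_toList, and_true,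
        not_or]
      exact ⟨⟨by simp, fun h => by simpa using hs h⟩, fun h => by simpa using hs h⟩
    obtain ⟨σ, hσ, hσo, hmap⟩ := M24.exists_map_list_six (nd o s hs) (nd p t ht)
      (by simp [hsc]) (by simp [htc]) ho hp
      (by simp only [List.mem_cons, Finset.mem_toList]
          rintro a (rfl | rfl | ha)
          exacts [hn, h0, (Finset.mem_sdiff.1 (hs ha)).1])
      (by simp only [List.mem_cons, Finset.mem_toList]
          rintro a (rfl | rfl | ha)
          exacts [hpn, hp0, (Finset.mem_sdiff.1 (ht ha)).1])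
    simp only [List.map_cons, List.cons.injEq] at hmap
    refine ⟨permElt ⟨σ, hσ⟩, permElt_std48 hmap.1,
      (permElt_std32 (σ := ⟨σ, hσ⟩) hmap.1 hmap.2.1).2,
      (permElt_std32 (σ := ⟨σ, hσ⟩) hmap.1 hmap.2.1).1, Subtype.ext (funext fun i => ?_)⟩
    rw [coe_permElt_smul, ex, ey]
    have : σ.symm i ∈ o ↔ i ∈ p := by
      rw [← hσo, M24.mem_smul_iff, Equiv.Perm.coe_inv]
    simp only [twos, bit, this]

end Cfsg.Agent.SporStruct
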