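import Cfsg.Agent.SporStruct.OctadStab
import Cfsg.Agent.SporStruct.M24Classes
import Cfsg.Agent.SporStruct.M24Counts
import Cfsg.Agent.Lib.Golay.Involutions
import Cfsg.Agent.Lib.Leech.OctadInvolution

/-!
`M22` has one class of involutions, of at least 1155 elements.
-/

set_option autoImplicit false

namespace Cfsg.Agent.SporStruct.M22Invol

open Cfsg Cfsg.Agent.Golay
open scoped Pointwise

abbrev P : GolayPt := some 0

theorem fixedPts_octad {g : Equiv.Perm GolayPt} (hg : g ∈ Cfsg.M24) (h0 : g none = none)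
    (ho : orderOf g = 2) : fixedPts g ∈ octads := by
  rcases involution_classes.1 g hg ho with h | h
  · exact h
  · exact absurd h0 (h none)

theorem eq_of_agree {o : Finset GolayPt} (ho : o ∈ octads) {g h : Equiv.Perm GolayPt}
    (hg : g ∈ M24.pointFix o) (hh : h ∈ M24.pointFix o) {p : GolayPt} (hp : p ∉ o)
    (e : g p = h p) : g = h :=
  (inv_mul_eq_one.1 (M24.eq_one_of_fix ho (Subgroup.mul_mem _ (Subgroup.inv_mem _ hh) hg) hp
    (by rw [Equiv.Perm.mul_apply, e, Equiv.Perm.coe_inv, Equiv.symm_apply_apply]))).symm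

theorem exists_frame_pair {o : Finset GolayPt} (ho : o ∈ octads) (hn : none ∈ o) (hP : P ∈ o)
    {p q : GolayPt} (hp : p ∉ o) (hq : q ∉ o) (hpq : p ≠ q) :
    ∃ w ∈ octads, ∃ a b c : GolayPt, [none, P, a, b, p, q, c].Nodup ∧
      (none ∈ w ∧ P ∈ w ∧ a ∈ w ∧ b ∈ w ∧ p ∈ w ∧ q ∈ w) ∧ c ∉ w ∧ (a ∈ o ∧ b ∈ o ∧ c ∈ o) := by
  have n0 : (none : GolayPt) ≠ P := by simp [P]
  obtain ⟨a, ha, haT⟩ : ∃ a ∈ o, a ∉ ({none, P} : Finset GolayPt) := by
    by_contra hcon
    push Not at hcon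
    have h2 := Finset.card_le_card hcon
    have := Finset.card_le_two (a := (none : GolayPt)) (b := P)
    rw [ho.2] at h2
    omega
  simp only [Finset.mem_insert, Finset.mem_singleton, not_or] at haT
  have hne : ∀ {u v : GolayPt}, u ∈ o → v ∉ o → u ≠ v := fun hu hv h => hv (h ▸ hu)
  obtain ⟨w, hw, hsub⟩ := exists_octad (s := ({none, P, a, p, q} : Finset GolayPt)) (by
    rw [Finset.card_insert_of_notMem, Finset.card_insert_of_notMem, Finset.card_insert_of_notMem,
      Finset.card_pair hpq] <;>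
    simp [hne hn hp, hne hn hq, hne hP hp, hne hP hq, hne ha hp, hne ha hq, n0, Ne.symm haT.1,
      Ne.symm haT.2])
  simp only [Finset.insert_subset_iff, Finset.singleton_subset_iff] at hsub
  obtain ⟨wn, wP, wa, wp, wq⟩ := hsub
  have h3c : ({none, P, a} : Finset GolayPt).card = 3 :=
    Finset.card_eq_three.2 ⟨_, _, _, n0, Ne.symm haT.1, Ne.symm haT.2, rfl⟩
  have h3s : ({none, P, a} : Finset GolayPt) ⊆ w ∩ o := by
    simp [Finset.insert_subset_iff, wn, wP, wa, hn, hP, ha]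
  have h4 : (w ∩ o).card = 4 := by
    have h3 := Finset.card_le_card h3s
    rcases M24.octad_inter_card hw ho with h | h | h | h
    · omega
    · omega
    · exact h
    · exact absurd (h ▸ wp) hp
  obtain ⟨b, hb, hb'⟩ : ∃ b ∈ w ∩ o, b ∉ ({none, P, a} : Finset GolayPt) := by
    by_contra hcon
    push Not at hcon
    have := Finset.card_le_card hcon
    omega
  simp only [Finset.mem_inter] at hb
  simp only [Finset.mem_insert, Finset.mem_singleton, not_or] at hb'
  obtain ⟨c, hc, hcw⟩ : ∃ c ∈ o, c ∉ w := by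
    by_contra hcon
    push Not at hcon
    have := Finset.card_le_card (Finset.subset_inter hcon (Finset.Subset.refl o))
    rw [h4, ho.2] at this
    omega
  refine ⟨w, hw, a, b, c, ?_, ⟨wn, wP, wa, hb.1, wp, wq⟩, hcw, ha, hb.2, hc⟩
  have hnc : ∀ {u : GolayPt}, u ∈ w → u ≠ c := fun hu h => hcw (h ▸ hu)
  simp [n0, Ne.symm haT.1, Ne.symm haT.2, Ne.symm hb'.1, Ne.symm hb'.2.1, Ne.symm hb'.2.2,
    hne hn hp, hne hn hq, hne hP hp, hne hP hq, hne ha hp, hne ha hq, hne hb.2 hp, hne hb.2 hq,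
    hpq, hnc wn, hnc wP, hnc wa, hnc hb.1, hnc wp, hnc wq]

/-- The stabiliser of two points moves an octad through them with two further points anywhere. -/
theorem exists_move {o o' : Finset GolayPt} (ho : o ∈ octads) (hn : none ∈ o) (hP : P ∈ o)
    (ho' : o' ∈ octads) (hn' : none ∈ o') (hP' : P ∈ o') {p q p' q' : GolayPt}
    (hp : p ∉ o) (hq : q ∉ o) (hpq : p ≠ q) (hp' : p' ∉ o') (hq' : q' ∉ o') (hpq' : p' ≠ q') :
    ∃ σ ∈ Cfsg.M24, σ none = none ∧ σ P = P ∧ σ • o = o' ∧ σ p = p' ∧ σ q = q' := by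
  obtain ⟨w, hw, a, b, c, hnd, ⟨wn, wP, wa, wb, wp, wq⟩, wc, oa, ob, oc⟩ :=
    exists_frame_pair ho hn hP hp hq hpq
  obtain ⟨w', hw', a', b', c', hnd', ⟨wn', wP', wa', wb', wp', wq'⟩, wc', oa', ob', oc'⟩ :=
    exists_frame_pair ho' hn' hP' hp' hq' hpq'
  obtain ⟨g, hg, -, hgj⟩ := M24.exists_map_frames (fun j => [none, P, a, b, p, q, c].getD j none)
    (fun j => [none, P, a', b', p', q', c'].getD j none) hw hw'
    (fun j k hj hk h => M24.getD_inj hnd none (by simp; omega) (by simp; omega) h)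
    (fun j k hj hk h => M24.getD_inj hnd' none (by simp; omega) (by simp; omega) h)
    (fun j hj => by interval_cases j <;> simp [wn, wP, wa, wb, wp, wq])
    (fun j hj => by interval_cases j <;> simp [wn', wP', wa', wb', wp', wq'])
    (by simpa using wc) (by simpa using wc')
  have e0 : g none = none := hgj 0 (by norm_num)
  have e1 : g P = P := hgj 1 (by norm_num)
  have e2 : g a = a' := hgj 2 (by norm_num)
  have e3 : g b = b' := hgj 3 (by norm_num)
  have e6 : g c = c' := hgj 6 (by norm_num)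
  refine ⟨g, hg, e0, e1, ?_, hgj 4 (by norm_num), hgj 5 (by norm_num)⟩
  refine octad_unique (smul_mem_octads hg ho) ho' (s := [none, P, a', b', c'].toFinset) ?_ ?_ ?_
  · rw [List.toFinset_card_of_nodup]
    · simp
    · exact hnd'.sublist (by simp)
  · intro x hx
    simp only [List.mem_toFinset, List.mem_cons, List.not_mem_nil, or_false] at hx
    rcases hx with rfl | rfl | rfl | rfl | rfl
    · rw [← e0, M24.apply_mem_smul]; exact hn
    · rw [← e1, M24.apply_mem_smul]; exact hP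
    · rw [← e2, M24.apply_mem_smul]; exact oa
    · rw [← e3, M24.apply_mem_smul]; exact ob
    · rw [← e6, M24.apply_mem_smul]; exact oc
  · intro x hx
    simp only [List.mem_toFinset, List.mem_cons, List.not_mem_nil, or_false] at hx
    rcases hx with rfl | rfl | rfl | rfl | rfl <;> assumption

theorem mem_M22 {g : Equiv.Perm GolayPt} :
    g ∈ Spor.M22 ↔ g ∈ Cfsg.M24 ∧ g none = none ∧ g P = P := by
  constructor
  · rintro ⟨⟨h1, h2⟩, h3⟩; exact ⟨h1, h2, h3⟩
  · rintro ⟨h1, h2, h3⟩; exact ⟨⟨h1, h2⟩, h3⟩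

/-- The structure of an involution of `M22`. -/
theorem invol_spec {x : Spor.M22} (hx : orderOf x = 2) :
    fixedPts x.1 ∈ octads ∧ none ∈ fixedPts x.1 ∧ P ∈ fixedPts x.1 ∧
      x.1 ∈ M24.pointFix (fixedPts x.1) ∧
      ∀ p, p ∉ fixedPts x.1 → x.1 p ∉ fixedPts x.1 ∧ p ≠ x.1 p := by
  obtain ⟨h1, h2, h3⟩ := mem_M22.1 x.2
  have ho : orderOf x.1 = 2 := by rw [Subgroup.orderOf_coe, hx]
  refine ⟨fixedPts_octad h1 h2 ho, mem_fixedPts.2 h2, mem_fixedPts.2 h3,
    M24.mem_pointFix.2 ⟨h1, fun p hp => mem_fixedPts.1 hp⟩, fun p hp => ⟨fun h => ?_, fun e => ?_⟩⟩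
  · exact hp (mem_fixedPts.2 (x.1.injective (mem_fixedPts.1 h)))
  · exact hp (mem_fixedPts.2 e.symm)

theorem isConj_invol {x y : Spor.M22} (hx : orderOf x = 2) (hy : orderOf y = 2) : IsConj x y := by
  obtain ⟨o1, o2, o3, o4, o5⟩ := invol_spec hx
  obtain ⟨r1, r2, r3, r4, r5⟩ := invol_spec hy
  obtain ⟨p, hp⟩ := M24.exists_outside o1
  obtain ⟨p', hp'⟩ := M24.exists_outside r1
  obtain ⟨σ, hσ, s0, s1, so, sp, sq⟩ := exists_move o1 o2 o3 r1 r2 r3 hp (o5 p hp).1 (o5 p hp).2
    hp' (r5 p' hp').1 (r5 p' hp').2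
  refine isConj_iff.2 ⟨⟨σ, mem_M22.2 ⟨hσ, s0, s1⟩⟩, Subtype.ext ?_⟩
  show σ * x.1 * σ⁻¹ = y.1
  refine eq_of_agree r1 (M24.mem_pointFix.2 ⟨Cfsg.M24.mul_mem
    (Cfsg.M24.mul_mem hσ (mem_M22.1 x.2).1) (Cfsg.M24.inv_mem hσ), fun z hz => ?_⟩) r4 hp' ?_
  · rw [← so, M24.mem_smul_iff] at hz
    rw [Equiv.Perm.mul_apply, Equiv.Perm.mul_apply, (M24.mem_pointFix.1 o4).2 _ hz,
      Equiv.Perm.coe_inv, Equiv.apply_symm_apply]
  · rw [Equiv.Perm.mul_apply, Equiv.Perm.mul_apply, Equiv.Perm.coe_inv,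
      show σ.symm p' = p by rw [Equiv.symm_apply_eq, sp], sq]

theorem card_pair_octads : (blocksThrough octads {(none : GolayPt), P}).card = 77 := by
  have := M24.card_octadsThrough_mul (s := ({none, P} : Finset GolayPt)) (by simp)
  rw [Finset.card_pair (by simp : (none : GolayPt) ≠ P)] at this
  norm_num [Nat.choose] at this
  omega

theorem card_invol_ge : 1155 ≤ Nat.card {x : Spor.M22 // orderOf x = 2} := by
  classical
  let pick : Finset GolayPt → GolayPt := fun o => if h : ∃ p, p ∉ o then h.choose else none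
  have hpick : ∀ o ∈ octads, pick o ∉ o := fun o ho => by
    simp only [pick, dif_pos (M24.exists_outside ho)]
    exact (M24.exists_outside ho).choose_spec
  let D := (blocksThrough octads {(none : GolayPt), P}).sigma fun o => oᶜ \ {pick o}
  have hD : D.card = 1155 := by
    rw [Finset.card_sigma, Finset.sum_congr rfl (g := fun _ => 15) fun o ho => ?_,
      Finset.sum_const, card_pair_octads, smul_eq_mul]
    rw [mem_blocksThrough] at ho
    rw [Finset.card_sdiff_of_subset (by simp [hpick o ho.1]), Finset.card_compl, card_golayPt,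
      ho.1.2, Finset.card_singleton]
  have key : ∀ z : ↥D, ∃ x : {x : Spor.M22 // orderOf x = 2},
      fixedPts x.1.1 = z.1.1 ∧ x.1.1 (pick z.1.1) = z.1.2 := by
    rintro ⟨⟨o, q⟩, hz⟩
    simp only [D, Finset.mem_sigma, mem_blocksThrough, Finset.insert_subset_iff,
      Finset.singleton_subset_iff, Finset.mem_sdiff, Finset.mem_compl, Finset.mem_singleton] at hz
    obtain ⟨⟨ho, hn, hP⟩, hq, hqp⟩ := hz
    obtain ⟨k, hk, hkp⟩ := M24.exists_pointFix_map ho (hpick o ho) hq
    obtain ⟨hk1, hk2⟩ := M24.mem_pointFix.1 hk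
    have hord : orderOf k = 2 := by
      have : Fact (Nat.Prime 2) := ⟨Nat.prime_two⟩
      refine orderOf_eq_prime (by rw [pow_two]; exact Leech.sq_eq_one_of_mem_pointFix ho hk)
        fun e => hqp ?_
      rw [← hkp, e, Equiv.Perm.one_apply]
    have hk22 : k ∈ Spor.M22 := mem_M22.2 ⟨hk1, hk2 _ hn, hk2 _ hP⟩
    refine ⟨⟨⟨k, hk22⟩, by rw [← Subgroup.orderOf_coe]; exact hord⟩, ?_, hkp⟩
    have hf := fixedPts_octad hk1 (hk2 _ hn) hord
    exact (Finset.eq_of_subset_of_card_le (fun p hp => mem_fixedPts.2 (hk2 p hp))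
      (by rw [card_of_mem_octads hf, card_of_mem_octads ho])).symm
  choose f hf1 hf2 using key
  have hinj : Function.Injective f := by
    intro z z' e
    have e1 : z.1.1 = z'.1.1 := by rw [← hf1 z, ← hf1 z', e]
    have e2 : z.1.2 = z'.1.2 := by rw [← hf2 z, ← hf2 z', e, e1]
    exact Subtype.ext (Sigma.ext e1 (heq_of_eq e2))
  have := Nat.card_le_card_of_injective f hinj
  rwa [Nat.card_eq_fintype_card (α := ↥D), Fintype.card_coe, hD] at this

theorem card_centralizer_le {t : Spor.M22} (ht : orderOf t = 2) :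
    Nat.card (Subgroup.centralizer ({t} : Set Spor.M22)) ≤ 384 := by
  have hmul := (MulAction.stabilizer (ConjAct Spor.M22) t).card_mul_index
  rw [MulAction.index_stabilizer, ← Subgroup.nat_card_centralizer_nat_card_stabilizer,
    show Nat.card (ConjAct Spor.M22) = Nat.card Spor.M22 from rfl, card_M22] at hmul
  have horb : MulAction.orbit (ConjAct Spor.M22) t = {x : Spor.M22 | orderOf x = 2} := by
    ext y
    rw [ConjAct.mem_orbit_conjAct]
    refine ⟨fun h => ?_, fun h => isConj_invol h ht⟩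
    obtain ⟨c, hc⟩ := isConj_iff.1 h.symm
    show orderOf y = 2
    rw [← hc, ← MulAut.conj_apply, MulEquiv.orderOf_eq, ht]
  rw [horb] at hmul
  have h := card_invol_ge
  change 1155 ≤ ({x : Spor.M22 | orderOf x = 2}).ncard at h
  have := Nat.mul_le_mul_left (Nat.card (Subgroup.centralizer ({t} : Set Spor.M22))) h
  omega

end Cfsg.Agent.SporStruct.M22Invol
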