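import Cfsg.Agent.SporStruct.M24Orbit
import Cfsg.Agent.SporStruct.Suborbit
import Cfsg.Agent.Sporadic96.M24.Objects

/-!
Certificates for the suborbits of `Cfsg.M24` on packed families of point sets.
-/

set_option autoImplicit false

namespace Cfsg.Agent.SporStruct.M24

open Cfsg Cfsg.Agent.Golay
open Cfsg.Agent.Sporadic96 (lane lane_lt fam mem_fam)
open scoped Pointwise

/-- The intersection sizes between the members of two families. -/
def fvals (S T : Finset (Finset GolayPt)) : Finset ℕ :=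
  (S ×ˢ T).image fun p => (p.1 ∩ p.2).card

/-- The intersection sizes are the bits of `v`. -/
def InClass (S T : Finset (Finset GolayPt)) (v : ℕ) : Prop :=
  ∀ c, c ∈ fvals S T ↔ v.testBit c = true

theorem InClass.unique {S T : Finset (Finset GolayPt)} {v w : ℕ} (h : InClass S T v)
    (h' : InClass S T w) : v = w :=
  Nat.eq_of_testBit_eq fun c => Bool.eq_iff_iff.2 ((h c).symm.trans (h' c))

theorem fvals_smul (g : Equiv.Perm GolayPt) (S T : Finset (Finset GolayPt)) :
    fvals (g • S) (g • T) = fvals S T := by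
  ext c
  simp only [fvals, Finset.mem_image, Finset.mem_product, Prod.exists]
  constructor
  · rintro ⟨a, b, ⟨ha, hb⟩, rfl⟩
    obtain ⟨a', ha', rfl⟩ := Finset.mem_smul_finset.1 ha
    obtain ⟨b', hb', rfl⟩ := Finset.mem_smul_finset.1 hb
    exact ⟨a', b', ⟨ha', hb'⟩, by rw [← Finset.smul_finset_inter, Finset.card_smul_finset]⟩
  · rintro ⟨a, b, ⟨ha, hb⟩, rfl⟩
    exact ⟨g • a, g • b, ⟨Finset.smul_mem_smul_finset ha, Finset.smul_mem_smul_finset hb⟩,
      by rw [← Finset.smul_finset_inter, Finset.card_smul_finset]⟩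

theorem inClass_smul_iff (g : Equiv.Perm GolayPt) {S T : Finset (Finset GolayPt)} {v : ℕ} :
    InClass (g • S) (g • T) v ↔ InClass S T v := by
  simp only [InClass, fvals_smul]

theorem testBit_foldl_pow {α : Type} (f : α → ℕ) : ∀ (L : List α) (a c : ℕ),
    (L.foldl (fun a x => a ||| 2 ^ f x) a).testBit c = true ↔
      a.testBit c = true ∨ ∃ x ∈ L, f x = c
  | [], a, c => by simp
  | x :: r, a, c => by
    rw [List.foldl_cons, testBit_foldl_pow f r, Nat.testBit_or, Bool.or_eq_true,
      Nat.testBit_two_pow, decide_eq_true_eq, or_assoc]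
    simp

/-- The intersection sizes of the objects `b` and `j`, as bits. -/
def valMask (m P b j : ℕ) : ℕ :=
  (List.range m).foldl
    (fun a r => a ||| (List.range m).foldl
      (fun a s => a ||| 2 ^ popc (lane P (m * b + r) &&& lane P (m * j + s))) 0) 0

theorem testBit_foldl_or {α : Type} (f : α → ℕ) : ∀ (L : List α) (a c : ℕ),
    (L.foldl (fun a x => a ||| f x) a).testBit c = true ↔
      a.testBit c = true ∨ ∃ x ∈ L, (f x).testBit c = true
  | [], a, c => by simp
  | x :: r, a, c => by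
    rw [List.foldl_cons, testBit_foldl_or f r, Nat.testBit_or, Bool.or_eq_true, or_assoc]
    simp

theorem inClass_valMask (m P b j : ℕ) : InClass (fam m P b) (fam m P j) (valMask m P b j) := by
  intro c
  rw [valMask, testBit_foldl_or]
  simp only [fvals, Finset.mem_image, Finset.mem_product, mem_fam, Prod.exists, List.mem_range,
    testBit_foldl_pow, Nat.zero_testBit, Bool.false_eq_true, false_or]
  constructor
  · rintro ⟨_, _, ⟨⟨r, hr, rfl⟩, ⟨s, hs, rfl⟩⟩, rfl⟩
    exact ⟨r, hr, s, hs, by rw [toSet_inter, card_toSet]⟩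
  · rintro ⟨r, hr, s, hs, rfl⟩
    exact ⟨_, _, ⟨⟨r, hr, rfl⟩, ⟨s, hs, rfl⟩⟩, by rw [toSet_inter, card_toSet]⟩

/-- The tables describe elements of `M24` fixing object `0`, with the given matchings. -/
def famGensCheck (m P : ℕ) (gens : List (List ℕ × ℕ)) : Bool :=
  gens.all fun l => isPermTab l.1 && checkAut l.1 && (List.range m).all fun r =>
    Nat.ble (l.2 / 8 ^ r % 8 + 1) m && maps l.1 (lane P r) (lane P (l.2 / 8 ^ r % 8))

/-- Depth first search certificate on object numbers: a step encodes how far to backtrack, the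
generator used, the matching of the members and the new object. -/
def famTree (m P N : ℕ) (gens : List (List ℕ)) : List ℕ → List ℕ → Bool
  | _, [] => true
  | stack, k :: r =>
    match stack.drop (k / 8589934592) with
    | [] => false
    | d :: rest =>
      Nat.ble (k % 4096 + 1) N && (List.range m).all (fun q =>
          Nat.ble (k / 32768 / 8 ^ q % 8 + 1) m &&
            maps (gens.getD (k / 4096 % 8) idTab) (lane P (m * d + q))
              (lane P (m * (k % 4096) + k / 32768 / 8 ^ q % 8))) &&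
        famTree m P N gens (k % 4096 :: d :: rest) r

/-- A system: a family numbered by lanes, with a transitive action. -/
structure Packed (Fam : Set (Finset (Finset GolayPt))) (m N P : ℕ) : Prop where
  iff : ∀ {T}, T ∈ Fam ↔ ∃ k < N, fam m P k = T
  inj : ∀ {j k}, j < N → k < N → fam m P j = fam m P k → j = k
  card : ∀ {T}, T ∈ Fam → T.card = m
  smul : ∀ {g : Equiv.Perm GolayPt}, g ∈ Cfsg.M24 → ∀ {T}, T ∈ Fam → g • T ∈ Fam
  trans : ∀ {T T'}, T ∈ Fam → T' ∈ Fam → ∃ g ∈ Cfsg.M24, g • T = T'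

variable {Fam : Set (Finset (Finset GolayPt))} {m N P : ℕ}

theorem Packed.mem (hP : Packed Fam m N P) {k : ℕ} (hk : k < N) : fam m P k ∈ Fam :=
  hP.iff.2 ⟨k, hk, rfl⟩

/-- A permutation matching the members of two objects maps the first onto the second. -/
theorem Packed.smul_fam (hP : Packed Fam m N P) {g : Equiv.Perm GolayPt} {i j : ℕ} (hi : i < N)
    (hj : j < N) (h : ∀ r < m, ∃ s < m, g • toSet (lane P (m * i + r)) = toSet (lane P (m * j + s))) :
    g • fam m P i = fam m P j := by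
  refine Finset.eq_of_subset_of_card_le (fun x hx => ?_) ?_
  · obtain ⟨y, hy, rfl⟩ := Finset.mem_smul_finset.1 hx
    obtain ⟨r, hr, rfl⟩ := mem_fam.1 hy
    obtain ⟨s, hs, e⟩ := h r hr
    exact mem_fam.2 ⟨s, hs, e.symm⟩
  · rw [Finset.card_smul_finset, hP.card (hP.mem hi), hP.card (hP.mem hj)]

theorem famTree_sound (hP : Packed Fam m N P) (hN : 0 < N) {gens : List (List ℕ × ℕ)}
    (hg : famGensCheck m P gens = true) {d0 : ℕ} :
    ∀ (L stack : List ℕ), famTree m P N (gens.map Prod.fst) stack L = true →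
      (∀ d ∈ stack, d < N ∧ ∃ g ∈ Cfsg.M24, g • fam m P 0 = fam m P 0 ∧
        g • fam m P d0 = fam m P d) →
      ∀ k ∈ L, k % 4096 < N ∧ ∃ g ∈ Cfsg.M24, g • fam m P 0 = fam m P 0 ∧
        g • fam m P d0 = fam m P (k % 4096)
  | [], _, _, _ => fun k hk => absurd hk List.not_mem_nil
  | k :: r, stack, hc, hs => by
    rw [famTree] at hc
    split at hc
    · exact absurd hc Bool.false_ne_true
    rename_i d rest heq
    simp only [Bool.and_eq_true, List.all_eq_true, List.mem_range, Nat.ble_eq] at hc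
    obtain ⟨⟨hjN, hmaps⟩, hrec⟩ := hc
    have hmem : ∀ x ∈ d :: rest, x < N ∧ ∃ g ∈ Cfsg.M24, g • fam m P 0 = fam m P 0 ∧
        g • fam m P d0 = fam m P x := fun x hx => hs x (List.mem_of_mem_drop (heq ▸ hx))
    obtain ⟨hdN, g, hgM, hga, hgd⟩ := hmem d List.mem_cons_self
    obtain ⟨σ, hσ, hσa, hσt⟩ : ∃ σ ∈ Cfsg.M24, σ • fam m P 0 = fam m P 0 ∧
        Tab σ ((gens.map Prod.fst).getD (k / 4096 % 8) idTab) := by
      rcases lt_or_ge (k / 4096 % 8) gens.length with h | h
      · rw [List.getD_eq_getElem _ _ (by simpa using h), List.getElem_map]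
        have := List.all_eq_true.1 hg _ (List.getElem_mem h)
        simp only [Bool.and_eq_true, List.all_eq_true, List.mem_range, Nat.ble_eq] at this
        obtain ⟨⟨h1, h2⟩, h3⟩ := this
        refine ⟨permOf _ h1, (tab_permOf h1).mem_M24 h2, ?_, tab_permOf h1⟩
        refine hP.smul_fam hN hN fun q hq => ⟨_, (h3 q hq).1, ?_⟩
        simpa using (tab_permOf h1).smul_toSet (h3 q hq).2
      · rw [List.getD_eq_default _ _ (by simpa using h)]
        exact ⟨1, one_mem _, one_smul _ _, tab_one⟩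
    have hnew : k % 4096 < N ∧ ∃ g ∈ Cfsg.M24, g • fam m P 0 = fam m P 0 ∧
        g • fam m P d0 = fam m P (k % 4096) :=
      ⟨by omega, σ * g, Cfsg.M24.mul_mem hσ hgM, by rw [mul_smul, hga, hσa], by
        rw [mul_smul, hgd]
        exact hP.smul_fam hdN (by omega) fun q hq =>
          ⟨_, (hmaps q hq).1, hσt.smul_toSet (hmaps q hq).2⟩⟩
    intro x hx
    rcases List.mem_cons.1 hx with rfl | hx
    · exact hnew
    · refine famTree_sound hP hN hg r _ hrec ?_ x hx
      intro y hy
      rcases List.mem_cons.1 hy with rfl | hy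
      · exact hnew
      · exact hmem y hy

/-- The objects reached. -/
def famMembers (d0 : ℕ) (L : List ℕ) : List ℕ := d0 :: L.map fun k => k % 4096

/-- One class: the tree is valid and its root has the profile `v`. -/
def famClassCheck (m P N : ℕ) (gens : List (List ℕ)) (v d0 : ℕ) (L : List ℕ) : Bool :=
  Nat.ble (d0 + 1) N && famTree m P N gens [d0] L && valMask m P 0 d0 == v

/-- The classes list every object once. -/
def famCoverCheck (N : ℕ) (M : List ℕ) : Bool :=
  M.foldl (fun a j => a ||| 2 ^ j) 0 == 2 ^ N - 1 && M.length == N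

theorem famCover_spec {M : List ℕ} (h : famCoverCheck N M = true) :
    M.Nodup ∧ ∀ j < N, j ∈ M := by
  simp only [famCoverCheck, Bool.and_eq_true, beq_iff_eq] at h
  have hall : ∀ j < N, j ∈ M := fun j hj => by
    have := (testBit_foldl_pow id M 0 j).1 (by
      rw [show (M.foldl (fun a x => a ||| 2 ^ id x) 0) = 2 ^ N - 1 from h.1,
        Nat.testBit_two_pow_sub_one, decide_eq_true hj])
    simpa using this
  refine ⟨?_, hall⟩
  have hle : Finset.range N ⊆ M.toFinset := fun j hj =>
    List.mem_toFinset.2 (hall j (Finset.mem_range.1 hj))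
  have := Finset.card_le_card hle
  rw [Finset.card_range, List.card_toFinset] at this
  exact List.dedup_eq_self.1 ((List.dedup_sublist M).eq_of_length_le (by omega))

/-- A certificate: generators, and classes by profile, root and tree. -/
structure FamCert (m N P r v0 : ℕ) (gens : List (List ℕ × ℕ)) (v root : Fin r → ℕ)
    (steps : Fin r → List ℕ) : Prop where
  pos : 0 < N
  gensOK : famGensCheck m P gens = true
  base : valMask m P 0 0 = v0
  ne_base : ∀ i, v i ≠ v0
  distinct : Function.Injective v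
  cls : ∀ i, famClassCheck m P N (gens.map Prod.fst) (v i) (root i) (steps i) = true
  cover : famCoverCheck N
    (0 :: (List.ofFn fun i => famMembers (root i) (steps i)).flatten) = true

variable {r v0 : ℕ} {gens : List (List ℕ × ℕ)} {v root : Fin r → ℕ} {steps : Fin r → List ℕ}

/-- The objects in a class relative to `S`. -/
def classSet (Fam : Set (Finset (Finset GolayPt))) (S : Finset (Finset GolayPt)) (v : ℕ) :
    Set (Finset (Finset GolayPt)) :=
  {T | T ∈ Fam ∧ InClass S T v}

theorem FamCert.members (hC : FamCert m N P r v0 gens v root steps) (hP : Packed Fam m N P)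
    (i : Fin r) :
    ∀ j ∈ famMembers (root i) (steps i), j < N ∧ InClass (fam m P 0) (fam m P j) (v i) ∧
      ∃ g ∈ Cfsg.M24, g • fam m P 0 = fam m P 0 ∧ g • fam m P (root i) = fam m P j := by
  have h := hC.cls i
  simp only [famClassCheck, Bool.and_eq_true, Nat.ble_eq, beq_iff_eq] at h
  obtain ⟨⟨h0, ht⟩, hv⟩ := h
  have hcl : InClass (fam m P 0) (fam m P (root i)) (v i) := hv ▸ inClass_valMask m P 0 (root i)
  intro j hj
  rcases List.mem_cons.1 hj with rfl | hj
  · exact ⟨by omega, hcl, 1, one_mem _, one_smul _ _, one_smul _ _⟩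
  · obtain ⟨k, hk, rfl⟩ := List.mem_map.1 hj
    obtain ⟨hlt, hg⟩ := famTree_sound hP hC.pos hC.gensOK (d0 := root i) _ _ ht (fun y hy => by
      rw [List.mem_singleton] at hy
      subst hy
      exact ⟨by omega, 1, one_mem _, one_smul _ _, one_smul _ _⟩) k hk
    obtain ⟨g, hgM, hg0, hgr⟩ := hg
    have hj' := (inClass_smul_iff g).2 hcl
    rw [hg0, hgr] at hj'
    exact ⟨hlt, hj', g, hgM, hg0, hgr⟩

theorem FamCert.classes (hC : FamCert m N P r v0 gens v root steps) (hP : Packed Fam m N P)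
    {T : Finset (Finset GolayPt)} (hT : T ∈ Fam) :
    T = fam m P 0 ∨ ∃ i, ∃ j ∈ famMembers (root i) (steps i), fam m P j = T := by
  obtain ⟨j, hj, rfl⟩ := hP.iff.1 hT
  rcases List.mem_cons.1 ((famCover_spec hC.cover).2 j hj) with rfl | h
  · exact Or.inl rfl
  · obtain ⟨l, hl, hjl⟩ := List.mem_flatten.1 h
    obtain ⟨i, rfl⟩ := List.mem_ofFn.1 hl
    exact Or.inr ⟨i, j, hjl, rfl⟩

theorem FamCert.classSet_base (hC : FamCert m N P r v0 gens v root steps) (hP : Packed Fam m N P)
    (i : Fin r) :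
    classSet Fam (fam m P 0) (v i) =
      ↑((famMembers (root i) (steps i)).toFinset.image (fam m P)) := by
  ext T
  simp only [classSet, Set.mem_ofPred_eq, Finset.coe_image, Set.mem_image, Finset.mem_coe,
    List.mem_toFinset]
  constructor
  · rintro ⟨hT, hcl⟩
    rcases hC.classes hP hT with rfl | ⟨i', j, hj, rfl⟩
    · exact absurd (hcl.unique (inClass_valMask m P 0 0)) (hC.base ▸ hC.ne_base i)
    · rw [hC.distinct (hcl.unique (hC.members hP i' j hj).2.1)]
      exact ⟨j, hj, rfl⟩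
  · rintro ⟨j, hj, rfl⟩
    obtain ⟨h1, h2, -⟩ := hC.members hP i j hj
    exact ⟨hP.mem h1, h2⟩

theorem classSet_smul (hP : Packed Fam m N P) {g : Equiv.Perm GolayPt} (hg : g ∈ Cfsg.M24)
    (S : Finset (Finset GolayPt)) (w : ℕ) :
    classSet Fam (g • S) w = (g • ·) '' classSet Fam S w := by
  ext T
  constructor
  · rintro ⟨hT, hc⟩
    refine ⟨g⁻¹ • T, ⟨hP.smul (Cfsg.M24.inv_mem hg) hT, ?_⟩, smul_inv_smul g T⟩
    rwa [← inClass_smul_iff g, smul_inv_smul]
  · rintro ⟨T', ⟨hT', hc⟩, rfl⟩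
    exact ⟨hP.smul hg hT', (inClass_smul_iff g).2 hc⟩

theorem FamCert.ncard_classSet (hC : FamCert m N P r v0 gens v root steps) (hP : Packed Fam m N P)
    {S : Finset (Finset GolayPt)} (hS : S ∈ Fam) (i : Fin r) :
    (classSet Fam S (v i)).ncard = (steps i).length + 1 := by
  obtain ⟨g, hg, rfl⟩ := hP.trans (hP.mem hC.pos) hS
  have hnd : (famMembers (root i) (steps i)).Nodup :=
    (List.nodup_flatten.1 (List.nodup_cons.1 (famCover_spec hC.cover).1).2).1 _
      (List.mem_ofFn.2 ⟨i, rfl⟩)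
  rw [classSet_smul hP hg, Set.ncard_image_of_injective _ (MulAction.injective g),
    hC.classSet_base hP, Set.ncard_coe_finset, Finset.card_image_of_injOn,
    List.toFinset_card_of_nodup hnd, famMembers, List.length_cons, List.length_map]
  intro a ha b hb hab
  simp only [Finset.mem_coe, List.mem_toFinset] at ha hb
  exact hP.inj (hC.members hP i a ha).1 (hC.members hP i b hb).1 hab

theorem FamCert.trans_classSet (hC : FamCert m N P r v0 gens v root steps) (hP : Packed Fam m N P)
    {S : Finset (Finset GolayPt)} (hS : S ∈ Fam) (i : Fin r) {T T' : Finset (Finset GolayPt)}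
    (hT : T ∈ classSet Fam S (v i)) (hT' : T' ∈ classSet Fam S (v i)) :
    ∃ g ∈ Cfsg.M24, g • S = S ∧ g • T = T' := by
  obtain ⟨c, hc, rfl⟩ := hP.trans (hP.mem hC.pos) hS
  rw [classSet_smul hP hc, hC.classSet_base hP] at hT hT'
  obtain ⟨_, hA, rfl⟩ := hT
  obtain ⟨_, hB, rfl⟩ := hT'
  simp only [Finset.mem_coe, Finset.mem_image, List.mem_toFinset] at hA hB
  obtain ⟨a, ha, rfl⟩ := hA
  obtain ⟨b, hb, rfl⟩ := hB
  obtain ⟨-, -, g, hg, g0, ga⟩ := hC.members hP i a ha
  obtain ⟨-, -, h, hh, h0, hb'⟩ := hC.members hP i b hb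
  refine ⟨c * (h * g⁻¹) * c⁻¹, Cfsg.M24.mul_mem (Cfsg.M24.mul_mem hc
    (Cfsg.M24.mul_mem hh (Cfsg.M24.inv_mem hg))) (Cfsg.M24.inv_mem hc), ?_, ?_⟩
  · simp only [mul_smul, inv_smul_smul]
    conv_lhs => rw [← g0, inv_smul_smul, h0]
  · simp only [mul_smul, inv_smul_smul]
    rw [← ga, inv_smul_smul, hb']

theorem FamCert.cover' (hC : FamCert m N P r v0 gens v root steps) (hP : Packed Fam m N P)
    {S T : Finset (Finset GolayPt)} (hS : S ∈ Fam) (hT : T ∈ Fam) :
    T = S ∨ ∃ i, T ∈ classSet Fam S (v i) := by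
  obtain ⟨c, hc, rfl⟩ := hP.trans (hP.mem hC.pos) hS
  rcases hC.classes hP (hP.smul (Cfsg.M24.inv_mem hc) hT) with h | ⟨i, j, hj, h⟩
  · exact Or.inl (by rw [← h, smul_inv_smul])
  · refine Or.inr ⟨i, ?_⟩
    rw [classSet_smul hP hc, hC.classSet_base hP]
    exact ⟨c⁻¹ • T, Finset.mem_coe.2 (Finset.mem_image.2 ⟨j, List.mem_toFinset.2 hj, h⟩),
      smul_inv_smul c T⟩

theorem FamCert.self_notMem (hC : FamCert m N P r v0 gens v root steps) (hP : Packed Fam m N P)
    {S : Finset (Finset GolayPt)} (hS : S ∈ Fam) (i : Fin r) : S ∉ classSet Fam S (v i) := by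
  obtain ⟨c, _, rfl⟩ := hP.trans (hP.mem hC.pos) hS
  intro h
  exact hC.ne_base i (hC.base ▸ ((inClass_smul_iff c).1 h.2).unique (inClass_valMask m P 0 0))

/-- The suborbits of the stabiliser of `S` and its maximality. -/
theorem FamCert.main (hC : FamCert m N P r v0 gens v root steps) (hP : Packed Fam m N P)
    {S : Finset (Finset GolayPt)} (hS : S ∈ Fam) (hr : 0 < r) (s : Fin r → ℕ)
    (hs : ∀ i, (steps i).length + 1 = s i)
    (harith : ∀ J : Finset (Fin r), J.Nonempty → J ≠ Finset.univ →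
      ¬ (1 + ∑ i ∈ J, s i) ∣ (1 + ∑ i, s i)) :
    ∃ X : Fin r → Finset (Finset GolayPt), (∀ i, X i ∈ Fam ∧
      (MulAction.orbit ↥(MulAction.stabilizer Cfsg.M24 S) (X i)).ncard = s i) ∧
      Fam = {S} ∪ ⋃ i, MulAction.orbit ↥(MulAction.stabilizer Cfsg.M24 S) (X i) ∧
      IsCoatom (MulAction.stabilizer Cfsg.M24 S) := by
  have hne : ∀ i, (classSet Fam S (v i)).Nonempty := fun i =>
    Set.nonempty_of_ncard_ne_zero (by rw [hC.ncard_classSet hP hS i]; omega)
  choose X hX using hne
  have horb : ∀ i, MulAction.orbit ↥(MulAction.stabilizer Cfsg.M24 S) (X i) =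
      classSet Fam S (v i) := by
    intro i
    ext T
    constructor
    · rintro ⟨⟨⟨g, hg⟩, hgS⟩, rfl⟩
      have hgS' : g • S = S := hgS
      refine ⟨hP.smul hg (hX i).1, ?_⟩
      show InClass S (g • X i) (v i)
      have := (inClass_smul_iff g).2 (hX i).2
      rwa [hgS'] at this
    · intro hT
      obtain ⟨g, hg, hgS, hgX⟩ := hC.trans_classSet hP hS i (hX i) hT
      exact ⟨⟨⟨g, hg⟩, hgS⟩, hgX⟩
  refine ⟨X, fun i => ⟨(hX i).1, by rw [horb, hC.ncard_classSet hP hS i, hs]⟩, ?_, ?_⟩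
  · ext T
    simp only [horb, Set.mem_union, Set.mem_singleton_iff, Set.mem_iUnion]
    exact ⟨hC.cover' hP hS, fun h => h.elim (fun e => e ▸ hS) fun ⟨_, hi⟩ => hi.1⟩
  have hFam : ∀ {T}, T ∈ MulAction.orbit Cfsg.M24 S → T ∈ Fam := by
    rintro T ⟨⟨g, hg⟩, rfl⟩
    exact hP.smul hg hS
  refine isCoatom_stabilizer_of_suborbits S hr (fun i => classSet Fam S (v i)) s
    (fun i => Set.toFinite _) (fun i => by rw [hC.ncard_classSet hP hS i, hs])
    (fun i => by have := hs i; omega) ?_ (hC.self_notMem hP hS) ?_ ?_ ?_ harith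
  · intro i j hij
    exact Set.disjoint_left.2 fun T hi hj => hij (hC.distinct (hi.2.unique hj.2))
  · intro i T hT
    obtain ⟨g, hg, h⟩ := hP.trans hS hT.1
    exact ⟨⟨g, hg⟩, h⟩
  · exact fun T hT => hC.cover' hP hS (hFam hT)
  · intro i T hT T' hT'
    obtain ⟨g, hg, hgS, hgT⟩ := hC.trans_classSet hP hS i hT hT'
    exact ⟨⟨g, hg⟩, hgS, hgT⟩

end Cfsg.Agent.SporStruct.M24
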