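import Cfsg.Agent.Lib.Golay.Transitive

/-!
Frames of `Cfsg.M24`: six points of an octad and a point outside it are the images of the base
points under exactly one element.
-/

set_option autoImplicit false

namespace Cfsg.Agent.SporStruct.M24

open Cfsg Cfsg.Agent.Golay
open scoped Pointwise

theorem octadO_mem : toSet octadO ∈ octads :=
  octad_mem_iff.2 ⟨_, orb_facts.2.1.1, orb_facts.2.1.2, rfl⟩

theorem bp_facts :
    (∀ i : Fin 6, bp i.val ∈ toSet octadO) ∧ bp 6 ∉ toSet octadO ∧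
    (∀ i : Fin 7, ∀ j : Fin 7, bp i.val = bp j.val → i = j) ∧
    (∀ x ∈ orbN.getD 5 [], x < 24) := by
  decide +kernel

theorem base5_card : ((Finset.range 5).image bp).card = 5 := by decide +kernel

theorem fixUpTo_anti {i j : ℕ} (hij : i ≤ j) : fixUpTo Cfsg.M24 j ≤ fixUpTo Cfsg.M24 i := fun _ hg =>
  mem_fixUpTo.2 ⟨(mem_fixUpTo.1 hg).1, fun k hk => (mem_fixUpTo.1 hg).2 k (lt_of_lt_of_le hk hij)⟩

/-- An element fixing five points of an octad preserves the octad. -/
theorem smul_octadO_of_five {g : Equiv.Perm GolayPt} {o : Finset GolayPt} (hg : g ∈ Cfsg.M24)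
    (ho : o ∈ octads) (h : ∀ i < 5, g (bp i) ∈ o) : g • toSet octadO = o := by
  refine octad_unique (smul_mem_octads hg octadO_mem) ho
    (s := g • ((Finset.range 5).image bp)) ?_ ?_ ?_
  · rw [Finset.card_smul_finset, base5_card]
  · refine Finset.smul_finset_subset_smul_finset fun p hp => ?_
    obtain ⟨i, hi, rfl⟩ := Finset.mem_image.1 hp
    exact bp_facts.1 ⟨i, by have := Finset.mem_range.1 hi; omega⟩
  · intro p hp
    obtain ⟨q, hq, rfl⟩ := Finset.mem_smul_finset.1 hp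
    obtain ⟨i, hi, rfl⟩ := Finset.mem_image.1 hq
    exact h i (Finset.mem_range.1 hi)

theorem mem_smul_iff {g : Equiv.Perm GolayPt} {s : Finset GolayPt} {p : GolayPt} :
    p ∈ g • s ↔ g⁻¹ p ∈ s := by
  rw [← Finset.inv_smul_mem_iff, Equiv.Perm.smul_def]

theorem apply_mem_smul {g : Equiv.Perm GolayPt} {s : Finset GolayPt} {p : GolayPt} :
    g p ∈ g • s ↔ p ∈ s := by
  rw [mem_smul_iff, Equiv.Perm.coe_inv, Equiv.symm_apply_apply]

/-- The base octad is preserved by whatever fixes the first five base points. -/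
theorem smul_octadO {h : Equiv.Perm GolayPt} (hh : h ∈ fixUpTo Cfsg.M24 5) :
    h • toSet octadO = toSet octadO :=
  smul_octadO_of_five (mem_fixUpTo.1 hh).1 octadO_mem fun i hi => by
    rw [(mem_fixUpTo.1 hh).2 i hi]; exact bp_facts.1 ⟨i, by omega⟩

/-- Five points of an octad and a sixth point of it. -/
theorem exists_map_six (f : ℕ → GolayPt) (hf : ∀ j k, j < 6 → k < 6 → f j = f k → j = k)
    {o : Finset GolayPt} (ho : o ∈ octads) (hfo : ∀ j < 6, f j ∈ o) :
    ∃ g ∈ Cfsg.M24, g • toSet octadO = o ∧ ∀ j < 6, g (bp j) = f j := by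
  obtain ⟨g, hg, hgj⟩ := exists_map_base f 5 le_rfl fun j k hj hk => hf j k (by omega) (by omega)
  have hgo := smul_octadO_of_five hg ho fun i hi => by rw [hgj i hi]; exact hfo i (by omega)
  have hx : idx (g⁻¹ (f 5)) ∈ orbN.getD 5 [] := by
    refine orb_facts.2.2.2.1 ⟨_, idx_lt _⟩ (fun j hj => ?_) ?_
    · rw [← idx_bp] at hj
      have := idx_injective hj
      rw [Equiv.Perm.coe_inv, Equiv.symm_apply_eq, hgj _ j.isLt] at this
      exact absurd (hf 5 j.val (by norm_num) (by omega) this) (Nat.ne_of_gt j.isLt)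
    · rw [← mem_toSet, ← mem_smul_iff, hgo]
      exact hfo 5 (by norm_num)
  obtain ⟨h, hh, hhx⟩ := exists_transversal (by norm_num : 5 < 7) hx
  refine ⟨g * h, Cfsg.M24.mul_mem hg (mem_fixUpTo.1 hh).1, ?_, fun j hj => ?_⟩
  · rw [mul_smul, smul_octadO hh, hgo]
  · rw [Equiv.Perm.mul_apply]
    rcases Nat.lt_succ_iff_lt_or_eq.1 hj with hj | rfl
    · rw [(mem_fixUpTo.1 hh).2 j hj, hgj j hj]
    · rw [idx_injective hhx, Equiv.Perm.coe_inv, Equiv.apply_symm_apply]

/-- A point outside the base octad can be moved to any other one, fixing six base points. -/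
theorem exists_map_outside {p : GolayPt} (hp : p ∉ toSet octadO) :
    ∃ h ∈ fixUpTo Cfsg.M24 6, h (bp 6) = p := by
  have hx : idx p ∈ orbN.getD 6 [] := by
    refine orb_facts.2.2.2.2.1 ⟨_, idx_lt _⟩ ?_
    rw [mem_toSet] at hp
    exact Bool.eq_false_iff.2 hp
  obtain ⟨h, hh, hhx⟩ := exists_transversal (by norm_num : 6 < 7) hx
  exact ⟨h, hh, idx_injective hhx⟩

/-- A frame: six distinct points of an octad and a point outside it. -/
theorem exists_map_frame (f : ℕ → GolayPt) (hf : ∀ j k, j < 6 → k < 6 → f j = f k → j = k)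
    {o : Finset GolayPt} (ho : o ∈ octads) (hfo : ∀ j < 6, f j ∈ o) (h6 : f 6 ∉ o) :
    ∃ g ∈ Cfsg.M24, g • toSet octadO = o ∧ ∀ j < 7, g (bp j) = f j := by
  obtain ⟨g, hg, hgo, hgj⟩ := exists_map_six f hf ho hfo
  obtain ⟨h, hh, hh6⟩ := exists_map_outside (p := g⁻¹ (f 6)) (fun hp => h6 (by
    rwa [← hgo, mem_smul_iff]))
  refine ⟨g * h, Cfsg.M24.mul_mem hg (mem_fixUpTo.1 hh).1, ?_, fun j hj => ?_⟩
  · rw [mul_smul, smul_octadO (fixUpTo_anti (by norm_num) hh), hgo]
  · rw [Equiv.Perm.mul_apply]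
    rcases Nat.lt_succ_iff_lt_or_eq.1 hj with hj | rfl
    · rw [(mem_fixUpTo.1 hh).2 j hj, hgj j hj]
    · rw [hh6, Equiv.Perm.coe_inv, Equiv.apply_symm_apply]

/-- Five points and a point outside the octad through them. -/
theorem exists_map_five_out (f : ℕ → GolayPt) (hf : ∀ j k, j < 5 → k < 5 → f j = f k → j = k)
    {o : Finset GolayPt} (ho : o ∈ octads) (hfo : ∀ j < 5, f j ∈ o) {p : GolayPt} (hp : p ∉ o) :
    ∃ g ∈ Cfsg.M24, g • toSet octadO = o ∧ (∀ j < 5, g (bp j) = f j) ∧ g (bp 6) = p := by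
  obtain ⟨g, hg, hgj⟩ := exists_map_base f 5 le_rfl hf
  have hgo := smul_octadO_of_five hg ho fun i hi => by rw [hgj i hi]; exact hfo i hi
  obtain ⟨h, hh, hh6⟩ := exists_map_outside (p := g⁻¹ p) (fun h' => hp (by
    rwa [← hgo, mem_smul_iff]))
  refine ⟨g * h, Cfsg.M24.mul_mem hg (mem_fixUpTo.1 hh).1, ?_, fun j hj => ?_, ?_⟩
  · rw [mul_smul, smul_octadO (fixUpTo_anti (by norm_num) hh), hgo]
  · rw [Equiv.Perm.mul_apply, (mem_fixUpTo.1 hh).2 j (by omega), hgj j hj]
  · rw [Equiv.Perm.mul_apply, hh6, Equiv.Perm.coe_inv, Equiv.apply_symm_apply]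

/-- An element is determined by the images of the seven base points. -/
theorem eq_of_base {g g' : Equiv.Perm GolayPt} (hg : g ∈ Cfsg.M24) (hg' : g' ∈ Cfsg.M24)
    (h : ∀ j < 7, g (bp j) = g' (bp j)) : g = g' := by
  have hm : g'⁻¹ * g ∈ fixUpTo Cfsg.M24 7 :=
    mem_fixUpTo.2 ⟨Cfsg.M24.mul_mem (Cfsg.M24.inv_mem hg') hg, fun j hj => by
      rw [Equiv.Perm.mul_apply, h j hj, Equiv.Perm.coe_inv, Equiv.symm_apply_apply]⟩
  rw [fixUpTo_seven, Subgroup.mem_bot, inv_mul_eq_one] at hm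
  exact hm.symm

theorem reps6_fix : ((reps24.getD 6 []).all fun xk =>
    (List.range 24).all fun i =>
      !octadO.testBit i || ((evalSLP gens24 prog24).getD xk.2 idTab).getD i 0 == i) = true ∧
    (reps24.getD 6 []).map Prod.fst = orbN.getD 6 [] ∧
    ((reps24.getD 6 []).all fun xk =>
      ((evalSLP gens24 prog24).getD xk.2 idTab).getD 4 0 == xk.1) = true ∧
    (baseN.take 6).all (fun i => octadO.testBit i) = true := by
  decide +kernel

/-- Whatever fixes six base points fixes the base octad pointwise. -/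
theorem fix_octadO {g : Equiv.Perm GolayPt} (hg : g ∈ fixUpTo Cfsg.M24 6) :
    ∀ p ∈ toSet octadO, g p = p := by
  obtain ⟨hfix, hfst, himg, -⟩ := reps6_fix
  have hx := orbit_subset (by norm_num : 6 < 7) hg
  rw [← hfst, List.mem_map] at hx
  obtain ⟨xk, hxk, hxe⟩ := hx
  obtain ⟨h, hh, hht⟩ := evalSLP_mem Cfsg.M24 prog24 gens24 (by
    intro l hl
    simp only [gens24, List.mem_cons, List.not_mem_nil, or_false] at hl
    rcases hl with rfl | rfl | rfl | rfl
    exacts [⟨_, shift_mem, tab_shift⟩, ⟨_, projInv_mem, tab_projInv⟩,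
      ⟨_, cubeTwist_mem, tab_cubeTwist⟩, ⟨1, one_mem _, tab_one⟩]) xk.2
  have hall := List.all_eq_true.1 hfix xk hxk
  have hh8 : ∀ p ∈ toSet octadO, h p = p := by
    intro p hp
    have := List.all_eq_true.1 hall (idx p) (List.mem_range.2 (idx_lt p))
    rw [mem_toSet.1 hp, Bool.not_true, Bool.false_or, beq_iff_eq] at this
    rw [hht.apply, this, pt_idx]
  have heq : g = h := by
    refine eq_of_base (mem_fixUpTo.1 hg).1 hh fun j hj => ?_
    rcases Nat.lt_succ_iff_lt_or_eq.1 hj with hj | rfl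
    · rw [(mem_fixUpTo.1 hg).2 j hj, hh8 _ (bp_facts.1 ⟨j, hj⟩)]
    · apply idx_injective
      rw [← hxe, hht.apply, idx_bp, idx_pt (hht.lt (by decide +kernel))]
      exact (beq_iff_eq.1 (List.all_eq_true.1 himg xk hxk)).symm
  intro p hp
  rw [heq, hh8 p hp]

/-- An element fixing six points of an octad fixes the octad pointwise. -/
theorem fix_octad {g : Equiv.Perm GolayPt} (hg : g ∈ Cfsg.M24) {o : Finset GolayPt}
    (ho : o ∈ octads) {s : Finset GolayPt} (hs : s ⊆ o) (hcard : 6 ≤ s.card)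
    (hfix : ∀ p ∈ s, g p = p) : ∀ p ∈ o, g p = p := by
  obtain ⟨u, hus, hu⟩ := Finset.exists_subset_card_eq hcard
  set e := u.equivFinOfCardEq hu with he
  set f : ℕ → GolayPt := fun j => if h : j < 6 then (e.symm ⟨j, h⟩).1 else none with hf
  have hfu : ∀ j < 6, f j ∈ u := fun j hj => by simp only [hf, dif_pos hj]; exact (e.symm _).2
  obtain ⟨c, hc, hco, hcj⟩ := exists_map_six f (fun j k hj hk hjk => by
    simp only [hf, dif_pos hj, dif_pos hk] at hjk
    have := e.symm.injective (Subtype.ext hjk)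
    simpa using this) ho (fun j hj => hs (hus (hfu j hj)))
  have hmem : c⁻¹ * g * c ∈ fixUpTo Cfsg.M24 6 :=
    mem_fixUpTo.2 ⟨Cfsg.M24.mul_mem (Cfsg.M24.mul_mem (Cfsg.M24.inv_mem hc) hg) hc, fun j hj => by
      rw [Equiv.Perm.mul_apply, Equiv.Perm.mul_apply, hcj j hj, hfix _ (hus (hfu j hj)), ← hcj j hj,
        Equiv.Perm.coe_inv, Equiv.symm_apply_apply]⟩
  intro p hp
  rw [← hco, mem_smul_iff] at hp
  have := fix_octadO hmem _ hp
  rw [Equiv.Perm.mul_apply, Equiv.Perm.mul_apply, Equiv.Perm.coe_inv, Equiv.apply_symm_apply,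
    EmbeddingLike.apply_eq_iff_eq] at this
  exact this

/-- The unique element moving one frame to another. -/
theorem exists_map_frames (a b : ℕ → GolayPt) {o o' : Finset GolayPt} (ho : o ∈ octads)
    (ho' : o' ∈ octads) (ha : ∀ j k, j < 6 → k < 6 → a j = a k → j = k)
    (hb : ∀ j k, j < 6 → k < 6 → b j = b k → j = k)
    (hao : ∀ j < 6, a j ∈ o) (hbo : ∀ j < 6, b j ∈ o') (ha6 : a 6 ∉ o) (hb6 : b 6 ∉ o') :
    ∃ g ∈ Cfsg.M24, g • o = o' ∧ ∀ j < 7, g (a j) = b j := by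
  obtain ⟨g, hg, hgo, hgj⟩ := exists_map_frame a ha ho hao ha6
  obtain ⟨h, hh, hho, hhj⟩ := exists_map_frame b hb ho' hbo hb6
  refine ⟨h * g⁻¹, Cfsg.M24.mul_mem hh (Cfsg.M24.inv_mem hg), ?_, fun j hj => ?_⟩
  · rw [mul_smul, ← hgo, inv_smul_smul, hho]
  · rw [Equiv.Perm.mul_apply, ← hgj j hj, Equiv.Perm.coe_inv, Equiv.symm_apply_apply, hhj j hj]

end Cfsg.Agent.SporStruct.M24
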