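import Cfsg.Agent.Lib.Golay.Transitive

/-!
Certificates for orbits of set stabilisers in `Cfsg.M24` on code words.
-/

set_option autoImplicit false

namespace Cfsg.Agent.SporStruct.M24

open Cfsg Cfsg.Agent.Golay
open scoped Pointwise

/-- The tables describe elements of `M24` fixing the set with mask `a`. -/
def gensCheck (a : ℕ) (gens : List (List ℕ)) : Bool :=
  gens.all fun l => isPermTab l && checkAut l && maps l a a

theorem gensCheck_spec {a : ℕ} {gens : List (List ℕ)} (h : gensCheck a gens = true) {l : List ℕ}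
    (hl : l ∈ gens) : ∃ σ ∈ Cfsg.M24, σ • toSet a = toSet a ∧ Tab σ l := by
  have := List.all_eq_true.1 h l hl
  simp only [Bool.and_eq_true] at this
  obtain ⟨⟨h1, h2⟩, h3⟩ := this
  exact ⟨permOf l h1, (tab_permOf h1).mem_M24 h2, (tab_permOf h1).smul_toSet h3, tab_permOf h1⟩

/-- Depth first search certificate: a step encodes how far to backtrack, the generator used and
the information bits of the new code word. -/
def treeCheck (gens : List (List ℕ)) : List ℕ → List ℕ → Bool
  | _, [] => true
  | stack, k :: r =>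
    match stack.drop (k / 32768) with
    | [] => false
    | d :: rest =>
      maps (gens.getD (k / 4096 % 8) idTab) d (comb (k % 4096)) &&
        treeCheck gens (comb (k % 4096) :: d :: rest) r

/-- The orbit of `toSet d` under the stabiliser of `toSet a`. -/
def InStabOrb (a d n : ℕ) : Prop :=
  ∃ g ∈ Cfsg.M24, g • toSet a = toSet a ∧ g • toSet d = toSet n

theorem treeCheck_sound {a d0 : ℕ} {gens : List (List ℕ)} (hg : gensCheck a gens = true) :
    ∀ (L stack : List ℕ), treeCheck gens stack L = true →
      (∀ d ∈ stack, InStabOrb a d0 d) → ∀ k ∈ L, InStabOrb a d0 (comb (k % 4096))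
  | [], _, _, _ => fun k hk => absurd hk List.not_mem_nil
  | k :: r, stack, hc, hs => by
    rw [treeCheck] at hc
    split at hc
    · exact absurd hc Bool.false_ne_true
    rename_i d rest heq
    rw [Bool.and_eq_true] at hc
    have hmem : ∀ x ∈ d :: rest, InStabOrb a d0 x := fun x hx =>
      hs x (List.mem_of_mem_drop (heq ▸ hx))
    have hnew : InStabOrb a d0 (comb (k % 4096)) := by
      obtain ⟨g, hgM, hga, hgd⟩ := hmem d List.mem_cons_self
      obtain ⟨σ, hσ, hσa, hσt⟩ : ∃ σ ∈ Cfsg.M24, σ • toSet a = toSet a ∧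
          Tab σ (gens.getD (k / 4096 % 8) idTab) := by
        rcases lt_or_ge (k / 4096 % 8) gens.length with h | h
        · rw [List.getD_eq_getElem _ _ h]
          exact gensCheck_spec hg (List.getElem_mem h)
        · rw [List.getD_eq_default _ _ h]
          exact ⟨1, one_mem _, one_smul _ _, tab_one⟩
      exact ⟨σ * g, Cfsg.M24.mul_mem hσ hgM, by rw [mul_smul, hga, hσa],
        by rw [mul_smul, hgd]; exact hσt.smul_toSet hc.1⟩
    intro x hx
    rcases List.mem_cons.1 hx with rfl | hx
    · exact hnew
    · refine treeCheck_sound hg r _ hc.2 ?_ x hx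
      intro y hy
      rcases List.mem_cons.1 hy with rfl | hy
      · exact hnew
      · exact hmem y hy

/-- The information bits reached. -/
def reached (d0 : ℕ) (L : List ℕ) : ℕ :=
  L.foldl (fun a k => a ||| 2 ^ (k % 4096)) (2 ^ (d0 % 4096))

/-- All words of weight `w` meeting `a` in `k` points are reached from `d0`. -/
def coverCheck (a d0 w k : ℕ) (L : List ℕ) : Bool :=
  inCode d0 && (List.range 64).all fun i => (List.range 64).all fun j =>
    !(popc (comb (64 * i + j)) == w && popc (comb (64 * i + j) &&& a) == k) ||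
      (reached d0 L).testBit (64 * i + j)

/-- Transitivity of the stabiliser of a set on the words of given weight and intersection. -/
theorem stab_transitive {a d0 w k : ℕ} {gens : List (List ℕ)} {L : List ℕ}
    (hg : gensCheck a gens = true) (ht : treeCheck gens [d0] L = true)
    (hc : coverCheck a d0 w k L = true) {s : Finset GolayPt}
    (hs : s ∈ wordsOfWeight (golayCode : Set (GolayPt → ZMod 2)) w)
    (hk : (toSet a ∩ s).card = k) :
    ∃ g ∈ Cfsg.M24, g • toSet a = toSet a ∧ g • toSet d0 = s := by
  obtain ⟨n, hn, hw, rfl⟩ := mem_wordsOfWeight_iff.1 hs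
  simp only [coverCheck, Bool.and_eq_true, List.all_eq_true, List.mem_range, Bool.or_eq_true,
    Bool.not_eq_true', Bool.and_eq_false_iff, beq_eq_false_iff_ne, ne_eq] at hc
  obtain ⟨h0, hall⟩ := hc
  have hn' : comb (n % 4096) = n := beq_iff_eq.1 hn
  have hb := hall (n % 4096 / 64) (by omega) (n % 4096 % 64) (by omega)
  rw [Nat.div_add_mod, hn'] at hb
  rw [toSet_inter, card_toSet, Nat.land_comm] at hk
  rcases hb with hb | hb
  · exact absurd hb (by simp [hw, hk])
  rcases testBit_foldl _ _ _ hb with h | ⟨x, hx, e⟩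
  · rw [Nat.testBit_two_pow] at h
    refine ⟨1, one_mem _, one_smul _ _, ?_⟩
    rw [one_smul]
    have h0' : comb (d0 % 4096) = d0 := beq_iff_eq.1 h0
    rw [← hn', ← of_decide_eq_true h, h0']
  · have := treeCheck_sound (d0 := d0) hg L [d0] ht
      (fun y hy => by
        rw [List.mem_singleton] at hy
        exact ⟨1, one_mem _, one_smul _ _, by rw [hy, one_smul]⟩) x hx
    rwa [e, hn'] at this

/-- Two sets in one class are in one orbit of the stabiliser. -/
theorem stab_transitive₂ {a d0 w k : ℕ} {gens : List (List ℕ)} {L : List ℕ}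
    (hg : gensCheck a gens = true) (ht : treeCheck gens [d0] L = true)
    (hc : coverCheck a d0 w k L = true) {s s' : Finset GolayPt}
    (hs : s ∈ wordsOfWeight (golayCode : Set (GolayPt → ZMod 2)) w)
    (hs' : s' ∈ wordsOfWeight (golayCode : Set (GolayPt → ZMod 2)) w)
    (hk : (toSet a ∩ s).card = k) (hk' : (toSet a ∩ s').card = k) :
    ∃ g ∈ Cfsg.M24, g • toSet a = toSet a ∧ g • s = s' := by
  obtain ⟨g, h1, h2, h3⟩ := stab_transitive hg ht hc hs hk
  obtain ⟨g', h1', h2', h3'⟩ := stab_transitive hg ht hc hs' hk'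
  refine ⟨g' * g⁻¹, Cfsg.M24.mul_mem h1' (Cfsg.M24.inv_mem h1), ?_, ?_⟩
  · rw [mul_smul]
    conv_lhs => rw [← h2, inv_smul_smul]
    exact h2'
  · rw [mul_smul, ← h3, inv_smul_smul, h3']

end Cfsg.Agent.SporStruct.M24
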