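import Cfsg.Agent.SporStruct.M24TwoGroupData
import Cfsg.Agent.SporStruct.Sextets

/-!
A 2-subgroup of `Cfsg.M24` and its orbits.
-/

set_option autoImplicit false

namespace Cfsg.Agent.SporStruct.M24

open Cfsg Cfsg.Agent.Golay
open scoped Pointwise

/-- The extension of a subgroup by an element normalising it whose square it contains. -/
def extendTwo {G : Type*} [Group G] (K : Subgroup G) (g : G) (hg : g * g ∈ K)
    (hn : ∀ k ∈ K, g * k * g⁻¹ ∈ K) : Subgroup G where
  carrier := {x | x ∈ K ∨ x * g⁻¹ ∈ K}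
  one_mem' := Or.inl K.one_mem
  mul_mem' := by
    rintro x y (hx | hx) (hy | hy)
    · exact Or.inl (K.mul_mem hx hy)
    · exact Or.inr (by rw [mul_assoc]; exact K.mul_mem hx hy)
    · exact Or.inr (by
        rw [show x * y * g⁻¹ = (x * g⁻¹) * (g * y * g⁻¹) by group]
        exact K.mul_mem hx (hn y hy))
    · exact Or.inl (by
        rw [show x * y = (x * g⁻¹) * (g * (y * g⁻¹) * g⁻¹) * (g * g) by group]
        exact K.mul_mem (K.mul_mem hx (hn _ hy)) hg)
  inv_mem' := by
    rintro x (hx | hx)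
    · exact Or.inl (K.inv_mem hx)
    · exact Or.inr (by
        rw [show x⁻¹ * g⁻¹ = (g * g)⁻¹ * (g * (x * g⁻¹)⁻¹ * g⁻¹) by group]
        exact K.mul_mem (K.inv_mem hg) (hn _ (K.inv_mem hx)))

theorem isPGroup_extendTwo {G : Type*} [Group G] {K : Subgroup G} (hK : IsPGroup 2 K) {g : G}
    (hg : g * g ∈ K) (hn : ∀ k ∈ K, g * k * g⁻¹ ∈ K) : IsPGroup 2 (extendTwo K g hg hn) := by
  rintro ⟨x, hx⟩
  have h2 : x * x ∈ K := by
    rcases hx with h | h
    · exact K.mul_mem h h
    · rw [show x * x = (x * g⁻¹) * (g * (x * g⁻¹) * g⁻¹) * (g * g) by group]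
      exact K.mul_mem (K.mul_mem h (hn _ h)) hg
  obtain ⟨n, hn'⟩ := hK ⟨x * x, h2⟩
  refine ⟨n + 1, Subtype.ext ?_⟩
  have := congrArg Subtype.val hn'
  simp only [SubgroupClass.coe_pow, OneMemClass.coe_one] at this ⊢
  rwa [pow_succ', pow_mul, pow_two]

/-- The tables are automorphisms fixing the octad and the sextet, and form a power-conjugate
presentation. -/
def twoGenCheck (j : ℕ) : Bool :=
  let e := twoGens.getD j (idTab, [], [])
  isPermTab e.1 && checkAut e.1 && maps e.1 twoOctad twoOctad &&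
    twoSextet.all (fun t => twoSextet.any fun u => maps e.1 t u) &&
    (comp e.1 e.1 == twoWord e.2.1 && e.2.1.all fun a => Nat.ble (a + 1) j) &&
    (List.range j).all fun i =>
      comp e.1 (twoGens.getD i (idTab, [], [])).1 == comp (twoWord (e.2.2.getD i [])) e.1 &&
        (e.2.2.getD i []).all fun a => Nat.ble (a + 1) j

theorem twoGens_ok : twoGens.length = 10 ∧ (List.range 10).all twoGenCheck = true := by
  decide +kernel

/-- The witnesses for the orbits. -/
theorem twoWords_ok :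
    (twoFixWords.all fun e => e.2.2.all (fun a => Nat.ble (a + 1) 10) &&
      ((twoWord e.2.2).getD 23 0 == 23 && (twoWord e.2.2).getD e.1 0 == e.2.1)) = true ∧
    (twoOctWords.all fun e => e.2.2.all (fun a => Nat.ble (a + 1) 10) &&
      ((twoWord e.2.2).getD 23 0 == e.2.1)) = true ∧
    twoOctWords.map (fun e => e.2.1) = [0, 2, 4, 5, 6, 10, 11, 23] ∧
    twoFixWords.map (fun e => (e.1, e.2.1)) = [(0, 0), (0, 5), (2, 2), (2, 6), (2, 10), (2, 11),
      (1, 1), (1, 3), (1, 7), (1, 8), (1, 9), (1, 12), (1, 13), (1, 14), (1, 15), (1, 16), (1, 17),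
      (1, 18), (1, 19), (1, 20), (1, 21), (1, 22)] := by
  decide +kernel

theorem twoPerm_exists (j : ℕ) :
    ∃ σ : Equiv.Perm GolayPt, σ ∈ Cfsg.M24 ∧ Tab σ (twoGens.getD j (idTab, [], [])).1 ∧
      σ • toSet twoOctad = toSet twoOctad ∧
      σ • Sporadic96.toFam twoSextet = Sporadic96.toFam twoSextet := by
  rcases lt_or_ge j 10 with h | h
  · have hc := List.all_eq_true.1 twoGens_ok.2 j (List.mem_range.2 h)
    simp only [twoGenCheck, Bool.and_eq_true, List.all_eq_true, List.any_eq_true] at hc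
    obtain ⟨⟨⟨⟨⟨h1, h2⟩, h3⟩, h4⟩, -⟩, -⟩ := hc
    refine ⟨permOf _ h1, (tab_permOf h1).mem_M24 h2, tab_permOf h1,
      (tab_permOf h1).smul_toSet h3, Finset.eq_of_subset_of_card_le (fun x hx => ?_)
        (by rw [Finset.card_smul_finset])⟩
    obtain ⟨y, hy, rfl⟩ := Finset.mem_smul_finset.1 hx
    obtain ⟨t, ht, rfl⟩ := Sporadic96.mem_toFam.1 hy
    obtain ⟨u, hu, hm⟩ := h4 t ht
    exact Sporadic96.mem_toFam.2 ⟨u, hu, ((tab_permOf h1).smul_toSet hm).symm⟩
  · rw [List.getD_eq_default _ _ (twoGens_ok.1 ▸ h)]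
    exact ⟨1, one_mem _, tab_one, one_smul _ _, one_smul _ _⟩

/-- The generators. -/
noncomputable def twoPerm (j : ℕ) : Equiv.Perm GolayPt := (twoPerm_exists j).choose

theorem twoPerm_spec (j : ℕ) :
    twoPerm j ∈ Cfsg.M24 ∧ Tab (twoPerm j) (twoGens.getD j (idTab, [], [])).1 ∧
      twoPerm j • toSet twoOctad = toSet twoOctad ∧
      twoPerm j • Sporadic96.toFam twoSextet = Sporadic96.toFam twoSextet :=
  (twoPerm_exists j).choose_spec

/-- The subgroup generated by the first `j` generators. -/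
noncomputable def twoSub (j : ℕ) : Subgroup (Equiv.Perm GolayPt) :=
  Subgroup.closure (twoPerm '' Set.Iio j)

theorem twoPerm_mem {i j : ℕ} (h : i < j) : twoPerm i ∈ twoSub j :=
  Subgroup.subset_closure ⟨i, h, rfl⟩

theorem exists_word_mem {j : ℕ} : ∀ w : List ℕ, (∀ a ∈ w, a < j) →
    ∃ σ ∈ twoSub j, Tab σ (twoWord w)
  | [], _ => ⟨1, one_mem _, tab_one⟩
  | a :: w, h => by
    obtain ⟨σ, hσ, hT⟩ := exists_word_mem w fun x hx => h x (List.mem_cons_of_mem _ hx)
    exact ⟨twoPerm a * σ, mul_mem (twoPerm_mem (h a List.mem_cons_self)) hσ,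
      (twoPerm_spec a).2.1.mul hT⟩

theorem isPGroup_twoSub : ∀ j ≤ 10, IsPGroup 2 (twoSub j)
  | 0, _ => by
    rw [twoSub, Set.Iio_zero_eq_empty, Set.image_empty, Subgroup.closure_empty]
    exact IsPGroup.of_bot
  | j + 1, hj => by
    have hc := List.all_eq_true.1 twoGens_ok.2 j (List.mem_range.2 (by omega))
    simp only [twoGenCheck, Bool.and_eq_true, List.all_eq_true, List.mem_range, beq_iff_eq,
      Nat.ble_eq] at hc
    obtain ⟨⟨-, hsq, hsqw⟩, hconj⟩ := hc
    have hT := (twoPerm_spec j).2.1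
    have hg : twoPerm j * twoPerm j ∈ twoSub j := by
      obtain ⟨σ, hσ, hσT⟩ := exists_word_mem (j := j) _ fun a ha => hsqw a ha
      rw [tab_unique (hT.mul hT) (hsq ▸ hσT)]
      exact hσ
    have hn : ∀ k ∈ twoSub j, twoPerm j * k * (twoPerm j)⁻¹ ∈ twoSub j := by
      intro k hk
      induction hk using Subgroup.closure_induction with
      | mem x hx =>
        obtain ⟨i, hi, rfl⟩ := hx
        obtain ⟨σ, hσ, hσT⟩ := exists_word_mem (j := j) _ fun a ha => (hconj i hi).2 a ha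
        have e : twoPerm j * twoPerm i = σ * twoPerm j :=
          tab_unique (hT.mul (twoPerm_spec i).2.1) ((hconj i hi).1 ▸ hσT.mul hT)
        rw [e, mul_inv_cancel_right]
        exact hσ
      | one => simp
      | mul x y _ _ hx hy =>
        rw [show twoPerm j * (x * y) * (twoPerm j)⁻¹ =
          (twoPerm j * x * (twoPerm j)⁻¹) * (twoPerm j * y * (twoPerm j)⁻¹) by group]
        exact mul_mem hx hy
      | inv x _ hx =>
        rw [show twoPerm j * x⁻¹ * (twoPerm j)⁻¹ = (twoPerm j * x * (twoPerm j)⁻¹)⁻¹ by group]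
        exact inv_mem hx
    refine (isPGroup_extendTwo (isPGroup_twoSub j (by omega)) hg hn).to_le ?_
    rw [twoSub, Subgroup.closure_le]
    rintro _ ⟨i, hi, rfl⟩
    rcases Nat.lt_succ_iff_lt_or_eq.1 hi with h | rfl
    · exact Or.inl (twoPerm_mem h)
    · exact Or.inr (by rw [mul_inv_cancel]; exact one_mem _)

/-- The 2-group. -/
noncomputable abbrev twoGroup : Subgroup (Equiv.Perm GolayPt) := twoSub 10

theorem twoGroup_le : twoGroup ≤ Cfsg.M24 := (Subgroup.closure_le _).2 fun _ ⟨j, _, e⟩ =>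
  e ▸ (twoPerm_spec j).1

theorem twoGroup_fix {g : Equiv.Perm GolayPt} (hg : g ∈ twoGroup) :
    g • toSet twoOctad = toSet twoOctad ∧
      g • Sporadic96.toFam twoSextet = Sporadic96.toFam twoSextet := by
  induction hg using Subgroup.closure_induction with
  | mem x hx => obtain ⟨j, -, rfl⟩ := hx; exact (twoPerm_spec j).2.2
  | one => exact ⟨one_smul _ _, one_smul _ _⟩
  | mul x y _ _ hx hy => exact ⟨by rw [mul_smul, hy.1, hx.1], by rw [mul_smul, hy.2, hx.2]⟩
  | inv x _ hx =>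
    exact ⟨by rw [inv_smul_eq_iff, hx.1], by rw [inv_smul_eq_iff, hx.2]⟩

theorem pt23 : pt 23 = none := by decide

/-- The two-element, four-element and sixteen-element orbits of the stabiliser of the extra
point. -/
theorem twoGroup_fix_orbit {a b : ℕ}
    (h : (a, b) ∈ twoFixWords.map fun e => (e.1, e.2.1)) :
    ∃ g ∈ twoGroup, g none = none ∧ g (pt a) = pt b := by
  obtain ⟨e, he, heq⟩ := List.mem_map.1 h
  simp only [Prod.mk.injEq] at heq
  have hc := List.all_eq_true.1 twoWords_ok.1 e he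
  simp only [Bool.and_eq_true, List.all_eq_true, beq_iff_eq, Nat.ble_eq] at hc
  obtain ⟨g, hg, hT⟩ := exists_word_mem (j := 10) e.2.2 fun x hx => hc.1 x hx
  have hlt : ∀ x ∈ twoFixWords.map (fun e => (e.1, e.2.1)), x.1 < 24 := by
    rw [twoWords_ok.2.2.2]; decide
  have ha : a < 24 := hlt (a, b) h
  refine ⟨g, hg, ?_, ?_⟩
  · rw [← pt23, hT.apply, idx_pt (by norm_num), hc.2.1]
  · rw [hT.apply, idx_pt ha, ← heq.1, hc.2.2, heq.2]

/-- The 2-group is transitive on the octad. -/
theorem twoGroup_octad {x : GolayPt} (hx : x ∈ toSet twoOctad) :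
    ∃ g ∈ twoGroup, g none = x := by
  have hmem : idx x ∈ twoOctWords.map (fun e => e.2.1) := by
    rw [twoWords_ok.2.2.1]; revert hx x; decide +kernel
  obtain ⟨e, he, heq⟩ := List.mem_map.1 hmem
  have hc := List.all_eq_true.1 twoWords_ok.2.1 e he
  simp only [Bool.and_eq_true, List.all_eq_true, beq_iff_eq, Nat.ble_eq] at hc
  obtain ⟨g, hg, hT⟩ := exists_word_mem (j := 10) e.2.2 fun x hx => hc.1 x hx
  refine ⟨g, hg, ?_⟩
  rw [← pt23, hT.apply, idx_pt (by norm_num), hc.2, heq, pt_idx]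

end Cfsg.Agent.SporStruct.M24
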