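import Cfsg.Agent.Lib.Golay.Perm

/-!
A 2-subgroup of `Cfsg.M24` fixing an octad and a sextet refining it.
-/

set_option autoImplicit false

namespace Cfsg.Agent.SporStruct.M24

open Cfsg.Agent.Golay

/-- Generators, each with the word of its square and the words of its conjugates of the earlier
generators. -/
def twoGens : List (List ℕ × List ℕ × List (List ℕ)) :=
  [([10, 20, 23, 19, 6, 11, 4, 14, 16, 15, 0, 5, 17, 21, 7, 9, 8, 12, 22, 3, 1, 13, 18, 2], [], []),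
    ([23, 15, 10, 3, 5, 4, 11, 8, 7, 20, 2, 6, 12, 13, 16, 1, 14, 17, 18, 19, 9, 21, 22, 0], [], [[0]]),
    ([11, 14, 4, 17, 2, 10, 23, 20, 9, 8, 5, 0, 19, 22, 1, 16, 15, 3, 21, 12, 7, 18, 13, 6], [], [[0], [1]]),
    ([2, 9, 23, 17, 11, 6, 4, 16, 14, 15, 0, 5, 19, 22, 7, 20, 8, 3, 21, 12, 1, 18, 13, 10], [1], [[0, 1], [1], [1, 2]]),
    ([5, 8, 11, 18, 23, 0, 10, 15, 1, 16, 6, 2, 13, 12, 20, 7, 9, 21, 3, 22, 14, 17, 19, 4], [], [[0, 1], [1], [1, 2], [1, 3]]),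
    ([10, 16, 4, 17, 6, 11, 23, 9, 20, 15, 5, 0, 19, 22, 7, 14, 8, 13, 21, 18, 1, 12, 3, 2], [0, 1, 3, 4], [[1, 3, 4], [1], [0, 1, 2, 3, 4], [0, 4], [1, 4]]),
    ([23, 8, 10, 12, 5, 4, 11, 15, 1, 16, 2, 6, 3, 18, 20, 7, 9, 22, 13, 21, 14, 19, 17, 0], [], [[0, 1, 2, 3, 4], [1], [1, 3, 4], [1, 2, 4], [4], [1, 2, 3, 4, 5]]),
    ([6, 17, 4, 9, 10, 2, 23, 19, 22, 12, 5, 0, 16, 14, 18, 21, 3, 8, 20, 15, 13, 7, 1, 11], [6], [[0, 2, 3, 4], [2, 3, 4], [3, 4], [2, 4, 6], [1, 2, 3, 6], [0, 3, 4, 5], [6]]),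
    ([5, 20, 10, 21, 4, 0, 11, 14, 16, 13, 6, 2, 22, 19, 3, 9, 18, 7, 17, 1, 12, 8, 15, 23], [0, 1, 3, 5, 6, 7], [[1, 4, 7], [0, 1, 3, 4, 6], [0, 1, 2, 4, 7], [1, 2, 5, 7], [0, 2, 3, 5], [3, 5, 6, 7], [0, 1, 2], [0, 1, 3, 5, 6]]),
    ([10, 13, 5, 15, 6, 11, 0, 3, 18, 22, 4, 23, 7, 8, 21, 12, 17, 20, 1, 16, 19, 9, 14, 2], [0, 1, 2], [[3, 4], [2, 3, 4], [0, 1], [0, 1, 2, 3, 6], [1, 2, 3, 6], [1, 2, 3, 4, 5, 6], [6], [0, 2, 7], [2, 5, 6, 8]])]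

/-- The table of a word in the generators. -/
def twoWord : List ℕ → List ℕ
  | [] => idTab
  | j :: w => comp (twoGens.getD j (idTab, [], [])).1 (twoWord w)

/-- Words fixing the extra point, with source and target. -/
def twoFixWords : List (ℕ × ℕ × List ℕ) :=
  [(0, 0, []),
    (0, 5, [8]),
    (2, 2, []),
    (2, 6, [0, 5]),
    (2, 10, [8]),
    (2, 11, [0, 9]),
    (1, 1, []),
    (1, 3, [1, 2, 7]),
    (1, 7, [1, 6]),
    (1, 8, [0, 5]),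
    (1, 9, [3, 5, 8]),
    (1, 12, [1, 3, 8, 9]),
    (1, 13, [0, 4, 7]),
    (1, 14, [0, 3, 6, 8]),
    (1, 15, [0, 2, 4]),
    (1, 16, [1, 6, 8]),
    (1, 17, [0, 4, 7, 8]),
    (1, 18, [3, 4, 7]),
    (1, 19, [4, 5, 9]),
    (1, 20, [8]),
    (1, 21, [0, 9]),
    (1, 22, [3, 9])]

/-- Words moving the extra point around the octad. -/
def twoOctWords : List (ℕ × ℕ × List ℕ) :=
  [(23, 0, [1]),
    (23, 2, [0]),
    (23, 4, [4]),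
    (23, 5, [0, 7]),
    (23, 6, [2]),
    (23, 10, [3]),
    (23, 11, [7]),
    (23, 23, [])]

/-- The octad and the tetrads of the sextet. -/
def twoOctad : ℕ := 8391797

/-- The tetrads of the sextet. -/
def twoSextet : List ℕ := [8388657, 3140, 33154, 274440, 1131008, 6946816]

end Cfsg.Agent.SporStruct.M24
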