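import Mathlib.Data.Int.Init

/-!
Tables for the centraliser of an involution in McL: generators, the 35 fixed vertices labelled by
lines of `PG(3,2)`, and words for the transvections.
-/

set_option autoImplicit false

namespace Cfsg.Agent.SporStruct.McLInvolData

/-- The involution on the 24 indices. -/
def tTab : List ℕ := [0, 11, 18, 17, 10, 21, 14, 19, 8, 9, 4, 1, 12, 13, 6, 15, 16, 3, 2, 7, 22, 5, 20, 23]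

/-- The first generator. -/
def tabA : List (List ℤ) := [
    [4, -2, -2, -2, 0, 0, 0, -2, 0, 0, 0, -2, 0, 0, 0, 0, 0, -2, -2, -2, 0, 0, 0, 4],
    [-2, 0, 0, 0, 2, -2, -2, 0, 2, -2, -2, 0, -2, -2, 2, 2, 2, 0, 0, 0, -2, 2, 2, 2],
    [-2, 0, 0, 0, -2, -2, -2, 0, 2, 2, 2, 0, -2, 2, 2, -2, -2, 0, 0, 0, 2, 2, -2, 2],
    [0, -2, 2, 2, 0, 0, 0, -2, 0, 0, 4, -2, 0, 0, 0, 0, 0, -2, 2, 2, 0, 0, 4, 0],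
    [0, 2, 2, -2, 0, 0, 4, 2, 0, 0, 0, -2, 0, 0, 0, 0, 0, -2, -2, 2, 0, 4, 0, 0],
    [0, 2, -2, -2, 0, 0, 0, -2, 0, 0, 0, -2, 0, 4, 0, 4, 0, 2, 2, 2, 0, 0, 0, 0],
    [0, 2, -2, 2, 0, 0, 0, 2, 0, 4, 0, -2, 0, 0, 0, 0, 4, -2, 2, -2, 0, 0, 0, 0],
    [0, 2, -2, -2, 0, 0, 0, 2, 0, 0, 4, 2, 0, 0, 0, 0, 0, 2, -2, -2, 0, 0, 4, 0],
    [0, -2, -2, 2, 0, 0, 0, 2, 4, 0, 0, -2, 4, 0, 0, 0, 0, 2, -2, 2, 0, 0, 0, 0],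
    [-2, 0, 0, 0, -2, -2, 2, 0, -2, 2, -2, 0, 2, -2, 2, 2, -2, 0, 0, 0, 2, -2, 2, 2],
    [0, -2, -2, -2, 0, 4, 0, 2, 0, 0, 0, 2, 0, 0, 4, 0, 0, -2, 2, 2, 0, 0, 0, 0],
    [-2, 0, 0, 0, -2, 2, 2, 0, 2, -2, 2, 0, -2, -2, -2, 2, 2, 0, 0, 0, 2, -2, -2, 2],
    [0, 2, 2, -2, 0, 0, 0, -2, 4, 0, 0, 2, 4, 0, 0, 0, 0, -2, 2, -2, 0, 0, 0, 0],
    [-2, 0, 0, 0, 2, 2, -2, 0, -2, 2, 2, 0, 2, -2, -2, 2, -2, 0, 0, 0, -2, 2, -2, 2],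
    [0, -2, 2, -2, 0, 0, 0, -2, 0, 4, 0, 2, 0, 0, 0, 0, 4, 2, -2, 2, 0, 0, 0, 0],
    [-2, 0, 0, 0, 2, -2, 2, 0, -2, -2, 2, 0, 2, 2, 2, -2, 2, 0, 0, 0, -2, -2, -2, 2],
    [-2, 0, 0, 0, -2, 2, -2, 0, -2, -2, -2, 0, 2, 2, -2, -2, 2, 0, 0, 0, 2, 2, 2, 2],
    [0, -2, 2, -2, 4, 0, 0, 2, 0, 0, 0, -2, 0, 0, 0, 0, 0, 2, 2, -2, 4, 0, 0, 0],
    [-2, 0, 0, 0, 2, 2, 2, 0, 2, 2, -2, 0, -2, 2, -2, -2, -2, 0, 0, 0, -2, -2, 2, 2],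
    [0, 2, -2, 2, 4, 0, 0, -2, 0, 0, 0, 2, 0, 0, 0, 0, 0, -2, -2, 2, 4, 0, 0, 0],
    [0, 2, 2, 2, 0, 4, 0, -2, 0, 0, 0, -2, 0, 0, 4, 0, 0, 2, -2, -2, 0, 0, 0, 0],
    [0, -2, 2, 2, 0, 0, 0, 2, 0, 0, 0, 2, 0, 4, 0, 4, 0, -2, -2, -2, 0, 0, 0, 0],
    [0, -2, -2, 2, 0, 0, 4, -2, 0, 0, 0, 2, 0, 0, 0, 0, 0, 2, 2, -2, 0, 4, 0, 0],
    [4, 2, 2, 2, 0, 0, 0, 2, 0, 0, 0, 2, 0, 0, 0, 0, 0, 2, 2, 2, 0, 0, 0, 4]]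

/-- The second generator. -/
def tabB : List (List ℤ) := [
    [5, 1, -1, 1, -1, -1, -1, -1, -1, -1, -1, 1, 1, 1, -1, -1, -3, 1, -1, -1, -1, -1, -1, 3],
    [-1, -1, 1, 3, 1, 1, 1, 1, 1, 1, 1, -1, -1, 3, -3, 1, -1, -1, 1, -3, 1, -3, 1, 1],
    [-1, 3, -3, -1, -3, 1, 1, 1, 1, 1, 1, -1, -1, 3, 1, 1, -1, -1, 1, 1, 1, 1, -3, 1],
    [-1, 3, 1, -1, 1, 1, 1, 1, -3, 1, 1, -1, -1, -1, 1, 1, -1, 3, 1, 1, -3, -3, 1, 1],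
    [-1, 3, 1, -1, 1, -3, 1, 1, 1, 1, -3, -1, 3, -1, 1, 1, -1, -1, 1, -3, 1, 1, 1, 1],
    [-1, -1, -3, -1, 1, 1, 1, 1, 1, -3, 1, 3, -1, -1, 1, 1, -1, 3, 1, -3, 1, 1, 1, 1],
    [1, 1, -1, 1, -1, -1, 3, -1, -1, 3, 3, 1, 1, 1, -1, -1, 1, 1, -1, -1, -1, 3, 3, -1],
    [1, 1, -1, 1, 3, -1, 3, -1, 3, -1, -1, 1, 1, 1, -1, -1, 1, 1, 3, 3, -1, -1, -1, -1],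
    [-3, 1, -1, 1, -1, -1, -1, -1, -1, -1, -1, 1, 1, 1, -1, -1, 5, 1, -1, -1, -1, -1, -1, 3],
    [-1, 3, 1, -1, 1, 1, -3, 1, 1, 1, 1, 3, -1, -1, -3, -3, -1, -1, 1, 1, 1, 1, 1, 1],
    [-1, -1, 1, -1, -3, 1, 1, -3, 1, 1, 1, 3, 3, -1, 1, 1, -1, -1, 1, 1, 1, -3, 1, 1],
    [-1, -1, 1, -1, 1, -3, -3, -3, 1, 1, 1, -1, -1, 3, 1, 1, -1, 3, 1, 1, 1, 1, 1, 1],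
    [-1, -1, 1, -1, 1, 1, 1, 1, -3, -3, 1, -1, 3, 3, 1, -3, -1, -1, 1, 1, 1, 1, 1, 1],
    [1, 1, 3, 1, -1, 3, -1, -1, -1, -1, -1, 1, 1, 1, -1, 3, 1, 1, 3, -1, -1, 3, -1, -1],
    [1, 1, -1, 1, 3, 3, -1, -1, -1, 3, -1, 1, 1, 1, 3, -1, 1, 1, -1, -1, 3, -1, -1, -1],
    [1, 1, -1, 1, -1, -1, -1, 3, -1, -1, -1, 1, 1, 1, -1, 3, 1, 1, -1, 3, 3, -1, 3, -1],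
    [-1, -1, 1, 3, -3, 1, 1, 1, 1, 1, -3, -1, -1, -1, 1, -3, -1, 3, 1, 1, 1, 1, 1, 1],
    [-1, -1, 1, 3, 1, -3, 1, 1, -3, 1, 1, 3, -1, -1, 1, 1, -1, -1, 1, 1, 1, 1, -3, 1],
    [-1, -1, 1, -1, 1, 1, 1, 1, 1, 1, -3, 3, -1, 3, 1, 1, -1, -1, -3, 1, -3, 1, 1, 1],
    [1, 1, 3, 1, -1, -1, -1, 3, 3, -1, 3, 1, 1, 1, 3, -1, 1, 1, -1, -1, -1, -1, -1, -1],
    [-1, -1, -3, 3, 1, 1, -3, 1, 1, 1, 1, -1, 3, -1, 1, 1, -1, -1, 1, 1, -3, 1, 1, 1],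
    [-1, 3, 1, 3, 1, 1, 1, -3, 1, -3, 1, -1, -1, -1, 1, 1, -1, -1, -3, 1, 1, 1, 1, 1],
    [-1, -1, 1, -1, 1, 1, 1, 1, 1, 1, 1, -1, 3, -1, -3, 1, -1, 3, -3, 1, 1, 1, -3, 1],
    [3, -1, 1, -1, 1, 1, 1, 1, 1, 1, 1, -1, -1, -1, 1, 1, 3, -1, 1, 1, 1, 1, 1, 5]]

/-- A square root of the involution. -/
def tabQ : List (List ℤ) := [
    [6, 0, 0, 0, 0, 0, 0, 0, -2, 2, 0, 0, -2, -2, 0, -2, -2, 0, 0, 0, 0, 0, 0, 2],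
    [0, -2, 2, 2, 2, 2, -2, 2, 0, 0, -2, -2, 0, 0, 2, 0, 0, 2, -2, -2, 2, 2, 2, 0],
    [0, -2, 2, -2, -2, -2, 2, 2, 0, 0, -2, 2, 0, 0, 2, 0, 0, 2, 2, 2, 2, 2, -2, 0],
    [0, 2, 2, -2, -2, 2, 2, 2, 0, 0, 2, 2, 0, 0, -2, 0, 0, -2, -2, -2, 2, 2, 2, 0],
    [0, -2, -2, 2, 2, 2, 2, 2, 0, 0, 2, 2, 0, 0, 2, 0, 0, -2, -2, 2, 2, -2, -2, 0],
    [0, 2, 2, 2, -2, -2, -2, -2, 0, 0, 2, 2, 0, 0, 2, 0, 0, 2, -2, 2, 2, -2, 2, 0],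
    [0, 2, 2, -2, 2, 2, 2, -2, 0, 0, 2, -2, 0, 0, 2, 0, 0, 2, 2, -2, 2, -2, -2, 0],
    [0, -2, 2, -2, 2, 2, -2, 2, 0, 0, 2, 2, 0, 0, -2, 0, 0, 2, 2, 2, -2, -2, 2, 0],
    [-2, 0, 0, 0, 0, 0, 0, 0, 6, 2, 0, 0, -2, -2, 0, -2, -2, 0, 0, 0, 0, 0, 0, 2],
    [2, 0, 0, 0, 0, 0, 0, 0, 2, 6, 0, 0, 2, 2, 0, 2, 2, 0, 0, 0, 0, 0, 0, -2],
    [0, 2, -2, -2, 2, -2, 2, 2, 0, 0, 2, -2, 0, 0, 2, 0, 0, 2, -2, 2, -2, 2, 2, 0],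
    [0, -2, -2, 2, -2, 2, 2, -2, 0, 0, 2, -2, 0, 0, -2, 0, 0, 2, 2, 2, 2, 2, 2, 0],
    [-2, 0, 0, 0, 0, 0, 0, 0, -2, 2, 0, 0, -2, -2, 0, -2, 6, 0, 0, 0, 0, 0, 0, 2],
    [-2, 0, 0, 0, 0, 0, 0, 0, -2, 2, 0, 0, -2, 6, 0, -2, -2, 0, 0, 0, 0, 0, 0, 2],
    [0, -2, 2, 2, 2, -2, 2, -2, 0, 0, 2, 2, 0, 0, 2, 0, 0, -2, 2, -2, -2, 2, 2, 0],
    [-2, 0, 0, 0, 0, 0, 0, 0, -2, 2, 0, 0, -2, -2, 0, 6, -2, 0, 0, 0, 0, 0, 0, 2],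
    [-2, 0, 0, 0, 0, 0, 0, 0, -2, 2, 0, 0, 6, -2, 0, -2, -2, 0, 0, 0, 0, 0, 0, 2],
    [0, 2, -2, -2, 2, 2, -2, -2, 0, 0, -2, 2, 0, 0, 2, 0, 0, -2, 2, 2, 2, 2, 2, 0],
    [0, 2, 2, 2, -2, 2, 2, 2, 0, 0, -2, -2, 0, 0, 2, 0, 0, -2, 2, 2, -2, -2, 2, 0],
    [0, 2, 2, 2, 2, -2, -2, 2, 0, 0, 2, -2, 0, 0, -2, 0, 0, -2, 2, 2, 2, 2, -2, 0],
    [0, 2, -2, 2, -2, 2, -2, 2, 0, 0, 2, 2, 0, 0, 2, 0, 0, 2, 2, -2, -2, 2, -2, 0],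
    [0, 2, -2, 2, 2, -2, 2, 2, 0, 0, -2, 2, 0, 0, -2, 0, 0, 2, 2, -2, 2, -2, 2, 0],
    [0, 2, 2, 2, 2, 2, 2, -2, 0, 0, -2, 2, 0, 0, -2, 0, 0, 2, -2, 2, -2, 2, -2, 0],
    [2, 0, 0, 0, 0, 0, 0, 0, 2, -2, 0, 0, 2, 2, 0, 2, 2, 0, 0, 0, 0, 0, 0, 6]]

/-- The 35 fixed vertices. -/
def fixV : List (List ℤ) := [
    [0, 0, 0, 0, 0, 0, 0, 0, 0, 0, 0, 0, 0, 4, 0, 0, 0, 0, 0, 0, 0, 0, 0, 4],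
    [0, 0, 0, 0, 0, 0, 0, 0, 0, 0, 0, 0, 4, 0, 0, 0, 0, 0, 0, 0, 0, 0, 0, 4],
    [0, 0, 0, 0, 0, 0, 0, 0, 0, 0, 0, 0, 0, 0, 0, 0, 4, 0, 0, 0, 0, 0, 0, 4],
    [0, 0, 0, 0, 0, 0, 0, 0, 0, 4, 0, 0, 0, 0, 0, 0, 0, 0, 0, 0, 0, 0, 0, 4],
    [2, 0, 0, 0, 0, 0, 0, 0, 2, 2, 0, 0, 2, 2, 0, 2, 2, 0, 0, 0, 0, 0, 0, 2],
    [0, 0, 0, 0, 0, 0, 0, 0, 0, 0, 0, 0, 0, 0, 0, 4, 0, 0, 0, 0, 0, 0, 0, 4],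
    [0, 0, 0, 0, 0, 0, 0, 0, 4, 0, 0, 0, 0, 0, 0, 0, 0, 0, 0, 0, 0, 0, 0, 4],
    [1, -1, 1, -1, 1, 1, 1, 1, -1, -1, 1, -1, 1, 1, 1, -1, 1, -1, 1, 1, 1, 1, 1, 3],
    [1, 1, 1, 1, 1, -1, 1, 1, -1, -1, 1, 1, 1, 1, 1, -1, 1, 1, 1, 1, -1, -1, -1, 3],
    [2, 0, 2, 0, 0, 0, 2, 0, 0, 2, 0, 0, 0, 2, 2, 0, 0, 0, 2, 0, 0, 0, 0, 2],
    [2, 0, 0, 0, 2, 0, 0, 2, 0, 2, 2, 0, 0, 2, 0, 0, 0, 0, 0, 2, 0, 0, 0, 2],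
    [1, -1, 1, 1, 1, 1, 1, 1, 1, -1, 1, -1, -1, 1, 1, 1, -1, 1, 1, 1, -1, 1, -1, 3],
    [1, 1, 1, -1, 1, -1, 1, 1, 1, -1, 1, 1, -1, 1, 1, 1, -1, -1, 1, 1, 1, -1, 1, 3],
    [1, 1, -1, 1, 1, 1, 1, -1, -1, -1, 1, 1, 1, 1, 1, -1, 1, 1, -1, -1, 1, 1, 1, 3],
    [1, 1, 1, 1, -1, 1, -1, 1, -1, -1, -1, 1, 1, 1, -1, -1, 1, 1, 1, 1, 1, 1, 1, 3],
    [2, 0, 0, 2, 0, 0, 0, 0, 0, 2, 0, 0, 0, 2, 0, 0, 0, 2, 0, 0, 2, 0, 2, 2],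
    [2, 2, 0, 0, 0, 2, 0, 0, 0, 2, 0, 2, 0, 2, 0, 0, 0, 0, 0, 0, 0, 2, 0, 2],
    [1, 1, 1, 1, 1, 1, -1, -1, 1, -1, 1, 1, -1, 1, -1, 1, -1, 1, 1, -1, 1, 1, 1, 3],
    [1, 1, -1, 1, -1, 1, 1, 1, 1, -1, -1, 1, -1, 1, 1, 1, -1, 1, -1, 1, 1, 1, 1, 3],
    [1, -1, 1, 1, 1, 1, 1, -1, -1, 1, 1, -1, 1, -1, 1, 1, -1, 1, 1, -1, 1, 1, 1, 3],
    [1, 1, -1, -1, 1, 1, 1, 1, -1, 1, 1, 1, 1, -1, 1, 1, -1, -1, -1, 1, 1, 1, 1, 3],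
    [2, 0, 0, 0, 0, 2, 2, 0, 2, 0, 0, 0, 2, 0, 2, 0, 0, 0, 0, 0, 0, 2, 0, 2],
    [2, 0, 0, 0, 2, 0, 0, 0, 2, 0, 2, 0, 2, 0, 0, 0, 0, 0, 0, 0, 2, 0, 2, 2],
    [1, 1, 1, 1, -1, -1, 1, 1, -1, 1, -1, 1, 1, -1, 1, 1, -1, 1, 1, 1, 1, -1, 1, 3],
    [1, 1, 1, 1, 1, 1, -1, 1, -1, 1, 1, 1, 1, -1, -1, 1, -1, 1, 1, 1, -1, 1, -1, 3],
    [2, 2, 2, 0, 0, 0, 0, 0, 2, 0, 0, 2, 2, 0, 0, 0, 0, 0, 2, 0, 0, 0, 0, 2],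
    [2, 0, 0, 2, 0, 0, 0, 2, 2, 0, 0, 0, 2, 0, 0, 0, 0, 2, 0, 2, 0, 0, 0, 2],
    [1, -1, 1, 1, -1, 1, 1, 1, 1, 1, -1, -1, -1, -1, 1, -1, 1, 1, 1, 1, 1, 1, 1, 3],
    [1, 1, 1, -1, 1, 1, -1, 1, 1, 1, 1, 1, -1, -1, -1, -1, 1, -1, 1, 1, 1, 1, 1, 3],
    [2, 0, 2, 0, 0, 2, 0, 0, 0, 0, 0, 0, 0, 0, 0, 2, 2, 0, 2, 0, 0, 2, 0, 2],
    [2, 0, 0, 0, 0, 0, 0, 2, 0, 0, 0, 0, 0, 0, 0, 2, 2, 0, 0, 2, 2, 0, 2, 2],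
    [1, 1, 1, 1, 1, -1, 1, -1, 1, 1, 1, 1, -1, -1, 1, -1, 1, 1, 1, -1, 1, -1, 1, 3],
    [1, 1, -1, 1, 1, 1, 1, 1, 1, 1, 1, 1, -1, -1, 1, -1, 1, 1, -1, 1, -1, 1, -1, 3],
    [2, 2, 0, 0, 0, 0, 2, 0, 0, 0, 0, 2, 0, 0, 2, 2, 2, 0, 0, 0, 0, 0, 0, 2],
    [2, 0, 0, 2, 2, 0, 0, 0, 0, 0, 2, 0, 0, 0, 0, 2, 2, 2, 0, 0, 0, 0, 0, 2]]

/-- The permutation of the first generator. -/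
def permA : List ℕ := [24, 25, 14, 23, 1, 8, 26, 16, 28, 3, 20, 10, 32, 29, 17, 19, 5, 11, 34, 9, 33, 4, 21, 31, 12, 6, 22, 15, 18, 0, 13, 27, 30, 2, 7]

/-- The permutation of the second generator. -/
def permB : List ℕ := [29, 7, 27, 28, 14, 30, 2, 21, 9, 16, 25, 33, 4, 19, 11, 24, 17, 5, 34, 20, 22, 13, 1, 10, 12, 0, 8, 32, 6, 18, 26, 3, 31, 15, 23]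

/-- Words for the transvections, by the index `4 i + j`. -/
def sigW : List (List ℕ) := [[], [0, 0, 0, 1, 1, 1, 0, 1, 0, 1, 1, 0], [0, 0, 0, 0, 1, 1, 1, 0, 1, 0, 1, 1], [0, 0, 1, 1, 1, 0, 1, 0, 1, 1, 0, 0], [1, 1, 1, 1, 0, 0, 1, 1, 1, 1, 0, 1, 0, 0, 0], [], [1, 0, 0, 1, 1, 1, 1, 0, 0, 0, 1, 0], [0, 0, 0, 1, 0, 0, 0, 1, 0, 1, 0, 1, 1, 0, 1, 0], [1, 1, 0, 1, 1, 0, 1, 0, 1, 1, 1], [0, 0, 0, 1, 0, 1, 0, 1, 1, 1, 0, 1, 1, 1], [], [1, 0, 0, 1, 1, 0, 0, 1], [0, 0, 0, 1, 0, 0, 1, 0, 1, 0, 0], [1, 1, 0, 0, 0, 0, 1, 0, 1, 0, 1, 1, 1, 1, 0], [1, 0, 1, 1, 1, 1, 1, 0, 1, 0, 0, 1, 1, 1, 0, 0], []]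

end Cfsg.Agent.SporStruct.McLInvolData
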