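import Cfsg.Agent.SporStruct.OutCo1Mono
import Cfsg.Agent.SporStruct.OutCo1Data

/-!
Checks on the tables for the largest Conway group.
-/

set_option autoImplicit false

namespace Cfsg.Agent.SporStruct.OutCo1

open CoMatrix
open Cfsg.Agent.Golay (pt inCode)

/-- The generators, their inverses, and the diagonal element. -/
def gens7 : List (List (List ℤ)) :=
  [sMat (Golay.shiftTab, 0), sMat (Golay.doubleTab, 0), cTab, sMat (shiftInvTab, 0),
    sMat (doubleInvTab, 0), cInvTab, sMat (List.range 24, dMask)]

/-- The minus identity. -/
def negMat : List (List ℤ) := sMat (List.range 24, allMask)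

/-- Shift, its inverse, a diagonal element, minus identity. -/
def diagGens : List (List (List ℤ)) :=
  [sMat (Golay.shiftTab, 0), sMat (shiftInvTab, 0), sMat (List.range 24, diagSlp.2), negMat]

theorem check_c : checkMap cTab = true ∧ checkMap (transpL cTab) = true := by decide +kernel

theorem check_comm : mulM cTab (permMat Golay.doubleTab) = mulM (permMat Golay.doubleTab) cTab ∧
    powM cTab 3 = idMat ∧ inCode dMask = true ∧
    permMat Golay.shiftTab = sMat (Golay.shiftTab, 0) ∧
    permMat Golay.doubleTab = sMat (Golay.doubleTab, 0) ∧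
    mulM (sMat (Golay.doubleTab, 0)) (sMat (Golay.shiftTab, 0)) =
      mulM (powM (sMat (Golay.shiftTab, 0)) 2) (sMat (Golay.doubleTab, 0)) := by decide +kernel

theorem check_inverses : powM (sMat (Golay.shiftTab, 0)) 22 = sMat (shiftInvTab, 0) ∧
    powM (sMat (Golay.doubleTab, 0)) 10 = sMat (doubleInvTab, 0) ∧
    powM cTab 2 = cInvTab := by decide +kernel

theorem check_mon : monWs.map (evalW (gens7.take 6)) = monPs.map sMat := by decide +kernel

theorem check_slp : evalW (monPs.map sMat) projSlp.1 = sMat (Golay.projInvTab, projSlp.2) ∧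
    evalW (monPs.map sMat) twistSlp.1 = sMat (Golay.cubeTwistTab, twistSlp.2) ∧
    evalW (monPs.map sMat) diagSlp.1 = sMat (List.range 24, diagSlp.2) ∧
    inCode projSlp.2 = true ∧ inCode twistSlp.2 = true := by decide +kernel

theorem check_basis : basisSlp.map (evalW diagGens) =
    Golay.basisN.map fun b => sMat (List.range 24, b) := by decide +kernel

theorem check_nonmono : ((List.range 24).filter fun k => (cTab.getD 23 []).getD k 0 != 0).length ≠ 1 := by
  decide +kernel

/-! ### The centraliser of the element of order 11 -/

/-- The integers of absolute value at most `b`. -/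
def rngZ (b : ℕ) : List ℤ := (List.range (2 * b + 1)).map fun (i : ℕ) => (i : ℤ) - b

/-- The classes of the points. -/
def clsL : List ℕ := [1, 2, 2, 2, 2, 3, 2, 3, 2, 2, 3, 3, 2, 2, 3, 3, 2, 3, 2, 3, 3, 3, 3, 0]

/-- Representatives of the classes. -/
def repL : List ℕ := [23, 0, 1, 5]

/-- A vector constant on the classes. -/
def ofCls (a b g d : ℤ) : List ℤ := (List.range 24).map fun i => [a, b, g, d].getD (clsL.getD i 0) 0

/-- The images of the frame vectors fixed by the element of order 11. -/
def imgs : List (ℕ × ℕ × List ℤ) :=
  (List.range 3).flatMap fun j => [23, 0].flatMap fun p =>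
    let v := evalV [cTab] (List.replicate j 0) (unitL p)
    [(j, p, v), (j, p, v.map fun x => -x)]

theorem check_enum : ((rngZ 2).all fun g => (rngZ 2).all fun d => (rngZ 8).all fun a =>
    (rngZ 8).all fun b => !decide (a * a + b * b + 11 * (g * g + d * d) = 64) ||
      !inLB (ofCls a b g d) || decide (ofCls a b g d ∈ imgs.map fun t => t.2.2)) = true := by
  decide +kernel

/-- An iterate of `x ↦ 2 x`. -/
def iterD : ℕ → ℕ → ℕ
  | 0, i => i
  | n + 1, i => Golay.doubleTab.getD (iterD n i) 0

theorem check_cls : (∀ i : Fin 24, ∃ n : Fin 11, iterD n.val (repL.getD (clsL.getD i.val 0) 0) = i.val) ∧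
    (∀ k : Fin 4, ∀ n : Fin 11, iterD n.val (repL.getD k.val 0) < 24) ∧
    (∀ i : Fin 24, clsL.getD i.val 0 < 4) := by
  decide +kernel

/-- The mask with given bits on the classes. -/
def clsMask (m : ℕ) : ℕ :=
  maskOf (fun i => m.testBit (clsL.getD i 0)) (List.range 24)

theorem check_masks : ∀ m : Fin 16, inCode (clsMask m.val) = false ∨
    clsMask m.val ∈ [0, dMask, dMask ^^^ allMask, allMask] := by decide +kernel

/-- A table exchanging the fixed points, commuting with `x ↦ 2 x`. -/
def swTab (u w : ℕ) : List ℕ :=
  (List.range 24).map fun i => if i = 23 then 0 else if i = 0 then 23 else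
    (Leech.semTab 1 u w).getD i 0

theorem check_swap : ∀ u w : Fin 23, Golay.isPermTab (swTab u.val w.val) = false ∨
    Leech.autFail (swTab u.val w.val) = true := by decide +kernel

/-! ### Substitutions -/

/-- A vector moved by all the substituted generators. -/
def testV : List ℤ := (List.range 24).map fun i => if i = 1 then 4 else if i = 23 then -4 else 0

/-- A substituted relation fails even up to sign. -/
def killQ (W : List ℕ) (n : ℕ) (s : List (List ℕ)) : Bool :=
  let v := evalV gens7 (List.replicate n (W.flatMap fun j => s.getD j [])).flatten testV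
  (W.all fun j => decide (j < 3)) && v != testV && v != testV.map fun x => -x

/-- The substitution. -/
def substQ (e j k i : ℕ) : List (List ℕ) :=
  [[e], [1], List.replicate j 2 ++ List.replicate k 6 ++ List.replicate i 1]

/-- The relations, holding up to sign. -/
def relsQ : List (List ℕ × ℕ) := [([2], 3), ([0, 2], 15), ([0, 1, 2, 0, 2, 2], 6)]

theorem check_rels : ∀ r ∈ relsQ,
    powM (evalW gens7 r.1) r.2 = idMat ∨ powM (evalW gens7 r.1) r.2 = negMat := by decide +kernel

theorem check_cover : ([0, 3].all fun e => (List.range 3).all fun j => (List.range 2).all fun k =>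
    (List.range 11).all fun i => decide ((e, j, k, i) = (0, 1, 0, 0)) ||
      relsQ.any fun r => killQ r.1 r.2 (substQ e j k i)) = true := by decide +kernel

end Cfsg.Agent.SporStruct.OutCo1
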