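import Cfsg.Agent.SporStruct.OuterBig

/-!
Checks on the tables for Co3 and Co2.
-/

set_option autoImplicit false

namespace Cfsg.Agent.SporStruct.OuterBig

open Cfsg CoMatrix OuterData

theorem co3_gen : genOK 5 co3C = true := by decide +kernel

theorem co3_enum : enumOK 5 [unitL 23, evalPV (tabs co3C) [2] (unitL 23)] = true := by decide +kernel

theorem co3_words : co3Ws.map (evalP (tabs co3C)) = co3Ps.map permMat ∧
    evalP (co3Ps.map permMat) co3Slp = permMat Golay.conjTab := by decide +kernel

theorem co3_orbit : (co3Orb.map fun w => evalPV (tabs co3C) w (unitL 23)).Nodup ∧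
    ∀ m ∈ Nat.divisors 48600, m % 23 = 1 → m % 11 = 1 →
      m = 1 ∨ 48600 / m < co3Orb.length ∨ m ∈ ([] : List ℕ) := by decide +kernel

theorem co3_rel : (∀ r ∈ co3Rel, powP (packT (evalP (tabs co3C) r.1)) r.2 = idMat) ∧
    evalP (tabs co3C) [2, 1, 2] = evalP (tabs co3C) [1] := by decide +kernel

theorem co3_cover : coverOK co3C co3Rel 1 = true := by decide +kernel

theorem co2_gen : genOK (-3) co2C = true := by decide +kernel

theorem co2_enum : enumOK (-3) [unitL 23, evalPV (tabs co2C) [2] (unitL 23)] = true := by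
  decide +kernel

theorem co2_words : co2Ws.map (evalP (tabs co2C)) = co2Ps.map permMat ∧
    evalP (co2Ps.map permMat) co2Slp = permMat Golay.conjTab := by decide +kernel

theorem co2_orbit : (co2Orb.map fun w => evalPV (tabs co2C) w (unitL 23)).Nodup := by decide +kernel

theorem co2_rel : (∀ r ∈ co2Rel, powP (packT (evalP (tabs co2C) r.1)) r.2 = idMat) ∧
    evalP (tabs co2C) [2, 1, 2] ≠ evalP (tabs co2C) [1] ∧
    powP (packT (evalP (tabs co2C) co2Nine)) 9 = idMat ∧
    powP (packT (evalP (tabs co2C) co2Nine)) 3 ≠ idMat := by decide +kernel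

theorem co2_cover : coverOK co2C co2Rel 11 = true := by decide +kernel

theorem three_facts : Golay.isPermTab threeA = true ∧ Golay.isPermTab threeB = true ∧
    Golay.checkAut threeA = true ∧ Golay.checkAut threeB = true ∧
    threeA.getD 23 0 = 23 ∧ threeB.getD 23 0 = 23 ∧
    mulM (permMat threeA) (permMat threeB) = mulM (permMat threeB) (permMat threeA) ∧
    powM (permMat threeA) 3 = idMat ∧ powM (permMat threeB) 3 = idMat ∧
    ∀ i j : Fin 3, mulM (powM (permMat threeA) i.val) (powM (permMat threeB) j.val) = idMat →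
      i = 0 ∧ j = 0 := by
  decide +kernel

end Cfsg.Agent.SporStruct.OuterBig
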