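import Cfsg.Agent.SporStruct.OuterTwo

/-!
Checks on the tables for HS.
-/

set_option autoImplicit false

namespace Cfsg.Agent.SporStruct.OuterHS

open Cfsg CoMatrix OuterTwo OuterData

/-- The swapped vector, as a list. -/
def swapL : List ℤ := List.zipWith (fun x y => x - y) (twoL (-1)) stdL

theorem check_gen : genOK (-1) hsC = true := by decide +kernel

theorem check_enum : enumOK (-1) (cImages hsC) = true := by decide +kernel

theorem check_words : hsWs.map (evalP (tabs hsC)) = hsPs.map permMat ∧
    evalP (hsPs.map permMat) hsSlp = permMat Golay.conj22Tab := by decide +kernel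

theorem check_orbit : (hsOrb.map fun w => evalPV (tabs hsC) w (unitL 23)).Nodup ∧
    ∀ m ∈ Nat.divisors 100, m % 11 = 1 → m = 1 ∨ 100 / m < hsOrb.length := by decide +kernel

theorem check_rel : ∀ r ∈ hsRel, powP (packT (evalP (tabs hsC) r.1)) r.2 = idMat := by decide +kernel

/-- The substitutions left by the relations, the exponent `-1` being handled by the outer element. -/
def allowed : List (ℕ × ℕ × ℕ) :=
  (1, 1, 0) :: (List.range 25).map fun n => (10, n / 5, n % 5)

theorem check_cover : coverOK hsC hsRel allowed 1 = true ∧ coverOK hsC hsRel allowed 10 = true := by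
  decide +kernel

theorem check_outer : checkMap hsO = true ∧ checkMap (transpL hsO) = true ∧
    mulM hsO hsO = idMat ∧ mapV hsO stdL = swapL ∧ mapV hsO (twoL (-1)) = twoL (-1) ∧
    mulM (mulM hsO (permMat Golay.doubleTab)) hsO = powM (permMat Golay.doubleTab) 10 ∧
    mulM (mulM hsO (permMat Golay.cubeTwistTab)) hsO = permMat Golay.cubeTwistTab := by
  decide +kernel

end Cfsg.Agent.SporStruct.OuterHS
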