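import Cfsg.Agent.SporStruct.OuterTwo

/-!
Checks on the tables for McL.
-/

set_option autoImplicit false

namespace Cfsg.Agent.SporStruct.OuterMcL

open Cfsg CoMatrix OuterTwo OuterData

/-- The swapped vector, as a list. -/
def swapL : List ℤ := List.zipWith (fun x y => x - y) stdL (twoL 1)

theorem check_gen : genOK 1 mcC = true := by decide +kernel

theorem check_enum : enumOK 1 (cImages mcC) = true := by decide +kernel

theorem check_words : mcWs.map (evalP (tabs mcC)) = mcPs.map permMat ∧
    evalP (mcPs.map permMat) mcSlp = permMat Golay.conj22Tab := by decide +kernel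

theorem check_orbit : (mcOrb.map fun w => evalPV (tabs mcC) w (unitL 23)).Nodup ∧
    ∀ m ∈ Nat.divisors 2025, m % 11 = 1 → m = 1 ∨ 2025 / m < mcOrb.length := by decide +kernel

theorem check_rel : ∀ r ∈ mcRel, powP (packT (evalP (tabs mcC) r.1)) r.2 = idMat := by decide +kernel

/-- The substitutions left by the relations. -/
def allowed : List (ℕ × ℕ × ℕ) := [(1, 1, 0), (1, 4, 0)]

theorem check_cover : coverOK mcC mcRel allowed 1 = true ∧ coverOK mcC mcRel allowed 10 = true := by
  decide +kernel

theorem check_outer : checkMap mcO = true ∧ checkMap (transpL mcO) = true ∧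
    mulM mcO mcO = idMat ∧ mapV mcO stdL = stdL ∧ mapV mcO (twoL 1) = swapL ∧
    mulM (mulM mcO (permMat Golay.doubleTab)) mcO = permMat Golay.doubleTab ∧
    mulM (mulM mcO (permMat Golay.cubeTwistTab)) mcO = permMat Golay.cubeTwistTab ∧
    mulM (mulM mcO mcC) mcO = powM mcC 4 ∧ powM mcC 5 = idMat ∧ powM mcC 4 ≠ mcC := by
  decide +kernel

end Cfsg.Agent.SporStruct.OuterMcL
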