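import Cfsg.Agent.SporStruct.PCColl
import Mathlib.Data.Nat.Bitwise

/-!
Certificates that the kernel of a central extension misses the derived subgroup of the preimage
of a polycyclic subgroup: linear combinations of consistency and fusion equations.
-/

set_option autoImplicit false

namespace Cfsg.Agent.SporStruct.PCCert

open Subgroup
open scoped commutatorElement

universe u v w

/-- An exponent-vector algebra for the constants. -/
structure Ops (V : Type w) where
  /-- the trivial vector -/
  zero : V
  /-- the sum -/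
  add : V → V → V
  /-- the unit vector -/
  single : ℕ → V

variable {V : Type w}

/-- The sum of a list of vectors. -/
def Ops.sum (O : Ops V) (vs : List V) : V := vs.foldr O.add O.zero

/-- The vector of a list of constants. -/
def Ops.vec (O : Ops V) (cs : List ℕ) : V := O.sum (cs.map O.single)

/-- The negative of a vector modulo `p`. -/
def Ops.neg (O : Ops V) (p : ℕ) (x : V) : V := O.sum (List.replicate (p - 1) x)

/-- An equation: associativity of collection, or invariance of a product under conjugation by the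
`m`-th conjugator. -/
inductive Spec where
  /-- collect `b` first, or collect the whole word -/
  | assoc (a b c : List ℕ)
  /-- two arrangements of the same pairs `(x, y)`, conjugation mapping each `x` to `y` -/
  | fus (m : ℕ) (pe qe : List (List ℕ × List ℕ))

/-- The vector of an equation. -/
def eqVec (D : Data) (O : Ops V) : Spec → Option V
  | .assoc a b c =>
    match collect D (a ++ b ++ c), collect D b with
    | some (v, cs), some (vb, cb) =>
      match collect D (a ++ (wordFrom 0 vb ++ c)) with
      | some (v2, c2) =>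
        if v = v2 then some (O.add (O.vec cs) (O.neg D.p (O.add (O.vec c2) (O.vec cb)))) else none
      | none => none
    | _, _ => none
  | .fus _ pe qe =>
    if pe.isPerm qe then
      match collect D (pe.flatMap Prod.fst), collect D (qe.flatMap Prod.fst),
          collect D (pe.flatMap Prod.snd), collect D (qe.flatMap Prod.snd) with
      | some (v1, a), some (v2, b), some (w1, a'), some (w2, b') =>
        if v1 = v2 ∧ w1 = w2 then
          some (O.add (O.add (O.vec a) (O.vec b')) (O.neg D.p (O.add (O.vec b) (O.vec a'))))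
        else none
      | _, _, _, _ => none
    else none

/-- The pairs an equation conjugates. -/
def Spec.pairs : Spec → List (ℕ × List ℕ × List ℕ)
  | .assoc _ _ _ => []
  | .fus m pe _ => pe.map fun q => (m, q)

/-- A certificate: equations, new lifts of the derived part, and the combinations. -/
structure Cert where
  /-- the equations -/
  specs : List Spec
  /-- the shifts of the lifts of the derived part -/
  shift : List (List ℕ)
  /-- the combinations of equations, laid out as the relations -/
  comb : List (List (List ℕ))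

/-- The shift of a generator. -/
def zvec (D : Data) (O : Ops V) (K : Cert) (k : ℕ) : V :=
  if k < D.d then O.zero else O.vec (K.shift.getD (k - D.d) [])

/-- The constant of a relation for the new lifts. -/
def target (D : Data) (O : Ops V) (K : Cert) (k j : ℕ) : V :=
  O.add (O.add (O.single (D.code k j)) (if k < j then zvec D O K j else O.zero))
    (O.neg D.p (O.sum ((D.u k j).map (zvec D O K))))

/-- The shape of the relations used at the end. -/
def shapeOK (D : Data) : Bool :=
  (List.range D.n).all fun k => (List.range D.n).all fun j =>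
    decide (j < k) ||
      ((D.u k j).all (fun a => decide (k < a ∧ a < D.n)) &&
        (if k < j ∧ j < D.d then
          (D.u k j).head? == some j && (D.u k j).tail.all (fun a => decide (D.d ≤ a))
        else decide (k < D.d ∧ k = j) || (D.u k j).all (fun a => decide (D.d ≤ a))))

/-- The check of the combinations. -/
def combOK [DecidableEq V] (D : Data) (O : Ops V) (K : Cert) : Bool :=
  match K.specs.mapM (eqVec D O) with
  | none => false
  | some vs =>
    (List.range D.n).all fun k => (List.range D.n).all fun j =>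
      decide (j < k) || decide (k = j ∧ k < D.d) ||
        decide (O.sum (((K.comb.getD k []).getD (j - k) []).map fun e => vs.getD e O.zero) =
          target D O K k j)

theorem exists_of_mapM {α β : Type*} {f : α → Option β} :
    ∀ {l : List α} {r : List β}, l.mapM f = some r → ∀ {x : β}, x ∈ r → ∃ a ∈ l, f a = some x
  | [], r, h, x, hx => by
    simp only [List.mapM_nil, Option.pure_def, Option.some.injEq] at h
    subst h
    simp at hx
  | a :: l, r, h, x, hx => by
    rw [List.mapM_cons] at h
    simp only [Option.bind_eq_bind, Option.bind_eq_some_iff, Option.pure_def,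
      Option.some.injEq] at h
    obtain ⟨y, hy, r', hr', rfl⟩ := h
    rcases List.mem_cons.1 hx with rfl | hx
    · exact ⟨a, List.mem_cons_self, hy⟩
    · obtain ⟨b, hb, e⟩ := exists_of_mapM hr' hx
      exact ⟨b, List.mem_cons_of_mem _ hb, e⟩

variable {Γ : Type u} [Group Γ]

/-- The vectors evaluate to central elements killed by the prime, compatibly with the constants. -/
structure Realised (O : Ops V) (p : ℕ) (C : ℕ → Γ) (φ : V → Γ) : Prop where
  zero : φ O.zero = 1
  add : ∀ a b, φ (O.add a b) = φ a * φ b
  single : ∀ c, φ (O.single c) = C c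
  central : ∀ a x, Commute (φ a) x
  pow : ∀ a, φ a ^ p = 1

section Realised

variable {O : Ops V} {D : Data} {C t : ℕ → Γ} {φ : V → Γ}

theorem Realised.sum (h : Realised O D.p C φ) : ∀ vs : List V, φ (O.sum vs) = (vs.map φ).prod
  | [] => by simp [Ops.sum, h.zero]
  | a :: vs => by
    rw [show O.sum (a :: vs) = O.add a (O.sum vs) from rfl, h.add, h.sum vs]
    simp

theorem Realised.vec (h : Realised O D.p C φ) (cs : List ℕ) : φ (O.vec cs) = ev C cs := by
  rw [Ops.vec, h.sum, List.map_map, ev]
  exact congrArg List.prod (List.map_congr_left fun c _ => h.single c)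

theorem Realised.neg (h : Realised O D.p C φ) (hp : 0 < D.p) (x : V) :
    φ (O.neg D.p x) = (φ x)⁻¹ := by
  rw [Ops.neg, h.sum, List.map_replicate, List.prod_replicate]
  refine (inv_eq_of_mul_eq_one_right ?_).symm
  rw [← pow_succ', Nat.sub_add_cancel hp, h.pow]

theorem eqVec_assoc (hR : Rels D t C) (h : Realised O D.p C φ) (hp : 0 < D.p) {a b c : List ℕ}
    {x : V} (e : eqVec D O (.assoc a b c) = some x) : φ x = 1 := by
  simp only [eqVec] at e
  split at e
  · rename_i v cs vb cb e1 e2
    split at e
    · rename_i v2 c2 e3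
      split at e
      · rename_i hv
        subst hv
        simp only [Option.some.injEq] at e
        subst e
        have h1 := collect_spec hR e1
        have h2 := collect_spec hR e2
        have h3 := collect_spec hR e3
        rw [ev_append, ev_append, h2] at h1
        rw [ev_append, ev_append] at h3
        have key : ev t (wordFrom 0 v) * (ev C c2 * ev C cb) = ev t (wordFrom 0 v) * ev C cs := by
          calc ev t (wordFrom 0 v) * (ev C c2 * ev C cb)
              = ev t a * (ev t (wordFrom 0 vb) * ev t c) * ev C cb := by rw [h3, mul_assoc]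
            _ = ev t a * (ev t (wordFrom 0 vb) * ev C cb) * ev t c := by
                rw [mul_assoc (ev t a), mul_assoc (ev t (wordFrom 0 vb)),
                  ← (hR.ev_central cb (ev t c)).eq]
                simp only [mul_assoc]
            _ = _ := h1
        rw [h.add, h.neg hp, h.add, h.vec, h.vec, h.vec, mul_left_cancel key, mul_inv_cancel]
      · exact absurd e (by simp)
    · exact absurd e (by simp)
  · exact absurd e (by simp)

variable {G : Type v} [Group G] {σ : Γ →* G}

theorem exists_shift (hσ : Function.Surjective σ) (hc : σ.ker ≤ center Γ) (g : G)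
    (pe : List (List ℕ × List ℕ))
    (hg : ∀ q ∈ pe, g * σ (ev t q.1) = σ (ev t q.2) * g) :
    ∃ (H : Γ) (ζ : List ℕ × List ℕ → Γ), (∀ q x, Commute (ζ q) x) ∧
      ∀ l : List (List ℕ × List ℕ), (∀ q ∈ l, q ∈ pe) →
        H * ev t (l.flatMap Prod.fst) * H⁻¹ = ev t (l.flatMap Prod.snd) * (l.map ζ).prod := by
  classical
  obtain ⟨H, rfl⟩ := hσ g
  refine ⟨H, fun q => if q ∈ pe then (ev t q.2)⁻¹ * (H * ev t q.1 * H⁻¹) else 1, fun q x => ?_, ?_⟩
  · dsimp only
    split_ifs with hq
    · refine (Subgroup.mem_center_iff.1 (hc ?_) x).symm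
      rw [MonoidHom.mem_ker, map_mul, map_mul, map_mul, map_inv, map_inv, hg q hq]
      group
    · exact Commute.one_left x
  · intro l
    induction l with
    | nil => simp [ev_nil]
    | cons q l ih =>
      intro hl
      have ih' := ih fun r hr => hl r (List.mem_cons_of_mem _ hr)
      have hq := hl q List.mem_cons_self
      rw [List.flatMap_cons, List.flatMap_cons, List.map_cons, List.prod_cons, ev_append, ev_append,
        if_pos hq, ← conj_mul, ih']
      set L2 := ev t (l.flatMap Prod.snd)
      set z := (ev t q.2)⁻¹ * (H * ev t q.1 * H⁻¹) with hz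
      have hzc : Commute z L2 := by
        refine (Subgroup.mem_center_iff.1 (hc ?_) L2).symm
        rw [MonoidHom.mem_ker, map_mul, map_mul, map_mul, map_inv, map_inv, hg q hq]
        group
      rw [show H * ev t q.1 * H⁻¹ = ev t q.2 * z by rw [hz]; group,
        show ev t q.2 * L2 * (z * _) = ev t q.2 * (L2 * z) * _ from by simp only [mul_assoc]; rfl,
        ← hzc.eq]
      simp only [mul_assoc]

theorem eqVec_fus (hR : Rels D t C) (h : Realised O D.p C φ) (hp : 0 < D.p)
    (hσ : Function.Surjective σ) (hc : σ.ker ≤ center Γ) {m : ℕ}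
    {pe qe : List (List ℕ × List ℕ)} (g : G) (hg : ∀ q ∈ pe, g * σ (ev t q.1) = σ (ev t q.2) * g)
    {x : V} (e : eqVec D O (.fus m pe qe) = some x) : φ x = 1 := by
  simp only [eqVec] at e
  split at e
  · rename_i hperm
    split at e
    · rename_i v1 a v2 b w1 a' w2 b' e1 e2 e3 e4
      split at e
      · rename_i hv
        obtain ⟨rfl, rfl⟩ := hv
        simp only [Option.some.injEq] at e
        subst e
        rw [List.isPerm_iff] at hperm
        obtain ⟨H, ζ, hζ, hH⟩ := exists_shift hσ hc g pe hg
        have hP := hH pe fun q hq => hq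
        have hQ := hH qe fun q hq => hperm.mem_iff.2 hq
        have hprod : (pe.map ζ).prod = (qe.map ζ).prod :=
          (hperm.map ζ).prod_eq' (List.pairwise_of_forall_mem_list fun y hy _ _ => by
            obtain ⟨q, -, rfl⟩ := List.mem_map.1 hy
            exact hζ q _)
        set k := ev C a * (ev C b)⁻¹ with hk
        have hkc : ∀ y, Commute k y := fun y =>
          (hR.ev_central a y).mul_left (hR.ev_central b y).inv_left
        have hfst : ev t (pe.flatMap Prod.fst) = ev t (qe.flatMap Prod.fst) * k := by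
          rw [collect_spec hR e1, collect_spec hR e2, hk, mul_assoc,
            show ev C b * (ev C a * (ev C b)⁻¹) = ev C a by
              rw [← mul_assoc, (hR.ev_central b _).eq, mul_inv_cancel_right]]
        have hsnd : ev t (pe.flatMap Prod.snd) = ev t (qe.flatMap Prod.snd) * k := by
          refine mul_right_cancel (b := (qe.map ζ).prod) ?_
          calc ev t (pe.flatMap Prod.snd) * (qe.map ζ).prod
              = H * (ev t (qe.flatMap Prod.fst) * k) * H⁻¹ := by rw [← hprod, ← hP, hfst]
            _ = H * ev t (qe.flatMap Prod.fst) * H⁻¹ * k := by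
                rw [← mul_assoc H, mul_assoc (H * ev t _), (hkc H⁻¹).eq, ← mul_assoc]
            _ = ev t (qe.flatMap Prod.snd) * ((qe.map ζ).prod * k) := by rw [hQ, mul_assoc]
            _ = _ := by rw [← (hkc _).eq]; simp only [mul_assoc]
        rw [collect_spec hR e3, collect_spec hR e4, hk, mul_assoc] at hsnd
        have key := mul_left_cancel hsnd
        rw [h.add, h.add, h.neg hp, h.add, h.vec, h.vec, h.vec, h.vec, key]
        rw [← mul_assoc (ev C b'), ← mul_assoc (ev C b), (hR.ev_central b _).eq,
          mul_inv_cancel_right, (hR.ev_central a _).eq, mul_inv_cancel]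
      · exact absurd e (by simp)
    · exact absurd e (by simp)
  · exact absurd e (by simp)

end Realised

variable [DecidableEq V] {G : Type v} [Group G] [Finite G] [Finite Γ]

/-- The certified local statement. -/
theorem inf_commutator_eq_bot (D : Data) (O : Ops V) (K : Cert)
    (hp : D.p.Prime) (hd : D.d ≤ D.n)
    (hshape : shapeOK D = true) (hcomb : combOK D O K = true)
    (hreal : ∀ C : ℕ → Γ, (∀ c x, Commute (C c) x) → (∀ c, C c ^ D.p = 1) →
      (∀ c, D.n * D.n ≤ c → C c = 1) → ∃ φ : V → Γ, Realised O D.p C φ)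
    (g : ℕ → G) (h : ℕ → G)
    (hpow : ∀ k < D.n, g k ^ D.p = ev g (D.u k k))
    (hconj : ∀ k j, k < j → j < D.n → g j * g k = g k * ev g (D.u k j))
    (hfus : ∀ q ∈ K.specs.flatMap Spec.pairs, h q.1 * ev g q.2.1 = ev g q.2.2 * h q.1)
    (hsep : ∀ k < D.n, g k ∉ tailGrp g D.n (k + 1))
    (σ : Γ →* G) (hσ : Function.Surjective σ) (hc : σ.ker ≤ center Γ)
    (hexp : ∀ z ∈ σ.ker, z ^ D.p = 1) :
    Nat.card (tailGrp g D.n 0) = D.p ^ D.n ∧
      σ.ker ⊓ ⁅(tailGrp g D.n 0).comap σ, (tailGrp g D.n 0).comap σ⁆ = ⊥ := by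
  classical
  have hshape' : ∀ k j, k ≤ j → j < D.n → (∀ a ∈ D.u k j, k < a ∧ a < D.n) ∧
      (k < j → j < D.d → (D.u k j).head? = some j ∧ ∀ a ∈ (D.u k j).tail, D.d ≤ a) ∧
      (D.d ≤ j → ∀ a ∈ D.u k j, D.d ≤ a) := by
    intro k j hkj hj
    simp only [shapeOK, List.all_eq_true, List.mem_range, Bool.or_eq_true, Bool.and_eq_true,
      decide_eq_true_eq] at hshape
    obtain h0 | ⟨h1, h2⟩ := hshape k (by omega) j hj
    · omega
    refine ⟨h1, fun a b => ?_, fun hdj => ?_⟩
    · rw [if_pos ⟨a, b⟩] at h2
      simpa using h2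
    · rw [if_neg (by omega)] at h2
      simp only [Bool.or_eq_true, decide_eq_true_eq, List.all_eq_true] at h2
      exact h2.resolve_left (by omega)
  have hgmem : ∀ k j, k ≤ j → j < D.n → ev g (D.u k j) ∈ tailGrp g D.n (k + 1) := fun k j a b =>
    ev_mem fun i hi => by
      obtain ⟨h1, h2⟩ := (hshape' k j a b).1 i hi
      exact mem_tailGrp h1 h2
  have hstep : ∀ k < D.n, Step g D.n D.p k := fun k hk =>
    ⟨(hpow k hk).symm ▸ hgmem k k le_rfl hk, fun j hkj hj => by
      rw [mul_assoc, hconj k j hkj hj, inv_mul_cancel_left]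
      exact hgmem k j hkj.le hj⟩
  have hcard := card_tail_pow hp hstep hsep D.n 0 (Nat.zero_add _)
  refine ⟨hcard, ?_⟩
  choose t ht using fun k => hσ (g k)
  have htw : ∀ w, σ (ev t w) = ev g w := fun w => by
    rw [map_ev]; exact ev_congr _ fun i _ => ht i
  -- the constants
  let rel : ℕ → ℕ → Γ := fun k j =>
    if k = j then (ev t (D.u k k))⁻¹ * t k ^ D.p
    else if k < j then (t k * ev t (D.u k j))⁻¹ * (t j * t k) else 1
  let C : ℕ → Γ := fun c => if c < D.n * D.n then rel (c / D.n) (c % D.n) else 1
  have hCk : ∀ c, C c ∈ σ.ker := by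
    intro c
    simp only [C, rel]
    split_ifs with h0 h1 h2
    · have hn : c / D.n < D.n := Nat.div_lt_of_lt_mul h0
      rw [MonoidHom.mem_ker, map_mul, map_inv, map_pow, htw, ht, hpow _ hn, inv_mul_cancel]
    · have hn : 0 < D.n := Nat.pos_of_ne_zero fun e => by simp [e] at h0
      rw [MonoidHom.mem_ker, map_mul, map_inv, map_mul, map_mul, htw, ht, ht,
        hconj _ _ h2 (Nat.mod_lt _ hn), inv_mul_cancel]
    all_goals exact one_mem _
  have hcode : ∀ k j, k < D.n → j < D.n → C (D.code k j) = rel k j := by
    intro k j hk hj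
    have hn : 0 < D.n := by omega
    have hlt : k * D.n + j < D.n * D.n := by
      calc k * D.n + j < k * D.n + D.n := by omega
        _ = (k + 1) * D.n := by rw [Nat.succ_mul]
        _ ≤ D.n * D.n := Nat.mul_le_mul_right _ hk
    simp only [C, Data.code, if_pos hlt]
    rw [Nat.mul_comm k, Nat.mul_add_div hn, Nat.div_eq_of_lt hj, Nat.add_zero, Nat.mul_add_mod,
      Nat.mod_eq_of_lt hj]
  have hcent : ∀ c x, Commute (C c) x := fun c x => (Subgroup.mem_center_iff.1 (hc (hCk c)) x).symm
  have hR : Rels D t C := ⟨hcent,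
    fun k hk => by simp only [hcode k k hk hk, rel, if_pos]; rw [mul_inv_cancel_left],
    fun k j hkj hj => by
      simp only [hcode k j (by omega) hj, rel, if_neg (Nat.ne_of_lt hkj), if_pos hkj]
      rw [mul_inv_cancel_left]⟩
  obtain ⟨φ, hφ⟩ := hreal C hcent (fun c => hexp _ (hCk c))
    (fun c hn => by simp only [C, if_neg (Nat.not_lt.2 hn)])
  -- the equations hold
  rw [combOK] at hcomb
  split at hcomb
  · exact absurd hcomb Bool.false_ne_true
  rename_i vs hvs
  have hall : ∀ x ∈ vs, φ x = 1 := by
    intro x hx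
    obtain ⟨sp, hmem, he⟩ := exists_of_mapM hvs hx
    revert he hmem
    rcases sp with ⟨a, b, c⟩ | ⟨m, pe, qe⟩
    · exact fun _ he => eqVec_assoc hR hφ hp.pos he
    · intro hmem he
      refine eqVec_fus hR hφ hp.pos hσ hc (h m) (fun q hq => ?_) he
      rw [htw, htw]
      exact hfus (m, q) (List.mem_flatMap.2 ⟨_, hmem, List.mem_map.2 ⟨q, hq, rfl⟩⟩)
  simp only [List.all_eq_true, List.mem_range, Bool.or_eq_true, decide_eq_true_eq] at hcomb
  have htarget : ∀ k j, k ≤ j → j < D.n → (k < j ∨ D.d ≤ k) → φ (target D O K k j) = 1 := by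
    intro k j hkj hj hor
    rcases hcomb k (by omega) j hj with (h0 | h0) | h0
    · omega
    · omega
    rw [← h0, hφ.sum]
    refine List.prod_eq_one fun y hy => ?_
    obtain ⟨x, hx, rfl⟩ := List.mem_map.1 hy
    obtain ⟨e, -, rfl⟩ := List.mem_map.1 hx
    rcases Nat.lt_or_ge e vs.length with he | he
    · rw [List.getD_eq_getElem _ _ he]; exact hall _ (List.getElem_mem he)
    · rw [List.getD_eq_default _ _ he]; exact hφ.zero
  -- the new lifts
  let z : ℕ → Γ := fun k => φ (zvec D O K k)
  let s : ℕ → Γ := fun k => t k * z k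
  have hzc : ∀ k x, Commute (z k) x := fun k x => hφ.central _ x
  have hzk : ∀ k, z k ∈ σ.ker := by
    intro k
    simp only [z, zvec]
    split_ifs
    · rw [hφ.zero]; exact one_mem _
    · rw [hφ.vec]; exact ev_mem fun c _ => hCk c
  have hs : ∀ k, σ (s k) = g k := fun k => by
    simp only [s, map_mul, MonoidHom.mem_ker.1 (hzk k), mul_one, ht]
  have hevs : ∀ w, ev s w = ev t w * ev z w := by
    intro w
    induction w with
    | nil => simp [ev_nil]
    | cons i w ih =>
      rw [ev_cons, ev_cons, ev_cons, ih]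
      simp only [s, mul_assoc]
      rw [← mul_assoc (z i), (hzc i _).eq, mul_assoc]
  have hsum : ∀ w, φ (O.sum (w.map (zvec D O K))) = ev z w := fun w => by
    rw [hφ.sum, List.map_map]; rfl
  have hzd : ∀ k < D.d, z k = 1 := fun k hk => by simp only [z, zvec, if_pos hk, hφ.zero]
  have hrel2 : ∀ k j, k < j → j < D.n → s j * s k = s k * ev s (D.u k j) := by
    intro k j hkj hj
    have h1 := htarget k j hkj.le hj (Or.inl hkj)
    rw [target, hφ.add, hφ.add, hφ.single, if_pos hkj, hφ.neg hp.pos, hsum, mul_inv_eq_one] at h1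
    rw [hevs, ← h1]
    simp only [s, z]
    calc t j * φ (zvec D O K j) * (t k * φ (zvec D O K k))
        = t j * t k * φ (zvec D O K k) * φ (zvec D O K j) := by
          rw [mul_assoc (t j), (hφ.central (zvec D O K j) _).eq]
          simp only [mul_assoc]
      _ = t k * ev t (D.u k j) * (C (D.code k j) * φ (zvec D O K k)) * φ (zvec D O K j) := by
          rw [hR.conj k j hkj hj]
          simp only [mul_assoc]
      _ = t k * (ev t (D.u k j) * φ (zvec D O K k)) * (C (D.code k j) * φ (zvec D O K j)) := by
          rw [(hR.central (D.code k j) (φ (zvec D O K k))).eq]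
          simp only [mul_assoc]
      _ = _ := by
          rw [← (hφ.central (zvec D O K k) (ev t (D.u k j))).eq]
          simp only [mul_assoc]
  have hpow2 : ∀ k, D.d ≤ k → k < D.n → s k ^ D.p = ev s (D.u k k) := by
    intro k hdk hk
    have h1 := htarget k k le_rfl hk (Or.inr hdk)
    rw [target, hφ.add, hφ.add, hφ.single, if_neg (lt_irrefl k), hφ.zero, mul_one, hφ.neg hp.pos,
      hsum, mul_inv_eq_one] at h1
    simp only [s, z]
    rw [((hφ.central (zvec D O K k) _).symm).mul_pow, hφ.pow, mul_one, hR.pow k hk, h1, hevs]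
  -- the derived part is faithful
  set N := tailGrp s D.n D.d with hN
  have hsN : ∀ k j, k ≤ j → j < D.n → D.d ≤ j → ev s (D.u k j) ∈ tailGrp s D.n (max (k + 1) D.d) :=
    fun k j hkj hj hdj => ev_mem fun i hi => by
      obtain ⟨h1, h2⟩ := (hshape' k j hkj hj).1 i hi
      exact mem_tailGrp (max_le h1 ((hshape' k j hkj hj).2.2 hdj i hi)) h2
  have hsmap : tailGrp g D.n D.d = N.map σ := by
    rw [hN, tailGrp, tailGrp, MonoidHom.map_closure, ← Set.image_comp]
    exact congrArg Subgroup.closure (Set.image_congr fun i _ => (hs i).symm)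
  have hNle : Nat.card N ≤ D.p ^ (D.n - D.d) :=
    card_tail_le_pow (f := s) hp.pos (D.n - D.d) D.d (by omega) le_rfl fun i hdi hi => by
      have hm : max (i + 1) D.d = i + 1 := max_eq_left (by omega)
      refine ⟨?_, fun j hij hj => ?_⟩
      · rw [hpow2 i hdi hi, ← hm]; exact hsN i i le_rfl hi hdi
      · rw [mul_assoc, hrel2 i j hij hj, inv_mul_cancel_left, ← hm]
        exact hsN i j hij.le hj (by omega)
  have hNk : σ.ker ⊓ N = ⊥ := by
    have hGd := card_tail_pow hp hstep hsep (D.n - D.d) D.d (by omega)
    rw [hsmap] at hGd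
    let F : N → N.map σ := fun x => ⟨σ x.1, x.1, x.2, rfl⟩
    have hsur : Function.Surjective F := fun y => by
      obtain ⟨x, hx, e⟩ := y.2
      exact ⟨⟨x, hx⟩, Subtype.ext e⟩
    have hinj : Function.Injective F := (hsur.bijective_of_nat_card_le (hGd ▸ hNle)).1
    rw [eq_bot_iff]
    rintro x ⟨hx, hxN⟩
    have : (⟨x, hxN⟩ : N) = 1 := hinj (Subtype.ext (by
      show σ x = σ 1
      rw [map_one, hx]))
    exact congrArg Subtype.val this
  -- the derived subgroup of the preimage
  have hcl : (tailGrp g D.n 0).comap σ = closure (s '' Set.Ico 0 D.n ∪ (σ.ker : Set Γ)) := by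
    rw [tailGrp, show g '' Set.Ico 0 D.n = σ '' (s '' Set.Ico 0 D.n) by
      rw [← Set.image_comp]; exact Set.image_congr fun i _ => (hs i).symm,
      ← MonoidHom.map_closure, comap_map_eq, Subgroup.closure_union, Subgroup.closure_eq]
  have hnorm : ∀ u ∈ s '' Set.Ico 0 D.n ∪ (σ.ker : Set Γ), ∀ x, x ∈ N ↔ u * x * u⁻¹ ∈ N := by
    have hone : ∀ u : Γ, (∀ x ∈ N, u⁻¹ * x * u⁻¹⁻¹ ∈ N) → ∀ x, x ∈ N ↔ u * x * u⁻¹ ∈ N := by
      intro u hu
      have hinj : Function.Injective (fun a : N => (⟨_, hu a.1 a.2⟩ : N)) := fun a b e =>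
        Subtype.ext (mul_left_cancel (mul_right_cancel (congrArg Subtype.val e)))
      intro x
      constructor
      · intro hx
        obtain ⟨⟨b, hb⟩, e⟩ := (Finite.injective_iff_surjective.1 hinj) ⟨x, hx⟩
        have e' : u⁻¹ * b * u⁻¹⁻¹ = x := congrArg Subtype.val e
        rw [← e', show u * (u⁻¹ * b * u⁻¹⁻¹) * u⁻¹ = b by group]
        exact hb
      · intro hx
        have := hu _ hx
        rwa [show u⁻¹ * (u * x * u⁻¹) * u⁻¹⁻¹ = x by group] at this
    intro u hu
    refine hone u fun x hx => ?_
    rcases hu with ⟨k, ⟨-, hk⟩, rfl⟩ | hu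
    · induction hx using closure_induction with
      | mem a ha =>
        obtain ⟨j, ⟨hdj, hj⟩, rfl⟩ := ha
        rw [inv_inv]
        rcases Nat.lt_or_ge k D.d with hkd | hkd
        · rw [mul_assoc, hrel2 k j (by omega) hj, inv_mul_cancel_left]
          exact tailGrp_anti s D.n (le_max_right _ _) (hsN k j (by omega) hj hdj)
        · exact mul_mem (mul_mem (inv_mem (mem_tailGrp hkd hk)) (mem_tailGrp hdj hj))
            (mem_tailGrp hkd hk)
      | one => simp
      | mul a b _ _ iha ihb => rw [← conj_mul]; exact mul_mem iha ihb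
      | inv a _ iha => rw [← conj_inv]; exact inv_mem iha
    · rw [Subgroup.mem_center_iff.1 (inv_mem (hc hu)) x |>.symm, mul_inv_cancel_right]
      exact hx
  have hcommN : ∀ k j, k < j → j < D.n → ⁅s j, s k⁆ ∈ N := by
    intro k j hkj hj
    have hk : s k ∈ s '' Set.Ico 0 D.n ∪ (σ.ker : Set Γ) := Or.inl ⟨k, ⟨Nat.zero_le _, by omega⟩, rfl⟩
    rcases Nat.lt_or_ge j D.d with hjd | hjd
    · obtain ⟨hhd, htl⟩ := (hshape' k j hkj.le hj).2.1 hkj hjd
      obtain ⟨r, hr⟩ : ∃ r, D.u k j = j :: r := by
        match hu : D.u k j, hhd with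
        | a :: r, hhd =>
          simp only [hu, List.head?_cons, Option.some.injEq] at hhd
          exact ⟨r, by rw [hhd]⟩
      have hrN : ev s r ∈ N := ev_mem fun a ha => by
        refine mem_tailGrp (htl a (by rw [hr]; exact ha)) ?_
        exact ((hshape' k j hkj.le hj).1 a (by rw [hr]; exact List.mem_cons_of_mem _ ha)).2
      have hjm : s j ∈ s '' Set.Ico 0 D.n ∪ (σ.ker : Set Γ) := Or.inl ⟨j, ⟨Nat.zero_le _, hj⟩, rfl⟩
      rw [show ⁅s j, s k⁆ = s k * (s j * ev s r * (s j)⁻¹) * (s k)⁻¹ by
        rw [commutatorElement_def, hrel2 k j hkj hj, hr, ev_cons]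
        group]
      exact (hnorm _ hk _).1 ((hnorm _ hjm _).1 hrN)
    · rw [show ⁅s j, s k⁆ = s j * (s k * (s j)⁻¹ * (s k)⁻¹) by
        rw [commutatorElement_def]; group]
      exact mul_mem (mem_tailGrp hjd hj) ((hnorm _ hk _).1 (inv_mem (mem_tailGrp hjd hj)))
  rw [eq_bot_iff, ← hNk, hcl]
  refine inf_le_inf le_rfl (Golay.Mult.commutator_closure_le _ N hnorm ?_)
  intro u hu v hv
  rcases hu with ⟨i, ⟨-, hi⟩, rfl⟩ | hu
  · rcases hv with ⟨j, ⟨-, hj⟩, rfl⟩ | hv
    · rcases lt_trichotomy i j with h | rfl | h
      · rw [← commutatorElement_inv]; exact inv_mem (hcommN i j h hj)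
      · rw [commutatorElement_self]; exact one_mem _
      · exact hcommN j i h hi
    · rw [commutatorElement_eq_one_iff_mul_comm.2 (Subgroup.mem_center_iff.1 (hc hv) _)]
      exact one_mem _
  · rw [commutatorElement_eq_one_iff_mul_comm.2 (Subgroup.mem_center_iff.1 (hc hu) v).symm]
    exact one_mem _

end Cfsg.Agent.SporStruct.PCCert
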