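import Cfsg.Agent.Lib.Golay.Mult.Local

/-!
Chains of closures of polycyclic generators, and reduction of stem extensions to kernels of prime
exponent.
-/

set_option autoImplicit false

namespace Cfsg.Agent.SporStruct.PCCert

open Subgroup

universe u v

section Chain

variable {H : Type u} [Group H]

/-- The group generated by the generators from position `k` on. -/
def tailGrp (f : ℕ → H) (n k : ℕ) : Subgroup H := closure (f '' Set.Ico k n)

theorem tailGrp_top (f : ℕ → H) (n : ℕ) : tailGrp f n n = ⊥ := by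
  simp [tailGrp]

theorem mem_tailGrp {f : ℕ → H} {n k i : ℕ} (h1 : k ≤ i) (h2 : i < n) : f i ∈ tailGrp f n k :=
  subset_closure ⟨i, ⟨h1, h2⟩, rfl⟩

theorem tailGrp_anti (f : ℕ → H) (n : ℕ) {a b : ℕ} (h : a ≤ b) : tailGrp f n b ≤ tailGrp f n a :=
  closure_mono (Set.image_mono (Set.Ico_subset_Ico_left h))

/-- The power relations and the conjugation relations of step `k`. -/
def Step (f : ℕ → H) (n p k : ℕ) : Prop :=
  f k ^ p ∈ tailGrp f n (k + 1) ∧
    ∀ j, k < j → j < n → (f k)⁻¹ * f j * f k ∈ tailGrp f n (k + 1)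

theorem step_mem [Finite H] {f : ℕ → H} {n p k : ℕ} (hp : 0 < p) (hk : k < n)
    (hs : Step f n p k) {x : H} (hx : x ∈ tailGrp f n k) :
    ∃ e < p, ∃ m ∈ tailGrp f n (k + 1), x = f k ^ e * m := by
  set N := tailGrp f n (k + 1) with hN
  have hn : (f k)⁻¹ ∈ normalizer (N : Set H) := by
    have hsub : ∀ a ∈ N, (f k)⁻¹ * a * (f k)⁻¹⁻¹ ∈ N := by
      intro a ha
      induction ha using closure_induction with
      | mem a ha => obtain ⟨j, ⟨h1, h2⟩, rfl⟩ := ha; rw [inv_inv]; exact hs.2 j h1 h2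
      | one => simp
      | mul a b _ _ iha ihb => rw [← conj_mul]; exact mul_mem iha ihb
      | inv a _ iha => rw [← conj_inv]; exact inv_mem iha
    have hinj : Function.Injective (fun a : N => (⟨_, hsub a.1 a.2⟩ : N)) := fun a b e =>
      Subtype.ext (mul_left_cancel (mul_right_cancel (congrArg Subtype.val e)))
    refine mem_normalizer_iff.2 fun a => ⟨hsub a, fun ha => ?_⟩
    obtain ⟨⟨b, hb⟩, e⟩ := (Finite.injective_iff_surjective.1 hinj) ⟨_, ha⟩
    have e' : (f k)⁻¹ * b * (f k)⁻¹⁻¹ = (f k)⁻¹ * a * (f k)⁻¹⁻¹ := congrArg Subtype.val e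
    rw [← mul_left_cancel (mul_right_cancel e')]
    exact hb
  have hle : tailGrp f n k ≤ zpowers (f k) ⊔ N := by
    refine (closure_le _).2 ?_
    rintro _ ⟨i, ⟨h1, h2⟩, rfl⟩
    rcases Nat.eq_or_lt_of_le h1 with rfl | h
    · exact mem_sup_left (mem_zpowers _)
    · exact mem_sup_right (mem_tailGrp h h2)
  have hzn : zpowers (f k) ≤ normalizer (N : Set H) :=
    zpowers_le.2 (by simpa using inv_mem hn)
  have hx' : x ∈ ((zpowers (f k) ⊔ N : Subgroup H) : Set H) := hle hx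
  rw [coe_mul_of_left_le_normalizer_right _ _ hzn] at hx'
  obtain ⟨y, hy, m, hm, rfl⟩ := Set.mem_mul.1 hx'
  rw [SetLike.mem_coe, ← mem_powers_iff_mem_zpowers] at hy
  obtain ⟨e, rfl⟩ := hy
  refine ⟨e % p, Nat.mod_lt _ hp, (f k ^ p) ^ (e / p) * m, mul_mem (pow_mem hs.1 _) hm, ?_⟩
  rw [← mul_assoc, ← pow_mul, ← pow_add, Nat.mod_add_div]

theorem card_tail_le [Finite H] {f : ℕ → H} {n p k : ℕ} (hp : 0 < p) (hk : k < n)
    (hs : Step f n p k) : Nat.card (tailGrp f n k) ≤ p * Nat.card (tailGrp f n (k + 1)) := by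
  have hle : tailGrp f n (k + 1) ≤ tailGrp f n k := tailGrp_anti f n k.le_succ
  let F : Fin p × tailGrp f n (k + 1) → tailGrp f n k := fun q =>
    ⟨f k ^ q.1.val * q.2, mul_mem (pow_mem (mem_tailGrp le_rfl hk) _) (hle q.2.2)⟩
  have hF : Function.Surjective F := fun x => by
    obtain ⟨e, he, m, hm, h⟩ := step_mem hp hk hs x.2
    exact ⟨⟨⟨e, he⟩, ⟨m, hm⟩⟩, Subtype.ext h.symm⟩
  calc Nat.card (tailGrp f n k) ≤ Nat.card (Fin p × tailGrp f n (k + 1)) :=
        Nat.card_le_card_of_surjective F hF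
    _ = p * Nat.card (tailGrp f n (k + 1)) := by simp [Nat.card_prod]

theorem card_tail_eq [Finite H] {f : ℕ → H} {n p k : ℕ} (hp : p.Prime) (hk : k < n)
    (hs : Step f n p k) (hsep : f k ∉ tailGrp f n (k + 1)) :
    Nat.card (tailGrp f n k) = p * Nat.card (tailGrp f n (k + 1)) := by
  set N := tailGrp f n (k + 1) with hN
  refine le_antisymm (card_tail_le hp.pos hk hs) ?_
  let F : Fin p × N → tailGrp f n k := fun q =>
    ⟨f k ^ q.1.val * q.2, mul_mem (pow_mem (mem_tailGrp le_rfl hk) _)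
      (tailGrp_anti f n k.le_succ q.2.2)⟩
  have key : ∀ a b : ℕ, a < b → b < p → f k ^ a * (f k ^ b)⁻¹ ∈ N → False := by
    intro a b hab hb h
    have h' : f k ^ (b - a) ∈ N := by
      have e : f k ^ (b - a) = (f k ^ a * (f k ^ b)⁻¹)⁻¹ := by
        rw [mul_inv_rev, inv_inv, ← pow_sub _ hab.le]
      rw [e]
      exact inv_mem h
    have hco : Nat.Coprime (b - a) p := ((Nat.Prime.coprime_iff_not_dvd hp).2 fun hd => by
      have := Nat.le_of_dvd (by omega) hd
      omega).symm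
    refine hsep ?_
    have hg := Nat.gcd_eq_gcd_ab (b - a) p
    rw [Nat.coprime_iff_gcd_eq_one.1 hco] at hg
    rw [← zpow_one (f k), show (1 : ℤ) = ((1 : ℕ) : ℤ) from rfl, hg, zpow_add, zpow_mul, zpow_mul,
      zpow_natCast, zpow_natCast]
    exact mul_mem (zpow_mem h' _) (zpow_mem hs.1 _)
  have hF : Function.Injective F := by
    rintro ⟨a, x⟩ ⟨b, y⟩ e
    have e' : f k ^ a.val * (x : H) = f k ^ b.val * (y : H) := congrArg Subtype.val e
    have hm : ∀ (c c' : ℕ) (z z' : N), f k ^ c * (z : H) = f k ^ c' * (z' : H) →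
        f k ^ c * (f k ^ c')⁻¹ ∈ N := by
      intro c c' z z' h
      have hcc : f k ^ c * (f k ^ c')⁻¹ = (f k ^ c')⁻¹ * f k ^ c :=
        ((Commute.pow_pow_self (f k) c c').inv_right).eq
      rw [hcc, show (f k ^ c')⁻¹ * f k ^ c = (z' : H) * (z : H)⁻¹ by
        rw [inv_mul_eq_iff_eq_mul, ← mul_assoc, ← h, mul_inv_cancel_right]]
      exact mul_mem z'.2 (inv_mem z.2)
    rcases lt_trichotomy a.val b.val with h | h | h
    · exact (key _ _ h b.2 (hm _ _ _ _ e')).elim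
    · obtain rfl := Fin.ext h
      exact Prod.ext rfl (Subtype.ext (mul_left_cancel e'))
    · exact (key _ _ h a.2 (hm _ _ _ _ e'.symm)).elim
  calc p * Nat.card N = Nat.card (Fin p × N) := by simp [Nat.card_prod]
    _ ≤ _ := Nat.card_le_card_of_injective F hF

theorem card_tail_le_pow [Finite H] {f : ℕ → H} {n p d : ℕ} (hp : 0 < p) :
    ∀ r k, k + r = n → d ≤ k → (∀ i, d ≤ i → i < n → Step f n p i) →
      Nat.card (tailGrp f n k) ≤ p ^ r
  | 0, k, hk, _, _ => by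
    obtain rfl : k = n := by omega
    rw [tailGrp_top]; simp
  | r + 1, k, hk, hd, hs => by
    refine (card_tail_le hp (by omega) (hs k hd (by omega))).trans ?_
    rw [pow_succ']
    exact Nat.mul_le_mul_left _ (card_tail_le_pow hp r (k + 1) (by omega) (by omega) hs)

theorem card_tail_pow [Finite H] {f : ℕ → H} {n p : ℕ} (hp : p.Prime)
    (hs : ∀ i < n, Step f n p i) (hsep : ∀ i < n, f i ∉ tailGrp f n (i + 1)) :
    ∀ r k, k + r = n → Nat.card (tailGrp f n k) = p ^ r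
  | 0, k, hk => by
    obtain rfl : k = n := by omega
    rw [tailGrp_top]; simp
  | r + 1, k, hk => by
    rw [card_tail_eq hp (by omega) (hs k (by omega)) (hsep k (by omega)),
      card_tail_pow hp hs hsep r (k + 1) (by omega), pow_succ']

end Chain

/-- If, for every prime and every stem extension with kernel of that exponent, some subgroup of
prime-to-`p` index has a preimage whose derived subgroup misses the kernel, all stem extensions
are trivial. -/
theorem ker_eq_bot_of_exp {G : Type v} [Group G]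
    (h : ∀ (ℓ : ℕ), ℓ.Prime → ∀ (Δ : Type u) [Group Δ] [Finite Δ] (τ : Δ →* G),
      Function.Surjective τ → τ.ker ≤ center Δ → (∀ k ∈ τ.ker, k ^ ℓ = 1) →
      ∃ S : Subgroup G, ¬ ℓ ∣ S.index ∧ τ.ker ⊓ ⁅S.comap τ, S.comap τ⁆ = ⊥)
    {Γ : Type u} [Group Γ] [Finite Γ] (σ : Γ →* G) (hσ : Cfsg.IsStemExtension σ) : σ.ker = ⊥ := by
  by_contra hne
  obtain ⟨hσs, hc, hcomm⟩ := hσ
  obtain ⟨ℓ, hℓ, hdvd⟩ := Nat.exists_prime_and_dvd
    (fun e => hne (Subgroup.card_eq_one.1 e) : Nat.card σ.ker ≠ 1)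
  haveI := Fact.mk hℓ
  -- the subgroup of `ℓ`-th powers of the kernel
  have hcm : ∀ a ∈ σ.ker, ∀ b : Γ, Commute a b := fun a ha b =>
    (Subgroup.mem_center_iff.1 (hc ha) b).symm
  let M : Subgroup Γ :=
    { carrier := {x | ∃ k ∈ σ.ker, k ^ ℓ = x}
      one_mem' := ⟨1, one_mem _, one_pow ℓ⟩
      mul_mem' := by
        rintro x y ⟨a, ha, rfl⟩ ⟨b, hb, rfl⟩
        exact ⟨a * b, mul_mem ha hb, (hcm a ha b).mul_pow ℓ⟩
      inv_mem' := by
        rintro x ⟨a, ha, rfl⟩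
        exact ⟨a⁻¹, inv_mem ha, inv_pow a ℓ⟩ }
  have hMk : M ≤ σ.ker := by rintro x ⟨a, ha, rfl⟩; exact pow_mem ha ℓ
  haveI : M.Normal := ⟨fun x hx g => by
    rwa [Subgroup.mem_center_iff.1 (hc (hMk hx)) g, mul_inv_cancel_right]⟩
  have hMne : ¬ σ.ker ≤ M := by
    intro hle
    obtain ⟨z, hz⟩ := exists_prime_orderOf_dvd_card' (G := σ.ker) ℓ hdvd
    have hsurj : Function.Surjective (fun k : σ.ker => k ^ ℓ) := fun y => by
      obtain ⟨a, ha, e⟩ := hle y.2
      exact ⟨⟨a, ha⟩, Subtype.ext e⟩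
    have h1 : z = 1 := (Finite.injective_iff_surjective.2 hsurj)
      (show z ^ ℓ = 1 ^ ℓ by rw [one_pow, ← hz, pow_orderOf_eq_one])
    rw [h1, orderOf_one] at hz
    exact hℓ.ne_one hz.symm
  set τ := QuotientGroup.lift M σ hMk with hτ
  have hq : ∀ x, τ (QuotientGroup.mk' M x) = σ x := fun x => rfl
  have hτs : Function.Surjective τ := fun g => by
    obtain ⟨x, rfl⟩ := hσs g
    exact ⟨_, hq x⟩
  have hτk : ∀ k ∈ τ.ker, ∃ x ∈ σ.ker, QuotientGroup.mk' M x = k := by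
    intro k hk
    obtain ⟨x, rfl⟩ := QuotientGroup.mk'_surjective M k
    exact ⟨x, hk, rfl⟩
  have hτc : τ.ker ≤ center (Γ ⧸ M) := fun k hk => by
    obtain ⟨x, hx, rfl⟩ := hτk k hk
    rw [Subgroup.mem_center_iff]
    intro y
    obtain ⟨y, rfl⟩ := QuotientGroup.mk'_surjective M y
    rw [← map_mul, ← map_mul, Subgroup.mem_center_iff.1 (hc hx) y]
  have hτp : ∀ k ∈ τ.ker, k ^ ℓ = 1 := fun k hk => by
    obtain ⟨x, hx, rfl⟩ := hτk k hk
    rw [← map_pow]
    exact (QuotientGroup.eq_one_iff _).2 ⟨x, hx, rfl⟩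
  obtain ⟨S, hS, hSH⟩ := h ℓ hℓ (Γ ⧸ M) τ hτs hτc hτp
  refine hMne fun x hx => (QuotientGroup.eq_one_iff x).1 ?_
  set z := QuotientGroup.mk' M x with hz
  have hzk : z ∈ τ.ker := hx
  have hzc : z ∈ _root_.commutator (Γ ⧸ M) := by
    have hm := Subgroup.mem_map_of_mem (QuotientGroup.mk' M) (hcomm hx)
    rw [_root_.commutator_def, map_commutator] at hm
    exact commutator_mono le_top le_top hm
  have hmem := Cfsg.Agent.Schur.pow_index_mem_commutator (S.comap τ) (hτc hzk) hzc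
  rw [Subgroup.map_subtype_commutator, Subgroup.index_comap_of_surjective S hτs] at hmem
  have h1 : z ^ S.index ∈ τ.ker ⊓ ⁅S.comap τ, S.comap τ⁆ := ⟨pow_mem hzk _, hmem⟩
  rw [hSH, Subgroup.mem_bot] at h1
  have h2 := pow_gcd_eq_one.2 ⟨h1, hτp z hzk⟩
  rwa [Nat.coprime_iff_gcd_eq_one.1 ((hℓ.coprime_iff_not_dvd.2 hS).symm), pow_one] at h2

end Cfsg.Agent.SporStruct.PCCert
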