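import Cfsg.Agent.SporStruct.PCChain

/-!
Collection in polycyclic presentations with central constants.
-/

set_option autoImplicit false

namespace Cfsg.Agent.SporStruct.PCCert

open Subgroup

universe u v

/-- A polycyclic presentation: `t j * t k = t k * U k j` for `k < j` and `t k ^ p = U k k`. -/
structure Data where
  /-- the prime -/
  p : ℕ
  /-- the number of generators -/
  n : ℕ
  /-- the first generator of the derived part -/
  d : ℕ
  /-- the right hand sides -/
  U : List (List (List ℕ))

/-- The right hand side of a relation. -/
def Data.u (D : Data) (k j : ℕ) : List ℕ := (D.U.getD k []).getD (j - k) []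

/-- The index of a constant. -/
def Data.code (D : Data) (k j : ℕ) : ℕ := k * D.n + j

/-- The product of a word. -/
def ev {M : Type u} [Monoid M] (t : ℕ → M) (w : List ℕ) : M := (w.map t).prod

/-- The word of an exponent vector starting at `k`. -/
def wordFrom : ℕ → List ℕ → List ℕ
  | _, [] => []
  | k, e :: r => List.replicate e k ++ wordFrom (k + 1) r

/-- Right multiplication of a normal form by a word, one generator at a time. -/
def foldStep (step : List ℕ → ℕ → Option (List ℕ × List ℕ)) :
    List ℕ → List ℕ → Option (List ℕ × List ℕ)
  | v, [] => some (v, [])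
  | v, i :: w =>
    match step v i with
    | none => none
    | some (v', c) =>
      match foldStep step v' w with
      | none => none
      | some (v'', c') => some (v'', c ++ c')

/-- Right multiplication of a normal form starting at `k` by a generator, with constants. -/
def mulAt (D : Data) : ℕ → ℕ → List ℕ → ℕ → Option (List ℕ × List ℕ)
  | 0, _, _, _ => none
  | _ + 1, _, [], _ => none
  | f + 1, k, e :: r, i =>
    if i = k then
      let sw := wordFrom (k + 1) r
      let W := sw.flatMap (D.u k)
      let cs := sw.map (D.code k)
      if e + 1 < D.p then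
        match foldStep (mulAt D f (k + 1)) (List.replicate r.length 0) W with
        | none => none
        | some (r', c) => some ((e + 1) :: r', cs ++ c)
      else if e + 1 = D.p then
        match foldStep (mulAt D f (k + 1)) (List.replicate r.length 0) (D.u k k ++ W) with
        | none => none
        | some (r', c) => some (0 :: r', D.code k k :: cs ++ c)
      else none
    else
      match mulAt D f (k + 1) r i with
      | none => none
      | some (r', c) => some (e :: r', c)

/-- The normal form of a word, with constants. -/
def collect (D : Data) (w : List ℕ) : Option (List ℕ × List ℕ) :=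
  foldStep (mulAt D (D.n + 1) 0) (List.replicate D.n 0) w

section Ev

variable {M : Type u} [Monoid M] (t : ℕ → M)

theorem ev_nil : ev t [] = 1 := rfl

theorem ev_cons (i : ℕ) (w : List ℕ) : ev t (i :: w) = t i * ev t w := by
  simp [ev]

theorem ev_append (a b : List ℕ) : ev t (a ++ b) = ev t a * ev t b := by
  simp [ev]

theorem ev_replicate (e k : ℕ) : ev t (List.replicate e k) = t k ^ e := by
  simp [ev, List.map_replicate, List.prod_replicate]

theorem map_ev {N : Type v} [Monoid N] (f : M →* N) (w : List ℕ) :
    f (ev t w) = ev (fun i => f (t i)) w := by
  rw [ev, map_list_prod, List.map_map]; rfl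

theorem ev_congr {s : ℕ → M} {w : List ℕ} (h : ∀ i ∈ w, s i = t i) : ev s w = ev t w :=
  congrArg List.prod (List.map_congr_left h)

theorem wordFrom_zeros : ∀ k m : ℕ, wordFrom k (List.replicate m 0) = []
  | _, 0 => rfl
  | k, m + 1 => by
    rw [List.replicate_succ, wordFrom, wordFrom_zeros (k + 1) m]
    rfl

theorem mem_wordFrom : ∀ {k : ℕ} {v : List ℕ} {j : ℕ}, j ∈ wordFrom k v → k ≤ j ∧ j < k + v.length
  | _, [], _, h => by simp [wordFrom] at h
  | k, e :: r, j, h => by
    rw [wordFrom, List.mem_append] at h
    rw [List.length_cons]
    rcases h with h | h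
    · obtain rfl := List.eq_of_mem_replicate h
      omega
    · have := mem_wordFrom h
      omega

theorem ev_mem {H : Type u} [Group H] {K : Subgroup H} {s : ℕ → H} {w : List ℕ}
    (h : ∀ i ∈ w, s i ∈ K) : ev s w ∈ K :=
  list_prod_mem fun x hx => by
    obtain ⟨i, hi, rfl⟩ := List.mem_map.1 hx
    exact h i hi

end Ev

variable {Γ : Type u} [Group Γ] (D : Data) (t C : ℕ → Γ)

/-- Lifts satisfy the presentation up to central constants. -/
structure Rels : Prop where
  central : ∀ c x, Commute (C c) x
  pow : ∀ k, k < D.n → t k ^ D.p = ev t (D.u k k) * C (D.code k k)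
  conj : ∀ k j, k < j → j < D.n → t j * t k = t k * ev t (D.u k j) * C (D.code k j)

variable {D t C}

theorem Rels.ev_central (hR : Rels D t C) (cs : List ℕ) (x : Γ) : Commute (ev C cs) x := by
  induction cs with
  | nil => exact Commute.one_left x
  | cons c cs ih => rw [ev_cons]; exact (hR.central c x).mul_left ih

theorem Rels.swap (hR : Rels D t C) {k : ℕ} :
    ∀ sw : List ℕ, (∀ j ∈ sw, k < j ∧ j < D.n) →
      ev t sw * t k = t k * ev t (sw.flatMap (D.u k)) * ev C (sw.map (D.code k))
  | [], _ => by simp [ev_nil]
  | j :: sw, h => by
    obtain ⟨h1, h2⟩ := h j List.mem_cons_self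
    rw [List.flatMap_cons, List.map_cons, ev_append, ev_cons, ev_cons]
    calc t j * ev t sw * t k
        = t j * t k * ev t (sw.flatMap (D.u k)) * ev C (sw.map (D.code k)) := by
          rw [mul_assoc (t j), hR.swap sw fun a ha => h a (List.mem_cons_of_mem _ ha)]
          simp only [mul_assoc]
      _ = t k * ev t (D.u k j) * (C (D.code k j) * ev t (sw.flatMap (D.u k))) *
            ev C (sw.map (D.code k)) := by
          rw [hR.conj k j h1 h2]
          simp only [mul_assoc]
      _ = _ := by
          rw [(hR.central _ (ev t (sw.flatMap (D.u k)))).eq]
          simp only [mul_assoc]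

theorem foldStep_spec (hR : Rels D t C) {k m : ℕ} {step : List ℕ → ℕ → Option (List ℕ × List ℕ)}
    (h : ∀ v i v' cs, v.length = m → step v i = some (v', cs) →
      v'.length = m ∧ ev t (wordFrom k v) * t i = ev t (wordFrom k v') * ev C cs) :
    ∀ w v v' cs, v.length = m → foldStep step v w = some (v', cs) →
      v'.length = m ∧ ev t (wordFrom k v) * ev t w = ev t (wordFrom k v') * ev C cs := by
  intro w
  induction w with
  | nil =>
    intro v v' cs hv e
    simp only [foldStep, Option.some.injEq, Prod.mk.injEq] at e
    obtain ⟨rfl, rfl⟩ := e
    exact ⟨hv, by simp [ev_nil]⟩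
  | cons i w ih =>
    intro v v' cs hv e
    rw [foldStep] at e
    split at e
    · exact absurd e (by simp)
    · rename_i v1 c1 e1
      split at e
      · exact absurd e (by simp)
      · rename_i v2 c2 e2
        simp only [Option.some.injEq, Prod.mk.injEq] at e
        obtain ⟨rfl, rfl⟩ := e
        obtain ⟨h1, h1'⟩ := h _ _ _ _ hv e1
        obtain ⟨h2, h2'⟩ := ih _ _ _ h1 e2
        refine ⟨h2, ?_⟩
        rw [ev_cons, ev_append, ← mul_assoc, h1', mul_assoc, (hR.ev_central c1 (ev t w)).eq,
          ← mul_assoc, h2', mul_assoc, ← (hR.ev_central c1 (ev C c2)).eq]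

theorem mulAt_spec (hR : Rels D t C) : ∀ f k v i v' cs, k + v.length = D.n →
    mulAt D f k v i = some (v', cs) →
      v'.length = v.length ∧ ev t (wordFrom k v) * t i = ev t (wordFrom k v') * ev C cs := by
  intro f
  induction f with
  | zero => intro k v i v' cs _ e; simp [mulAt] at e
  | succ f ih =>
    intro k v i v' cs hk e
    match v, hk, e with
    | [], _, e => simp [mulAt] at e
    | x :: r, hk, e =>
      simp only [List.length_cons] at hk ⊢
      have hr : ∀ w r' c, foldStep (mulAt D f (k + 1)) (List.replicate r.length 0) w = some (r', c) →
          r'.length = r.length ∧ ev t w = ev t (wordFrom (k + 1) r') * ev C c := by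
        intro w r' c h
        obtain ⟨h1, h2⟩ := foldStep_spec hR (k := k + 1) (m := r.length)
          (fun v i v' cs hv e' => by
            obtain ⟨a, b⟩ := ih (k + 1) v i v' cs (by omega) e'
            exact ⟨a.trans hv, b⟩)
          w _ r' c (List.length_replicate ..) h
        rw [wordFrom_zeros, ev_nil, one_mul] at h2
        exact ⟨h1, h2⟩
      rw [mulAt] at e
      dsimp only at e
      split at e
      · rename_i hik
        subst hik
        have hsw := hR.swap (k := i) (wordFrom (i + 1) r) fun j hj => by
          have := mem_wordFrom hj
          omega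
        split at e
        · split at e
          · exact absurd e (by simp)
          · rename_i r' c er
            simp only [Option.some.injEq, Prod.mk.injEq] at e
            obtain ⟨rfl, rfl⟩ := e
            obtain ⟨h1, h2⟩ := hr _ _ _ er
            refine ⟨by simp [h1], ?_⟩
            rw [wordFrom, wordFrom, ev_append, ev_append, ev_append, ev_replicate, ev_replicate,
              mul_assoc, hsw, h2, pow_succ]
            simp only [mul_assoc]
            rw [(hR.ev_central c _).eq]
        · split at e
          · rename_i hxp
            split at e
            · exact absurd e (by simp)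
            · rename_i r' c er
              simp only [Option.some.injEq, Prod.mk.injEq] at e
              obtain ⟨rfl, rfl⟩ := e
              obtain ⟨h1, h2⟩ := hr _ _ _ er
              refine ⟨by simp [h1], ?_⟩
              rw [ev_append] at h2
              rw [wordFrom, wordFrom, List.replicate_zero, List.nil_append, List.cons_append,
                ev_cons, ev_append, ev_append, ev_replicate, mul_assoc, hsw]
              calc t i ^ x * (t i * ev t ((wordFrom (i + 1) r).flatMap (D.u i)) *
                    ev C ((wordFrom (i + 1) r).map (D.code i)))
                  = t i ^ (x + 1) * ev t ((wordFrom (i + 1) r).flatMap (D.u i)) *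
                      ev C ((wordFrom (i + 1) r).map (D.code i)) := by
                    rw [pow_succ]; simp only [mul_assoc]
                _ = C (D.code i i) * (ev t (D.u i i) * ev t ((wordFrom (i + 1) r).flatMap (D.u i))) *
                      ev C ((wordFrom (i + 1) r).map (D.code i)) := by
                    rw [hxp, hR.pow i (by omega), ← (hR.central _ (ev t (D.u i i))).eq]
                    simp only [mul_assoc]
                _ = _ := by
                    rw [h2, ← mul_assoc (C (D.code i i)), (hR.central _ (ev t (wordFrom (i + 1) r'))).eq]
                    simp only [mul_assoc]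
                    rw [(hR.ev_central c _).eq]
          · exact absurd e (by simp)
      · split at e
        · exact absurd e (by simp)
        · rename_i r' c er
          simp only [Option.some.injEq, Prod.mk.injEq] at e
          obtain ⟨rfl, rfl⟩ := e
          obtain ⟨h1, h2⟩ := ih (k + 1) r i r' c (by omega) er
          refine ⟨by simp [h1], ?_⟩
          rw [wordFrom, wordFrom, ev_append, ev_append, mul_assoc, h2, ← mul_assoc]

theorem collect_spec (hR : Rels D t C) {w v cs : List ℕ} (h : collect D w = some (v, cs)) :
    ev t w = ev t (wordFrom 0 v) * ev C cs := by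
  obtain ⟨-, h2⟩ := foldStep_spec hR (k := 0) (m := D.n)
    (fun v i v' cs hv e' => by
      obtain ⟨a, b⟩ := mulAt_spec hR (D.n + 1) 0 v i v' cs (by omega) e'
      exact ⟨a.trans hv, b⟩)
    w _ v cs (List.length_replicate ..) h
  rwa [wordFrom_zeros, ev_nil, one_mul] at h2

end Cfsg.Agent.SporStruct.PCCert
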