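import Cfsg.Agent.SporStruct.PCCert

/-!
The two algebras of exponent vectors: bit masks for the prime 2, lists in general.
-/

set_option autoImplicit false

namespace Cfsg.Agent.SporStruct.PCCert

open Subgroup

universe u

/-- Exponent vectors modulo 2, as bit masks. -/
def maskOps : Ops ℕ := ⟨0, fun a b => a ^^^ b, fun c => 2 ^ c⟩

/-- Entrywise sum modulo `p`. -/
def addL (p : ℕ) : List ℕ → List ℕ → List ℕ
  | [], b => b
  | a, [] => a
  | x :: a, y :: b => (x + y) % p :: addL p a b

/-- Exponent vectors modulo `p`, as lists. -/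
def listOps (p N : ℕ) : Ops (List ℕ) :=
  ⟨List.replicate N 0, addL p, fun c => List.replicate c 0 ++ 1 :: List.replicate (N - (c + 1)) 0⟩

theorem getD_addL {p : ℕ} : ∀ (a b : List ℕ) (i : ℕ),
    (addL p a b).getD i 0 % p = (a.getD i 0 + b.getD i 0) % p
  | [], b, i => by simp [addL]
  | x :: a, [], i => by simp [addL]
  | x :: a, y :: b, 0 => by simp [addL, Nat.mod_mod]
  | x :: a, y :: b, i + 1 => by simpa [addL] using getD_addL a b i

variable {Γ : Type u} [Group Γ] {C : ℕ → Γ}

/-- The product of the powers of the constants. -/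
def expProd (C : ℕ → Γ) (e : ℕ → ℕ) : ℕ → Γ
  | 0 => 1
  | N + 1 => expProd C e N * C N ^ e N

theorem expProd_central (hc : ∀ c x, Commute (C c) x) (e : ℕ → ℕ) :
    ∀ N x, Commute (expProd C e N) x
  | 0, x => Commute.one_left x
  | N + 1, x => (expProd_central hc e N x).mul_left ((hc N x).pow_left _)

theorem expProd_mul (hc : ∀ c x, Commute (C c) x) (e f g : ℕ → ℕ) : ∀ N,
    (∀ i < N, C i ^ g i = C i ^ e i * C i ^ f i) →
      expProd C g N = expProd C e N * expProd C f N
  | 0, _ => (one_mul _).symm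
  | N + 1, h => by
    rw [expProd, expProd, expProd, expProd_mul hc e f g N fun i hi => h i (Nat.lt_succ_of_lt hi),
      h N (Nat.lt_succ_self N)]
    rw [mul_assoc (expProd C e N), ← mul_assoc (expProd C f N),
      (expProd_central hc f N (C N ^ e N)).eq]
    simp only [mul_assoc]

theorem expProd_zero {e : ℕ → ℕ} : ∀ N, (∀ i < N, e i = 0) → expProd C e N = 1
  | 0, _ => rfl
  | N + 1, h => by
    rw [expProd, expProd_zero N fun i hi => h i (Nat.lt_succ_of_lt hi), h N (Nat.lt_succ_self N)]
    simp

theorem expProd_single {c : ℕ} {e : ℕ → ℕ} : ∀ N,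
    (∀ i < N, e i = if i = c then 1 else 0) → (N ≤ c → C c = 1) → expProd C e N = C c
  | 0, _, h => (h (Nat.zero_le c)).symm
  | N + 1, h, h' => by
    rw [expProd]
    have hN := h N (Nat.lt_succ_self N)
    by_cases e' : N = c
    · subst e'
      rw [if_pos rfl] at hN
      rw [hN, pow_one, expProd_zero N fun i hi => by
        rw [h i (Nat.lt_succ_of_lt hi), if_neg (Nat.ne_of_lt hi)], one_mul]
    · rw [if_neg e'] at hN
      rw [hN, pow_zero, mul_one]
      exact expProd_single N (fun i hi => h i (Nat.lt_succ_of_lt hi))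
        fun hle => h' (by omega)

theorem expProd_pow {p : ℕ} (hc : ∀ c x, Commute (C c) x) (hp : ∀ c, C c ^ p = 1) (e : ℕ → ℕ) :
    ∀ N, expProd C e N ^ p = 1
  | 0 => one_pow p
  | N + 1 => by
    rw [expProd, (expProd_central hc e N _).mul_pow, expProd_pow hc hp e N, ← pow_mul,
      Nat.mul_comm, pow_mul, hp, one_pow, one_mul]

theorem exists_realised_mask {N : ℕ} (hc : ∀ c x, Commute (C c) x) (hp : ∀ c, C c ^ 2 = 1)
    (hN : ∀ c, N ≤ c → C c = 1) : ∃ φ : ℕ → Γ, Realised maskOps 2 C φ := by
  refine ⟨fun m => expProd C (fun i => (m.testBit i).toNat) N,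
    ⟨expProd_zero N fun i _ => by simp [maskOps], fun a b => ?_, fun c => ?_,
      fun a x => expProd_central hc _ N x, fun a => expProd_pow hc hp _ N⟩⟩
  · refine expProd_mul hc _ _ _ N fun i _ => ?_
    simp only [maskOps, Nat.testBit_xor]
    cases a.testBit i <;> cases b.testBit i <;> simp [← pow_two, hp]
  · refine expProd_single N (fun i _ => ?_) (hN c)
    simp only [maskOps, Nat.testBit_two_pow]
    by_cases h : i = c
    · simp [h]
    · simp [h, Ne.symm h]

theorem exists_realised_list {p N : ℕ} (hc : ∀ c x, Commute (C c) x) (hp : ∀ c, C c ^ p = 1)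
    (hN : ∀ c, N ≤ c → C c = 1) : ∃ φ : List ℕ → Γ, Realised (listOps p N) p C φ := by
  refine ⟨fun l => expProd C (fun i => l.getD i 0) N,
    ⟨expProd_zero N fun i hi => by simp [listOps, List.getD_eq_getElem?_getD, List.getElem?_replicate, hi],
      fun a b => ?_, fun c => ?_,
      fun a x => expProd_central hc _ N x, fun a => expProd_pow hc hp _ N⟩⟩
  · refine expProd_mul hc _ _ _ N fun i _ => ?_
    simp only [listOps]
    rw [← pow_add, pow_eq_pow_mod _ (hp i), getD_addL, ← pow_eq_pow_mod _ (hp i)]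
  · refine expProd_single N (fun i _ => ?_) (hN c)
    simp only [listOps, List.getD_eq_getElem?_getD, List.getElem?_append, List.length_replicate,
      List.getElem?_replicate]
    rcases lt_trichotomy i c with h | h | h
    · simp [h, Nat.ne_of_lt h]
    · simp [h]
    · obtain ⟨r, hr⟩ : ∃ r, i - c = r + 1 := ⟨i - c - 1, by omega⟩
      simp [Nat.not_lt.2 h.le, Nat.ne_of_gt h, hr, List.getElem?_replicate]
      split_ifs <;> rfl

end Cfsg.Agent.SporStruct.PCCert
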