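import Cfsg.Agent.SporStruct.FamHom
import Cfsg.Agent.SporStruct.SextetSuborbits

/-!
Tables inside the stabiliser of the first sextet.
-/

set_option autoImplicit false

namespace Cfsg.Agent.SporStruct.M24

open Cfsg Cfsg.Agent.Golay

/-- Tables exchanging two tetrads and fixing the others. -/
def tetradSwaps : List (ℕ × ℕ × List ℕ) :=
  [(0, 1, [5, 3, 17, 2, 13, 23, 21, 7, 8, 10, 20, 18, 12, 16, 0, 9, 22, 1, 11, 19, 15, 6, 4, 14]),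
    (0, 2, [8, 11, 12, 5, 16, 14, 6, 21, 23, 20, 15, 2, 1, 13, 17, 9, 4, 3, 0, 19, 10, 7, 22, 18]),
    (0, 3, [10, 15, 9, 14, 13, 17, 19, 7, 8, 0, 2, 18, 12, 22, 5, 23, 4, 3, 11, 6, 1, 21, 16, 20]),
    (0, 4, [19, 21, 6, 3, 13, 14, 0, 1, 18, 20, 15, 8, 11, 4, 5, 9, 16, 17, 12, 2, 10, 23, 22, 7]),
    (0, 5, [16, 22, 4, 14, 0, 5, 19, 21, 12, 10, 15, 11, 8, 1, 3, 20, 2, 17, 18, 7, 9, 6, 23, 13]),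
    (1, 2, [0, 23, 2, 11, 22, 12, 19, 21, 3, 9, 20, 17, 14, 4, 18, 15, 13, 8, 5, 7, 10, 6, 16, 1]),
    (1, 3, [0, 23, 2, 9, 4, 10, 7, 21, 18, 5, 3, 12, 8, 16, 20, 14, 13, 15, 11, 6, 17, 19, 22, 1]),
    (1, 4, [2, 1, 0, 7, 13, 6, 14, 17, 11, 15, 9, 18, 8, 4, 19, 20, 16, 21, 12, 5, 10, 3, 22, 23]),
    (1, 5, [1, 0, 2, 4, 5, 16, 6, 19, 12, 20, 9, 8, 18, 17, 13, 10, 3, 22, 11, 7, 15, 21, 14, 23]),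
    (2, 3, [23, 2, 0, 3, 4, 5, 7, 21, 20, 11, 8, 15, 9, 22, 17, 12, 16, 14, 10, 6, 18, 19, 13, 1]),
    (2, 4, [0, 2, 1, 5, 13, 17, 18, 12, 21, 9, 15, 19, 6, 16, 3, 10, 22, 14, 7, 8, 20, 11, 4, 23]),
    (2, 5, [0, 2, 1, 14, 12, 17, 6, 21, 13, 20, 9, 4, 16, 18, 5, 10, 11, 3, 22, 19, 15, 7, 8, 23]),
    (3, 4, [23, 2, 0, 14, 16, 3, 9, 10, 11, 6, 7, 18, 8, 4, 17, 21, 22, 5, 12, 20, 19, 15, 13, 1]),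
    (3, 5, [2, 1, 0, 3, 9, 5, 7, 6, 8, 4, 22, 12, 11, 20, 17, 16, 15, 14, 18, 19, 13, 21, 10, 23]),
    (4, 5, [2, 0, 23, 5, 21, 14, 13, 16, 12, 20, 15, 8, 18, 6, 17, 9, 7, 3, 11, 22, 10, 4, 19, 1])]

/-- The transposition of two indices, on naturals. -/
def swapFn (i j r : ℕ) : ℕ := if r = i then j else if r = j then i else r

/-- Tables of the elements preserving every split of every tetrad. -/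
def splitTabs : List (List ℕ) :=
  [[0, 1, 2, 3, 4, 5, 6, 7, 8, 9, 10, 11, 12, 13, 14, 15, 16, 17, 18, 19, 20, 21, 22, 23],
    [0, 1, 2, 3, 13, 5, 19, 21, 11, 15, 20, 8, 18, 4, 14, 9, 22, 17, 12, 6, 10, 7, 16, 23],
    [0, 1, 2, 3, 16, 5, 21, 19, 12, 20, 15, 18, 8, 22, 14, 10, 4, 17, 11, 7, 9, 6, 13, 23],
    [0, 1, 2, 3, 22, 5, 7, 6, 18, 10, 9, 12, 11, 16, 14, 20, 13, 17, 8, 21, 15, 19, 4, 23],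
    [0, 1, 2, 5, 4, 3, 21, 19, 11, 10, 9, 8, 18, 13, 17, 20, 16, 14, 12, 7, 15, 6, 22, 23],
    [0, 1, 2, 5, 13, 3, 7, 6, 8, 20, 15, 11, 12, 4, 17, 10, 22, 14, 18, 21, 9, 19, 16, 23],
    [0, 1, 2, 5, 16, 3, 6, 7, 18, 15, 20, 12, 11, 22, 17, 9, 4, 14, 8, 19, 10, 21, 13, 23],
    [0, 1, 2, 5, 22, 3, 19, 21, 12, 9, 10, 18, 8, 16, 17, 15, 13, 14, 11, 6, 20, 7, 4, 23],
    [0, 1, 2, 14, 4, 17, 7, 6, 12, 15, 20, 18, 8, 13, 3, 9, 16, 5, 11, 21, 10, 19, 22, 23],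
    [0, 1, 2, 14, 13, 17, 21, 19, 18, 9, 10, 12, 11, 4, 3, 15, 22, 5, 8, 7, 20, 6, 16, 23],
    [0, 1, 2, 14, 16, 17, 19, 21, 8, 10, 9, 11, 12, 22, 3, 20, 4, 5, 18, 6, 15, 7, 13, 23],
    [0, 1, 2, 14, 22, 17, 6, 7, 11, 20, 15, 8, 18, 16, 3, 10, 13, 5, 12, 19, 9, 21, 4, 23],
    [0, 1, 2, 17, 4, 14, 19, 21, 18, 20, 15, 12, 11, 13, 5, 10, 16, 3, 8, 6, 9, 7, 22, 23],
    [0, 1, 2, 17, 13, 14, 6, 7, 12, 10, 9, 18, 8, 4, 5, 20, 22, 3, 11, 19, 15, 21, 16, 23],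
    [0, 1, 2, 17, 16, 14, 7, 6, 11, 9, 10, 8, 18, 22, 5, 15, 4, 3, 12, 21, 20, 19, 13, 23],
    [0, 1, 2, 17, 22, 14, 21, 19, 8, 15, 20, 11, 12, 16, 5, 9, 13, 3, 18, 7, 10, 6, 4, 23],
    [1, 0, 23, 3, 4, 5, 21, 19, 18, 15, 20, 12, 11, 13, 14, 9, 16, 17, 8, 7, 10, 6, 22, 2],
    [1, 0, 23, 3, 13, 5, 7, 6, 12, 9, 10, 18, 8, 4, 14, 15, 22, 17, 11, 21, 20, 19, 16, 2],
    [1, 0, 23, 3, 16, 5, 6, 7, 11, 10, 9, 8, 18, 22, 14, 20, 4, 17, 12, 19, 15, 21, 13, 2],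
    [1, 0, 23, 3, 22, 5, 19, 21, 8, 20, 15, 11, 12, 16, 14, 10, 13, 17, 18, 6, 9, 7, 4, 2],
    [1, 0, 23, 5, 4, 3, 6, 7, 12, 20, 15, 18, 8, 13, 17, 10, 16, 14, 11, 19, 9, 21, 22, 2],
    [1, 0, 23, 5, 13, 3, 19, 21, 18, 10, 9, 12, 11, 4, 17, 20, 22, 14, 8, 6, 15, 7, 16, 2],
    [1, 0, 23, 5, 16, 3, 21, 19, 8, 9, 10, 11, 12, 22, 17, 15, 4, 14, 18, 7, 20, 6, 13, 2],
    [1, 0, 23, 5, 22, 3, 7, 6, 11, 15, 20, 8, 18, 16, 17, 9, 13, 14, 12, 21, 10, 19, 4, 2],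
    [1, 0, 23, 14, 4, 17, 19, 21, 11, 9, 10, 8, 18, 13, 3, 15, 16, 5, 12, 6, 20, 7, 22, 2],
    [1, 0, 23, 14, 13, 17, 6, 7, 8, 15, 20, 11, 12, 4, 3, 9, 22, 5, 18, 19, 10, 21, 16, 2],
    [1, 0, 23, 14, 16, 17, 7, 6, 18, 20, 15, 12, 11, 22, 3, 10, 4, 5, 8, 21, 9, 19, 13, 2],
    [1, 0, 23, 14, 22, 17, 21, 19, 12, 10, 9, 18, 8, 16, 3, 20, 13, 5, 11, 7, 15, 6, 4, 2],
    [1, 0, 23, 17, 4, 14, 7, 6, 8, 10, 9, 11, 12, 13, 5, 20, 16, 3, 18, 21, 15, 19, 22, 2],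
    [1, 0, 23, 17, 13, 14, 21, 19, 11, 20, 15, 8, 18, 4, 5, 10, 22, 3, 12, 7, 9, 6, 16, 2],
    [1, 0, 23, 17, 16, 14, 19, 21, 12, 15, 20, 18, 8, 22, 5, 9, 4, 3, 11, 6, 10, 7, 13, 2],
    [1, 0, 23, 17, 22, 14, 6, 7, 18, 9, 10, 12, 11, 16, 5, 15, 13, 3, 8, 19, 20, 21, 4, 2],
    [2, 23, 0, 3, 4, 5, 19, 21, 12, 10, 9, 18, 8, 13, 14, 20, 16, 17, 11, 6, 15, 7, 22, 1],
    [2, 23, 0, 3, 13, 5, 6, 7, 18, 20, 15, 12, 11, 4, 14, 10, 22, 17, 8, 19, 9, 21, 16, 1],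
    [2, 23, 0, 3, 16, 5, 7, 6, 8, 15, 20, 11, 12, 22, 14, 9, 4, 17, 18, 21, 10, 19, 13, 1],
    [2, 23, 0, 3, 22, 5, 21, 19, 11, 9, 10, 8, 18, 16, 14, 15, 13, 17, 12, 7, 20, 6, 4, 1],
    [2, 23, 0, 5, 4, 3, 7, 6, 18, 9, 10, 12, 11, 13, 17, 15, 16, 14, 8, 21, 20, 19, 22, 1],
    [2, 23, 0, 5, 13, 3, 21, 19, 12, 15, 20, 18, 8, 4, 17, 9, 22, 14, 11, 7, 10, 6, 16, 1],
    [2, 23, 0, 5, 16, 3, 19, 21, 11, 20, 15, 8, 18, 22, 17, 10, 4, 14, 12, 6, 9, 7, 13, 1],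
    [2, 23, 0, 5, 22, 3, 6, 7, 8, 10, 9, 11, 12, 16, 17, 20, 13, 14, 18, 19, 15, 21, 4, 1],
    [2, 23, 0, 14, 4, 17, 21, 19, 8, 20, 15, 11, 12, 13, 3, 10, 16, 5, 18, 7, 9, 6, 22, 1],
    [2, 23, 0, 14, 13, 17, 7, 6, 11, 10, 9, 8, 18, 4, 3, 20, 22, 5, 12, 21, 15, 19, 16, 1],
    [2, 23, 0, 14, 16, 17, 6, 7, 12, 9, 10, 18, 8, 22, 3, 15, 4, 5, 11, 19, 20, 21, 13, 1],
    [2, 23, 0, 14, 22, 17, 19, 21, 18, 15, 20, 12, 11, 16, 3, 9, 13, 5, 8, 6, 10, 7, 4, 1],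
    [2, 23, 0, 17, 4, 14, 6, 7, 11, 15, 20, 8, 18, 13, 5, 9, 16, 3, 12, 19, 10, 21, 22, 1],
    [2, 23, 0, 17, 13, 14, 19, 21, 8, 9, 10, 11, 12, 4, 5, 15, 22, 3, 18, 6, 20, 7, 16, 1],
    [2, 23, 0, 17, 16, 14, 21, 19, 18, 10, 9, 12, 11, 22, 5, 20, 4, 3, 8, 7, 15, 6, 13, 1],
    [2, 23, 0, 17, 22, 14, 7, 6, 12, 20, 15, 18, 8, 16, 5, 10, 13, 3, 11, 21, 9, 19, 4, 1],
    [23, 2, 1, 3, 4, 5, 7, 6, 11, 20, 15, 8, 18, 13, 14, 10, 16, 17, 12, 21, 9, 19, 22, 0],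
    [23, 2, 1, 3, 13, 5, 21, 19, 8, 10, 9, 11, 12, 4, 14, 20, 22, 17, 18, 7, 15, 6, 16, 0],
    [23, 2, 1, 3, 16, 5, 19, 21, 18, 9, 10, 12, 11, 22, 14, 15, 4, 17, 8, 6, 20, 7, 13, 0],
    [23, 2, 1, 3, 22, 5, 6, 7, 12, 15, 20, 18, 8, 16, 14, 9, 13, 17, 11, 19, 10, 21, 4, 0],
    [23, 2, 1, 5, 4, 3, 19, 21, 8, 15, 20, 11, 12, 13, 17, 9, 16, 14, 18, 6, 10, 7, 22, 0],
    [23, 2, 1, 5, 13, 3, 6, 7, 11, 9, 10, 8, 18, 4, 17, 15, 22, 14, 12, 19, 20, 21, 16, 0],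
    [23, 2, 1, 5, 16, 3, 7, 6, 12, 10, 9, 18, 8, 22, 17, 20, 4, 14, 11, 21, 15, 19, 13, 0],
    [23, 2, 1, 5, 22, 3, 21, 19, 18, 20, 15, 12, 11, 16, 17, 10, 13, 14, 8, 7, 9, 6, 4, 0],
    [23, 2, 1, 14, 4, 17, 6, 7, 18, 10, 9, 12, 11, 13, 3, 20, 16, 5, 8, 19, 15, 21, 22, 0],
    [23, 2, 1, 14, 13, 17, 19, 21, 12, 20, 15, 18, 8, 4, 3, 10, 22, 5, 11, 6, 9, 7, 16, 0],
    [23, 2, 1, 14, 16, 17, 21, 19, 11, 15, 20, 8, 18, 22, 3, 9, 4, 5, 12, 7, 10, 6, 13, 0],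
    [23, 2, 1, 14, 22, 17, 7, 6, 8, 9, 10, 11, 12, 16, 3, 15, 13, 5, 18, 21, 20, 19, 4, 0],
    [23, 2, 1, 17, 4, 14, 21, 19, 12, 9, 10, 18, 8, 13, 5, 15, 16, 3, 11, 7, 20, 6, 22, 0],
    [23, 2, 1, 17, 13, 14, 7, 6, 18, 15, 20, 12, 11, 4, 5, 9, 22, 3, 8, 21, 10, 19, 16, 0],
    [23, 2, 1, 17, 16, 14, 6, 7, 8, 20, 15, 11, 12, 22, 5, 10, 4, 3, 18, 19, 9, 21, 13, 0],
    [23, 2, 1, 17, 22, 14, 19, 21, 11, 10, 9, 8, 18, 16, 5, 20, 13, 3, 12, 6, 15, 7, 4, 0]]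

/-- An involutory table, fixed point free or trivial on each tetrad. -/
def splitTabCheck (l : List ℕ) : Bool :=
  l.length == 24 && famMoves l 6 (Sporadic96.lane Sporadic96.sextP) id &&
    ((List.range 24).all fun i => l.getD (l.getD i 0) 0 == i) &&
    (List.range 6).all fun r =>
      ((List.range 24).all fun i => !(Sporadic96.lane Sporadic96.sextP r).testBit i || l.getD i 0 == i) ||
      ((List.range 24).all fun i => !(Sporadic96.lane Sporadic96.sextP r).testBit i || l.getD i 0 != i)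

set_option maxRecDepth 20000 in
theorem tetradSwaps_ok : tetradSwaps.all (fun e =>
    famMoves e.2.2 6 (Sporadic96.lane Sporadic96.sextP) (swapFn e.1 e.2.1)) = true := by
  decide +kernel

theorem tetradSwaps_complete : (List.range 6).all (fun i => (List.range 6).all fun j =>
    i == j || tetradSwaps.any (fun e => (e.1 == i && e.2.1 == j) || (e.1 == j && e.2.1 == i))) =
      true := by
  decide +kernel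

set_option maxRecDepth 20000 in
theorem splitTabs_ok : splitTabs.all splitTabCheck = true ∧ splitTabs.length = 64 ∧
    splitTabs.Nodup := by
  decide +kernel

end Cfsg.Agent.SporStruct.M24
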