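import Cfsg.Agent.SporStruct.FamHom
import Cfsg.Agent.SporStruct.SextetSuborbits

/-!
Tables inside the stabiliser of the first trio.
-/

set_option autoImplicit false

namespace Cfsg.Agent.SporStruct.M24

open Cfsg Cfsg.Agent.Golay

/-- The numbers of the seven sextets refining the first trio; the one at position `i` is labelled
by the binary digits of `i + 1`. -/
def refineList : List ℕ := [16, 28, 214, 132, 185, 166, 135]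

/-- A table moving the octads of the first trio by `τ` and the seven sextets by `σ`. -/
def trioTabCheck (l σ : List ℕ) (τ : ℕ → ℕ) : Bool :=
  famMoves l 3 (Sporadic96.lane Sporadic96.trioP) τ &&
    (List.range 7).all fun i => Nat.ble (σ.getD i 0 + 1) 7 && (List.range 6).all fun q =>
      (List.range 6).any fun s => maps l (Sporadic96.lane Sporadic96.sextP (6 * refineList.getD i 0 + q))
        (Sporadic96.lane Sporadic96.sextP (6 * refineList.getD (σ.getD i 0) 0 + s))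

/-- Tables inducing transvections on the seven sextets. -/
def transvTabs : List (ℕ × ℕ × List ℕ × List ℕ) :=
  [(0, 1, [0, 2, 1, 3, 4, 6, 5], [10, 1, 0, 12, 2, 11, 5, 7, 8, 19, 4, 23, 3, 18, 21, 15, 17, 20, 13, 14, 22, 9, 16, 6]),
    (0, 2, [0, 1, 2, 4, 3, 6, 5], [23, 15, 10, 3, 5, 4, 11, 8, 7, 20, 2, 6, 12, 13, 16, 1, 14, 17, 18, 19, 9, 21, 22, 0]),
    (1, 0, [2, 1, 0, 3, 6, 5, 4], [2, 7, 11, 12, 5, 6, 10, 18, 3, 19, 4, 23, 15, 1, 14, 8, 16, 17, 13, 9, 22, 21, 20, 0]),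
    (1, 2, [0, 1, 2, 5, 6, 3, 4], [0, 18, 6, 15, 23, 5, 2, 12, 13, 20, 10, 11, 7, 8, 14, 3, 16, 17, 1, 22, 9, 21, 19, 4]),
    (2, 0, [4, 1, 6, 3, 0, 5, 2], [4, 8, 5, 7, 0, 2, 11, 15, 18, 16, 23, 6, 1, 3, 20, 13, 19, 9, 12, 17, 21, 22, 14, 10]),
    (2, 1, [0, 5, 6, 3, 4, 1, 2], [5, 1, 11, 12, 23, 4, 2, 7, 15, 17, 6, 10, 3, 13, 22, 8, 21, 14, 18, 16, 19, 20, 9, 0])]

/-- The transposition of two indices, on naturals. -/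
def swapFn3 (i j r : ℕ) : ℕ := if r = i then j else if r = j then i else r

/-- Tables exchanging two octads and fixing the seven sextets. -/
def octadSwaps : List (ℕ × ℕ × List ℕ) :=
  [(0, 1, [7, 0, 3, 10, 1, 8, 18, 4, 23, 14, 12, 13, 2, 6, 9, 5, 20, 22, 11, 21, 16, 19, 17, 15]),
    (0, 2, [20, 1, 21, 3, 16, 9, 17, 7, 8, 5, 19, 22, 12, 13, 23, 15, 4, 6, 18, 10, 0, 2, 11, 14]),
    (1, 2, [23, 20, 11, 19, 5, 4, 10, 16, 14, 7, 6, 2, 21, 17, 1, 9, 15, 3, 22, 13, 8, 18, 12, 0])]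

/-- Tables fixing the octads and the seven sextets. -/
def trioKerTabs : List (List ℕ) :=
  [[0, 1, 2, 3, 4, 5, 6, 7, 8, 9, 10, 11, 12, 13, 14, 15, 16, 17, 18, 19, 20, 21, 22, 23],
    [0, 3, 2, 1, 4, 5, 6, 12, 13, 22, 10, 11, 7, 8, 17, 18, 21, 14, 15, 20, 19, 16, 9, 23],
    [0, 7, 2, 12, 4, 5, 6, 1, 15, 14, 10, 11, 3, 18, 9, 8, 20, 22, 13, 21, 16, 19, 17, 23],
    [0, 8, 2, 13, 4, 5, 6, 15, 1, 16, 10, 11, 18, 3, 20, 7, 9, 19, 12, 17, 14, 22, 21, 23],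
    [0, 12, 2, 7, 4, 5, 6, 3, 18, 17, 10, 11, 1, 15, 22, 13, 19, 9, 8, 16, 21, 20, 14, 23],
    [0, 13, 2, 8, 4, 5, 6, 18, 3, 21, 10, 11, 15, 1, 19, 12, 22, 20, 7, 14, 17, 9, 16, 23],
    [0, 15, 2, 18, 4, 5, 6, 8, 7, 20, 10, 11, 13, 12, 16, 1, 14, 21, 3, 22, 9, 17, 19, 23],
    [0, 18, 2, 15, 4, 5, 6, 13, 12, 19, 10, 11, 8, 7, 21, 3, 17, 16, 1, 9, 22, 14, 20, 23],
    [2, 1, 0, 3, 10, 6, 5, 7, 8, 17, 4, 23, 12, 13, 22, 15, 19, 9, 18, 16, 21, 20, 14, 11],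
    [2, 3, 0, 1, 10, 6, 5, 12, 13, 14, 4, 23, 7, 8, 9, 18, 20, 22, 15, 21, 16, 19, 17, 11],
    [2, 7, 0, 12, 10, 6, 5, 1, 15, 22, 4, 23, 3, 18, 17, 8, 21, 14, 13, 20, 19, 16, 9, 11],
    [2, 8, 0, 13, 10, 6, 5, 15, 1, 19, 4, 23, 18, 3, 21, 7, 17, 16, 12, 9, 22, 14, 20, 11],
    [2, 12, 0, 7, 10, 6, 5, 3, 18, 9, 4, 23, 1, 15, 14, 13, 16, 17, 8, 19, 20, 21, 22, 11],
    [2, 13, 0, 8, 10, 6, 5, 18, 3, 20, 4, 23, 15, 1, 16, 12, 14, 21, 7, 22, 9, 17, 19, 11],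
    [2, 15, 0, 18, 10, 6, 5, 8, 7, 21, 4, 23, 13, 12, 19, 1, 22, 20, 3, 14, 17, 9, 16, 11],
    [2, 18, 0, 15, 10, 6, 5, 13, 12, 16, 4, 23, 8, 7, 20, 3, 9, 19, 1, 17, 14, 22, 21, 11],
    [4, 1, 10, 3, 0, 23, 11, 7, 8, 14, 2, 6, 12, 13, 9, 15, 20, 22, 18, 21, 16, 19, 17, 5],
    [4, 3, 10, 1, 0, 23, 11, 12, 13, 17, 2, 6, 7, 8, 22, 18, 19, 9, 15, 16, 21, 20, 14, 5],
    [4, 7, 10, 12, 0, 23, 11, 1, 15, 9, 2, 6, 3, 18, 14, 8, 16, 17, 13, 19, 20, 21, 22, 5],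
    [4, 8, 10, 13, 0, 23, 11, 15, 1, 20, 2, 6, 18, 3, 16, 7, 14, 21, 12, 22, 9, 17, 19, 5],
    [4, 12, 10, 7, 0, 23, 11, 3, 18, 22, 2, 6, 1, 15, 17, 13, 21, 14, 8, 20, 19, 16, 9, 5],
    [4, 13, 10, 8, 0, 23, 11, 18, 3, 19, 2, 6, 15, 1, 21, 12, 17, 16, 7, 9, 22, 14, 20, 5],
    [4, 15, 10, 18, 0, 23, 11, 8, 7, 16, 2, 6, 13, 12, 20, 1, 9, 19, 3, 17, 14, 22, 21, 5],
    [4, 18, 10, 15, 0, 23, 11, 13, 12, 21, 2, 6, 8, 7, 19, 3, 22, 20, 1, 14, 17, 9, 16, 5],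
    [5, 1, 6, 3, 23, 0, 2, 7, 8, 20, 11, 10, 12, 13, 16, 15, 14, 21, 18, 22, 9, 17, 19, 4],
    [5, 3, 6, 1, 23, 0, 2, 12, 13, 19, 11, 10, 7, 8, 21, 18, 17, 16, 15, 9, 22, 14, 20, 4],
    [5, 7, 6, 12, 23, 0, 2, 1, 15, 16, 11, 10, 3, 18, 20, 8, 9, 19, 13, 17, 14, 22, 21, 4],
    [5, 8, 6, 13, 23, 0, 2, 15, 1, 14, 11, 10, 18, 3, 9, 7, 20, 22, 12, 21, 16, 19, 17, 4],
    [5, 12, 6, 7, 23, 0, 2, 3, 18, 21, 11, 10, 1, 15, 19, 13, 22, 20, 8, 14, 17, 9, 16, 4],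
    [5, 13, 6, 8, 23, 0, 2, 18, 3, 17, 11, 10, 15, 1, 22, 12, 19, 9, 7, 16, 21, 20, 14, 4],
    [5, 15, 6, 18, 23, 0, 2, 8, 7, 9, 11, 10, 13, 12, 14, 1, 16, 17, 3, 19, 20, 21, 22, 4],
    [5, 18, 6, 15, 23, 0, 2, 13, 12, 22, 11, 10, 8, 7, 17, 3, 21, 14, 1, 20, 19, 16, 9, 4],
    [6, 1, 5, 3, 11, 2, 0, 7, 8, 21, 23, 4, 12, 13, 19, 15, 22, 20, 18, 14, 17, 9, 16, 10],
    [6, 3, 5, 1, 11, 2, 0, 12, 13, 16, 23, 4, 7, 8, 20, 18, 9, 19, 15, 17, 14, 22, 21, 10],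
    [6, 7, 5, 12, 11, 2, 0, 1, 15, 19, 23, 4, 3, 18, 21, 8, 17, 16, 13, 9, 22, 14, 20, 10],
    [6, 8, 5, 13, 11, 2, 0, 15, 1, 22, 23, 4, 18, 3, 17, 7, 21, 14, 12, 20, 19, 16, 9, 10],
    [6, 12, 5, 7, 11, 2, 0, 3, 18, 20, 23, 4, 1, 15, 16, 13, 14, 21, 8, 22, 9, 17, 19, 10],
    [6, 13, 5, 8, 11, 2, 0, 18, 3, 9, 23, 4, 15, 1, 14, 12, 16, 17, 7, 19, 20, 21, 22, 10],
    [6, 15, 5, 18, 11, 2, 0, 8, 7, 17, 23, 4, 13, 12, 22, 1, 19, 9, 3, 16, 21, 20, 14, 10],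
    [6, 18, 5, 15, 11, 2, 0, 13, 12, 14, 23, 4, 8, 7, 9, 3, 20, 22, 1, 21, 16, 19, 17, 10],
    [10, 1, 4, 3, 2, 11, 23, 7, 8, 22, 0, 5, 12, 13, 17, 15, 21, 14, 18, 20, 19, 16, 9, 6],
    [10, 3, 4, 1, 2, 11, 23, 12, 13, 9, 0, 5, 7, 8, 14, 18, 16, 17, 15, 19, 20, 21, 22, 6],
    [10, 7, 4, 12, 2, 11, 23, 1, 15, 17, 0, 5, 3, 18, 22, 8, 19, 9, 13, 16, 21, 20, 14, 6],
    [10, 8, 4, 13, 2, 11, 23, 15, 1, 21, 0, 5, 18, 3, 19, 7, 22, 20, 12, 14, 17, 9, 16, 6],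
    [10, 12, 4, 7, 2, 11, 23, 3, 18, 14, 0, 5, 1, 15, 9, 13, 20, 22, 8, 21, 16, 19, 17, 6],
    [10, 13, 4, 8, 2, 11, 23, 18, 3, 16, 0, 5, 15, 1, 20, 12, 9, 19, 7, 17, 14, 22, 21, 6],
    [10, 15, 4, 18, 2, 11, 23, 8, 7, 19, 0, 5, 13, 12, 21, 1, 17, 16, 3, 9, 22, 14, 20, 6],
    [10, 18, 4, 15, 2, 11, 23, 13, 12, 20, 0, 5, 8, 7, 16, 3, 14, 21, 1, 22, 9, 17, 19, 6],
    [11, 1, 23, 3, 6, 10, 4, 7, 8, 19, 5, 0, 12, 13, 21, 15, 17, 16, 18, 9, 22, 14, 20, 2],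
    [11, 3, 23, 1, 6, 10, 4, 12, 13, 20, 5, 0, 7, 8, 16, 18, 14, 21, 15, 22, 9, 17, 19, 2],
    [11, 7, 23, 12, 6, 10, 4, 1, 15, 21, 5, 0, 3, 18, 19, 8, 22, 20, 13, 14, 17, 9, 16, 2],
    [11, 8, 23, 13, 6, 10, 4, 15, 1, 17, 5, 0, 18, 3, 22, 7, 19, 9, 12, 16, 21, 20, 14, 2],
    [11, 12, 23, 7, 6, 10, 4, 3, 18, 16, 5, 0, 1, 15, 20, 13, 9, 19, 8, 17, 14, 22, 21, 2],
    [11, 13, 23, 8, 6, 10, 4, 18, 3, 14, 5, 0, 15, 1, 9, 12, 20, 22, 7, 21, 16, 19, 17, 2],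
    [11, 15, 23, 18, 6, 10, 4, 8, 7, 22, 5, 0, 13, 12, 17, 1, 21, 14, 3, 20, 19, 16, 9, 2],
    [11, 18, 23, 15, 6, 10, 4, 13, 12, 9, 5, 0, 8, 7, 14, 3, 16, 17, 1, 19, 20, 21, 22, 2],
    [23, 1, 11, 3, 5, 4, 10, 7, 8, 16, 6, 2, 12, 13, 20, 15, 9, 19, 18, 17, 14, 22, 21, 0],
    [23, 3, 11, 1, 5, 4, 10, 12, 13, 21, 6, 2, 7, 8, 19, 18, 22, 20, 15, 14, 17, 9, 16, 0],
    [23, 7, 11, 12, 5, 4, 10, 1, 15, 20, 6, 2, 3, 18, 16, 8, 14, 21, 13, 22, 9, 17, 19, 0],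
    [23, 8, 11, 13, 5, 4, 10, 15, 1, 9, 6, 2, 18, 3, 14, 7, 16, 17, 12, 19, 20, 21, 22, 0],
    [23, 12, 11, 7, 5, 4, 10, 3, 18, 19, 6, 2, 1, 15, 21, 13, 17, 16, 8, 9, 22, 14, 20, 0],
    [23, 13, 11, 8, 5, 4, 10, 18, 3, 22, 6, 2, 15, 1, 17, 12, 21, 14, 7, 20, 19, 16, 9, 0],
    [23, 15, 11, 18, 5, 4, 10, 8, 7, 14, 6, 2, 13, 12, 9, 1, 20, 22, 3, 21, 16, 19, 17, 0],
    [23, 18, 11, 15, 5, 4, 10, 13, 12, 17, 6, 2, 8, 7, 22, 3, 19, 9, 1, 16, 21, 20, 14, 0]]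

/-- The sextets each of whose tetrads lies in an octad of the first trio. -/
def refineCheck : Bool :=
  (List.range 1771).all fun k =>
    ((List.range 6).all fun q => (List.range 3).any fun r =>
      (Sporadic96.lane Sporadic96.sextP (6 * k + q) &&& Sporadic96.lane Sporadic96.trioP r) ==
        Sporadic96.lane Sporadic96.sextP (6 * k + q)) == refineList.contains k

theorem refineList_ok : refineCheck = true ∧ refineList.length = 7 ∧ refineList.Nodup ∧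
    refineList.all (fun k => Nat.ble (k + 1) 1771) = true := by
  decide +kernel

set_option maxRecDepth 20000 in
theorem transvTabs_ok :
    transvTabs.all (fun e => trioTabCheck e.2.2.2 e.2.2.1 id) = true ∧
      octadSwaps.all (fun e =>
        trioTabCheck e.2.2 (List.range 7) (swapFn3 e.1 e.2.1)) = true := by
  decide +kernel

set_option maxRecDepth 20000 in
theorem trioKerTabs_ok :
    (trioKerTabs.all fun l => l.length == 24 && trioTabCheck l (List.range 7) id &&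
      (List.range 24).all fun i => l.getD (l.getD i 0) 0 == i) = true ∧
      trioKerTabs.length = 64 ∧ trioKerTabs.Nodup := by
  decide +kernel

end Cfsg.Agent.SporStruct.M24
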